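import Cfsg.Agent.Lib.Compute.CosetData.Fi22ACert

/-! Coset enumeration certificate data (S1685). -/

set_option autoImplicit false
set_option maxRecDepth 100000
set_option Elab.async false

namespace Cfsg.Agent.CosetData.Fi22A

open Cfsg.Agent.CosetCert

theorem gen0_ok : genOK P 14080 0 = true := by decide +kernel

theorem gen1_ok : genOK P 14080 1 = true := by decide +kernel

theorem gen2_ok : genOK P 14080 2 = true := by decide +kernel

theorem gen3_ok : genOK P 14080 3 = true := by decide +kernel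

theorem gen4_ok : genOK P 14080 4 = true := by decide +kernel

theorem gen5_ok : genOK P 14080 5 = true := by decide +kernel

theorem gen6_ok : genOK P 14080 6 = true := by decide +kernel

theorem gen7_ok : genOK P 14080 7 = true := by decide +kernel

theorem gen8_ok : genOK P 14080 8 = true := by decide +kernel

theorem tab_ok : tableOK P 14080 = true := tableOK_of_gens P (by decide +kernel) (by decide +kernel) fun x hx =>
  match x, hx with
  | 0, _ => gen0_ok
  | 1, _ => gen1_ok
  | 2, _ => gen2_ok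
  | 3, _ => gen3_ok
  | 4, _ => gen4_ok
  | 5, _ => gen5_ok
  | 6, _ => gen6_ok
  | 7, _ => gen7_ok
  | 8, _ => gen8_ok
  | _ + 9, hx => absurd (show _ + 9 < 9 from hx) (by omega)

theorem base0_ok : Fixes P 14080 [0, 1, 0, 1, 0, 1] :=
  fixes_of_powFix P (u := [0, 1]) (e := 3) (by decide +kernel) (by decide +kernel)

theorem base1_ok : Fixes P 14080 [0, 2, 0, 2] :=
  fixes_of_powFix P (u := [0, 2]) (e := 2) (by decide +kernel) (by decide +kernel)

theorem base2_ok : Fixes P 14080 [0, 3, 0, 3] :=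
  fixes_of_powFix P (u := [0, 3]) (e := 2) (by decide +kernel) (by decide +kernel)

theorem base3_ok : Fixes P 14080 [0, 4, 0, 4] :=
  fixes_of_powFix P (u := [0, 4]) (e := 2) (by decide +kernel) (by decide +kernel)

theorem base4_ok : Fixes P 14080 [0, 5, 0, 5] :=
  fixes_of_powFix P (u := [0, 5]) (e := 2) (by decide +kernel) (by decide +kernel)

theorem base5_ok : Fixes P 14080 [0, 6, 0, 6] :=
  fixes_of_powFix P (u := [0, 6]) (e := 2) (by decide +kernel) (by decide +kernel)

theorem base6_ok : Fixes P 14080 [0, 7, 0, 7] :=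
  fixes_of_powFix P (u := [0, 7]) (e := 2) (by decide +kernel) (by decide +kernel)

theorem base7_ok : Fixes P 14080 [0, 8, 0, 8] :=
  fixes_of_powFix P (u := [0, 8]) (e := 2) (by decide +kernel) (by decide +kernel)

theorem base8_ok : Fixes P 14080 [1, 2, 1, 2, 1, 2] :=
  fixes_of_powFix P (u := [1, 2]) (e := 3) (by decide +kernel) (by decide +kernel)

theorem base9_ok : Fixes P 14080 [1, 3, 1, 3] :=
  fixes_of_powFix P (u := [1, 3]) (e := 2) (by decide +kernel) (by decide +kernel)

theorem base10_ok : Fixes P 14080 [1, 4, 1, 4] :=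
  fixes_of_powFix P (u := [1, 4]) (e := 2) (by decide +kernel) (by decide +kernel)

theorem base11_ok : Fixes P 14080 [1, 5, 1, 5] :=
  fixes_of_powFix P (u := [1, 5]) (e := 2) (by decide +kernel) (by decide +kernel)

theorem base12_ok : Fixes P 14080 [1, 6, 1, 6] :=
  fixes_of_powFix P (u := [1, 6]) (e := 2) (by decide +kernel) (by decide +kernel)

theorem base13_ok : Fixes P 14080 [1, 7, 1, 7] :=
  fixes_of_powFix P (u := [1, 7]) (e := 2) (by decide +kernel) (by decide +kernel)

theorem base14_ok : Fixes P 14080 [1, 8, 1, 8] :=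
  fixes_of_powFix P (u := [1, 8]) (e := 2) (by decide +kernel) (by decide +kernel)

theorem base15_ok : Fixes P 14080 [2, 3, 2, 3, 2, 3] :=
  fixes_of_powFix P (u := [2, 3]) (e := 3) (by decide +kernel) (by decide +kernel)

theorem base16_ok : Fixes P 14080 [2, 4, 2, 4] :=
  fixes_of_powFix P (u := [2, 4]) (e := 2) (by decide +kernel) (by decide +kernel)

theorem base17_ok : Fixes P 14080 [2, 5, 2, 5] :=
  fixes_of_powFix P (u := [2, 5]) (e := 2) (by decide +kernel) (by decide +kernel)

theorem base18_ok : Fixes P 14080 [2, 6, 2, 6] :=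
  fixes_of_powFix P (u := [2, 6]) (e := 2) (by decide +kernel) (by decide +kernel)

theorem base19_ok : Fixes P 14080 [2, 7, 2, 7] :=
  fixes_of_powFix P (u := [2, 7]) (e := 2) (by decide +kernel) (by decide +kernel)

theorem base20_ok : Fixes P 14080 [2, 8, 2, 8] :=
  fixes_of_powFix P (u := [2, 8]) (e := 2) (by decide +kernel) (by decide +kernel)

theorem base21_ok : Fixes P 14080 [3, 4, 3, 4, 3, 4] :=
  fixes_of_powFix P (u := [3, 4]) (e := 3) (by decide +kernel) (by decide +kernel)

theorem base22_ok : Fixes P 14080 [3, 5, 3, 5] :=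
  fixes_of_powFix P (u := [3, 5]) (e := 2) (by decide +kernel) (by decide +kernel)

theorem base23_ok : Fixes P 14080 [3, 6, 3, 6] :=
  fixes_of_powFix P (u := [3, 6]) (e := 2) (by decide +kernel) (by decide +kernel)

theorem base24_ok : Fixes P 14080 [3, 7, 3, 7, 3, 7] :=
  fixes_of_powFix P (u := [3, 7]) (e := 3) (by decide +kernel) (by decide +kernel)

theorem base25_ok : Fixes P 14080 [3, 8, 3, 8] :=
  fixes_of_powFix P (u := [3, 8]) (e := 2) (by decide +kernel) (by decide +kernel)

theorem base26_ok : Fixes P 14080 [4, 5, 4, 5, 4, 5] :=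
  fixes_of_powFix P (u := [4, 5]) (e := 3) (by decide +kernel) (by decide +kernel)

theorem base27_ok : Fixes P 14080 [4, 6, 4, 6] :=
  fixes_of_powFix P (u := [4, 6]) (e := 2) (by decide +kernel) (by decide +kernel)

theorem base28_ok : Fixes P 14080 [4, 7, 4, 7] :=
  fixes_of_powFix P (u := [4, 7]) (e := 2) (by decide +kernel) (by decide +kernel)

theorem base29_ok : Fixes P 14080 [4, 8, 4, 8] :=
  fixes_of_powFix P (u := [4, 8]) (e := 2) (by decide +kernel) (by decide +kernel)

theorem base30_ok : Fixes P 14080 [5, 6, 5, 6, 5, 6] :=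
  fixes_of_powFix P (u := [5, 6]) (e := 3) (by decide +kernel) (by decide +kernel)

theorem base31_ok : Fixes P 14080 [5, 7, 5, 7] :=
  fixes_of_powFix P (u := [5, 7]) (e := 2) (by decide +kernel) (by decide +kernel)

theorem base32_ok : Fixes P 14080 [5, 8, 5, 8] :=
  fixes_of_powFix P (u := [5, 8]) (e := 2) (by decide +kernel) (by decide +kernel)

theorem base33_ok : Fixes P 14080 [6, 7, 6, 7] :=
  fixes_of_powFix P (u := [6, 7]) (e := 2) (by decide +kernel) (by decide +kernel)

theorem base34_ok : Fixes P 14080 [6, 8, 6, 8] :=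
  fixes_of_powFix P (u := [6, 8]) (e := 2) (by decide +kernel) (by decide +kernel)

theorem base35_ok : Fixes P 14080 [7, 8, 7, 8, 7, 8] :=
  fixes_of_powFix P (u := [7, 8]) (e := 3) (by decide +kernel) (by decide +kernel)

theorem base36_ok : Fixes P 14080 [3, 2, 1, 3, 4, 5, 3, 7, 8, 3, 2, 1, 3, 4, 5, 3, 7, 8, 3, 2, 1, 3, 4, 5, 3, 7, 8, 3, 2, 1, 3, 4, 5, 3, 7, 8, 3, 2, 1, 3, 4, 5, 3, 7, 8, 3, 2, 1, 3, 4, 5, 3, 7, 8, 3, 2, 1, 3, 4, 5, 3, 7, 8, 3, 2, 1, 3, 4, 5, 3, 7, 8, 3, 2, 1, 3, 4, 5, 3, 7, 8, 3, 2, 1, 3, 4, 5, 3, 7, 8] :=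
  fixes_of_powFix P (u := [3, 2, 1, 3, 4, 5, 3, 7, 8]) (e := 10) (by decide +kernel) (by decide +kernel)

theorem base37_ok : Fixes P 14080 [0, 1, 2, 3, 4, 5, 7, 0, 1, 2, 3, 4, 5, 7, 0, 1, 2, 3, 4, 5, 7, 0, 1, 2, 3, 4, 5, 7, 0, 1, 2, 3, 4, 5, 7, 0, 1, 2, 3, 4, 5, 7, 0, 1, 2, 3, 4, 5, 7, 0, 1, 2, 3, 4, 5, 7, 0, 1, 2, 3, 4, 5, 7] :=
  fixes_of_powFix P (u := [0, 1, 2, 3, 4, 5, 7]) (e := 9) (by decide +kernel) (by decide +kernel)

theorem base38_ok : Fixes P 14080 [1, 2, 3, 4, 5, 6, 7, 1, 2, 3, 4, 5, 6, 7, 1, 2, 3, 4, 5, 6, 7, 1, 2, 3, 4, 5, 6, 7, 1, 2, 3, 4, 5, 6, 7, 1, 2, 3, 4, 5, 6, 7, 1, 2, 3, 4, 5, 6, 7, 1, 2, 3, 4, 5, 6, 7, 1, 2, 3, 4, 5, 6, 7] :=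
  fixes_of_powFix P (u := [1, 2, 3, 4, 5, 6, 7]) (e := 9) (by decide +kernel) (by decide +kernel)

theorem base_ok : ∀ w ∈ base, Fixes P 14080 w := by
  intro w hw
  rw [base] at hw
  rcases List.mem_cons.1 hw with rfl | hw
  · exact base0_ok
  rcases List.mem_cons.1 hw with rfl | hw
  · exact base1_ok
  rcases List.mem_cons.1 hw with rfl | hw
  · exact base2_ok
  rcases List.mem_cons.1 hw with rfl | hw
  · exact base3_ok
  rcases List.mem_cons.1 hw with rfl | hw
  · exact base4_ok
  rcases List.mem_cons.1 hw with rfl | hw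
  · exact base5_ok
  rcases List.mem_cons.1 hw with rfl | hw
  · exact base6_ok
  rcases List.mem_cons.1 hw with rfl | hw
  · exact base7_ok
  rcases List.mem_cons.1 hw with rfl | hw
  · exact base8_ok
  rcases List.mem_cons.1 hw with rfl | hw
  · exact base9_ok
  rcases List.mem_cons.1 hw with rfl | hw
  · exact base10_ok
  rcases List.mem_cons.1 hw with rfl | hw
  · exact base11_ok
  rcases List.mem_cons.1 hw with rfl | hw
  · exact base12_ok
  rcases List.mem_cons.1 hw with rfl | hw
  · exact base13_ok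
  rcases List.mem_cons.1 hw with rfl | hw
  · exact base14_ok
  rcases List.mem_cons.1 hw with rfl | hw
  · exact base15_ok
  rcases List.mem_cons.1 hw with rfl | hw
  · exact base16_ok
  rcases List.mem_cons.1 hw with rfl | hw
  · exact base17_ok
  rcases List.mem_cons.1 hw with rfl | hw
  · exact base18_ok
  rcases List.mem_cons.1 hw with rfl | hw
  · exact base19_ok
  rcases List.mem_cons.1 hw with rfl | hw
  · exact base20_ok
  rcases List.mem_cons.1 hw with rfl | hw
  · exact base21_ok
  rcases List.mem_cons.1 hw with rfl | hw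
  · exact base22_ok
  rcases List.mem_cons.1 hw with rfl | hw
  · exact base23_ok
  rcases List.mem_cons.1 hw with rfl | hw
  · exact base24_ok
  rcases List.mem_cons.1 hw with rfl | hw
  · exact base25_ok
  rcases List.mem_cons.1 hw with rfl | hw
  · exact base26_ok
  rcases List.mem_cons.1 hw with rfl | hw
  · exact base27_ok
  rcases List.mem_cons.1 hw with rfl | hw
  · exact base28_ok
  rcases List.mem_cons.1 hw with rfl | hw
  · exact base29_ok
  rcases List.mem_cons.1 hw with rfl | hw
  · exact base30_ok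
  rcases List.mem_cons.1 hw with rfl | hw
  · exact base31_ok
  rcases List.mem_cons.1 hw with rfl | hw
  · exact base32_ok
  rcases List.mem_cons.1 hw with rfl | hw
  · exact base33_ok
  rcases List.mem_cons.1 hw with rfl | hw
  · exact base34_ok
  rcases List.mem_cons.1 hw with rfl | hw
  · exact base35_ok
  rcases List.mem_cons.1 hw with rfl | hw
  · exact base36_ok
  rcases List.mem_cons.1 hw with rfl | hw
  · exact base37_ok
  rcases List.mem_cons.1 hw with rfl | hw
  · exact base38_ok
  exact absurd hw List.not_mem_nil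

theorem rots_ok : rotsOK base rots.entries hints = true := by decide +kernel

theorem fix_ok : wordsFixBase P sw = true := by decide +kernel

theorem tree_ok : treeOK P tree 0 = true := by decide +kernel

theorem tree_len : tree.length + 1 = 14080 := by decide +kernel

end Cfsg.Agent.CosetData.Fi22A
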