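import Cfsg.Prelude.Def_Spor_Fi22
import Cfsg.Agent.Lib.Compute.CosetPres
import Cfsg.Agent.Lib.Compute.CosetData.Fi22B

/-!
The presented Fischer group Fi22 read through the certified table on 3510 points.
-/

set_option autoImplicit false

namespace Cfsg.Agent.CosetData.Fi22B

open Cfsg.Agent.CosetCert
open Cfsg.Spor.Fi22 (Gen)

/-- generator by number -/
def gi : ℕ → Gen
  | 0 => .a | 1 => .b | 2 => .c | 3 => .d | 4 => .e | 5 => .f | 6 => .g | 7 => .h | _ => .i

/-- number of a generator -/
def ix : Gen → ℕ
  | .a => 0 | .b => 1 | .c => 2 | .d => 3 | .e => 4 | .f => 5 | .g => 6 | .h => 7 | .i => 8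

/-- the extra relators as words -/
def extraW : List (List ℕ) :=
  [rep 10 [3, 2, 1, 3, 4, 5, 3, 7, 8], rep 9 [0, 1, 2, 3, 4, 5, 7], rep 9 [1, 2, 3, 4, 5, 6, 7]]

/-- the set-up -/
noncomputable def setup : Setup Gen where
  edges := Cfsg.Spor.Fi22.edges
  extra := Cfsg.Spor.Fi22.extra
  gi := gi
  ix := ix
  P := P
  n := 3510
  base := base
  extraW := extraW
  gi_ix := fun a => by cases a <;> rfl
  ix_lt := fun a => by cases a <;> decide +kernel
  ix_gi := fun i (hi : i < 9) => by interval_cases i <;> rfl
  pairs := by decide +kernel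
  bases := by decide +kernel
  extras := by decide +kernel
  tab := tab_ok
  fix_base := base_ok
  spec := fun f hf => by
    simp only [Cfsg.Spor.Fi22.extra, extraW]
    repeat' constructor
    all_goals simp [wprod_cons, wprod_rep, wprod_nil, gi, map_mul, map_pow, mul_assoc]

end Cfsg.Agent.CosetData.Fi22B
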