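import Cfsg.Agent.Lib.Compute.CosetOrbit

/-! Coset enumeration certificate data (S1696 chain). -/

set_option autoImplicit false
set_option maxRecDepth 100000
set_option Elab.async false

namespace Cfsg.Agent.CosetData.ChainD5

open Cfsg.Agent.CosetCert

/-- the coset table -/
def tab : Tab :=
  .leaf 0xf000e000f000f000f000e000f000d000e000e000c000d000e000b000d000d000c000c0009000c0009000b000b000d000a0008000a000a000a000b000b00090007000c0008000a00080005000800090007000600090007000500060007000600060003000500030008000400070004000200040005000400030005000300020006000200040001000300020000000100020001000100010000000000000000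

/-- base relators -/
def base : List (List ℕ) := [
  [0, 1, 0, 1, 0, 1],
  [0, 2, 0, 2],
  [0, 3, 0, 3],
  [0, 4, 0, 4],
  [1, 2, 1, 2, 1, 2],
  [1, 3, 1, 3],
  [1, 4, 1, 4],
  [2, 3, 2, 3, 2, 3],
  [2, 4, 2, 4, 2, 4],
  [3, 4, 3, 4]]

/-- rotations of the relators -/
def rots : WTab :=
  (.node (.node (.node (.node (.node (.leaf [0, 1, 0, 1, 0, 1]) (.leaf [2, 4, 2, 4, 2, 4])) (.node (.leaf [1, 2, 1, 2, 1, 2]) (.leaf [0, 1, 0, 1, 0, 1]))) (.node (.node (.leaf [0, 3, 0, 3]) (.leaf [0, 1, 0, 1, 0, 1])) (.node (.leaf [1, 4, 1, 4]) (.leaf [0, 1, 0, 1, 0, 1])))) (.node (.node (.node (.leaf [0, 2, 0, 2]) (.leaf [3, 4, 3, 4])) (.node (.leaf [1, 3, 1, 3]) (.leaf [0, 1, 0, 1, 0, 1]))) (.node (.node (.leaf [0, 4, 0, 4]) (.leaf [0, 1, 0, 1, 0, 1])) (.node (.leaf [2, 3, 2, 3, 2, 3]) (.leaf [0, 1, 0, 1, 0, 1]))))) (.node (.node (.node (.node (.leaf [1, 0, 1, 0, 1, 0]) (.leaf [4, 2, 4, 2, 4, 2])) (.node (.leaf [2, 1, 2, 1, 2, 1]) (.leaf [0, 1, 0, 1, 0, 1]))) (.node (.node (.leaf [3, 0, 3, 0]) (.leaf [0,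 1, 0, 1, 0, 1])) (.node (.leaf [4, 1, 4, 1]) (.leaf [0, 1, 0, 1, 0, 1])))) (.node (.node (.node (.leaf [2, 0, 2, 0]) (.leaf [4, 3, 4, 3])) (.node (.leaf [3, 1, 3, 1]) (.leaf [0, 1, 0, 1, 0, 1]))) (.node (.node (.leaf [4, 0, 4, 0]) (.leaf [0, 1, 0, 1, 0, 1])) (.node (.leaf [3, 2, 3, 2, 3, 2]) (.leaf [0, 1, 0, 1, 0, 1]))))))

def hints_0 : List (ℕ × ℕ × Bool) := [
  (0, 0, false), (8, 0, false), (4, 0, false), (0, 0, false), (2, 0, false), (0, 0, false), (6, 0, false), (0, 0, false),
  (1, 0, false), (9, 0, false), (5, 0, false), (0, 0, false), (3, 0, false), (0, 0, false), (7, 0, false), (0, 0, false),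
  (0, 1, false), (8, 1, false), (4, 1, false), (0, 0, false), (2, 1, false), (0, 0, false), (6, 1, false), (0, 0, false),
  (1, 1, false), (9, 1, false), (5, 1, false), (0, 0, false), (3, 1, false), (0, 0, false), (7, 1, false), (0, 0, false)]
def hints : List (ℕ × ℕ × Bool) :=
  hints_0

/-- subgroup words -/
def sw : List (List ℕ) := [[0], [1], [2], [3]]

def subs : List (List ℕ) := [[0], [1], [2], [3]]

/-- parameters -/
def P : Params := ⟨tab, 5, rots, subs⟩

def tree_0 : List ℕ := [
  4, 7, 11, 13, 18, 15, 25, 27,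
  37, 44, 49, 46, 56, 67, 73]
def tree : List ℕ :=
  tree_0

def ph0_0 : List ℕ := [
  2048, 2049, 2050, 2051, 4115, 16399, 8208, 12300,
  16402, 24582, 20498, 28678, 40977, 45073, 57353, 61451,
  4109, 12296, 24578, 32782, 40979, 4103, 8195, 24576,
  16389, 49164, 32771, 36868, 40967, 45060, 53258, 61455,
  49171, 24580, 28683, 49160, 57360, 61458, 16395, 32777,
  49153, 40973, 53249, 57347, 61445]

/-- known edges at a check point -/
def mask0 : ℕ := 0x430c2942d4285a85ba90

theorem treeRun_ok : stIs (runList (treeStep P) tree ⟨1, 0, []⟩) 16 mask0 = true := by decide +kernel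

def seg0 : List Phase := [.scans ph0_0]

theorem seg0_ok : stIs (runList (phaseStep P) seg0 ⟨16, mask0, []⟩) 16 (2 ^ (16 * P.k) - 1) = true := by decide +kernel

/-- the certificate -/
def phases : List Phase :=
  seg0

theorem cert_ok : checkCert P 16 tree phases = true :=
  checkCert_of_run P treeRun_ok (run_last P seg0_ok)

theorem gen0_ok : genOK P 16 0 = true := by decide +kernel

theorem gen1_ok : genOK P 16 1 = true := by decide +kernel

theorem gen2_ok : genOK P 16 2 = true := by decide +kernel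

theorem gen3_ok : genOK P 16 3 = true := by decide +kernel

theorem gen4_ok : genOK P 16 4 = true := by decide +kernel

theorem tab_ok : tableOK P 16 = true := tableOK_of_gens P (by decide +kernel) (by decide +kernel) fun x hx =>
  match x, hx with
  | 0, _ => gen0_ok
  | 1, _ => gen1_ok
  | 2, _ => gen2_ok
  | 3, _ => gen3_ok
  | 4, _ => gen4_ok
  | _ + 5, hx => absurd (show _ + 5 < 5 from hx) (by omega)

theorem base0_ok : Fixes P 16 [0, 1, 0, 1, 0, 1] :=
  fixes_of_powFix P (u := [0, 1]) (e := 3) (by decide +kernel) (by decide +kernel)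

theorem base1_ok : Fixes P 16 [0, 2, 0, 2] :=
  fixes_of_powFix P (u := [0, 2]) (e := 2) (by decide +kernel) (by decide +kernel)

theorem base2_ok : Fixes P 16 [0, 3, 0, 3] :=
  fixes_of_powFix P (u := [0, 3]) (e := 2) (by decide +kernel) (by decide +kernel)

theorem base3_ok : Fixes P 16 [0, 4, 0, 4] :=
  fixes_of_powFix P (u := [0, 4]) (e := 2) (by decide +kernel) (by decide +kernel)

theorem base4_ok : Fixes P 16 [1, 2, 1, 2, 1, 2] :=
  fixes_of_powFix P (u := [1, 2]) (e := 3) (by decide +kernel) (by decide +kernel)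

theorem base5_ok : Fixes P 16 [1, 3, 1, 3] :=
  fixes_of_powFix P (u := [1, 3]) (e := 2) (by decide +kernel) (by decide +kernel)

theorem base6_ok : Fixes P 16 [1, 4, 1, 4] :=
  fixes_of_powFix P (u := [1, 4]) (e := 2) (by decide +kernel) (by decide +kernel)

theorem base7_ok : Fixes P 16 [2, 3, 2, 3, 2, 3] :=
  fixes_of_powFix P (u := [2, 3]) (e := 3) (by decide +kernel) (by decide +kernel)

theorem base8_ok : Fixes P 16 [2, 4, 2, 4, 2, 4] :=
  fixes_of_powFix P (u := [2, 4]) (e := 3) (by decide +kernel) (by decide +kernel)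

theorem base9_ok : Fixes P 16 [3, 4, 3, 4] :=
  fixes_of_powFix P (u := [3, 4]) (e := 2) (by decide +kernel) (by decide +kernel)

theorem base_ok : ∀ w ∈ base, Fixes P 16 w := by
  intro w hw
  rw [base] at hw
  rcases List.mem_cons.1 hw with rfl | hw
  · exact base0_ok
  rcases List.mem_cons.1 hw with rfl | hw
  · exact base1_ok
  rcases List.mem_cons.1 hw with rfl | hw
  · exact base2_ok
  rcases List.mem_cons.1 hw with rfl | hw
  · exact base3_ok
  rcases List.mem_cons.1 hw with rfl | hw
  · exact base4_ok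
  rcases List.mem_cons.1 hw with rfl | hw
  · exact base5_ok
  rcases List.mem_cons.1 hw with rfl | hw
  · exact base6_ok
  rcases List.mem_cons.1 hw with rfl | hw
  · exact base7_ok
  rcases List.mem_cons.1 hw with rfl | hw
  · exact base8_ok
  rcases List.mem_cons.1 hw with rfl | hw
  · exact base9_ok
  exact absurd hw List.not_mem_nil

theorem rots_ok : rotsOK base rots.entries hints = true := by decide +kernel

theorem fix_ok : wordsFixBase P sw = true := by decide +kernel

theorem tree_ok : treeOK P tree 0 = true := by decide +kernel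

theorem tree_len : tree.length + 1 = 16 := by decide +kernel

end Cfsg.Agent.CosetData.ChainD5
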