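import Cfsg.Agent.Lib.Compute.CosetOrbit

/-! Coset enumeration certificate data (S1696 chain). -/

set_option autoImplicit false
set_option maxRecDepth 100000
set_option Elab.async false

namespace Cfsg.Agent.CosetData.ChainE6

open Cfsg.Agent.CosetCert

/-- the coset table -/
def tab : Tab :=
  .leaf 0x1a001a001a001a001a001900190019001900190018001a001800180018001700190018001600170015001800170017001700160013001600160016001300140017001500150015001200150014001400140014001500120016001100130013001400130012000e001200120011000e00110013001000110010000c001000100011000f000f000b000f000f000f0010000e0011000d0012000c000e000d000d000e000d000a000d000c0010000a000c000e000b000b000f0009000b000b000c000a000a000c0008000d000900090009000b00060009000a000700080008000a00080006000800070007000700070004000400060006000900050008000300050005000500060005000600040004000400030007000500030003000200040003000200020001000300020002000100000002000100010001000000010000000000000000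

/-- base relators -/
def base : List (List ℕ) := [
  [0, 1, 0, 1, 0, 1],
  [0, 2, 0, 2],
  [0, 3, 0, 3],
  [0, 4, 0, 4],
  [0, 5, 0, 5],
  [1, 2, 1, 2, 1, 2],
  [1, 3, 1, 3],
  [1, 4, 1, 4],
  [1, 5, 1, 5],
  [2, 3, 2, 3, 2, 3],
  [2, 4, 2, 4],
  [2, 5, 2, 5, 2, 5],
  [3, 4, 3, 4, 3, 4],
  [3, 5, 3, 5],
  [4, 5, 4, 5]]

/-- rotations of the relators -/
def rots : WTab :=
  (.node (.node (.node (.node (.node (.leaf [0, 1, 0, 1, 0, 1]) (.leaf [1, 5, 1, 5])) (.node (.leaf [0, 5, 0, 5]) (.leaf [3, 4, 3, 4, 3, 4]))) (.node (.node (.leaf [0, 3, 0, 3]) (.leaf [2, 4, 2, 4])) (.node (.leaf [1, 3, 1, 3]) (.leaf [4, 5, 4, 5])))) (.node (.node (.node (.leaf [0, 2, 0, 2]) (.leaf [2, 3, 2, 3, 2, 3])) (.node (.leaf [1, 2, 1, 2, 1, 2]) (.leaf [3, 5, 3, 5]))) (.node (.node (.leaf [0, 4, 0, 4]) (.leaf [2, 5, 2, 5, 2, 5])) (.node (.leaf [1, 4, 1, 4]) (.leaf [0, 1, 0, 1, 0, 1]))))) (.node (.node (.node (.node (.leaf [1, 0, 1, 0, 1, 0]) (.leaf [5, 1, 5, 1])) (.node (.leaf [5, 0, 5, 0]) (.leaf [4, 3, 4, 3, 4, 3]))) (.node (.node (.leaf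 [3, 0, 3, 0]) (.leaf [4, 2, 4, 2])) (.node (.leaf [3, 1, 3, 1]) (.leaf [5, 4, 5, 4])))) (.node (.node (.node (.leaf [2, 0, 2, 0]) (.leaf [3, 2, 3, 2, 3, 2])) (.node (.leaf [2, 1, 2, 1, 2, 1]) (.leaf [5, 3, 5, 3]))) (.node (.node (.leaf [4, 0, 4, 0]) (.leaf [5, 2, 5, 2, 5, 2])) (.node (.leaf [4, 1, 4, 1]) (.leaf [0, 1, 0, 1, 0, 1]))))))

def hints_0 : List (ℕ × ℕ × Bool) := [
  (0, 0, false), (8, 0, false), (4, 0, false), (12, 0, false), (2, 0, false), (10, 0, false), (6, 0, false), (14, 0, false),
  (1, 0, false), (9, 0, false), (5, 0, false), (13, 0, false), (3, 0, false), (11, 0, false), (7, 0, false), (0, 0, false),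
  (0, 1, false), (8, 1, false), (4, 1, false), (12, 1, false), (2, 1, false), (10, 1, false), (6, 1, false), (14, 1, false),
  (1, 1, false), (9, 1, false), (5, 1, false), (13, 1, false), (3, 1, false), (11, 1, false), (7, 1, false), (0, 0, false)]
def hints : List (ℕ × ℕ × Bool) :=
  hints_0

/-- subgroup words -/
def sw : List (List ℕ) := [[0], [1], [2], [3], [5]]

def subs : List (List ℕ) := [[0], [1], [2], [3], [5]]

/-- parameters -/
def P : Params := ⟨tab, 6, rots, subs⟩

def tree_0 : List ℕ := [
  4, 9, 14, 19, 23, 29, 24, 36,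
  38, 50, 57, 63, 61, 73, 70, 76,
  88, 86, 104, 113, 119, 117, 129, 140,
  145, 150]
def tree : List ℕ :=
  tree_0

def ph0_0 : List ℕ := [
  2048, 2049, 2050, 2051, 2052, 4124, 8218, 20503,
  8216, 12308, 16398, 20509, 28678, 24605, 32774, 36884,
  61465, 40980, 53262, 65561, 4117, 12306, 16396, 20507,
  28676, 24603, 32772, 45075, 61461, 49171, 73739, 65557,
  81937, 4111, 8205, 16394, 28674, 36886, 45082, 61468,
  4103, 8197, 12291, 28672, 20489, 90138, 73748, 77839,
  81949, 86031, 94221, 102410, 90129, 106498, 65551, 69644,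
  90131, 98326, 102416, 106504, 53260, 36867, 45061, 40968,
  53264, 49178, 57360, 65564, 69648, 86039, 98322, 81941,
  102412, 106500, 61447, 28680, 32785, 53258, 73746, 90136,
  81947, 94232, 98324, 102414, 106502, 20497, 36875, 53249,
  45069, 57345, 61455, 69633, 77827, 90117, 73735, 86025,
  94213, 81927, 98307, 106496]

/-- known edges at a check point -/
def mask0 : ℕ := 0x10c6308a20b2451041609a60e30506582398c610

theorem treeRun_ok : stIs (runList (treeStep P) tree ⟨1, 0, []⟩) 27 mask0 = true := by decide +kernel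

def seg0 : List Phase := [.scans ph0_0]

theorem seg0_ok : stIs (runList (phaseStep P) seg0 ⟨27, mask0, []⟩) 27 (2 ^ (27 * P.k) - 1) = true := by decide +kernel

/-- the certificate -/
def phases : List Phase :=
  seg0

theorem cert_ok : checkCert P 27 tree phases = true :=
  checkCert_of_run P treeRun_ok (run_last P seg0_ok)

theorem gen0_ok : genOK P 27 0 = true := by decide +kernel

theorem gen1_ok : genOK P 27 1 = true := by decide +kernel

theorem gen2_ok : genOK P 27 2 = true := by decide +kernel

theorem gen3_ok : genOK P 27 3 = true := by decide +kernel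

theorem gen4_ok : genOK P 27 4 = true := by decide +kernel

theorem gen5_ok : genOK P 27 5 = true := by decide +kernel

theorem tab_ok : tableOK P 27 = true := tableOK_of_gens P (by decide +kernel) (by decide +kernel) fun x hx =>
  match x, hx with
  | 0, _ => gen0_ok
  | 1, _ => gen1_ok
  | 2, _ => gen2_ok
  | 3, _ => gen3_ok
  | 4, _ => gen4_ok
  | 5, _ => gen5_ok
  | _ + 6, hx => absurd (show _ + 6 < 6 from hx) (by omega)

theorem base0_ok : Fixes P 27 [0, 1, 0, 1, 0, 1] :=
  fixes_of_powFix P (u := [0, 1]) (e := 3) (by decide +kernel) (by decide +kernel)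

theorem base1_ok : Fixes P 27 [0, 2, 0, 2] :=
  fixes_of_powFix P (u := [0, 2]) (e := 2) (by decide +kernel) (by decide +kernel)

theorem base2_ok : Fixes P 27 [0, 3, 0, 3] :=
  fixes_of_powFix P (u := [0, 3]) (e := 2) (by decide +kernel) (by decide +kernel)

theorem base3_ok : Fixes P 27 [0, 4, 0, 4] :=
  fixes_of_powFix P (u := [0, 4]) (e := 2) (by decide +kernel) (by decide +kernel)

theorem base4_ok : Fixes P 27 [0, 5, 0, 5] :=
  fixes_of_powFix P (u := [0, 5]) (e := 2) (by decide +kernel) (by decide +kernel)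

theorem base5_ok : Fixes P 27 [1, 2, 1, 2, 1, 2] :=
  fixes_of_powFix P (u := [1, 2]) (e := 3) (by decide +kernel) (by decide +kernel)

theorem base6_ok : Fixes P 27 [1, 3, 1, 3] :=
  fixes_of_powFix P (u := [1, 3]) (e := 2) (by decide +kernel) (by decide +kernel)

theorem base7_ok : Fixes P 27 [1, 4, 1, 4] :=
  fixes_of_powFix P (u := [1, 4]) (e := 2) (by decide +kernel) (by decide +kernel)

theorem base8_ok : Fixes P 27 [1, 5, 1, 5] :=
  fixes_of_powFix P (u := [1, 5]) (e := 2) (by decide +kernel) (by decide +kernel)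

theorem base9_ok : Fixes P 27 [2, 3, 2, 3, 2, 3] :=
  fixes_of_powFix P (u := [2, 3]) (e := 3) (by decide +kernel) (by decide +kernel)

theorem base10_ok : Fixes P 27 [2, 4, 2, 4] :=
  fixes_of_powFix P (u := [2, 4]) (e := 2) (by decide +kernel) (by decide +kernel)

theorem base11_ok : Fixes P 27 [2, 5, 2, 5, 2, 5] :=
  fixes_of_powFix P (u := [2, 5]) (e := 3) (by decide +kernel) (by decide +kernel)

theorem base12_ok : Fixes P 27 [3, 4, 3, 4, 3, 4] :=
  fixes_of_powFix P (u := [3, 4]) (e := 3) (by decide +kernel) (by decide +kernel)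

theorem base13_ok : Fixes P 27 [3, 5, 3, 5] :=
  fixes_of_powFix P (u := [3, 5]) (e := 2) (by decide +kernel) (by decide +kernel)

theorem base14_ok : Fixes P 27 [4, 5, 4, 5] :=
  fixes_of_powFix P (u := [4, 5]) (e := 2) (by decide +kernel) (by decide +kernel)

theorem base_ok : ∀ w ∈ base, Fixes P 27 w := by
  intro w hw
  rw [base] at hw
  rcases List.mem_cons.1 hw with rfl | hw
  · exact base0_ok
  rcases List.mem_cons.1 hw with rfl | hw
  · exact base1_ok
  rcases List.mem_cons.1 hw with rfl | hw
  · exact base2_ok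
  rcases List.mem_cons.1 hw with rfl | hw
  · exact base3_ok
  rcases List.mem_cons.1 hw with rfl | hw
  · exact base4_ok
  rcases List.mem_cons.1 hw with rfl | hw
  · exact base5_ok
  rcases List.mem_cons.1 hw with rfl | hw
  · exact base6_ok
  rcases List.mem_cons.1 hw with rfl | hw
  · exact base7_ok
  rcases List.mem_cons.1 hw with rfl | hw
  · exact base8_ok
  rcases List.mem_cons.1 hw with rfl | hw
  · exact base9_ok
  rcases List.mem_cons.1 hw with rfl | hw
  · exact base10_ok
  rcases List.mem_cons.1 hw with rfl | hw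
  · exact base11_ok
  rcases List.mem_cons.1 hw with rfl | hw
  · exact base12_ok
  rcases List.mem_cons.1 hw with rfl | hw
  · exact base13_ok
  rcases List.mem_cons.1 hw with rfl | hw
  · exact base14_ok
  exact absurd hw List.not_mem_nil

theorem rots_ok : rotsOK base rots.entries hints = true := by decide +kernel

theorem fix_ok : wordsFixBase P sw = true := by decide +kernel

theorem tree_ok : treeOK P tree 0 = true := by decide +kernel

theorem tree_len : tree.length + 1 = 27 := by decide +kernel

end Cfsg.Agent.CosetData.ChainE6
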