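import Cfsg.Agent.Lib.Compute.CosetOrbit

/-! Coset enumeration certificate data (S1696 chain). -/

set_option autoImplicit false
set_option maxRecDepth 100000
set_option Elab.async false

namespace Cfsg.Agent.CosetData.ChainY222

open Cfsg.Agent.CosetCert

/-- the coset table -/
def tab : Tab :=
  .leaf 0xf200f000f200f200f200f200f200f100f100f100ec00f100eb00f100ef00f200f000f000d600f000f000f000ef00ef00ef00d500ef00ef00ee00ee00ea00ee00e200ed00e700ed00ed00ec00ed00d300ee00ed00ec00ec00ed00f100d200ea00ec00eb00eb00eb00ea00cd00f100e800ea00ea00ee00eb00dc00ec00e900e900e900e700e800db00e900ea00e800e800e800e900cc00e800eb00e700e700e900e700c300e700ee00e500e600ac00e600e000e600b600e600e400ab00e500df00e500b500e400e500aa00e400e400e400b400e300e300a400e300e300e300bb00e200dd00dc00e100ee00bf00c300e100e000c200e200e100db00c400df00e100ad00dd00e600da00b700e000df00b300de00e500d900ba00dd00de00d800df00de00a000b900de00e200d700e000dd009f00b800dc00d700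e200be00ea00c000db00db00da00c300bf00e900e100dc00d900db00b8009f00da00e000d700da00d900b900a000d900df00d800d700d800de00a300d800a100d900d800dc00dd009e00d700a200da00d500d600d600cf00f000ca00d600d600d400d500ce00ef00cb00d500d400d500d400d300d400cc00d400d300ce00d200d400ed00c700d300d200d100d300d200ec00c600d200d000d200ce00d100d1009a00d100d100d000cf00d000d0009900d000ce00cf00d000d600cf009800cf00cf00d300d100d500ce009700ce00cd00c800cd00bd00eb00cd00cc00cc00cb00cc00c700e800d400cd00ca00cc00cb009700cb00d500c800cb00ca00ca009800ca00d600c900c800c900c9009b00c900c900ca00c900cd00c8009600c800c800cb00c7009700c600cc00bf00d300bd00c6009a00c700c600c000d200bc00c5009d00be00c200bc00c400c000c400b700c100c300c400c500e100c300b800db00c400e700c200e200c200ad00e100c500c200c300c100c100ae00c400c000c100be00c200c000a200bf00c100c600dc00c500bf009f00c000db00c700e200be00be009e00c500dc00bd00c100bf00bd009600bc00cd00be00bd00c700bc009500bd00bc00c500bc00c600bb00bb00a500bb00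bb007b00e300b700ba00af00b900b5009c00df00b800b900d900ba00b900b300de00b900c300da00b700b800ad00dd00ba00c400ae00b800b6009d00e000b500b600b200b600b7009200e600b600b400b000b500ba007800e500b400b500b100b400b4007700e400ad00b300df009c00ab00b900af00b000b200b6008700ae009100ac00b100b000b4006400b1007a00aa00b200b100b5006300af007900ab00ae00af00ba00a100b000a300b300af00c100b700a200b2009e00ad00b300c200e0009d00ac00b800ae00ab00ac00e6008600ad00ac00b200ac00aa00e5006200b300ab00b000aa00ab00e4006100aa00aa00b100a800a900a9009100a9008700a900a900a700a8007900a8006300a800a700a800a7007a00a6006400a700a600a600a6007c00a7006000a600a500a500bb006000a5007c00a400a400a400e3005f00a400a400a5009e00a3009c00d8006d00af00a000a100c0009f00ae008d00d7009d00a200a100a000af005c00d8009c009f00a000a100d9006e00de00a300a000bf00a200da008c00dd009e00a300be009d00d7008e00ae009f009c00c5009e00ad008400b700a2009d009c00a300b3004f00ba00a10096009b009400c90072009b0098009900c60097009a008a00d100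95009a009900980099005900d0009400970098009900ca007100cf009b009800c7009a00cb008b00ce0096009b00bd009500c8008200960097009400bc0096009500830095009a00950094009b0094004a00940099004c009300930093007d009300930078009200910092007f00b6009200790091009200a9008000b200910049007f0081007d009000830090004b0085008f0083008f007d0089006d00820084008e009e0080008c005c008a008c008800a2008d0084006e008b008d008c009f008c008e0071008c008a008b0097008b00820059008d008b0089009a008a0083005800880089008a00890089008f005d00890088008d00870088008500630087008700b2008800a9008600620086008600ac0085008600870050008f008500840086007e0088004f0083008e0085009d007f008d004a00840082008f00950090008a0072008e0083008200960081008b0073008000900081008100820081006c0081007f00800091008e0080004e00900080007e00920084007f004d007d007e007f007e0085007e0048007e007d00900093008f007d007c007c007b00a6006800a5007c007b007b007c007b004700bb007b007a0079007700a7006700b1007a0091007a007800a8006c00b00079009200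7700790078004e00b5007800770078007a0077004400b400770075006d003f00760076006b006f0076007200400075007500740070006b007300410074006500750074008100740049007300730072007300820075004a0072009b00730071008b007000590071009800710072006f0071005a00700070007000750070006e005b006f006f006f0076008c006f005c006e00a0006e006d008e0076004f006d00a3006c006e0080006b004e006c0079006d006c0074006c003e006b00660076006b0069006a00460065006a006a006a006a0068004500660069006900690068006900470067007c006800680067006600440068007a0067006700650067003d0069006b0066006600660065003c006a00740065006500640063006400b1005400a7006100870064006300b0005d00a8006200860061006200ab00500062006300610062006100aa003b0061006400600060006000a5005300a6005f005f005f005f00a40035005f00600055005e005e005e00570051003800880056005d005c0063005d0050008d005b006e005d00a1005c004f005a005c006f0056005b005b003f005b005900700057005a005a0040008a005a0071005800990059004a008900570058005900580058004b00560058005700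5a005e005700390057005d0056005b00550056003a005e005400550055005600520037005400550054005400640053003b0053005200530053006000540035005100530052005200520055003300520051005100510051005e00320085003a0050004f0062004d005d0084003f006d0050009c004e005c007f003e006c004d0078004f004e007e0030004d004e004d0050004d00930031004c004c0048004c004c008f0039004b004a004b00480058008300400072004b00940049005900900041007300480049004a0049007d002f00480049004c004b00480047004500680043007b0047004700450046006a002e004600460046004600470069002d0045004500450044003d006700420077004400440043002d004200470043004300430042002c00430044004200420042003e00490074002f003c00400041003f004a0075003900400041005a0040004f0076003a003f003e005b0041004e006b0030003d003f003e003c00440066002c003e003d003d003d003c0065002b0041003c003c003b0037003b003b00610036005400390050003a003f003700300056003a004b003900400038002f005700370038003800380039002a005e0038003b00370037003a002900550036002900360036003600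3b00340035003300350035005f003400530034002800340034003400350036003200350033003300330028005200330032003200320032002700510031004c00310031001d00310031002f004d0030003e0022003a003000300048002f0041001c0039002f002d002e002b0046001a002e002e002e0043002c00450024002d002d002b0042002d003d0023002c002c002c002b002e003c0019002b002b0029002a002a002a001600380027002a0036002900290021003700280027003400280028002000330029002800270027002700150032002a001200260025002100260023001f001300250026002500250024001e001a002400230024002d002500240019002300240022002c00260023001c0022002200230030002100220016002100210026002900220020001500200020001f0028002000210011001f001e0020001f001f00260010001e001f001e001e001e0025001d001c001d001800310017001d0022001d001c0019002f0016001c001b001a0018001b001b000f001b0024001b0019001a002e0013001a00230018001a001c002b0012001900180019001b001d0018000e0018001700160017000e0017001d00140021001700160012002a001c0015002000140015001100270015001600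1400150014000d0014001400170025000f001200130013001a00100026000e00130016001200190011001f000d00100015001100110012001e000c00110010001000100013000f0013000e000f0008001b000c000e0012000f0017000b0018000d000d0011000c0014000a000d000e000c0010000d000c0006000c000f000b000b0008000b000e000b000a000a000a0006000a000d0009000b00090009000500090009000a000900080008000b0007000f00080006000700070007000800070007000400060006000a0004000c00050008000500050009000300050006000500040004000400060004000300070003000300030005000200040003000200010002000200030002000200000002000100010001000100010001000000000000000000000000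

/-- base relators -/
def base : List (List ℕ) := [
  [0, 1, 0, 1, 0, 1],
  [0, 2, 0, 2],
  [0, 3, 0, 3],
  [0, 4, 0, 4],
  [0, 5, 0, 5],
  [0, 6, 0, 6],
  [1, 2, 1, 2, 1, 2],
  [1, 3, 1, 3],
  [1, 4, 1, 4],
  [1, 5, 1, 5],
  [1, 6, 1, 6],
  [2, 3, 2, 3, 2, 3],
  [2, 4, 2, 4],
  [2, 5, 2, 5, 2, 5],
  [2, 6, 2, 6],
  [3, 4, 3, 4, 3, 4],
  [3, 5, 3, 5],
  [3, 6, 3, 6],
  [4, 5, 4, 5],
  [4, 6, 4, 6],
  [5, 6, 5, 6, 5, 6],
  [2, 1, 0, 2, 3, 4, 2, 5, 6, 2, 1, 0, 2, 3, 4, 2, 5, 6, 2, 1, 0, 2, 3, 4, 2, 5, 6, 2, 1, 0, 2, 3, 4, 2, 5, 6, 2, 1, 0, 2, 3, 4, 2, 5, 6, 2, 1, 0, 2, 3, 4, 2, 5, 6, 2, 1, 0, 2, 3, 4, 2, 5, 6, 2, 1, 0, 2, 3, 4, 2, 5, 6, 2, 1, 0, 2, 3, 4, 2, 5, 6, 2, 1, 0, 2, 3, 4, 2, 5, 6]]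

/-- rotations of the relators -/
def rots : WTab :=
  (.node (.node (.node (.node (.node (.node (.leaf [0, 1, 0, 1, 0, 1]) (.leaf [3, 5, 3, 5])) (.node (.leaf [1, 4, 1, 4]) (.leaf [2, 5, 6, 2, 1, 0, 2, 3, 4, 2, 5, 6, 2, 1, 0, 2, 3, 4, 2, 5, 6, 2, 1, 0, 2, 3, 4, 2, 5, 6, 2, 1, 0, 2, 3, 4, 2, 5, 6, 2, 1, 0, 2, 3, 4, 2, 5, 6, 2, 1, 0, 2, 3, 4, 2, 5, 6, 2, 1, 0, 2, 3, 4, 2, 5, 6, 2, 1, 0, 2, 3, 4, 2, 5, 6, 2, 1, 0, 2, 3, 4, 2, 5, 6, 2, 1, 0, 2, 3, 4]))) (.node (.node (.leaf [0, 5, 0, 5]) (.leaf [5, 6, 5, 6, 5, 6])) (.node (.leaf [2, 4, 2, 4]) (.leaf [2, 0, 1, 2, 6, 5, 2, 4, 3, 2, 0, 1, 2, 6, 5, 2, 4, 3, 2, 0, 1, 2, 6, 5, 2, 4, 3, 2, 0, 1, 2, 6, 5, 2, 4, 3, 2, 0, 1, 2, 6, 5, 2, 4, 3, 2, 0, 1, 2, 6, 5, 2, 4, 3, 2, 0, 1, 2, 6, 5, 2, 4, 3, 2, 0, 1, 2, 6, 5, 2, 4, 3, 2, 0, 1, 2, 6, 5, 2, 4, 3, 2, 0, 1, 2, 6, 5, 2, 4, 3])))) (.node (.node (.node (.leaf [0, 3, 0, 3]) (.leaf [4, 5, 4, 5])) (.node (.leaf [1, 6, 1, 6]) (.leaf [5, 2,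 4, 3, 2, 0, 1, 2, 6, 5, 2, 4, 3, 2, 0, 1, 2, 6, 5, 2, 4, 3, 2, 0, 1, 2, 6, 5, 2, 4, 3, 2, 0, 1, 2, 6, 5, 2, 4, 3, 2, 0, 1, 2, 6, 5, 2, 4, 3, 2, 0, 1, 2, 6, 5, 2, 4, 3, 2, 0, 1, 2, 6, 5, 2, 4, 3, 2, 0, 1, 2, 6, 5, 2, 4, 3, 2, 0, 1, 2, 6, 5, 2, 4, 3, 2, 0, 1, 2, 6]))) (.node (.node (.leaf [1, 2, 1, 2, 1, 2]) (.leaf [0, 2, 3, 4, 2, 5, 6, 2, 1, 0, 2, 3, 4, 2, 5, 6, 2, 1, 0, 2, 3, 4, 2, 5, 6, 2, 1, 0, 2, 3, 4, 2, 5, 6, 2, 1, 0, 2, 3, 4, 2, 5, 6, 2, 1, 0, 2, 3, 4, 2, 5, 6, 2, 1, 0, 2, 3, 4, 2, 5, 6, 2, 1, 0, 2, 3, 4, 2, 5, 6, 2, 1, 0, 2, 3, 4, 2, 5, 6, 2, 1, 0, 2, 3, 4, 2, 5, 6, 2, 1])) (.node (.leaf [2, 6, 2, 6]) (.leaf [0, 1, 0, 1, 0, 1]))))) (.node (.node (.node (.node (.leaf [0, 2, 0, 2]) (.leaf [3, 6, 3, 6])) (.node (.leaf [1, 5, 1, 5]) (.leaf [6, 2, 1, 0, 2, 3, 4, 2, 5, 6, 2, 1, 0, 2, 3, 4, 2, 5, 6, 2, 1, 0, 2, 3, 4, 2, 5, 6, 2, 1, 0, 2, 3, 4, 2, 5, 6, 2, 1, 0, 2, 3, 4, 2, 5, 6, 2, 1, 0, 2, 3, 4, 2, 5, 6, 2, 1, 0, 2, 3,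 4, 2, 5, 6, 2, 1, 0, 2, 3, 4, 2, 5, 6, 2, 1, 0, 2, 3, 4, 2, 5, 6, 2, 1, 0, 2, 3, 4, 2, 5]))) (.node (.node (.leaf [0, 6, 0, 6]) (.leaf [2, 1, 0, 2, 3, 4, 2, 5, 6, 2, 1, 0, 2, 3, 4, 2, 5, 6, 2, 1, 0, 2, 3, 4, 2, 5, 6, 2, 1, 0, 2, 3, 4, 2, 5, 6, 2, 1, 0, 2, 3, 4, 2, 5, 6, 2, 1, 0, 2, 3, 4, 2, 5, 6, 2, 1, 0, 2, 3, 4, 2, 5, 6, 2, 1, 0, 2, 3, 4, 2, 5, 6, 2, 1, 0, 2, 3, 4, 2, 5, 6, 2, 1, 0, 2, 3, 4, 2, 5, 6])) (.node (.leaf [2, 5, 2, 5, 2, 5]) (.leaf [1, 2, 6, 5, 2, 4, 3, 2, 0, 1, 2, 6, 5, 2, 4, 3, 2, 0, 1, 2, 6, 5, 2, 4, 3, 2, 0, 1, 2, 6, 5, 2, 4, 3, 2, 0, 1, 2, 6, 5, 2, 4, 3, 2, 0, 1, 2, 6, 5, 2, 4, 3, 2, 0, 1, 2, 6, 5, 2, 4, 3, 2, 0, 1, 2, 6, 5, 2, 4, 3, 2, 0, 1, 2, 6, 5, 2, 4, 3, 2, 0, 1, 2, 6, 5, 2, 4, 3, 2, 0])))) (.node (.node (.node (.leaf [0, 4, 0, 4]) (.leaf [4, 6, 4, 6])) (.node (.leaf [2, 3, 2, 3, 2, 3]) (.leaf [4, 3, 2, 0, 1, 2, 6, 5, 2, 4, 3, 2, 0, 1, 2, 6, 5, 2, 4, 3, 2, 0, 1, 2, 6, 5, 2, 4, 3, 2, 0, 1, 2, 6,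 5, 2, 4, 3, 2, 0, 1, 2, 6, 5, 2, 4, 3, 2, 0, 1, 2, 6, 5, 2, 4, 3, 2, 0, 1, 2, 6, 5, 2, 4, 3, 2, 0, 1, 2, 6, 5, 2, 4, 3, 2, 0, 1, 2, 6, 5, 2, 4, 3, 2, 0, 1, 2, 6, 5, 2]))) (.node (.node (.leaf [1, 3, 1, 3]) (.leaf [3, 4, 2, 5, 6, 2, 1, 0, 2, 3, 4, 2, 5, 6, 2, 1, 0, 2, 3, 4, 2, 5, 6, 2, 1, 0, 2, 3, 4, 2, 5, 6, 2, 1, 0, 2, 3, 4, 2, 5, 6, 2, 1, 0, 2, 3, 4, 2, 5, 6, 2, 1, 0, 2, 3, 4, 2, 5, 6, 2, 1, 0, 2, 3, 4, 2, 5, 6, 2, 1, 0, 2, 3, 4, 2, 5, 6, 2, 1, 0, 2, 3, 4, 2, 5, 6, 2, 1, 0, 2])) (.node (.leaf [3, 4, 3, 4, 3, 4]) (.leaf [0, 1, 0, 1, 0, 1])))))) (.node (.node (.node (.node (.node (.leaf [1, 0, 1, 0, 1, 0]) (.leaf [5, 3, 5, 3])) (.node (.leaf [4, 1, 4, 1]) (.leaf [5, 6, 2, 1, 0, 2, 3, 4, 2, 5, 6, 2, 1, 0, 2, 3, 4, 2, 5, 6, 2, 1, 0, 2, 3, 4, 2, 5, 6, 2, 1, 0, 2, 3, 4, 2, 5, 6, 2, 1, 0, 2, 3, 4, 2, 5, 6, 2, 1, 0, 2, 3, 4, 2, 5, 6, 2, 1, 0, 2, 3, 4, 2, 5, 6, 2, 1, 0, 2, 3, 4, 2, 5, 6, 2, 1, 0, 2, 3, 4, 2, 5, 6, 2, 1, 0, 2,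 3, 4, 2]))) (.node (.node (.leaf [5, 0, 5, 0]) (.leaf [6, 5, 6, 5, 6, 5])) (.node (.leaf [4, 2, 4, 2]) (.leaf [0, 1, 2, 6, 5, 2, 4, 3, 2, 0, 1, 2, 6, 5, 2, 4, 3, 2, 0, 1, 2, 6, 5, 2, 4, 3, 2, 0, 1, 2, 6, 5, 2, 4, 3, 2, 0, 1, 2, 6, 5, 2, 4, 3, 2, 0, 1, 2, 6, 5, 2, 4, 3, 2, 0, 1, 2, 6, 5, 2, 4, 3, 2, 0, 1, 2, 6, 5, 2, 4, 3, 2, 0, 1, 2, 6, 5, 2, 4, 3, 2, 0, 1, 2, 6, 5, 2, 4, 3, 2])))) (.node (.node (.node (.leaf [3, 0, 3, 0]) (.leaf [5, 4, 5, 4])) (.node (.leaf [6, 1, 6, 1]) (.leaf [2, 4, 3, 2, 0, 1, 2, 6, 5, 2, 4, 3, 2, 0, 1, 2, 6, 5, 2, 4, 3, 2, 0, 1, 2, 6, 5, 2, 4, 3, 2, 0, 1, 2, 6, 5, 2, 4, 3, 2, 0, 1, 2, 6, 5, 2, 4, 3, 2, 0, 1, 2, 6, 5, 2, 4, 3, 2, 0, 1, 2, 6, 5, 2, 4, 3, 2, 0, 1, 2, 6, 5, 2, 4, 3, 2, 0, 1, 2, 6, 5, 2, 4, 3, 2, 0, 1, 2, 6, 5]))) (.node (.node (.leaf [2, 1, 2, 1, 2, 1]) (.leaf [2, 3, 4, 2, 5, 6, 2, 1, 0, 2, 3, 4, 2, 5, 6, 2, 1, 0, 2, 3, 4, 2, 5, 6, 2, 1, 0, 2, 3, 4, 2, 5, 6, 2, 1, 0, 2, 3, 4, 2, 5, 6,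 2, 1, 0, 2, 3, 4, 2, 5, 6, 2, 1, 0, 2, 3, 4, 2, 5, 6, 2, 1, 0, 2, 3, 4, 2, 5, 6, 2, 1, 0, 2, 3, 4, 2, 5, 6, 2, 1, 0, 2, 3, 4, 2, 5, 6, 2, 1, 0])) (.node (.leaf [6, 2, 6, 2]) (.leaf [0, 1, 0, 1, 0, 1]))))) (.node (.node (.node (.node (.leaf [2, 0, 2, 0]) (.leaf [6, 3, 6, 3])) (.node (.leaf [5, 1, 5, 1]) (.leaf [6, 5, 2, 4, 3, 2, 0, 1, 2, 6, 5, 2, 4, 3, 2, 0, 1, 2, 6, 5, 2, 4, 3, 2, 0, 1, 2, 6, 5, 2, 4, 3, 2, 0, 1, 2, 6, 5, 2, 4, 3, 2, 0, 1, 2, 6, 5, 2, 4, 3, 2, 0, 1, 2, 6, 5, 2, 4, 3, 2, 0, 1, 2, 6, 5, 2, 4, 3, 2, 0, 1, 2, 6, 5, 2, 4, 3, 2, 0, 1, 2, 6, 5, 2, 4, 3, 2, 0, 1, 2]))) (.node (.node (.leaf [6, 0, 6, 0]) (.leaf [1, 0, 2, 3, 4, 2, 5, 6, 2, 1, 0, 2, 3, 4, 2, 5, 6, 2, 1, 0, 2, 3, 4, 2, 5, 6, 2, 1, 0, 2, 3, 4, 2, 5, 6, 2, 1, 0, 2, 3, 4, 2, 5, 6, 2, 1, 0, 2, 3, 4, 2, 5, 6, 2, 1, 0, 2, 3, 4, 2, 5, 6, 2, 1, 0, 2, 3, 4, 2, 5, 6, 2, 1, 0, 2, 3, 4, 2, 5, 6, 2, 1, 0, 2, 3, 4, 2, 5, 6, 2])) (.node (.leaf [5, 2, 5, 2, 5, 2])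 (.leaf [2, 6, 5, 2, 4, 3, 2, 0, 1, 2, 6, 5, 2, 4, 3, 2, 0, 1, 2, 6, 5, 2, 4, 3, 2, 0, 1, 2, 6, 5, 2, 4, 3, 2, 0, 1, 2, 6, 5, 2, 4, 3, 2, 0, 1, 2, 6, 5, 2, 4, 3, 2, 0, 1, 2, 6, 5, 2, 4, 3, 2, 0, 1, 2, 6, 5, 2, 4, 3, 2, 0, 1, 2, 6, 5, 2, 4, 3, 2, 0, 1, 2, 6, 5, 2, 4, 3, 2, 0, 1])))) (.node (.node (.node (.leaf [4, 0, 4, 0]) (.leaf [6, 4, 6, 4])) (.node (.leaf [3, 2, 3, 2, 3, 2]) (.leaf [3, 2, 0, 1, 2, 6, 5, 2, 4, 3, 2, 0, 1, 2, 6, 5, 2, 4, 3, 2, 0, 1, 2, 6, 5, 2, 4, 3, 2, 0, 1, 2, 6, 5, 2, 4, 3, 2, 0, 1, 2, 6, 5, 2, 4, 3, 2, 0, 1, 2, 6, 5, 2, 4, 3, 2, 0, 1, 2, 6, 5, 2, 4, 3, 2, 0, 1, 2, 6, 5, 2, 4, 3, 2, 0, 1, 2, 6, 5, 2, 4, 3, 2, 0, 1, 2, 6, 5, 2, 4]))) (.node (.node (.leaf [3, 1, 3, 1]) (.leaf [4, 2, 5, 6, 2, 1, 0, 2, 3, 4, 2, 5, 6, 2, 1, 0, 2, 3, 4, 2, 5, 6, 2, 1, 0, 2, 3, 4, 2, 5, 6, 2, 1, 0, 2, 3, 4, 2, 5, 6, 2, 1, 0, 2, 3, 4, 2, 5, 6, 2, 1, 0, 2, 3, 4, 2, 5, 6, 2, 1, 0, 2, 3, 4, 2, 5, 6, 2, 1, 0, 2, 3, 4, 2, 5, 6,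 2, 1, 0, 2, 3, 4, 2, 5, 6, 2, 1, 0, 2, 3])) (.node (.leaf [4, 3, 4, 3, 4, 3]) (.leaf [0, 1, 0, 1, 0, 1])))))))

def hints_0 : List (ℕ × ℕ × Bool) := [
  (0, 0, false), (16, 0, false), (8, 0, false), (21, 6, false), (4, 0, false), (20, 0, false), (12, 0, false), (21, 5, true),
  (2, 0, false), (18, 0, false), (10, 0, false), (21, 1, true), (6, 0, false), (21, 2, false), (14, 0, false), (0, 0, false),
  (1, 0, false), (17, 0, false), (9, 0, false), (21, 8, false), (5, 0, false), (21, 0, false), (13, 0, false), (21, 7, true),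
  (3, 0, false), (19, 0, false), (11, 0, false), (21, 3, true), (7, 0, false), (21, 4, false), (15, 0, false), (0, 0, false),
  (0, 1, false), (16, 1, false), (8, 1, false), (21, 7, false), (4, 1, false), (20, 1, false), (12, 1, false), (21, 6, true),
  (2, 1, false), (18, 1, false), (10, 1, false), (21, 2, true), (6, 1, false), (21, 3, false), (14, 1, false), (0, 0, false),
  (1, 1, false), (17, 1, false), (9, 1, false), (21, 0, true), (5, 1, false), (21, 1, false), (13, 1, false), (21, 8, true),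
  (3, 1, false), (19, 1, false), (11, 1, false), (21, 4, true), (7, 1, false), (21, 5, false), (15, 1, false), (0, 0, false)]
def hints : List (ℕ × ℕ × Bool) :=
  hints_0

/-- subgroup words -/
def sw : List (List ℕ) := [[0], [1], [2], [3], [4], [5]]

def subs : List (List ℕ) := [[0], [1], [2], [3], [4], [5]]

/-- parameters -/
def P : Params := ⟨tab, 7, rots, subs⟩

def tree_0 : List ℕ := [
  6, 12, 16, 22, 24, 36, 28, 52,
  39, 64, 70, 44, 88, 91, 102, 89,
  116, 119, 130, 94, 145, 147, 159, 99,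
  173, 179, 187, 178, 201, 118, 214, 220,
  224, 232, 241, 249, 253, 263, 149, 279,
  280, 293, 177, 307, 312, 321, 198, 335,
  205, 274, 356, 285, 365, 364, 288, 391,
  394, 405, 390, 304, 426, 429, 435, 447,
  449, 313, 466, 465, 318, 489, 488, 334,
  507, 512, 521, 506, 341, 542, 547, 556,
  350, 573, 579, 582, 593, 597, 608, 614,
  619, 628, 636, 642, 647, 611, 373, 665,
  415, 684, 686, 698, 424, 713, 719, 724,
  733, 741, 716, 754, 757, 763, 775, 783,
  789, 791, 799, 810, 813, 825, 478, 838,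
  844, 852, 499, 865, 510, 880, 885, 893,
  901, 904, 914, 922, 927, 933, 938, 947,
  957, 962, 970, 978, 984, 980, 959, 918,
  898, 1019, 877, 520, 1042, 1047, 1050, 1063,
  1068, 1077, 1064, 555, 1098, 1103, 1106, 1119,
  1124, 1133, 1120, 668, 1148, 673, 1164, 1174,
  1182, 682, 1195, 1203, 1206, 1211, 1224, 1227,
  1237, 1238, 1225, 834, 1265, 1273, 1276, 1284,
  1294, 1298, 862, 1048, 1320, 1325, 1330, 1341,
  1347, 1351, 1359, 1368, 1373, 1346, 1390, 1053,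
  1406, 1407, 1420, 1426, 1428, 1058, 1448, 1453,
  1462, 1468, 1474, 1480, 1489, 1497, 1109, 1511,
  1512, 1525, 1531, 1533, 1114, 1553, 1557, 1567,
  1573, 1578, 1152, 1194, 1601, 1609, 1367, 1430,
  1627, 1631, 1641, 1472, 1656, 1660, 1493, 1679,
  1646, 1685]
def tree : List ℕ :=
  tree_0

def ph0_0 : List ℕ := [
  2048, 2049, 2050, 2051, 2052, 2053, 8232, 12316,
  16404, 20514, 24596, 36902, 40980, 45066, 49180, 53286,
  122921, 127012, 131104, 135176, 139282, 143392, 147492, 151570,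
  155684, 57354, 81954, 98324, 61478, 28682, 32802, 4135,
  8229, 12312, 16400, 36895, 40974, 45060, 28678, 4131,
  8225, 20503, 49165, 36889, 53265, 65555, 69649, 122901,
  126993, 131087, 139265, 143365, 147463, 98305, 81935, 86035,
  204812, 331778, 208925, 335901, 102409, 176131, 114693, 106503,
  110601, 192515, 118793, 200707, 294921, 196619, 315401, 319493,
  311299, 299013, 512011, 602115, 516105, 520197, 524295, 593923,
  528393, 598023, 245765, 180235, 184327, 270345, 278533, 274439,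
  487427, 491529, 495623, 499721, 282629, 188427, 290825, 286731,
  503811, 507911, 413703, 249867, 253955, 417803, 438275, 421897,
  425989, 430089, 434187, 442377, 450560, 454675, 458773, 462867,
  471041, 475145, 4125, 12314, 16402, 20512, 24594, 36900,
  40978, 45064, 65563, 69657, 122909, 127001, 73730, 77849,
  28680, 32800, 4117, 8211, 16396, 28674, 4107, 8201,
  12291, 28672, 20485, 36871, 45056, 32783, 876573, 864281,
  950277, 839682, 700453, 704551, 905251, 905248, 655381, 880651,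
  651268, 880648, 917519, 655395, 667652, 913423, 667682, 667687,
  659463, 663563, 663558, 921619, 843815, 843812, 843809, 847907,
  622613, 626705, 630805, 630800, 630791, 626699, 634886, 634918,
  634915, 622596, 876559, 618531, 819205, 872463, 868371, 819208,
  782361, 774147, 770055, 630792, 860179, 618532, 614408, 864275,
  835617, 839684, 794638, 786437, 770050, 778246, 749602, 741405,
  491539, 708618, 700445, 700419, 696329, 704523, 712706, 401441,
  405508, 409633, 409605, 393220, 311324, 520217, 528400, 589831,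
  520228, 520211, 512033, 299042, 303124, 610333, 614425, 516111,
  565284, 557089, 544771, 557056, 540677, 544776, 512019, 536609,
  536581, 307234, 307221, 565248, 630786, 532487, 569344, 618498,
  532488, 524307, 540709, 573440, 577553, 843788, 978966, 856089,
  970778, 847901, 983062, 851993, 991265, 974866, 966692, 561167,
  315432, 319522, 323604, 643101, 327714, 327701, 663554, 647193,
  643098, 663560, 647204, 651272, 901153, 897028, 901143, 897026,
  925711, 925708, 905243, 909341, 651291, 487461, 466962, 458761,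
  454667, 446472, 438291, 438292, 413725, 417825, 413731, 249895,
  253976, 258064, 262183, 266256, 266247, 266265, 266278, 266262,
  266272, 253987, 253984, 258066, 442405, 446480, 442406, 446484,
  471080, 466964, 471079, 466960, 466969, 262180, 462850, 462876,
  450600, 450589, 446466, 348188, 356385, 352291, 352288, 335891,
  352269, 331797, 356365, 368655, 360467, 364559, 372757, 376851,
  380943, 208907, 200730, 188451, 184356, 290849, 180259, 282654,
  278560, 491547, 278565, 499737, 290846, 507929, 495643, 495644,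
  491558, 745493, 749581, 749586, 761877, 753696, 286759, 188446,
  188441, 225309, 172053, 167944, 241683, 163861, 225281, 217106,
  217097, 389146, 393224, 671776, 675848, 929828, 679954, 688155,
  692253, 241665, 393218, 409602, 409613, 405531, 405523, 237571,
  229387, 172033, 233475, 172034, 143377, 135182, 126981, 155650,
  122887, 151554, 69670, 73738, 77862, 77835, 98337, 118818,
  200732, 602153, 516123, 548877, 598038, 315421, 491542, 741390]
def ph0_1 : List ℕ := [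
  487457, 737294, 270359, 274457, 503830, 765966, 757783, 745507,
  753687, 946202, 98341, 61457, 110630, 81929, 57348, 94218,
  118799, 114707, 192525, 262158, 307218, 196629, 258062, 327698,
  327689, 327707, 401421, 638998, 548892, 552970, 548899, 552964,
  704527, 643094, 663556, 753679, 794656, 790536, 757781, 700429,
  938001, 696339, 397327, 933905, 684033, 221196, 212994, 389133,
  679937, 671759, 929809, 688137, 692235, 942101, 659491, 659479,
  323587, 450584, 577564, 557090, 565288, 303115, 626717, 561186,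
  462887, 458789, 262151, 454695, 258055, 307211, 552981, 53284,
  57352, 86049, 90116, 159766, 86050, 90122, 163869, 167938,
  163862, 167940, 208910, 213025, 221188, 217102, 339972, 671767,
  675842, 929817, 344078, 335905, 348174, 331811, 204804, 385038,
  229380, 368663, 262146, 458777, 626714, 372765, 258050, 454681,
  659482, 638984, 716832, 655396, 786472, 806922, 811036, 790562,
  782374, 778250, 925716, 815132, 897058, 901130, 921620, 954396,
  888873, 884744, 913426, 909344, 667680, 483355, 417805, 479261,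
  413709, 634906, 622600, 823328, 606244, 774184, 839714, 770086,
  835594, 962588, 950282, 987156, 958498, 868372, 827433, 876562,
  991259, 847904, 852004, 864296, 970780, 860198, 966684, 974868,
  434191, 245777, 176143, 249877, 180239, 278547, 737292, 270351,
  421905, 425999, 290833, 430099, 282641, 184335, 286741, 188431,
  274451, 765964, 761882, 757792, 802856, 798754, 794644, 946204,
  733225, 696347, 724994, 241686, 933913, 225313, 172046, 196620,
  180247, 114716, 102434, 102421, 106534, 106517, 184349, 61458,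
  61449, 24592, 53273, 57346, 81943, 94210, 159770, 172040,
  204818, 213032, 221194, 217108, 339978, 389148, 393226, 671778,
  675850, 929830, 679956, 684060, 409620, 692265, 552978, 548872,
  561179, 729120, 704520, 790555, 725032, 696330, 397346, 933926,
  942121, 241692, 344074, 229417, 385032, 307227, 360450, 311309,
  606230, 585757, 602125, 610326, 630788, 819230, 770081, 811012,
  794647, 839710, 835590, 962584, 950278, 987152, 868368, 831525,
  872464, 827431, 823302, 876560, 626719, 851982, 856099, 860193,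
  983064, 991269, 978983, 946189, 200723, 331794, 98316, 200726,
  110617, 176154, 245792, 188452, 270376, 278562, 274470, 290850,
  503836, 426022, 286761, 434212, 413728, 471067, 421928, 499740,
  487462, 593961, 528411, 598052, 745490, 589851, 610317, 602134,
  299037, 606221, 311318, 851969, 634897, 847873, 823311, 614421,
  843777, 819215, 774163, 864257, 839695, 770065, 860161, 802828,
  946198, 966659, 856073, 970759, 868353, 987148, 872457, 978947,
  876555, 983043, 991241, 737320, 507932, 765972, 16398, 32773,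
  49174, 61444, 81950, 65569, 77828, 86046, 122915, 151556,
  131102, 135174, 163864, 167942, 208912, 213029, 159783, 172038,
  204816, 331782, 385040, 335911, 348176, 340005, 217094, 344080,
  393240, 389126, 679952, 684056, 409616, 688165, 405520, 692263,
  552976, 548870, 557080, 544774, 573471, 561189, 380967, 327686,
  450591, 352293, 237574, 454687, 356391, 233478, 458783, 360485,
  307206, 462879, 466948, 827415, 569379, 532484, 831511, 819202,
  978957, 950298, 962568, 954400, 958472, 892955, 880642, 888861,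
  884738, 446486, 442382, 483361, 581667, 524302, 516126, 528417,
  512030, 471075, 294942, 475169, 479246, 434199, 192542, 438307]
def ph0_2 : List ℕ := [
  430103, 196638, 139288, 315429, 147487, 114727, 90128, 106527,
  118821, 94224, 200728, 110623, 311333, 602151, 286743, 282653,
  503834, 765970, 507940, 585744, 987154, 983061, 991251, 823325,
  229400, 225319, 241701, 221200, 397336, 933919, 401445, 938015,
  942115, 929823, 32770, 32774]

def ph1_0 : List Aux := [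
  .node 121 1, .node 122 1, .derive 244 [.bwd 0, .edge 2, .edge 1, .edge 2, .fwd 0] [2] (.rel 12), .derive 244 [.bwd 1, .edge 4, .edge 1] [4] (.rel 16), .derive 244 [.bwd 2, .edge 5, .fwd 3] [5] (.rel 18), .node 145 1, .derive 245 [.bwd 0, .edge 6, .fwd 5] [6] (.rel 20), .node 158 1,
  .derive 246 [.bwd 0, .edge 2, .edge 1, .edge 2, .fwd 2] [2] (.rel 12), .node 161 1, .derive 247 [.bwd 0, .edge 4, .edge 1] [4] (.rel 16), .node 162 1, .derive 248 [.bwd 0, .edge 4, .edge 1] [4] (.rel 16), .node 163 1, .derive 249 [.bwd 0, .edge 4, .edge 1] [4] (.rel 16), .node 167 3,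
  .derive 250 [.bwd 0, .edge 1, .edge 3] [1] (.rel 15), .node 168 3, .derive 251 [.bwd 0, .edge 5, .fwd 2] [5] (.rel 32), .node 169 3, .derive 252 [.bwd 0, .edge 1, .edge 3] [1] (.rel 15), .derive 252 [.bwd 1, .edge 6, .fwd 3] [6] (.rel 34), .node 174 1, .derive 253 [.bwd 0, .edge 3, .fwd 11] [3] (.rel 14),
  .node 175 1, .derive 254 [.bwd 0, .edge 3, .fwd 15] [3] (.rel 14), .derive 254 [.bwd 1, .edge 5, .fwd 1] [5] (.rel 18), .derive 254 [.bwd 2, .edge 6, .fwd 4] [6] (.rel 20), .node 176 4, .node 177 4, .derive 256 [.bwd 0, .edge 5, .fwd 1] [5] (.rel 36), .node 178 4,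
  .derive 257 [.bwd 0, .edge 6, .fwd 3] [6] (.rel 38), .node 180 0, .derive 258 [.bwd 0, .edge 1, .edge 0, .edge 1, .fwd 0] [1] (.rel 0), .derive 258 [.bwd 1, .edge 2, .fwd 1] [2] (.rel 2), .derive 258 [.bwd 2, .edge 6, .fwd 2] [6] (.rel 10), .node 181 0, .derive 259 [.bwd 0, .edge 5, .fwd 4] [5] (.rel 8), .node 184 0,
  .derive 260 [.bwd 0, .edge 2, .fwd 0] [2] (.rel 2), .node 186 0, .derive 261 [.bwd 0, .edge 2, .fwd 4] [2] (.rel 2), .node 190 1, .derive 262 [.bwd 0, .edge 4, .edge 1] [4] (.rel 16), .node 192 1, .derive 263 [.bwd 0, .edge 4, .edge 1] [4] (.rel 16), .node 193 1,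
  .derive 264 [.bwd 0, .edge 3, .fwd 2] [3] (.rel 14), .derive 264 [.bwd 1, .edge 5, .fwd 26] [5] (.rel 18), .derive 264 [.bwd 2, .edge 6, .fwd 2] [6] (.rel 20), .node 195 0, .node 195 4, .node 212 2, .node 215 1, .node 216 1,
  .derive 269 [.bwd 0, .edge 3, .fwd 42] [3] (.rel 14), .derive 269 [.bwd 1, .edge 6, .fwd 2] [6] (.rel 20), .node 220 1, .derive 270 [.bwd 0, .edge 3, .fwd 15] [3] (.rel 14), .derive 270 [.bwd 1, .edge 5, .fwd 5] [5] (.rel 18), .node 221 0, .derive 271 [.bwd 0, .edge 2, .fwd 0] [2] (.rel 2), .node 222 0,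
  .derive 272 [.bwd 0, .edge 2, .fwd 0] [2] (.rel 2), .node 223 0, .derive 273 [.bwd 0, .edge 3, .fwd 2] [3] (.rel 4), .derive 273 [.bwd 1, .edge 5, .fwd 1] [5] (.rel 8), .node 223 2, .derive 274 [.bwd 0, .edge 1, .edge 2, .edge 1, .fwd 0] [1] (.rel 13), .node 223 4, .node 224 0,
  .derive 276 [.bwd 0, .edge 3, .fwd 10] [3] (.rel 4), .derive 276 [.bwd 1, .edge 6, .fwd 7] [6] (.rel 10), .node 224 2, .derive 277 [.bwd 0, .edge 6, .fwd 6] [6] (.rel 28), .node 224 4, .node 225 0, .derive 279 [.bwd 0, .edge 5, .fwd 6] [5] (.rel 8), .node 225 2,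
  .node 225 4, .node 226 0, .derive 282 [.bwd 0, .edge 3, .fwd 4] [3] (.rel 4), .node 231 0, .derive 283 [.bwd 0, .edge 2, .fwd 32] [2] (.rel 2), .derive 283 [.bwd 1, .edge 3, .fwd 1] [3] (.rel 4), .derive 283 [.bwd 2, .edge 5, .fwd 2] [5] (.rel 8), .derive 283 [.bwd 3, .edge 6, .fwd 3] [6] (.rel 10),
  .node 231 4, .derive 284 [.bwd 0, .edge 2, .fwd 36] [2] (.rel 25), .node 232 1, .node 233 1, .derive 286 [.bwd 0, .edge 3, .fwd 1] [3] (.rel 14), .node 236 1, .derive 287 [.bwd 0, .edge 2, .edge 1, .edge 2, .fwd 48] [2] (.rel 12), .derive 287 [.bwd 1, .edge 4, .edge 1] [4] (.rel 16),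
  .node 236 3, .derive 288 [.bwd 0, .edge 2, .edge 3, .edge 2, .fwd 0] [2] (.rel 23), .derive 288 [.bwd 1, .edge 5, .fwd 1] [5] (.rel 32), .derive 288 [.bwd 2, .edge 6, .fwd 2] [6] (.rel 34)]
def ph1_1 : List Aux := [
  .node 238 0, .derive 289 [.bwd 0, .edge 2, .fwd 19] [2] (.rel 2), .node 238 3, .node 248 0, .derive 291 [.bwd 0, .fwd 91, .fwd 42] [4] (.rel 6), .node 249 0, .derive 292 [.bwd 0, .fwd 91, .fwd 64] [4] (.rel 6), .node 250 4,
  .derive 293 [.bwd 0, .fwd 91, .fwd 78] [1] (.rel 17), .node 251 2, .node 251 4, .derive 295 [.bwd 0, .fwd 92, .fwd 3] [5] (.rel 36), .node 252 2, .derive 296 [.bwd 0, .fwd 91, .fwd 3] [6] (.rel 28), .node 252 4, .derive 297 [.bwd 0, .fwd 93, .fwd 4] [6] (.rel 38),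
  .node 253 0, .derive 298 [.bwd 0, .bwd 94, .edge 0, .edge 1, .fwd 77] [1] (.rel 0), .derive 298 [.bwd 1, .fwd 94, .fwd 14] [3] (.rel 4), .node 253 2, .derive 299 [.bwd 0, .bwd 97, .edge 2, .bwd 99, .fwd 7] [1] (.rel 13), .node 253 4, .derive 300 [.bwd 0, .fwd 98, .fwd 109, .edge 3, .fwd 45] [3] (.rel 31), .node 254 0,
  .derive 301 [.bwd 0, .bwd 97, .fwd 0] [5] (.rel 8), .derive 301 [.bwd 1, .fwd 97, .fwd 8] [6] (.rel 10), .node 254 2, .derive 302 [.bwd 0, .fwd 99, .fwd 7] [6] (.rel 28), .node 254 4, .derive 303 [.bwd 0, .fwd 103, .fwd 118, .edge 3, .fwd 58] [3] (.rel 31), .derive 303 [.bwd 1, .fwd 102, .fwd 8] [6] (.rel 38), .node 263 0,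
  .derive 304 [.bwd 0, .fwd 85, .fwd 50] [4] (.rel 6), .node 264 0, .derive 305 [.bwd 0, .bwd 86, .edge 0, .edge 1, .fwd 82] [1] (.rel 0), .derive 305 [.bwd 1, .fwd 86, .fwd 3] [3] (.rel 4), .derive 305 [.bwd 2, .fwd 86, .fwd 19] [5] (.rel 8), .derive 305 [.bwd 3, .bwd 86, .fwd 3] [6] (.rel 10), .node 264 2, .node 264 4,
  .derive 307 [.bwd 0, .fwd 91, .fwd 93, .edge 3, .fwd 59] [3] (.rel 31), .derive 307 [.bwd 1, .fwd 91, .fwd 19] [5] (.rel 36), .node 266 3, .derive 308 [.bwd 0, .bwd 90, .edge 3, .bwd 98, .bwd 83] [4] (.rel 30), .node 267 1, .derive 309 [.bwd 0, .bwd 91, .edge 1, .edge 2, .fwd 54] [2] (.rel 12), .node 267 5, .node 269 0,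
  .derive 311 [.bwd 0, .fwd 91, .fwd 42] [3] (.rel 4), .node 269 2, .derive 312 [.bwd 0, .bwd 94, .edge 2, .fwd 94, .fwd 0] [1] (.rel 13), .node 270 2, .node 273 2, .derive 314 [.bwd 0, .bwd 87, .fwd 84] [0] (.rel 3), .derive 314 [.bwd 1, .fwd 87, .bwd 89, .bwd 87, .fwd 1] [3] (.rel 22), .node 273 4,
  .derive 315 [.bwd 0, .bwd 88, .fwd 0] [5] (.rel 36), .node 274 5, .derive 316 [.bwd 0, .bwd 88, .fwd 0] [1] (.rel 19), .derive 316 [.bwd 1, .bwd 90, .edge 5, .fwd 90, .fwd 1] [2] (.rel 27), .node 276 2, .derive 317 [.bwd 0, .fwd 87, .fwd 8] [6] (.rel 28), .node 276 4, .node 277 4,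
  .derive 319 [.bwd 0, .bwd 89, .fwd 87] [2] (.rel 25), .node 277 5, .node 279 2, .derive 321 [.bwd 0, .bwd 89, .fwd 87] [0] (.rel 3), .node 279 4, .derive 322 [.bwd 0, .fwd 90, .fwd 6] [5] (.rel 36), .node 280 1, .derive 323 [.bwd 0, .bwd 91, .edge 1, .edge 2, .fwd 79] [2] (.rel 12),
  .node 280 3, .derive 324 [.bwd 0, .bwd 93, .edge 3, .edge 2, .fwd 70] [2] (.rel 23), .node 280 4, .derive 325 [.bwd 0, .bwd 95, .fwd 94] [2] (.rel 25), .node 280 5, .derive 326 [.bwd 0, .bwd 97, .edge 5, .fwd 102, .fwd 11] [2] (.rel 27), .node 283 1, .derive 327 [.bwd 0, .bwd 95, .edge 1, .fwd 95, .fwd 0] [0] (.rel 1),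
  .derive 327 [.bwd 1, .bwd 94, .fwd 1] [3] (.rel 14), .derive 327 [.bwd 2, .bwd 94, .fwd 2] [5] (.rel 18), .derive 327 [.bwd 3, .bwd 94, .fwd 3] [6] (.rel 20), .node 283 4, .derive 328 [.bwd 0, .bwd 100, .fwd 95] [0] (.rel 7), .node 284 3, .node 287 0, .derive 330 [.bwd 0, .fwd 92, .fwd 55] [2] (.rel 2),
  .derive 330 [.bwd 1, .fwd 92, .fwd 87] [4] (.rel 6), .node 287 3, .derive 331 [.bwd 0, .bwd 96, .fwd 93] [1] (.rel 15), .node 288 4, .derive 332 [.bwd 0, .bwd 94, .fwd 0] [2] (.rel 25), .derive 332 [.bwd 1, .bwd 94, .fwd 1] [5] (.rel 36), .derive 332 [.bwd 2, .bwd 94, .fwd 2] [6] (.rel 38), .node 289 3,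
  .node 290 4, .node 294 4, .node 296 4, .derive 336 [.bwd 0, .fwd 85, .fwd 1] [6] (.rel 38)]
def ph1_2 : List Aux := [
  .node 296 5, .node 298 2, .derive 338 [.bwd 0, .fwd 84, .bwd 161, .bwd 84, .fwd 0] [1] (.rel 13), .node 298 4, .derive 339 [.bwd 0, .fwd 85, .fwd 99, .bwd 131, .fwd 41] [3] (.rel 31), .node 299 4, .derive 340 [.bwd 0, .fwd 85, .fwd 7] [1] (.rel 17), .derive 340 [.bwd 1, .bwd 87, .fwd 85] [2] (.rel 25),
  .node 299 5, .node 301 2, .derive 342 [.bwd 0, .bwd 86, .fwd 83] [0] (.rel 3), .derive 342 [.bwd 1, .fwd 85, .fwd 9] [6] (.rel 28), .node 301 4, .derive 343 [.bwd 0, .bwd 88, .fwd 0] [5] (.rel 36), .derive 343 [.bwd 1, .fwd 88, .fwd 10] [6] (.rel 38), .node 302 4,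
  .derive 344 [.bwd 0, .fwd 88, .fwd 10] [6] (.rel 38), .node 302 5, .node 305 2, .derive 346 [.bwd 0, .bwd 85, .fwd 80] [0] (.rel 3), .node 305 4, .derive 347 [.bwd 0, .bwd 87, .fwd 81] [0] (.rel 7), .derive 347 [.bwd 1, .fwd 86, .fwd 89, .fwd 139, .fwd 53] [3] (.rel 31), .derive 347 [.bwd 2, .fwd 86, .fwd 19] [5] (.rel 36),
  .derive 347 [.bwd 3, .bwd 86, .fwd 3] [6] (.rel 38), .node 306 3, .derive 348 [.bwd 0, .bwd 87, .fwd 177, .bwd 131, .fwd 36] [2] (.rel 23), .node 306 4, .derive 349 [.bwd 0, .bwd 89, .fwd 88] [2] (.rel 25), .node 308 2, .derive 350 [.bwd 0, .fwd 86, .fwd 78] [4] (.rel 24), .node 309 3,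
  .node 309 5, .derive 352 [.bwd 0, .bwd 88, .fwd 86] [1] (.rel 19), .node 310 6, .node 311 2, .derive 354 [.bwd 0, .bwd 88, .fwd 86] [0] (.rel 3), .node 314 4, .derive 355 [.bwd 0, .bwd 85, .fwd 82] [2] (.rel 25), .node 314 5,
  .derive 356 [.bwd 0, .fwd 86, .fwd 82] [0] (.rel 9), .derive 356 [.bwd 1, .bwd 88, .bwd 173, .fwd 88, .fwd 1] [2] (.rel 27), .derive 356 [.bwd 2, .bwd 87, .fwd 2] [3] (.rel 33), .node 316 6, .derive 357 [.bwd 0, .bwd 85, .fwd 0] [1] (.rel 21), .derive 357 [.bwd 1, .bwd 85, .fwd 1] [2] (.rel 29), .node 317 4, .derive 358 [.bwd 0, .bwd 86, .fwd 84] [2] (.rel 25),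
  .derive 358 [.bwd 1, .fwd 86, .fwd 10] [6] (.rel 38), .node 319 3, .node 321 1, .node 321 3, .derive 361 [.bwd 0, .bwd 85, .bwd 169, .bwd 150, .fwd 56] [2] (.rel 23), .node 321 4, .derive 362 [.bwd 0, .fwd 86, .fwd 79] [0] (.rel 7), .derive 362 [.bwd 1, .bwd 88, .fwd 86] [2] (.rel 25),
  .node 323 3, .derive 363 [.bwd 0, .bwd 86, .fwd 84] [1] (.rel 15), .derive 363 [.bwd 1, .fwd 86, .fwd 165, .bwd 112, .fwd 26] [2] (.rel 23), .node 323 4, .node 324 4, .derive 365 [.bwd 0, .fwd 87, .fwd 64] [2] (.rel 25), .node 325 3, .node 325 5,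
  .derive 367 [.bwd 0, .bwd 89, .fwd 87] [4] (.rel 37), .node 327 2, .derive 368 [.bwd 0, .bwd 86, .fwd 0] [0] (.rel 3), .derive 368 [.bwd 1, .bwd 88, .fwd 182, .bwd 132, .fwd 48] [1] (.rel 13), .node 327 4, .derive 369 [.bwd 0, .bwd 90, .fwd 85] [1] (.rel 17), .derive 369 [.bwd 1, .bwd 88, .fwd 1] [5] (.rel 36), .derive 369 [.bwd 2, .bwd 88, .fwd 2] [6] (.rel 38),
  .node 328 3, .derive 370 [.bwd 0, .fwd 88, .fwd 87] [0] (.rel 5), .node 329 2, .derive 371 [.bwd 0, .bwd 89, .fwd 185, .fwd 132, .fwd 45] [3] (.rel 22), .node 330 3, .derive 372 [.bwd 0, .bwd 90, .fwd 87] [0] (.rel 5), .node 331 4, .derive 373 [.bwd 0, .fwd 88, .fwd 87] [1] (.rel 17),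
  .derive 373 [.bwd 1, .bwd 90, .fwd 184, .fwd 177, .fwd 83] [3] (.rel 31), .node 333 4, .node 335 3, .node 335 5, .node 336 3, .derive 377 [.bwd 0, .fwd 85, .fwd 2] [6] (.rel 34), .node 336 5, .derive 378 [.bwd 0, .bwd 88, .fwd 86] [4] (.rel 37),
  .node 337 6, .node 338 4, .derive 380 [.bwd 0, .bwd 87, .fwd 0] [1] (.rel 17), .derive 380 [.bwd 1, .bwd 89, .fwd 87] [2] (.rel 25), .node 338 5, .node 340 3, .derive 382 [.bwd 0, .fwd 87, .fwd 9] [1] (.rel 15), .derive 382 [.bwd 1, .fwd 87, .fwd 172, .bwd 130, .fwd 45] [2] (.rel 23),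
  .node 340 5, .derive 383 [.bwd 0, .bwd 91, .fwd 88] [4] (.rel 37), .node 341 6, .node 342 4]
def ph1_3 : List Aux := [
  .derive 385 [.bwd 0, .fwd 88, .fwd 10] [6] (.rel 38), .node 342 5, .derive 386 [.bwd 0, .fwd 91, .fwd 84] [0] (.rel 9), .node 344 3, .derive 387 [.bwd 0, .fwd 87, .fwd 10] [6] (.rel 34), .node 344 5, .node 345 6, .node 346 3,
  .derive 390 [.bwd 0, .fwd 88, .fwd 82] [0] (.rel 5), .derive 390 [.bwd 1, .bwd 90, .fwd 173, .bwd 121, .fwd 32] [2] (.rel 23), .node 346 4, .derive 391 [.bwd 0, .bwd 92, .fwd 90] [2] (.rel 25), .node 348 4, .derive 392 [.bwd 0, .fwd 86, .fwd 34] [2] (.rel 25), .node 349 3, .derive 393 [.bwd 0, .fwd 86, .fwd 174, .bwd 139, .fwd 52] [2] (.rel 23),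
  .node 349 5, .derive 394 [.bwd 0, .fwd 88, .fwd 175, .bwd 109, .fwd 20] [2] (.rel 27), .node 351 4, .node 351 5, .node 352 6, .derive 397 [.bwd 0, .fwd 87, .fwd 86] [1] (.rel 21), .node 355 5, .derive 398 [.bwd 0, .fwd 84, .bwd 166, .bwd 84, .fwd 0] [2] (.rel 27),
  .derive 398 [.bwd 1, .bwd 86, .fwd 84] [4] (.rel 37), .node 356 6, .derive 399 [.bwd 0, .fwd 85, .fwd 82] [0] (.rel 11), .derive 399 [.bwd 1, .bwd 85, .fwd 1] [2] (.rel 29), .derive 399 [.bwd 2, .bwd 85, .fwd 2] [3] (.rel 35), .node 358 3, .node 358 5, .node 359 5,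
  .node 360 0, .node 360 3, .derive 404 [.bwd 0, .bwd 83, .fwd 82] [1] (.rel 15), .node 360 4, .derive 405 [.bwd 0, .bwd 85, .fwd 82] [1] (.rel 17), .node 361 4, .derive 406 [.bwd 0, .fwd 85, .fwd 56] [2] (.rel 25), .node 362 3,
  .derive 407 [.bwd 0, .fwd 85, .fwd 77] [0] (.rel 5), .node 362 5, .derive 408 [.bwd 0, .fwd 86, .fwd 172, .bwd 94, .fwd 11] [2] (.rel 27), .node 363 4, .derive 409 [.bwd 0, .fwd 86, .fwd 83] [1] (.rel 17), .derive 409 [.bwd 1, .fwd 86, .fwd 26] [2] (.rel 25), .node 363 5, .node 364 3,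
  .node 365 3, .node 366 5, .derive 413 [.bwd 0, .bwd 87, .fwd 86] [3] (.rel 33), .node 368 4, .derive 414 [.bwd 0, .bwd 85, .fwd 0] [0] (.rel 7), .derive 414 [.bwd 1, .fwd 85, .fwd 42] [1] (.rel 17), .derive 414 [.bwd 2, .bwd 88, .fwd 85] [2] (.rel 25), .node 369 3,
  .derive 415 [.bwd 0, .fwd 86, .fwd 83] [1] (.rel 15), .derive 415 [.bwd 1, .bwd 88, .bwd 176, .fwd 88, .fwd 1] [4] (.rel 30), .derive 415 [.bwd 2, .bwd 87, .fwd 2] [5] (.rel 32), .derive 415 [.bwd 3, .bwd 87, .fwd 3] [6] (.rel 34), .node 372 4, .derive 416 [.bwd 0, .fwd 83, .fwd 82] [0] (.rel 7), .derive 416 [.bwd 1, .bwd 85, .fwd 173, .fwd 166, .fwd 80] [3] (.rel 31), .node 375 5,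
  .derive 417 [.bwd 0, .bwd 81, .fwd 80] [3] (.rel 33), .node 376 6, .node 377 5, .node 378 6, .derive 420 [.bwd 0, .fwd 80, .fwd 79] [4] (.rel 39), .node 380 3, .derive 421 [.bwd 0, .bwd 79, .fwd 0] [1] (.rel 15), .derive 421 [.bwd 1, .fwd 79, .fwd 166, .bwd 123, .fwd 41] [2] (.rel 23),
  .node 380 5, .derive 422 [.bwd 0, .bwd 83, .fwd 80] [4] (.rel 37), .node 381 6, .node 382 5, .derive 424 [.bwd 0, .fwd 81, .fwd 9] [1] (.rel 19), .derive 424 [.bwd 1, .bwd 83, .fwd 80] [3] (.rel 33), .node 383 6, .derive 425 [.bwd 0, .fwd 81, .fwd 80] [4] (.rel 39),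
  .node 385 3, .derive 426 [.bwd 0, .fwd 80, .fwd 11] [6] (.rel 34), .node 385 5, .node 386 6, .derive 428 [.bwd 0, .fwd 81, .fwd 77] [0] (.rel 11), .node 387 5, .derive 429 [.bwd 0, .bwd 82, .fwd 80] [3] (.rel 33), .node 388 6,
  .node 390 4, .derive 431 [.bwd 0, .fwd 80, .fwd 76] [0] (.rel 7), .derive 431 [.bwd 1, .fwd 80, .fwd 29] [2] (.rel 25), .node 391 3, .derive 432 [.bwd 0, .fwd 80, .fwd 169, .bwd 136, .fwd 52] [2] (.rel 23), .node 391 5, .derive 433 [.bwd 0, .fwd 82, .fwd 170, .bwd 102, .fwd 21] [2] (.rel 27), .node 392 3,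
  .derive 434 [.bwd 0, .fwd 82, .fwd 115, .bwd 134, .fwd 47] [2] (.rel 23), .derive 434 [.bwd 1, .bwd 84, .bwd 171, .fwd 169, .fwd 82] [4] (.rel 30), .node 393 5, .derive 435 [.bwd 0, .bwd 84, .fwd 82] [3] (.rel 33)]
def ph1_4 : List Aux := [
  .node 395 5, .derive 436 [.bwd 0, .bwd 82, .fwd 81] [4] (.rel 37), .node 396 2, .node 396 6, .node 398 6, .derive 439 [.bwd 0, .bwd 81, .fwd 0] [2] (.rel 29), .derive 439 [.bwd 1, .fwd 81, .fwd 80] [4] (.rel 39), .node 400 5,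
  .node 401 6, .derive 441 [.bwd 0, .bwd 78, .fwd 160, .fwd 86, .fwd 4] [5] (.rel 41), .node 402 2, .node 403 4, .derive 443 [.bwd 0, .bwd 79, .fwd 76] [0] (.rel 7), .node 404 4, .derive 444 [.bwd 0, .fwd 79, .fwd 76] [1] (.rel 17), .node 405 3,
  .derive 445 [.bwd 0, .fwd 79, .fwd 76] [1] (.rel 15), .node 405 5, .derive 446 [.bwd 0, .fwd 81, .fwd 76] [1] (.rel 19), .node 406 3, .node 407 5, .derive 448 [.bwd 0, .fwd 80, .fwd 71] [0] (.rel 9), .node 408 6, .derive 449 [.bwd 0, .fwd 80, .fwd 14] [2] (.rel 29),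
  .node 409 3, .derive 450 [.bwd 0, .fwd 80, .fwd 76] [1] (.rel 15), .derive 450 [.bwd 1, .bwd 82, .bwd 169, .fwd 166, .fwd 78] [4] (.rel 30), .node 409 5, .derive 451 [.bwd 0, .bwd 84, .fwd 81] [4] (.rel 37), .node 410 2, .derive 452 [.bwd 0, .bwd 83, .fwd 171, .fwd 110, .fwd 27] [5] (.rel 26), .node 411 5,
  .node 412 5, .node 413 2, .node 414 3, .derive 456 [.bwd 0, .bwd 82, .fwd 0] [0] (.rel 5), .derive 456 [.bwd 1, .fwd 82, .fwd 44] [1] (.rel 15), .node 415 2, .derive 457 [.bwd 0, .bwd 80, .fwd 0] [4] (.rel 24), .derive 457 [.bwd 1, .bwd 79, .fwd 1] [6] (.rel 28),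
  .node 417 6, .derive 458 [.bwd 0, .fwd 76, .fwd 75] [3] (.rel 35), .node 419 6, .node 421 5, .derive 460 [.bwd 0, .bwd 73, .fwd 0] [1] (.rel 19), .derive 460 [.bwd 1, .bwd 75, .fwd 72] [3] (.rel 33), .node 422 6, .derive 461 [.bwd 0, .fwd 73, .fwd 72] [4] (.rel 39),
  .node 424 2, .derive 462 [.bwd 0, .bwd 73, .fwd 153, .fwd 117, .fwd 38] [5] (.rel 26), .node 424 6, .derive 463 [.bwd 0, .fwd 74, .fwd 8] [1] (.rel 21), .node 426 5, .derive 464 [.bwd 0, .bwd 72, .fwd 70] [3] (.rel 33), .node 427 6, .node 429 6,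
  .derive 466 [.bwd 0, .fwd 69, .fwd 68] [3] (.rel 35), .node 431 3, .derive 467 [.bwd 0, .fwd 68, .fwd 62] [0] (.rel 5), .derive 467 [.bwd 1, .fwd 68, .fwd 96, .bwd 120, .fwd 39] [2] (.rel 23), .derive 467 [.bwd 2, .bwd 71, .bwd 152, .fwd 149, .fwd 68] [4] (.rel 30), .node 432 5, .derive 468 [.bwd 0, .bwd 70, .fwd 68] [3] (.rel 33), .node 434 5,
  .derive 469 [.bwd 0, .fwd 66, .fwd 65] [4] (.rel 37), .node 435 2, .derive 470 [.bwd 0, .fwd 66, .fwd 148, .bwd 88, .fwd 17] [3] (.rel 22), .derive 470 [.bwd 1, .bwd 68, .fwd 151, .fwd 117, .fwd 33] [5] (.rel 26), .node 436 2, .node 436 6, .derive 472 [.bwd 0, .fwd 68, .fwd 66] [4] (.rel 39), .node 437 6,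
  .node 440 2, .node 442 1, .node 442 6, .node 443 3, .node 443 5, .derive 478 [.bwd 0, .fwd 64, .fwd 59] [0] (.rel 9), .node 444 3, .derive 479 [.bwd 0, .fwd 64, .fwd 59] [1] (.rel 15),
  .derive 479 [.bwd 1, .bwd 66, .bwd 146, .fwd 144, .fwd 64] [4] (.rel 30), .node 445 2, .node 445 5, .derive 481 [.bwd 0, .fwd 66, .fwd 62] [1] (.rel 19), .node 446 6, .derive 482 [.bwd 0, .fwd 66, .fwd 62] [1] (.rel 21), .node 447 5, .node 448 2,
  .derive 484 [.bwd 0, .fwd 66, .fwd 54] [0] (.rel 3), .node 448 6, .node 450 5, .derive 486 [.bwd 0, .fwd 65, .fwd 58] [1] (.rel 19), .derive 486 [.bwd 1, .bwd 67, .fwd 64] [3] (.rel 33), .derive 486 [.bwd 2, .fwd 66, .fwd 61] [4] (.rel 37), .node 451 2, .derive 487 [.bwd 0, .fwd 66, .fwd 65] [4] (.rel 24),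
  .derive 487 [.bwd 1, .bwd 68, .fwd 150, .fwd 95, .fwd 27] [5] (.rel 26), .node 452 6, .node 453 2, .node 454 2]
def ph1_5 : List Aux := [
  .node 455 1, .node 455 6, .node 456 2, .derive 493 [.bwd 0, .bwd 67, .fwd 0] [0] (.rel 3), .derive 493 [.bwd 1, .fwd 67, .fwd 111, .bwd 87, .fwd 22] [1] (.rel 13), .derive 493 [.bwd 2, .bwd 70, .fwd 150, .fwd 149, .fwd 67] [3] (.rel 22), .node 457 5, .derive 494 [.bwd 0, .bwd 69, .bwd 148, .fwd 69, .fwd 0] [2] (.rel 27),
  .derive 494 [.bwd 1, .bwd 69, .fwd 1] [4] (.rel 37), .node 460 2, .derive 495 [.bwd 0, .bwd 66, .fwd 138, .fwd 102, .fwd 37] [5] (.rel 26), .node 460 6, .node 462 1, .derive 497 [.bwd 0, .fwd 63, .fwd 39] [5] (.rel 18), .node 462 6, .node 464 6,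
  .derive 499 [.bwd 0, .fwd 62, .fwd 61] [3] (.rel 35), .node 467 5, .derive 500 [.bwd 0, .fwd 59, .fwd 54] [0] (.rel 9), .derive 500 [.bwd 1, .fwd 58, .fwd 57] [4] (.rel 37), .node 468 2, .derive 501 [.bwd 0, .fwd 58, .fwd 126, .bwd 75, .fwd 11] [3] (.rel 22), .derive 501 [.bwd 1, .bwd 60, .fwd 129, .fwd 101, .fwd 34] [5] (.rel 26), .node 469 2,
  .derive 502 [.bwd 0, .fwd 59, .fwd 58] [4] (.rel 24), .derive 502 [.bwd 1, .bwd 61, .fwd 128, .fwd 92, .fwd 25] [5] (.rel 26), .node 470 1, .derive 503 [.bwd 0, .fwd 60, .fwd 14] [3] (.rel 14), .derive 503 [.bwd 1, .fwd 60, .fwd 27] [5] (.rel 18), .node 470 6, .derive 504 [.bwd 0, .fwd 63, .fwd 15] [3] (.rel 35), .node 471 3,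
  .node 471 6, .node 473 5, .node 474 1, .node 474 6, .node 475 6, .node 476 5, .node 477 5, .derive 512 [.bwd 0, .bwd 63, .fwd 62] [3] (.rel 33),
  .node 478 2, .node 478 6, .derive 514 [.bwd 0, .fwd 64, .fwd 57] [0] (.rel 11), .node 479 5, .derive 515 [.bwd 0, .fwd 64, .fwd 57] [1] (.rel 19), .derive 515 [.bwd 1, .fwd 64, .fwd 62] [4] (.rel 37), .node 480 5, .node 481 2,
  .node 483 2, .node 484 1, .node 484 6, .derive 520 [.bwd 0, .bwd 63, .fwd 61] [2] (.rel 29), .node 486 2, .derive 521 [.bwd 0, .fwd 59, .fwd 54] [4] (.rel 24), .node 487 3, .derive 522 [.bwd 0, .fwd 58, .fwd 23] [5] (.rel 32),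
  .node 487 6, .node 488 5, .derive 524 [.bwd 0, .bwd 60, .fwd 127, .fwd 86, .fwd 24] [6] (.rel 40), .node 489 1, .node 489 6, .node 490 1, .node 490 6, .node 491 6,
  .node 492 5, .node 493 5, .derive 531 [.bwd 0, .bwd 62, .fwd 0] [0] (.rel 9), .derive 531 [.bwd 1, .fwd 62, .fwd 20] [1] (.rel 19), .derive 531 [.bwd 2, .fwd 62, .fwd 61] [3] (.rel 33), .node 495 1, .derive 532 [.bwd 0, .bwd 60, .bwd 125, .fwd 60, .fwd 0] [2] (.rel 12), .derive 532 [.bwd 1, .fwd 60, .fwd 36] [5] (.rel 18),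
  .node 495 6, .derive 533 [.bwd 0, .bwd 63, .fwd 61] [2] (.rel 29), .node 497 6, .derive 534 [.bwd 0, .bwd 62, .fwd 60] [1] (.rel 21), .node 498 5, .derive 535 [.bwd 0, .bwd 62, .fwd 127, .fwd 102, .fwd 39] [6] (.rel 40), .node 500 2, .derive 536 [.bwd 0, .fwd 60, .fwd 55] [0] (.rel 3),
  .derive 536 [.bwd 1, .fwd 60, .fwd 59] [4] (.rel 24), .derive 536 [.bwd 2, .bwd 63, .fwd 121, .fwd 94, .fwd 32] [5] (.rel 26), .node 501 1, .derive 537 [.bwd 0, .fwd 61, .fwd 13] [3] (.rel 14), .derive 537 [.bwd 1, .fwd 61, .fwd 34] [5] (.rel 18), .node 501 6, .derive 538 [.bwd 0, .fwd 64, .fwd 13] [3] (.rel 35), .node 502 1,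
  .derive 539 [.bwd 0, .fwd 63, .fwd 61] [4] (.rel 16), .derive 539 [.bwd 1, .fwd 63, .fwd 27] [5] (.rel 18), .node 502 6, .derive 540 [.bwd 0, .fwd 66, .fwd 61] [4] (.rel 39), .node 503 6, .derive 541 [.bwd 0, .fwd 65, .fwd 18] [3] (.rel 35), .node 504 5, .derive 542 [.bwd 0, .fwd 64, .fwd 18] [3] (.rel 33),
  .derive 542 [.bwd 1, .bwd 66, .fwd 128, .fwd 94, .fwd 31] [6] (.rel 40), .node 505 6, .node 506 5, .node 508 6]
def ph1_6 : List Aux := [
  .node 509 5, .node 510 5, .node 512 2, .node 513 3, .node 513 6, .derive 550 [.bwd 0, .bwd 64, .fwd 63] [2] (.rel 29), .node 515 2, .derive 551 [.bwd 0, .fwd 61, .fwd 59] [4] (.rel 24),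
  .node 516 2, .derive 552 [.bwd 0, .bwd 62, .bwd 127, .fwd 126, .fwd 61] [5] (.rel 26), .node 517 1, .derive 553 [.bwd 0, .bwd 63, .fwd 127, .fwd 123, .fwd 61] [2] (.rel 12), .node 518 1, .node 518 6, .node 519 0, .node 519 6,
  .derive 557 [.bwd 0, .bwd 66, .fwd 65] [1] (.rel 21), .node 520 5, .node 521 1, .derive 559 [.bwd 0, .bwd 66, .fwd 127, .fwd 119, .fwd 57] [2] (.rel 12), .derive 559 [.bwd 1, .fwd 66, .fwd 60] [4] (.rel 16), .node 521 3, .derive 560 [.bwd 0, .bwd 69, .fwd 129, .fwd 127, .fwd 67] [2] (.rel 23), .node 521 6,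
  .node 522 6, .node 523 5, .derive 563 [.bwd 0, .bwd 69, .fwd 129, .fwd 93, .fwd 27] [6] (.rel 40), .node 525 6, .derive 564 [.bwd 0, .bwd 68, .fwd 67] [1] (.rel 21), .node 526 5, .node 527 6, .node 528 5,
  .node 529 5, .node 531 2, .derive 569 [.bwd 0, .bwd 67, .fwd 0] [0] (.rel 3), .node 532 6, .derive 570 [.bwd 0, .bwd 65, .fwd 0] [2] (.rel 29), .node 533 5, .derive 571 [.bwd 0, .bwd 65, .fwd 127, .fwd 102, .fwd 37] [6] (.rel 40), .node 534 5,
  .derive 572 [.bwd 0, .bwd 65, .fwd 126, .fwd 103, .fwd 38] [6] (.rel 40), .node 536 1, .derive 573 [.bwd 0, .fwd 61, .fwd 59] [4] (.rel 16), .derive 573 [.bwd 1, .fwd 61, .fwd 30] [5] (.rel 18), .node 536 6, .derive 574 [.bwd 0, .fwd 65, .fwd 54] [0] (.rel 11), .derive 574 [.bwd 1, .fwd 65, .fwd 60] [4] (.rel 39), .node 537 6,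
  .derive 575 [.bwd 0, .fwd 64, .fwd 12] [3] (.rel 35), .node 538 5, .derive 576 [.bwd 0, .fwd 63, .fwd 12] [3] (.rel 33), .derive 576 [.bwd 1, .bwd 65, .fwd 128, .fwd 100, .fwd 33] [6] (.rel 40), .node 539 6, .derive 577 [.bwd 0, .fwd 64, .fwd 60] [4] (.rel 39), .node 540 5, .derive 578 [.bwd 0, .bwd 64, .fwd 129, .fwd 92, .fwd 23] [6] (.rel 40),
  .node 541 5, .derive 579 [.bwd 0, .fwd 63, .fwd 17] [3] (.rel 33), .derive 579 [.bwd 1, .bwd 65, .fwd 129, .fwd 94, .fwd 25] [6] (.rel 40), .node 543 5, .node 545 5, .node 548 3, .derive 582 [.bwd 0, .bwd 59, .fwd 122, .fwd 121, .fwd 58] [2] (.rel 23), .node 549 4,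
  .node 549 6, .derive 584 [.bwd 0, .bwd 61, .fwd 60] [3] (.rel 35), .node 551 1, .derive 585 [.bwd 0, .bwd 60, .fwd 122, .fwd 118, .fwd 54] [2] (.rel 12), .derive 585 [.bwd 1, .fwd 60, .fwd 57] [4] (.rel 16), .node 552 1, .derive 586 [.bwd 0, .fwd 60, .fwd 59] [5] (.rel 18), .node 553 0,
  .derive 587 [.bwd 0, .fwd 60, .fwd 57] [2] (.rel 2), .node 553 6, .node 554 6, .node 555 5, .node 556 6, .derive 591 [.bwd 0, .bwd 62, .fwd 61] [0] (.rel 11), .node 557 5, .node 559 6,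
  .derive 593 [.bwd 0, .fwd 60, .fwd 49] [2] (.rel 29), .node 560 6, .derive 594 [.bwd 0, .bwd 60, .fwd 58] [3] (.rel 35), .node 562 5, .derive 595 [.bwd 0, .bwd 59, .fwd 128, .fwd 86, .fwd 24] [6] (.rel 40), .node 564 5, .derive 596 [.bwd 0, .fwd 57, .fwd 56] [1] (.rel 19), .node 569 1,
  .derive 597 [.bwd 0, .bwd 54, .fwd 120, .fwd 79, .fwd 18] [2] (.rel 12), .node 570 5, .derive 598 [.bwd 0, .bwd 54, .fwd 118, .fwd 90, .fwd 29] [6] (.rel 40), .node 573 6, .derive 599 [.bwd 0, .fwd 49, .fwd 44] [4] (.rel 39), .node 574 5, .derive 600 [.bwd 0, .fwd 48, .fwd 39] [0] (.rel 9), .derive 600 [.bwd 1, .bwd 50, .fwd 113, .fwd 81, .fwd 19] [6] (.rel 40),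
  .node 575 5, .derive 601 [.bwd 0, .fwd 48, .fwd 7] [3] (.rel 33), .derive 601 [.bwd 1, .bwd 50, .fwd 113, .fwd 82, .fwd 19] [6] (.rel 40), .node 582 4]
def ph1_7 : List Aux := [
  .derive 602 [.bwd 0, .fwd 37, .fwd 36] [2] (.rel 25), .node 583 6, .derive 603 [.bwd 0, .bwd 38, .fwd 37] [4] (.rel 39), .node 585 6, .derive 604 [.bwd 0, .fwd 36, .fwd 29] [2] (.rel 29), .node 586 0, .derive 605 [.bwd 0, .fwd 35, .fwd 34] [5] (.rel 8), .node 586 6,
  .node 587 6, .derive 607 [.bwd 0, .fwd 36, .fwd 32] [2] (.rel 29), .node 588 5, .derive 603 [.fwd 8, .fwd 45, .fwd 105, .fwd 168, .fwd 225, .fwd 287, .bwd 302, .bwd 380, .fwd 463, .bwd 548, .fwd 638, .fwd 648, .bwd 649, .edge 1, .edge 2, .edge 6, .edge 5, .edge 2, .edge 4, .edge 3, .edge 2, .edge 0, .edge 1, .edge 2, .edge 6, .edge 5, .edge 2, .edge 4, .edge 3, .edge 2, .edge 0, .edge 1, .edge 2, .edge 6, .edge 5, .edge 2, .edge 4, .edge 3, .edge 2, .edge 0, .edge 1, .edge 2,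 .edge 6, .edge 5, .edge 2, .edge 4, .edge 3, .edge 2, .edge 0, .edge 1, .edge 2, .edge 6, .edge 5, .edge 2, .edge 4, .edge 3, .edge 2, .edge 0, .edge 1, .edge 2, .edge 6, .edge 5, .edge 2, .edge 4, .edge 3, .edge 2, .edge 0, .edge 1, .edge 2, .edge 6, .edge 5, .edge 2, .edge 4, .edge 3, .edge 2, .edge 0, .edge 1, .fwd 642, .bwd 635, .fwd 545, .bwd 533, .bwd 446, .bwd 360, .fwd 277, .bwd 222, .fwd 161, .bwd 99, .fwd 37, .fwd 0] [2] (.rel 54), .derive 608 [.bwd 0, .bwd 10, .bwd 11] [6] (.rel 28), .derive 602 [.bwd 0, .bwd 2, .bwd 39, .bwd 42, .fwd 5] [5] (.rel 41), .derive 607 [.fwd 4, .fwd 36, .fwd 97, .fwd 162, .bwd 224, .bwd 293, .bwd 321, .bwd 253, .bwd 256, .fwd 323, .fwd 352, .fwd 434, .fwd 521, .fwd 519, .fwd 520, .fwd 521, .bwd 522, .bwd 617, .edge 2, .edge 0, .edge 1, .edge 2, .edge 6, .edge 5, .edge 2, .edge 4, .edge 3, .edge 2, .edge 0, .fwd 706, .fwd 705, .fwd 707, .bwd 709, .fwd 711, .fwd 710, .edge 3, .edge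 2, .fwd 680, .fwd 679, .fwd 678, .fwd 677, .bwd 675, .bwd 671, .bwd 607, .bwd 565, .fwd 478, .fwd 477, .fwd 563, .bwd 564, .fwd 656, .bwd 653, .fwd 562, .bwd 483, .bwd 438, .bwd 439, .bwd 440, .bwd 357, .fwd 276, .fwd 274, .fwd 207, .fwd 206, .fwd 205, .bwd 145, .fwd 80, .fwd 79, .fwd 26, .fwd 25, .fwd 6, .bwd 0, .fwd 13, .bwd 50, .bwd 110, .bwd 173, .fwd 236, .fwd 295, .fwd 371, .fwd 305, .fwd 304, .bwd 308, .fwd 307, .bwd 385, .bwd 386, .fwd 387, .bwd 469, .bwd 468, .bwd 470, .bwd 556, .bwd 645, .fwd 643, .bwd 584] [] (.rel 56), .derive 607 [.fwd 0] [] (.free),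
  .derive 303 [.bwd 0, .bwd 7] [6] (.free), .derive 300 [.bwd 586, .fwd 0] [] (.free), .derive 587 [.bwd 0] [] (.free), .derive 300 [.bwd 0, .bwd 12] [5] (.free), .derive 307 [.fwd 578, .fwd 0] [] (.free), .derive 605 [.bwd 0] [] (.free), .derive 307 [.bwd 0, .bwd 16] [0] (.free), .derive 347 [.fwd 501, .fwd 0] [] (.free),
  .derive 586 [.bwd 0] [] (.free), .derive 347 [.bwd 0, .fwd 17] [6] (.free), .derive 347 [.fwd 501, .fwd 0] [] (.free), .derive 606 [.bwd 0] [] (.free), .derive 347 [.bwd 0, .bwd 14] [5] (.free), .derive 339 [.bwd 505, .fwd 0] [] (.free), .derive 602 [.bwd 0] [] (.free), .derive 339 [.bwd 0, .bwd 18] [6] (.free),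
  .derive 343 [.fwd 517, .fwd 0] [] (.free), .derive 608 [.bwd 0] [] (.free), .derive 343 [.bwd 0, .bwd 23] [5] (.free), .derive 343 [.fwd 521, .fwd 0] [] (.free), .derive 588 [.bwd 0] [] (.free), .derive 343 [.bwd 0, .bwd 63] [6] (.free), .derive 339 [.bwd 523, .fwd 0] [] (.free), .derive 553 [.bwd 0] [] (.free),
  .derive 339 [.bwd 0, .bwd 71] [4] (.free), .derive 298 [.fwd 537, .fwd 0] [] (.free), .derive 585 [.bwd 0] [] (.free), .derive 298 [.bwd 0, .fwd 39] [6] (.free), .derive 301 [.fwd 618, .fwd 0] [] (.free), .derive 604 [.bwd 0] [] (.free), .derive 301 [.bwd 0, .fwd 41] [2] (.free), .derive 342 [.bwd 537, .fwd 0] [] (.free),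
  .derive 589 [.bwd 0] [] (.free), .derive 342 [.bwd 0, .bwd 74] [6] (.free), .derive 338 [.bwd 538, .fwd 0] [] (.free), .derive 554 [.bwd 0] [] (.free), .derive 338 [.bwd 0, .bwd 108] [5] (.free), .derive 381 [.bwd 460, .fwd 0] [] (.free), .derive 573 [.bwd 0] [] (.free), .derive 381 [.bwd 0, .fwd 63] [6] (.free),
  .derive 423 [.bwd 381, .fwd 0] [] (.free), .derive 599 [.bwd 0] [] (.free), .derive 423 [.bwd 0, .fwd 65] [4] (.free), .derive 461 [.fwd 311, .fwd 0] [] (.free), .derive 575 [.bwd 0] [] (.free), .derive 461 [.bwd 0, .bwd 113] [6] (.free), .derive 422 [.fwd 315, .fwd 0] [] (.free), .derive 537 [.bwd 0] [] (.free),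
  .derive 422 [.bwd 0, .fwd 179] [5] (.free), .derive 380 [.fwd 392, .fwd 0] [] (.free), .derive 519 [.bwd 0] [] (.free), .derive 380 [.bwd 0, .fwd 151] [6] (.free), .derive 385 [.fwd 467, .fwd 0] [] (.free), .derive 557 [.bwd 0] [] (.free), .derive 385 [.bwd 0, .fwd 91] [5] (.free), .derive 427 [.bwd 388, .fwd 0] [] (.free),
  .derive 592 [.bwd 0] [] (.free), .derive 427 [.bwd 0, .bwd 74] [6] (.free), .derive 465 [.bwd 319, .fwd 0] [] (.free), .derive 601 [.bwd 0] [] (.free), .derive 465 [.bwd 0, .fwd 78] [3] (.free), .derive 499 [.fwd 260, .fwd 0] [] (.free), .derive 598 [.bwd 0] [] (.free), .derive 499 [.bwd 0, .fwd 88] [6] (.free),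
  .derive 464 [.fwd 264, .fwd 0] [] (.free), .derive 581 [.bwd 0] [] (.free), .derive 464 [.bwd 0, .bwd 121] [5] (.free), .derive 426 [.fwd 330, .fwd 0] [] (.free), .derive 545 [.bwd 0] [] (.free), .derive 426 [.bwd 0, .bwd 185] [6] (.free), .derive 421 [.bwd 404, .fwd 0] [] (.free), .derive 508 [.bwd 0] [] (.free),
  .derive 421 [.bwd 0, .bwd 216] [5] (.free), .derive 460 [.bwd 345, .fwd 0] [] (.free), .derive 532 [.bwd 0] [] (.free), .derive 460 [.bwd 0, .fwd 155] [6] (.free), .derive 496 [.bwd 280, .fwd 0] [] (.free), .derive 570 [.bwd 0] [] (.free), .derive 496 [.bwd 0, .bwd 157, .fwd 0] [2] (.free), .derive 533 [.fwd 221, .bwd 0] [] (.free),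
  .derive 533 [.fwd 0] [] (.free), .derive 496 [.bwd 0, .bwd 224] [6] (.free), .derive 460 [.fwd 286, .fwd 0] [] (.free), .derive 495 [.bwd 0] [] (.free)]
def ph1_8 : List Aux := [
  .derive 460 [.bwd 0, .fwd 289] [5] (.free), .derive 421 [.fwd 357, .fwd 0] [] (.free), .derive 474 [.bwd 0] [] (.free), .derive 421 [.bwd 0, .fwd 267] [6] (.free), .derive 426 [.fwd 422, .fwd 0] [] (.free), .derive 509 [.bwd 0] [] (.free), .derive 426 [.bwd 0, .fwd 205] [5] (.free), .derive 464 [.bwd 354, .fwd 0] [] (.free),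
  .derive 546 [.bwd 0] [] (.free), .derive 464 [.bwd 0, .bwd 170] [6] (.free), .derive 499 [.bwd 294, .fwd 0] [] (.free), .derive 571 [.bwd 0] [] (.free), .derive 499 [.bwd 0, .bwd 161] [3] (.free), .derive 465 [.bwd 296, .fwd 0] [] (.free), .derive 576 [.bwd 0] [] (.free), .derive 465 [.bwd 0, .fwd 163] [6] (.free),
  .derive 427 [.fwd 361, .fwd 0] [] (.free), .derive 558 [.bwd 0] [] (.free), .derive 427 [.bwd 0, .bwd 200] [5] (.free), .derive 385 [.fwd 436, .fwd 0] [] (.free), .derive 520 [.bwd 0] [] (.free), .derive 385 [.bwd 0, .bwd 270] [6] (.free), .derive 380 [.bwd 521, .fwd 0] [] (.free), .derive 484 [.bwd 0] [] (.free),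
  .derive 380 [.bwd 0, .bwd 301] [5] (.free), .derive 422 [.bwd 452, .fwd 0] [] (.free), .derive 501 [.bwd 0] [] (.free), .derive 422 [.bwd 0, .fwd 241] [6] (.free), .derive 461 [.bwd 381, .fwd 0] [] (.free), .derive 538 [.bwd 0] [] (.free), .derive 461 [.bwd 0, .bwd 183] [4] (.free), .derive 423 [.bwd 383, .fwd 0] [] (.free),
  .derive 574 [.bwd 0] [] (.free), .derive 423 [.bwd 0, .bwd 188] [6] (.free), .derive 381 [.fwd 459, .fwd 0] [] (.free), .derive 536 [.bwd 0] [] (.free), .derive 381 [.bwd 0, .fwd 254] [5] (.free), .derive 338 [.fwd 544, .fwd 0] [] (.free), .derive 518 [.bwd 0] [] (.free), .derive 338 [.bwd 0, .fwd 225] [6] (.free),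
  .derive 342 [.fwd 628, .fwd 0] [] (.free), .derive 555 [.bwd 0] [] (.free), .derive 342 [.bwd 0, .fwd 166] [5] (.free), .derive 386 [.bwd 541, .fwd 0] [] (.free), .derive 590 [.bwd 0] [] (.free), .derive 386 [.bwd 0, .bwd 149] [6] (.free), .derive 428 [.bwd 462, .fwd 0] [] (.free), .derive 600 [.bwd 0] [] (.free),
  .derive 428 [.bwd 0, .fwd 153] [0] (.free), .derive 389 [.bwd 464, .fwd 0] [] (.free), .derive 578 [.bwd 0] [] (.free), .derive 389 [.bwd 0, .fwd 195] [6] (.free), .derive 345 [.fwd 545, .fwd 0] [] (.free), .derive 567 [.bwd 0] [] (.free), .derive 345 [.bwd 0, .bwd 222] [5] (.free), .derive 302 [.fwd 637, .fwd 0] [] (.free),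
  .derive 528 [.bwd 0] [] (.free), .derive 302 [.bwd 0, .bwd 294] [6] (.free), .derive 299 [.bwd 730, .fwd 0] [] (.free), .derive 490 [.bwd 0] [] (.free), .derive 299 [.bwd 0, .bwd 334] [5] (.free), .derive 341 [.bwd 652, .fwd 0] [] (.free), .derive 502 [.bwd 0] [] (.free), .derive 341 [.bwd 0, .fwd 272] [6] (.free),
  .derive 384 [.bwd 565, .fwd 0] [] (.free), .derive 540 [.bwd 0] [] (.free), .derive 384 [.bwd 0, .fwd 274] [4] (.free), .derive 425 [.fwd 487, .fwd 0] [] (.free), .derive 504 [.bwd 0] [] (.free), .derive 425 [.bwd 0, .bwd 339] [6] (.free), .derive 383 [.fwd 491, .fwd 0] [] (.free), .derive 470 [.bwd 0] [] (.free),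
  .derive 383 [.bwd 0, .fwd 404] [5] (.free), .derive 340 [.fwd 576, .fwd 0] [] (.free), .derive 455 [.bwd 0] [] (.free), .derive 340 [.bwd 0, .fwd 373] [6] (.free), .derive 344 [.fwd 659, .fwd 0] [] (.free), .derive 492 [.bwd 0] [] (.free), .derive 344 [.bwd 0, .fwd 313] [5] (.free), .derive 388 [.bwd 573, .fwd 0] [] (.free),
  .derive 530 [.bwd 0] [] (.free), .derive 388 [.bwd 0, .bwd 284] [6] (.free), .derive 430 [.bwd 494, .fwd 0] [] (.free), .derive 542 [.bwd 0] [] (.free), .derive 430 [.bwd 0, .fwd 288] [3] (.free), .derive 466 [.fwd 428, .fwd 0] [] (.free), .derive 535 [.bwd 0] [] (.free), .derive 466 [.bwd 0, .fwd 309] [6] (.free),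
  .derive 429 [.fwd 432, .fwd 0] [] (.free), .derive 511 [.bwd 0] [] (.free), .derive 429 [.bwd 0, .bwd 352] [5] (.free), .derive 387 [.fwd 505, .fwd 0] [] (.free), .derive 476 [.bwd 0] [] (.free), .derive 387 [.bwd 0, .bwd 418] [6] (.free), .derive 382 [.bwd 589, .fwd 0] [] (.free), .derive 442 [.bwd 0] [] (.free),
  .derive 382 [.bwd 0, .bwd 446] [5] (.free), .derive 424 [.bwd 521, .fwd 0] [] (.free), .derive 462 [.bwd 0] [] (.free), .derive 424 [.bwd 0, .fwd 384] [6] (.free)]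
def ph1_9 : List Aux := [
  .derive 463 [.bwd 449, .fwd 0] [] (.free), .derive 498 [.bwd 0] [] (.free), .derive 463 [.bwd 0, .bwd 326] [1] (.free), .derive 459 [.bwd 451, .fwd 0] [] (.free), .derive 534 [.bwd 0] [] (.free), .derive 459 [.bwd 0, .bwd 330] [6] (.free), .derive 419 [.fwd 463, .fwd 0] [] (.free), .derive 497 [.bwd 0] [] (.free),
  .derive 419 [.bwd 0, .fwd 394] [5] (.free), .derive 377 [.fwd 542, .fwd 0] [] (.free), .derive 475 [.bwd 0] [] (.free), .derive 377 [.bwd 0, .fwd 374] [6] (.free), .derive 375 [.bwd 626, .fwd 0] [] (.free), .derive 510 [.bwd 0] [] (.free), .derive 375 [.bwd 0, .fwd 312] [5] (.free), .derive 417 [.bwd 551, .fwd 0] [] (.free),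
  .derive 547 [.bwd 0] [] (.free), .derive 417 [.bwd 0, .bwd 276] [6] (.free), .derive 458 [.bwd 477, .fwd 0] [] (.free), .derive 572 [.bwd 0] [] (.free), .derive 458 [.bwd 0, .bwd 262] [3] (.free), .derive 418 [.bwd 479, .fwd 0] [] (.free), .derive 579 [.bwd 0] [] (.free), .derive 418 [.bwd 0, .fwd 264] [6] (.free),
  .derive 376 [.fwd 558, .fwd 0] [] (.free), .derive 568 [.bwd 0] [] (.free), .derive 376 [.bwd 0, .bwd 293] [5] (.free), .derive 335 [.fwd 643, .fwd 0] [] (.free), .derive 529 [.bwd 0] [] (.free), .derive 335 [.bwd 0, .bwd 365] [6] (.free), .derive 336 [.fwd 730, .fwd 0] [] (.free), .derive 491 [.bwd 0] [] (.free),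
  .derive 336 [.bwd 0, .bwd 403] [5] (.free), .derive 378 [.bwd 646, .fwd 0] [] (.free), .derive 503 [.bwd 0] [] (.free), .derive 378 [.bwd 0, .fwd 342] [6] (.free), .derive 420 [.bwd 568, .fwd 0] [] (.free), .derive 541 [.bwd 0] [] (.free), .derive 420 [.bwd 0, .bwd 284] [4] (.free), .derive 379 [.bwd 570, .fwd 0] [] (.free),
  .derive 577 [.bwd 0] [] (.free), .derive 379 [.bwd 0, .bwd 288] [6] (.free), .derive 337 [.fwd 653, .fwd 0] [] (.free), .derive 539 [.bwd 0] [] (.free), .derive 337 [.bwd 0, .fwd 354] [5] (.free), .derive 296 [.fwd 744, .fwd 0] [] (.free), .derive 527 [.bwd 0] [] (.free), .derive 296 [.bwd 0, .fwd 316] [6] (.free),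
  .derive 294 [.bwd 834, .fwd 0] [] (.free), .derive 566 [.bwd 0] [] (.free), .derive 294 [.bwd 0, .bwd 269] [2] (.free), .derive 251 [.fwd 841, .fwd 0] [] (.free), .derive 593 [.bwd 0] [] (.free), .derive 251 [.bwd 0, .bwd 273] [6] (.free), .derive 252 [.fwd 932, .fwd 0] [] (.free), .derive 559 [.bwd 0] [] (.free),
  .derive 252 [.bwd 0, .fwd 335] [4] (.free), .derive 297 [.bwd 842, .fwd 0] [] (.free), .derive 525 [.bwd 0] [] (.free), .derive 297 [.bwd 0, .fwd 331] [6] (.free), .derive 295 [.bwd 844, .fwd 0] [] (.free), .derive 564 [.bwd 0] [] (.free), .derive 295 [.bwd 0, .fwd 276] [5] (.free), .derive 293 [.bwd 851, .fwd 0] [] (.free),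
  .derive 596 [.bwd 0] [] (.free), .derive 293 [.bwd 0, .fwd 278] [1] (.free), .derive 256 [.bwd 857, .fwd 0] [] (.free), .derive 565 [.bwd 0] [] (.free), .derive 256 [.bwd 0, .bwd 338] [5] (.free), .derive 255 [.bwd 938, .fwd 0] [] (.free), .derive 526 [.bwd 0] [] (.free), .derive 255 [.bwd 0, .bwd 410] [6] (.free),
  .derive 257 [.fwd 939, .fwd 0] [] (.free), .derive 489 [.bwd 0] [] (.free), .derive 257 [.bwd 0, .bwd 420] [4] (.free), .derive 178 [.fwd 943, .fwd 0] [] (.free), .derive 521 [.bwd 0] [] (.free), .derive 178 [.bwd 0, .fwd 353] [6] (.free), .derive 176 [.edge 6, .fwd 0] [] (.free), .derive 561 [.bwd 0] [] (.free),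
  .derive 176 [.bwd 0, .bwd 297] [3] (.free), .derive 99 [.edge 3, .fwd 0] [] (.free), .derive 594 [.bwd 0] [] (.free), .derive 99 [.bwd 0, .bwd 301] [6] (.free), .derive 135 [.edge 6, .fwd 0] [] (.free), .derive 560 [.bwd 0] [] (.free), .derive 135 [.bwd 0, .fwd 363] [2] (.free), .derive 136 [.edge 2, .fwd 0] [] (.free),
  .derive 522 [.bwd 0] [] (.free), .derive 136 [.bwd 0, .fwd 364] [6] (.free), .derive 93 [.edge 6, .fwd 0] [] (.free), .derive 562 [.bwd 0] [] (.free), .derive 93 [.bwd 0, .fwd 308] [5] (.free), .derive 86 [.edge 5, .fwd 0] [] (.free), .derive 595 [.bwd 0] [] (.free), .derive 86 [.bwd 0, .fwd 310] [6] (.free),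
  .derive 87 [.edge 6, .fwd 0] [] (.free), .derive 580 [.bwd 0] [] (.free), .derive 87 [.bwd 0, .bwd 338] [5] (.free), .derive 88 [.edge 5, .fwd 0] [] (.free)]
def ph1_10 : List Aux := [
  .derive 543 [.bwd 0] [] (.free), .derive 88 [.bwd 0, .bwd 403] [6] (.free), .derive 137 [.edge 6, .fwd 0] [] (.free), .derive 505 [.bwd 0] [] (.free), .derive 137 [.bwd 0, .bwd 472] [3] (.free), .derive 138 [.edge 3, .fwd 0] [] (.free), .derive 471 [.bwd 0] [] (.free), .derive 138 [.bwd 0, .fwd 474] [6] (.free),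
  .derive 89 [.edge 6, .fwd 0] [] (.free), .derive 506 [.bwd 0] [] (.free), .derive 89 [.bwd 0, .fwd 411] [5] (.free), .derive 90 [.edge 5, .fwd 0] [] (.free), .derive 544 [.bwd 0] [] (.free), .derive 90 [.bwd 0, .bwd 386] [6] (.free), .derive 91 [.edge 6, .fwd 0] [] (.free), .derive 563 [.bwd 0] [] (.free),
  .derive 91 [.bwd 0, .bwd 390] [5] (.free), .derive 92 [.edge 5, .fwd 0] [] (.free), .derive 523 [.bwd 0] [] (.free), .derive 92 [.bwd 0, .bwd 462] [6] (.free), .derive 141 [.edge 6, .fwd 0] [] (.free), .derive 487 [.bwd 0] [] (.free), .derive 141 [.bwd 0, .fwd 526] [4] (.free), .derive 140 [.edge 4, .fwd 0] [] (.free),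
  .derive 452 [.bwd 0] [] (.free), .derive 140 [.bwd 0, .fwd 527] [6] (.free), .derive 110 [.edge 6, .fwd 0] [] (.free), .derive 488 [.bwd 0] [] (.free), .derive 110 [.bwd 0, .fwd 470] [5] (.free), .derive 111 [.edge 5, .fwd 0] [] (.free), .derive 524 [.bwd 0] [] (.free), .derive 111 [.bwd 0, .fwd 472] [6] (.free),
  .derive 112 [.edge 6, .fwd 0] [] (.free), .derive 507 [.bwd 0] [] (.free), .derive 112 [.bwd 0, .bwd 500] [5] (.free), .derive 113 [.edge 5, .fwd 0] [] (.free), .derive 473 [.bwd 0] [] (.free), .derive 113 [.bwd 0, .bwd 565] [6] (.free), .derive 139 [.edge 6, .fwd 0] [] (.free), .derive 437 [.bwd 0] [] (.free),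
  .derive 139 [.bwd 0, .bwd 637] [2] (.free), .derive 151 [.edge 2, .fwd 0] [] (.free), .derive 396 [.bwd 0] [] (.free), .derive 151 [.bwd 0, .fwd 639] [6] (.free), .derive 152 [.edge 6, .fwd 0] [] (.free), .derive 438 [.bwd 0] [] (.free), .derive 152 [.bwd 0, .bwd 575] [4] (.free), .derive 153 [.edge 4, .fwd 0] [] (.free),
  .derive 472 [.bwd 0] [] (.free), .derive 153 [.bwd 0, .bwd 579] [6] (.free), .derive 154 [.edge 6, .fwd 0] [] (.free), .derive 436 [.bwd 0] [] (.free), .derive 154 [.bwd 0, .bwd 651] [5] (.free), .derive 198 [.edge 5, .fwd 0] [] (.free), .derive 395 [.bwd 0] [] (.free), .derive 198 [.bwd 0, .bwd 736] [4] (.free),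
  .derive 199 [.edge 4, .fwd 0] [] (.free), .derive 351 [.bwd 0] [] (.free), .derive 199 [.bwd 0, .bwd 826] [3] (.free), .derive 204 [.edge 3, .fwd 0] [] (.free), .derive 309 [.bwd 0] [] (.free), .derive 204 [.bwd 0, .fwd 828] [5] (.free), .derive 203 [.edge 5, .fwd 0] [] (.free), .derive 352 [.bwd 0] [] (.free),
  .derive 203 [.bwd 0, .fwd 743] [6] (.free), .derive 202 [.edge 6, .fwd 0] [] (.free), .derive 397 [.bwd 0] [] (.free), .derive 202 [.bwd 0, .fwd 745] [1] (.free), .derive 214 [.edge 1, .fwd 0] [] (.free), .derive 353 [.bwd 0] [] (.free), .derive 214 [.bwd 0, .bwd 835] [6] (.free), .derive 213 [.edge 6, .fwd 0] [] (.free),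
  .derive 310 [.bwd 0] [] (.free), .derive 213 [.bwd 0, .bwd 926] [5] (.free), .derive 212 [.edge 5, .fwd 0] [] (.free), .derive 267 [.bwd 0] [] (.free), .derive 212 [.fwd 1022, .fwd 0] [2] (.free), .commit 0]
def ph1 : List Aux :=
  (((ph1_0 ++ ph1_1) ++ (ph1_2 ++ (ph1_3 ++ ph1_4))) ++ ((ph1_5 ++ (ph1_6 ++ ph1_7)) ++ (ph1_8 ++ (ph1_9 ++ ph1_10))))

def ph2_0 : List ℕ := [
  950285, 970774, 978970, 991272, 675895, 929799, 675857, 679950,
  684054, 725007, 688161, 720911, 692259, 729103, 712717, 729104,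
  667707, 909313, 884751, 761872, 741400, 757790, 749607, 753694,
  802853, 778257, 798750, 884791, 733214, 880679, 753671, 880657,
  708638, 901157, 798727, 901137, 958488, 794654, 802823, 921625,
  946234, 974852, 946182, 954385, 761901, 749579, 942126, 942083,
  938013, 725047, 966700, 966670, 987141, 933895, 937993]

/-- known edges at a check point -/
def mask0 : ℕ := 0x801608808914142448c09030302021460912210143820c1910322830d3050a1080a5c1060c8205010a1c0c49c2214a300422448191302203010648b042c4c0e2060481809903028518666844030285186678440840a02020483160614a40a14628644913430a32102c818304d02122440d0e0c0841a24903028519282042856031a10428c181428c91122245820881c29404103856c490340c20e0142841a2584902244c404323810c260c902c7099021e18c409123028189314122c40c1e2240852a820448f0204ccb4020c9081218d031c93040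

theorem treeRun_ok : stIs (runList (treeStep P) tree ⟨1, 0, []⟩) 243 mask0 = true := by decide +kernel

def seg0 : List Phase := [.scans ph0_0, .scans ph0_1, .scans ph0_2, .aux ph1, .scans ph2_0]

theorem seg0_ok : stIs (runList (phaseStep P) seg0 ⟨243, mask0, []⟩) 609 (2 ^ (243 * P.k) - 1) = true := by decide +kernel

/-- the certificate -/
def phases : List Phase :=
  seg0

theorem cert_ok : checkCert P 243 tree phases = true :=
  checkCert_of_run P treeRun_ok (run_last P seg0_ok)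

theorem gen0_ok : genOK P 243 0 = true := by decide +kernel

theorem gen1_ok : genOK P 243 1 = true := by decide +kernel

theorem gen2_ok : genOK P 243 2 = true := by decide +kernel

theorem gen3_ok : genOK P 243 3 = true := by decide +kernel

theorem gen4_ok : genOK P 243 4 = true := by decide +kernel

theorem gen5_ok : genOK P 243 5 = true := by decide +kernel

theorem gen6_ok : genOK P 243 6 = true := by decide +kernel

theorem tab_ok : tableOK P 243 = true := tableOK_of_gens P (by decide +kernel) (by decide +kernel) fun x hx =>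
  match x, hx with
  | 0, _ => gen0_ok
  | 1, _ => gen1_ok
  | 2, _ => gen2_ok
  | 3, _ => gen3_ok
  | 4, _ => gen4_ok
  | 5, _ => gen5_ok
  | 6, _ => gen6_ok
  | _ + 7, hx => absurd (show _ + 7 < 7 from hx) (by omega)

theorem base0_ok : Fixes P 243 [0, 1, 0, 1, 0, 1] :=
  fixes_of_powFix P (u := [0, 1]) (e := 3) (by decide +kernel) (by decide +kernel)

theorem base1_ok : Fixes P 243 [0, 2, 0, 2] :=
  fixes_of_powFix P (u := [0, 2]) (e := 2) (by decide +kernel) (by decide +kernel)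

theorem base2_ok : Fixes P 243 [0, 3, 0, 3] :=
  fixes_of_powFix P (u := [0, 3]) (e := 2) (by decide +kernel) (by decide +kernel)

theorem base3_ok : Fixes P 243 [0, 4, 0, 4] :=
  fixes_of_powFix P (u := [0, 4]) (e := 2) (by decide +kernel) (by decide +kernel)

theorem base4_ok : Fixes P 243 [0, 5, 0, 5] :=
  fixes_of_powFix P (u := [0, 5]) (e := 2) (by decide +kernel) (by decide +kernel)

theorem base5_ok : Fixes P 243 [0, 6, 0, 6] :=
  fixes_of_powFix P (u := [0, 6]) (e := 2) (by decide +kernel) (by decide +kernel)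

theorem base6_ok : Fixes P 243 [1, 2, 1, 2, 1, 2] :=
  fixes_of_powFix P (u := [1, 2]) (e := 3) (by decide +kernel) (by decide +kernel)

theorem base7_ok : Fixes P 243 [1, 3, 1, 3] :=
  fixes_of_powFix P (u := [1, 3]) (e := 2) (by decide +kernel) (by decide +kernel)

theorem base8_ok : Fixes P 243 [1, 4, 1, 4] :=
  fixes_of_powFix P (u := [1, 4]) (e := 2) (by decide +kernel) (by decide +kernel)

theorem base9_ok : Fixes P 243 [1, 5, 1, 5] :=
  fixes_of_powFix P (u := [1, 5]) (e := 2) (by decide +kernel) (by decide +kernel)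

theorem base10_ok : Fixes P 243 [1, 6, 1, 6] :=
  fixes_of_powFix P (u := [1, 6]) (e := 2) (by decide +kernel) (by decide +kernel)

theorem base11_ok : Fixes P 243 [2, 3, 2, 3, 2, 3] :=
  fixes_of_powFix P (u := [2, 3]) (e := 3) (by decide +kernel) (by decide +kernel)

theorem base12_ok : Fixes P 243 [2, 4, 2, 4] :=
  fixes_of_powFix P (u := [2, 4]) (e := 2) (by decide +kernel) (by decide +kernel)

theorem base13_ok : Fixes P 243 [2, 5, 2, 5, 2, 5] :=
  fixes_of_powFix P (u := [2, 5]) (e := 3) (by decide +kernel) (by decide +kernel)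

theorem base14_ok : Fixes P 243 [2, 6, 2, 6] :=
  fixes_of_powFix P (u := [2, 6]) (e := 2) (by decide +kernel) (by decide +kernel)

theorem base15_ok : Fixes P 243 [3, 4, 3, 4, 3, 4] :=
  fixes_of_powFix P (u := [3, 4]) (e := 3) (by decide +kernel) (by decide +kernel)

theorem base16_ok : Fixes P 243 [3, 5, 3, 5] :=
  fixes_of_powFix P (u := [3, 5]) (e := 2) (by decide +kernel) (by decide +kernel)

theorem base17_ok : Fixes P 243 [3, 6, 3, 6] :=
  fixes_of_powFix P (u := [3, 6]) (e := 2) (by decide +kernel) (by decide +kernel)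

theorem base18_ok : Fixes P 243 [4, 5, 4, 5] :=
  fixes_of_powFix P (u := [4, 5]) (e := 2) (by decide +kernel) (by decide +kernel)

theorem base19_ok : Fixes P 243 [4, 6, 4, 6] :=
  fixes_of_powFix P (u := [4, 6]) (e := 2) (by decide +kernel) (by decide +kernel)

theorem base20_ok : Fixes P 243 [5, 6, 5, 6, 5, 6] :=
  fixes_of_powFix P (u := [5, 6]) (e := 3) (by decide +kernel) (by decide +kernel)

theorem base21_ok : Fixes P 243 [2, 1, 0, 2, 3, 4, 2, 5, 6, 2, 1, 0, 2, 3, 4, 2, 5, 6, 2, 1, 0, 2, 3, 4, 2, 5, 6, 2, 1, 0, 2, 3, 4, 2, 5, 6, 2, 1, 0, 2, 3, 4, 2, 5, 6, 2, 1, 0, 2, 3, 4, 2, 5, 6, 2, 1, 0, 2, 3, 4, 2, 5, 6, 2, 1, 0, 2, 3, 4, 2, 5, 6, 2, 1, 0, 2, 3, 4, 2, 5, 6, 2, 1, 0, 2, 3, 4, 2, 5, 6] :=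
  fixes_of_powFix P (u := [2, 1, 0, 2, 3, 4, 2, 5, 6]) (e := 10) (by decide +kernel) (by decide +kernel)

theorem base_ok : ∀ w ∈ base, Fixes P 243 w := by
  intro w hw
  rw [base] at hw
  rcases List.mem_cons.1 hw with rfl | hw
  · exact base0_ok
  rcases List.mem_cons.1 hw with rfl | hw
  · exact base1_ok
  rcases List.mem_cons.1 hw with rfl | hw
  · exact base2_ok
  rcases List.mem_cons.1 hw with rfl | hw
  · exact base3_ok
  rcases List.mem_cons.1 hw with rfl | hw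
  · exact base4_ok
  rcases List.mem_cons.1 hw with rfl | hw
  · exact base5_ok
  rcases List.mem_cons.1 hw with rfl | hw
  · exact base6_ok
  rcases List.mem_cons.1 hw with rfl | hw
  · exact base7_ok
  rcases List.mem_cons.1 hw with rfl | hw
  · exact base8_ok
  rcases List.mem_cons.1 hw with rfl | hw
  · exact base9_ok
  rcases List.mem_cons.1 hw with rfl | hw
  · exact base10_ok
  rcases List.mem_cons.1 hw with rfl | hw
  · exact base11_ok
  rcases List.mem_cons.1 hw with rfl | hw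
  · exact base12_ok
  rcases List.mem_cons.1 hw with rfl | hw
  · exact base13_ok
  rcases List.mem_cons.1 hw with rfl | hw
  · exact base14_ok
  rcases List.mem_cons.1 hw with rfl | hw
  · exact base15_ok
  rcases List.mem_cons.1 hw with rfl | hw
  · exact base16_ok
  rcases List.mem_cons.1 hw with rfl | hw
  · exact base17_ok
  rcases List.mem_cons.1 hw with rfl | hw
  · exact base18_ok
  rcases List.mem_cons.1 hw with rfl | hw
  · exact base19_ok
  rcases List.mem_cons.1 hw with rfl | hw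
  · exact base20_ok
  rcases List.mem_cons.1 hw with rfl | hw
  · exact base21_ok
  exact absurd hw List.not_mem_nil

theorem rots_ok : rotsOK base rots.entries hints = true := by decide +kernel

theorem fix_ok : wordsFixBase P sw = true := by decide +kernel

theorem tree_ok : treeOK P tree 0 = true := by decide +kernel

theorem tree_len : tree.length + 1 = 243 := by decide +kernel

end Cfsg.Agent.CosetData.ChainY222
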