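import Cfsg.Agent.Lib.Compute.CosetOrbit

/-! Coset enumeration certificate data (S2091 chain). -/

set_option autoImplicit false
set_option maxRecDepth 100000
set_option Elab.async false

namespace Cfsg.Agent.CosetData.ChainS62

open Cfsg.Agent.CosetCert

/-- the coset table -/
def tab : Tab :=
  .leaf 0x1b001b001a001b0014001b0018001a001a001b00190018001a0014001900190019001a0019001900130018001800140018001a0017001b0017001600120017001700180017001500170011001600160016001600160015001000150015001500150014001400180013001b0012001a00130013001300140013000f0019001200110017000f001200140012001000120016000d001100110011001100100015000c001000100010000f000d000f0012000e0013000f000e000b000e000e000f000e000e000c000f000d0011000b000d000d000d000c000c0010000a000c000c000a000e000b000b000d0009000b000b000a000a000a000c0007000a00070009000900090009000b0008000600080008000800080008000900090005000700070007000a00060008000400060006000600060007000500070005000500050005000400040006000400040004000300050003000300030003000200040003000200020002000100030002000200010001000000020001000100010000000000010000000000000000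

/-- base relators -/
def base : List (List ℕ) := [
  [0, 1, 0, 1, 0, 1],
  [0, 2, 0, 2],
  [0, 3, 0, 3],
  [0, 4, 0, 4],
  [0, 5, 0, 5],
  [0, 6, 0, 6],
  [1, 2, 1, 2, 1, 2],
  [1, 3, 1, 3],
  [1, 4, 1, 4],
  [1, 5, 1, 5, 1, 5],
  [1, 6, 1, 6],
  [2, 3, 2, 3, 2, 3],
  [2, 4, 2, 4],
  [2, 5, 2, 5],
  [2, 6, 2, 6],
  [3, 4, 3, 4, 3, 4],
  [3, 5, 3, 5],
  [3, 6, 3, 6],
  [4, 5, 4, 5],
  [4, 6, 4, 6],
  [5, 6, 5, 6, 5, 6],
  [0, 1, 2, 3, 4, 5, 6, 0, 1, 2, 3, 4, 5, 6, 0, 1, 2, 3, 4, 5, 6, 0, 1, 2, 3, 4, 5, 6, 0, 1, 2, 3, 4, 5, 6, 0, 1, 2, 3, 4, 5, 6, 0, 1, 2, 3, 4, 5, 6, 0, 1, 2, 3, 4, 5, 6, 0, 1, 2, 3, 4, 5, 6]]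

/-- rotations of the relators -/
def rots : WTab :=
  (.node (.node (.node (.node (.node (.node (.leaf [0, 1, 0, 1, 0, 1]) (.leaf [3, 5, 3, 5])) (.node (.leaf [1, 4, 1, 4]) (.leaf [6, 0, 1, 2, 3, 4, 5, 6, 0, 1, 2, 3, 4, 5, 6, 0, 1, 2, 3, 4, 5, 6, 0, 1, 2, 3, 4, 5, 6, 0, 1, 2, 3, 4, 5, 6, 0, 1, 2, 3, 4, 5, 6, 0, 1, 2, 3, 4, 5, 6, 0, 1, 2, 3, 4, 5, 6, 0, 1, 2, 3, 4, 5]))) (.node (.node (.leaf [0, 5, 0, 5]) (.leaf [5, 6, 5, 6, 5, 6])) (.node (.leaf [2, 4, 2, 4]) (.leaf [0, 1, 0, 1, 0, 1])))) (.node (.node (.node (.leaf [0, 3, 0, 3]) (.leaf [4, 5, 4, 5])) (.node (.leaf [1, 6, 1, 6]) (.leaf [3, 2, 1, 0, 6, 5, 4, 3, 2, 1, 0, 6, 5, 4, 3, 2, 1, 0, 6, 5, 4, 3, 2, 1, 0, 6, 5, 4, 3, 2, 1, 0, 6, 5, 4, 3, 2, 1, 0, 6, 5, 4, 3, 2, 1, 0, 6, 5, 4, 3, 2, 1, 0, 6, 5, 4, 3, 2, 1, 0, 6, 5, 4]))) (.node (.node (.leaf [1, 2, 1, 2, 1, 2]) (.leaf [2, 3, 4, 5, 6, 0, 1, 2, 3, 4, 5, 6, 0, 1, 2, 3, 4, 5, 6,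 0, 1, 2, 3, 4, 5, 6, 0, 1, 2, 3, 4, 5, 6, 0, 1, 2, 3, 4, 5, 6, 0, 1, 2, 3, 4, 5, 6, 0, 1, 2, 3, 4, 5, 6, 0, 1, 2, 3, 4, 5, 6, 0, 1])) (.node (.leaf [2, 6, 2, 6]) (.leaf [0, 1, 0, 1, 0, 1]))))) (.node (.node (.node (.node (.leaf [0, 2, 0, 2]) (.leaf [3, 6, 3, 6])) (.node (.leaf [1, 5, 1, 5, 1, 5]) (.leaf [5, 4, 3, 2, 1, 0, 6, 5, 4, 3, 2, 1, 0, 6, 5, 4, 3, 2, 1, 0, 6, 5, 4, 3, 2, 1, 0, 6, 5, 4, 3, 2, 1, 0, 6, 5, 4, 3, 2, 1, 0, 6, 5, 4, 3, 2, 1, 0, 6, 5, 4, 3, 2, 1, 0, 6, 5, 4, 3, 2, 1, 0, 6]))) (.node (.node (.leaf [0, 6, 0, 6]) (.leaf [0, 1, 2, 3, 4, 5, 6, 0, 1, 2, 3, 4, 5, 6, 0, 1, 2, 3, 4, 5, 6, 0, 1, 2, 3, 4, 5, 6, 0, 1, 2, 3, 4, 5, 6, 0, 1, 2, 3, 4, 5, 6, 0, 1, 2, 3, 4, 5, 6, 0, 1, 2, 3, 4, 5, 6, 0, 1, 2, 3, 4, 5, 6])) (.node (.leaf [2, 5, 2, 5]) (.leaf [0, 1, 0, 1, 0, 1])))) (.node (.node (.node (.leaf [0, 4, 0, 4]) (.leaf [4, 6, 4, 6])) (.node (.leaf [2, 3, 2, 3, 2, 3]) (.leaf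 [1, 0, 6, 5, 4, 3, 2, 1, 0, 6, 5, 4, 3, 2, 1, 0, 6, 5, 4, 3, 2, 1, 0, 6, 5, 4, 3, 2, 1, 0, 6, 5, 4, 3, 2, 1, 0, 6, 5, 4, 3, 2, 1, 0, 6, 5, 4, 3, 2, 1, 0, 6, 5, 4, 3, 2, 1, 0, 6, 5, 4, 3, 2]))) (.node (.node (.leaf [1, 3, 1, 3]) (.leaf [4, 5, 6, 0, 1, 2, 3, 4, 5, 6, 0, 1, 2, 3, 4, 5, 6, 0, 1, 2, 3, 4, 5, 6, 0, 1, 2, 3, 4, 5, 6, 0, 1, 2, 3, 4, 5, 6, 0, 1, 2, 3, 4, 5, 6, 0, 1, 2, 3, 4, 5, 6, 0, 1, 2, 3, 4, 5, 6, 0, 1, 2, 3])) (.node (.leaf [3, 4, 3, 4, 3, 4]) (.leaf [0, 1, 0, 1, 0, 1])))))) (.node (.node (.node (.node (.node (.leaf [1, 0, 1, 0, 1, 0]) (.leaf [5, 3, 5, 3])) (.node (.leaf [4, 1, 4, 1]) (.leaf [6, 5, 4, 3, 2, 1, 0, 6, 5, 4, 3, 2, 1, 0, 6, 5, 4, 3, 2, 1, 0, 6, 5, 4, 3, 2, 1, 0, 6, 5, 4, 3, 2, 1, 0, 6, 5, 4, 3, 2, 1, 0, 6, 5, 4, 3, 2, 1, 0, 6, 5, 4, 3, 2, 1, 0, 6, 5, 4, 3, 2, 1, 0]))) (.node (.node (.leaf [5, 0, 5, 0]) (.leaf [6, 5, 6, 5, 6, 5])) (.node (.leaf [4, 2, 4,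 2]) (.leaf [0, 1, 0, 1, 0, 1])))) (.node (.node (.node (.leaf [3, 0, 3, 0]) (.leaf [5, 4, 5, 4])) (.node (.leaf [6, 1, 6, 1]) (.leaf [2, 1, 0, 6, 5, 4, 3, 2, 1, 0, 6, 5, 4, 3, 2, 1, 0, 6, 5, 4, 3, 2, 1, 0, 6, 5, 4, 3, 2, 1, 0, 6, 5, 4, 3, 2, 1, 0, 6, 5, 4, 3, 2, 1, 0, 6, 5, 4, 3, 2, 1, 0, 6, 5, 4, 3, 2, 1, 0, 6, 5, 4, 3]))) (.node (.node (.leaf [2, 1, 2, 1, 2, 1]) (.leaf [3, 4, 5, 6, 0, 1, 2, 3, 4, 5, 6, 0, 1, 2, 3, 4, 5, 6, 0, 1, 2, 3, 4, 5, 6, 0, 1, 2, 3, 4, 5, 6, 0, 1, 2, 3, 4, 5, 6, 0, 1, 2, 3, 4, 5, 6, 0, 1, 2, 3, 4, 5, 6, 0, 1, 2, 3, 4, 5, 6, 0, 1, 2])) (.node (.leaf [6, 2, 6, 2]) (.leaf [0, 1, 0, 1, 0, 1]))))) (.node (.node (.node (.node (.leaf [2, 0, 2, 0]) (.leaf [6, 3, 6, 3])) (.node (.leaf [5, 1, 5, 1, 5, 1]) (.leaf [4, 3, 2, 1, 0, 6, 5, 4, 3, 2, 1, 0, 6, 5, 4, 3, 2, 1, 0, 6, 5, 4, 3, 2, 1, 0, 6, 5, 4, 3, 2, 1, 0, 6, 5, 4, 3, 2, 1, 0, 6, 5, 4, 3, 2, 1, 0, 6, 5, 4, 3,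 2, 1, 0, 6, 5, 4, 3, 2, 1, 0, 6, 5]))) (.node (.node (.leaf [6, 0, 6, 0]) (.leaf [1, 2, 3, 4, 5, 6, 0, 1, 2, 3, 4, 5, 6, 0, 1, 2, 3, 4, 5, 6, 0, 1, 2, 3, 4, 5, 6, 0, 1, 2, 3, 4, 5, 6, 0, 1, 2, 3, 4, 5, 6, 0, 1, 2, 3, 4, 5, 6, 0, 1, 2, 3, 4, 5, 6, 0, 1, 2, 3, 4, 5, 6, 0])) (.node (.leaf [5, 2, 5, 2]) (.leaf [0, 1, 0, 1, 0, 1])))) (.node (.node (.node (.leaf [4, 0, 4, 0]) (.leaf [6, 4, 6, 4])) (.node (.leaf [3, 2, 3, 2, 3, 2]) (.leaf [0, 6, 5, 4, 3, 2, 1, 0, 6, 5, 4, 3, 2, 1, 0, 6, 5, 4, 3, 2, 1, 0, 6, 5, 4, 3, 2, 1, 0, 6, 5, 4, 3, 2, 1, 0, 6, 5, 4, 3, 2, 1, 0, 6, 5, 4, 3, 2, 1, 0, 6, 5, 4, 3, 2, 1, 0, 6, 5, 4, 3, 2, 1]))) (.node (.node (.leaf [3, 1, 3, 1]) (.leaf [5, 6, 0, 1, 2, 3, 4, 5, 6, 0, 1, 2, 3, 4, 5, 6, 0, 1, 2, 3, 4, 5, 6, 0, 1, 2, 3, 4, 5, 6, 0, 1, 2, 3, 4, 5, 6, 0, 1, 2, 3, 4, 5, 6, 0, 1, 2, 3, 4, 5, 6, 0, 1, 2, 3, 4, 5, 6, 0, 1, 2, 3, 4])) (.node (.leaf [4, 3, 4, 3, 4,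 3]) (.leaf [0, 1, 0, 1, 0, 1])))))))

def hints_0 : List (ℕ × ℕ × Bool) := [
  (0, 0, false), (16, 0, false), (8, 0, false), (21, 6, false), (4, 0, false), (20, 0, false), (12, 0, false), (0, 0, false),
  (2, 0, false), (18, 0, false), (10, 0, false), (21, 3, true), (6, 0, false), (21, 2, false), (14, 0, false), (0, 0, false),
  (1, 0, false), (17, 0, false), (9, 0, false), (21, 1, true), (5, 0, false), (21, 0, false), (13, 0, false), (0, 0, false),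
  (3, 0, false), (19, 0, false), (11, 0, false), (21, 5, true), (7, 0, false), (21, 4, false), (15, 0, false), (0, 0, false),
  (0, 1, false), (16, 1, false), (8, 1, false), (21, 0, true), (4, 1, false), (20, 1, false), (12, 1, false), (0, 0, false),
  (2, 1, false), (18, 1, false), (10, 1, false), (21, 4, true), (6, 1, false), (21, 3, false), (14, 1, false), (0, 0, false),
  (1, 1, false), (17, 1, false), (9, 1, false), (21, 2, true), (5, 1, false), (21, 1, false), (13, 1, false), (0, 0, false),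
  (3, 1, false), (19, 1, false), (11, 1, false), (21, 6, true), (7, 1, false), (21, 5, false), (15, 1, false), (0, 0, false)]
def hints : List (ℕ × ℕ × Bool) :=
  hints_0

/-- subgroup words -/
def sw : List (List ℕ) := [[0], [1], [2], [3], [5], [6]]

def subs : List (List ℕ) := [[0], [1], [2], [3], [5], [6]]

/-- parameters -/
def P : Params := ⟨tab, 7, rots, subs⟩

def tree_0 : List ℕ := [
  4, 10, 16, 22, 28, 33, 42, 48,
  56, 50, 76, 72, 90, 82, 100, 87,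
  118, 124, 106, 136, 116, 153, 159, 162,
  133, 170, 168]
def tree : List ℕ :=
  tree_0

def ph0_0 : List ℕ := [
  2048, 2049, 2050, 2051, 2052, 2053, 4134, 8226,
  12316, 16404, 20490, 32809, 36872, 4132, 8224, 12314,
  24595, 40961, 32789, 49155, 45067, 57353, 61443, 102400,
  65541, 53259, 86023, 69643, 73737, 90123, 94217, 110592,
  8222, 12312, 16400, 20486, 24613, 28678, 32807, 36870,
  40976, 49176, 45095, 57381, 61464, 77840, 102406, 86047,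
  53287, 90147, 94241, 98318, 110596, 4121, 12310, 16398,
  20484, 24609, 28676, 32803, 36868, 40974, 65559, 45091,
  57377, 86041, 69661, 73755, 90141, 94235, 106509, 4113,
  8207, 16396, 20482, 24603, 28674, 32797, 36866, 49165,
  65551, 53269, 86033, 69653, 90133, 98322, 110600, 106522,
  4103, 8197, 12291, 20480, 69671, 73765, 53283, 45085,
  61466, 77842, 61473, 81935, 81936, 81938, 102408, 28682,
  45077, 57363, 77836, 102402, 20488, 40978, 49178, 57384,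
  61468, 77844, 73762, 81940, 94246, 65577, 86052, 98324,
  110602, 106524, 102410, 106549, 106501, 110594, 106502]

/-- known edges at a check point -/
def mask0 : ℕ := 0x210087458280816830580c9204cc1180c107840a30c30c10

theorem treeRun_ok : stIs (runList (treeStep P) tree ⟨1, 0, []⟩) 28 mask0 = true := by decide +kernel

def seg0 : List Phase := [.scans ph0_0]

theorem seg0_ok : stIs (runList (phaseStep P) seg0 ⟨28, mask0, []⟩) 28 (2 ^ (28 * P.k) - 1) = true := by decide +kernel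

/-- the certificate -/
def phases : List Phase :=
  seg0

theorem cert_ok : checkCert P 28 tree phases = true :=
  checkCert_of_run P treeRun_ok (run_last P seg0_ok)

theorem gen0_ok : genOK P 28 0 = true := by decide +kernel

theorem gen1_ok : genOK P 28 1 = true := by decide +kernel

theorem gen2_ok : genOK P 28 2 = true := by decide +kernel

theorem gen3_ok : genOK P 28 3 = true := by decide +kernel

theorem gen4_ok : genOK P 28 4 = true := by decide +kernel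

theorem gen5_ok : genOK P 28 5 = true := by decide +kernel

theorem gen6_ok : genOK P 28 6 = true := by decide +kernel

theorem tab_ok : tableOK P 28 = true := tableOK_of_gens P (by decide +kernel) (by decide +kernel) fun x hx =>
  match x, hx with
  | 0, _ => gen0_ok
  | 1, _ => gen1_ok
  | 2, _ => gen2_ok
  | 3, _ => gen3_ok
  | 4, _ => gen4_ok
  | 5, _ => gen5_ok
  | 6, _ => gen6_ok
  | _ + 7, hx => absurd (show _ + 7 < 7 from hx) (by omega)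

theorem base0_ok : Fixes P 28 [0, 1, 0, 1, 0, 1] :=
  fixes_of_powFix P (u := [0, 1]) (e := 3) (by decide +kernel) (by decide +kernel)

theorem base1_ok : Fixes P 28 [0, 2, 0, 2] :=
  fixes_of_powFix P (u := [0, 2]) (e := 2) (by decide +kernel) (by decide +kernel)

theorem base2_ok : Fixes P 28 [0, 3, 0, 3] :=
  fixes_of_powFix P (u := [0, 3]) (e := 2) (by decide +kernel) (by decide +kernel)

theorem base3_ok : Fixes P 28 [0, 4, 0, 4] :=
  fixes_of_powFix P (u := [0, 4]) (e := 2) (by decide +kernel) (by decide +kernel)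

theorem base4_ok : Fixes P 28 [0, 5, 0, 5] :=
  fixes_of_powFix P (u := [0, 5]) (e := 2) (by decide +kernel) (by decide +kernel)

theorem base5_ok : Fixes P 28 [0, 6, 0, 6] :=
  fixes_of_powFix P (u := [0, 6]) (e := 2) (by decide +kernel) (by decide +kernel)

theorem base6_ok : Fixes P 28 [1, 2, 1, 2, 1, 2] :=
  fixes_of_powFix P (u := [1, 2]) (e := 3) (by decide +kernel) (by decide +kernel)

theorem base7_ok : Fixes P 28 [1, 3, 1, 3] :=
  fixes_of_powFix P (u := [1, 3]) (e := 2) (by decide +kernel) (by decide +kernel)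

theorem base8_ok : Fixes P 28 [1, 4, 1, 4] :=
  fixes_of_powFix P (u := [1, 4]) (e := 2) (by decide +kernel) (by decide +kernel)

theorem base9_ok : Fixes P 28 [1, 5, 1, 5, 1, 5] :=
  fixes_of_powFix P (u := [1, 5]) (e := 3) (by decide +kernel) (by decide +kernel)

theorem base10_ok : Fixes P 28 [1, 6, 1, 6] :=
  fixes_of_powFix P (u := [1, 6]) (e := 2) (by decide +kernel) (by decide +kernel)

theorem base11_ok : Fixes P 28 [2, 3, 2, 3, 2, 3] :=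
  fixes_of_powFix P (u := [2, 3]) (e := 3) (by decide +kernel) (by decide +kernel)

theorem base12_ok : Fixes P 28 [2, 4, 2, 4] :=
  fixes_of_powFix P (u := [2, 4]) (e := 2) (by decide +kernel) (by decide +kernel)

theorem base13_ok : Fixes P 28 [2, 5, 2, 5] :=
  fixes_of_powFix P (u := [2, 5]) (e := 2) (by decide +kernel) (by decide +kernel)

theorem base14_ok : Fixes P 28 [2, 6, 2, 6] :=
  fixes_of_powFix P (u := [2, 6]) (e := 2) (by decide +kernel) (by decide +kernel)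

theorem base15_ok : Fixes P 28 [3, 4, 3, 4, 3, 4] :=
  fixes_of_powFix P (u := [3, 4]) (e := 3) (by decide +kernel) (by decide +kernel)

theorem base16_ok : Fixes P 28 [3, 5, 3, 5] :=
  fixes_of_powFix P (u := [3, 5]) (e := 2) (by decide +kernel) (by decide +kernel)

theorem base17_ok : Fixes P 28 [3, 6, 3, 6] :=
  fixes_of_powFix P (u := [3, 6]) (e := 2) (by decide +kernel) (by decide +kernel)

theorem base18_ok : Fixes P 28 [4, 5, 4, 5] :=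
  fixes_of_powFix P (u := [4, 5]) (e := 2) (by decide +kernel) (by decide +kernel)

theorem base19_ok : Fixes P 28 [4, 6, 4, 6] :=
  fixes_of_powFix P (u := [4, 6]) (e := 2) (by decide +kernel) (by decide +kernel)

theorem base20_ok : Fixes P 28 [5, 6, 5, 6, 5, 6] :=
  fixes_of_powFix P (u := [5, 6]) (e := 3) (by decide +kernel) (by decide +kernel)

theorem base21_ok : Fixes P 28 [0, 1, 2, 3, 4, 5, 6, 0, 1, 2, 3, 4, 5, 6, 0, 1, 2, 3, 4, 5, 6, 0, 1, 2, 3, 4, 5, 6, 0, 1, 2, 3, 4, 5, 6, 0, 1, 2, 3, 4, 5, 6, 0, 1, 2, 3, 4, 5, 6, 0, 1, 2, 3, 4, 5, 6, 0, 1, 2, 3, 4, 5, 6] :=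
  fixes_of_powFix P (u := [0, 1, 2, 3, 4, 5, 6]) (e := 9) (by decide +kernel) (by decide +kernel)

theorem base_ok : ∀ w ∈ base, Fixes P 28 w := by
  intro w hw
  rw [base] at hw
  rcases List.mem_cons.1 hw with rfl | hw
  · exact base0_ok
  rcases List.mem_cons.1 hw with rfl | hw
  · exact base1_ok
  rcases List.mem_cons.1 hw with rfl | hw
  · exact base2_ok
  rcases List.mem_cons.1 hw with rfl | hw
  · exact base3_ok
  rcases List.mem_cons.1 hw with rfl | hw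
  · exact base4_ok
  rcases List.mem_cons.1 hw with rfl | hw
  · exact base5_ok
  rcases List.mem_cons.1 hw with rfl | hw
  · exact base6_ok
  rcases List.mem_cons.1 hw with rfl | hw
  · exact base7_ok
  rcases List.mem_cons.1 hw with rfl | hw
  · exact base8_ok
  rcases List.mem_cons.1 hw with rfl | hw
  · exact base9_ok
  rcases List.mem_cons.1 hw with rfl | hw
  · exact base10_ok
  rcases List.mem_cons.1 hw with rfl | hw
  · exact base11_ok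
  rcases List.mem_cons.1 hw with rfl | hw
  · exact base12_ok
  rcases List.mem_cons.1 hw with rfl | hw
  · exact base13_ok
  rcases List.mem_cons.1 hw with rfl | hw
  · exact base14_ok
  rcases List.mem_cons.1 hw with rfl | hw
  · exact base15_ok
  rcases List.mem_cons.1 hw with rfl | hw
  · exact base16_ok
  rcases List.mem_cons.1 hw with rfl | hw
  · exact base17_ok
  rcases List.mem_cons.1 hw with rfl | hw
  · exact base18_ok
  rcases List.mem_cons.1 hw with rfl | hw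
  · exact base19_ok
  rcases List.mem_cons.1 hw with rfl | hw
  · exact base20_ok
  rcases List.mem_cons.1 hw with rfl | hw
  · exact base21_ok
  exact absurd hw List.not_mem_nil

theorem rots_ok : rotsOK base rots.entries hints = true := by decide +kernel

theorem fix_ok : wordsFixBase P sw = true := by decide +kernel

theorem tree_ok : treeOK P tree 0 = true := by decide +kernel

theorem tree_len : tree.length + 1 = 28 := by decide +kernel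

end Cfsg.Agent.CosetData.ChainS62
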