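import Cfsg.Agent.Lib.Compute.CosetOrbit

/-! Coset enumeration certificate data (M22 uniqueness, ChainE7). -/

set_option autoImplicit false
set_option maxRecDepth 100000
set_option Elab.async false

namespace Cfsg.Agent.CosetData.ChainE7

open Cfsg.Agent.CosetCert

/-- the coset table -/
def tab : Tab :=
  .leaf 0x37003700370037003700370036003600360036003600360035003700350035003500350034003600350034003400340033003500340034003200330031003400330033003300330032002f0032003200320032002f003000330031003100310031002e0031003000300030003000300031002e0032002d002f002f002f0030002f002e0029002e002e002e002d0029002d002f002c002d002d002c0027002c002c002d002b002c002b0026002b002b002b002c002a002a0025002a002a002a002a002b0029002d0028002e00270029002900280028002900280024002800280027002c002400270029002600270026002b002300260026002700250025002a002200250025002500260024002400270021002800230024002300230026001f002300240022002200220025001e00220022002300200021002100240021001f002100210020002000200020001d0020001d001f001f0023001b0021001e001c001e001e0022001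a001e001f001f001d001d001d00180020001c001e001c001c001c0014001c001d0018001b001b001b001f001b001a0014001a001a001a001e0019001b00130019001900190019001a0019001b001800180017001d00180014001700170016001800170017001200160015001700160016001600110015001600150015001500150010001a001400140012001c00130018001900130013000f00130014001300120012001100140012000f001700110010001200110011000d001600100011001000100010000c0015000f000f000d0013000e0012000f000e000e000b000e000f000e000e000d000c000f000d000b0011000d000c000d000c000c000a0010000c000b000a000e0009000d000b000b000a000b000a0007000c000a000a000800070009000b0009000900090009000500080008000800080008000500090006000a0007000700070004000600070006000600060006000700080004000500050005000500060004000500030004000400040003000300030004000200030003000200020002000200030001000200010001000100010001000200000000000000000000000000000001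

/-- base relators -/
def base : List (List ℕ) := [
  [0, 1, 0, 1, 0, 1],
  [0, 2, 0, 2],
  [0, 3, 0, 3],
  [0, 4, 0, 4],
  [0, 5, 0, 5],
  [0, 6, 0, 6],
  [1, 2, 1, 2, 1, 2],
  [1, 3, 1, 3],
  [1, 4, 1, 4],
  [1, 5, 1, 5],
  [1, 6, 1, 6],
  [2, 3, 2, 3, 2, 3],
  [2, 4, 2, 4],
  [2, 5, 2, 5],
  [2, 6, 2, 6],
  [3, 4, 3, 4, 3, 4],
  [3, 5, 3, 5],
  [3, 6, 3, 6, 3, 6],
  [4, 5, 4, 5, 4, 5],
  [4, 6, 4, 6],
  [5, 6, 5, 6]]

/-- rotations of the relators -/
def rots : WTab :=
  (.node (.node (.node (.node (.node (.node (.leaf [0, 1, 0, 1, 0, 1]) (.leaf [3, 5, 3, 5])) (.node (.leaf [1, 4, 1, 4]) (.leaf [0, 1, 0, 1, 0, 1]))) (.node (.node (.leaf [0, 5, 0, 5]) (.leaf [5, 6, 5, 6])) (.node (.leaf [2, 4, 2, 4]) (.leaf [0, 1, 0, 1, 0, 1])))) (.node (.node (.node (.leaf [0, 3, 0, 3]) (.leaf [4, 5, 4, 5, 4, 5])) (.node (.leaf [1, 6, 1, 6]) (.leaf [0, 1, 0, 1, 0, 1]))) (.node (.node (.leaf [1, 2, 1, 2, 1, 2]) (.leaf [0, 1, 0, 1, 0, 1])) (.node (.leaf [2, 6, 2, 6]) (.leaf [0, 1, 0, 1, 0, 1]))))) (.node (.node (.node (.node (.leaf [0,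 2, 0, 2]) (.leaf [3, 6, 3, 6, 3, 6])) (.node (.leaf [1, 5, 1, 5]) (.leaf [0, 1, 0, 1, 0, 1]))) (.node (.node (.leaf [0, 6, 0, 6]) (.leaf [0, 1, 0, 1, 0, 1])) (.node (.leaf [2, 5, 2, 5]) (.leaf [0, 1, 0, 1, 0, 1])))) (.node (.node (.node (.leaf [0, 4, 0, 4]) (.leaf [4, 6, 4, 6])) (.node (.leaf [2, 3, 2, 3, 2, 3]) (.leaf [0, 1, 0, 1, 0, 1]))) (.node (.node (.leaf [1, 3, 1, 3]) (.leaf [0, 1, 0, 1, 0, 1])) (.node (.leaf [3, 4, 3, 4, 3, 4]) (.leaf [0, 1, 0, 1, 0, 1])))))) (.node (.node (.node (.node (.node (.leaf [1, 0, 1, 0, 1, 0]) (.leaf [5, 3, 5, 3])) (.node (.leaf [4, 1, 4, 1]) (.leaf [0, 1, 0, 1, 0, 1]))) (.node (.node (.leaf [5, 0, 5, 0]) (.leaf [6, 5, 6, 5])) (.node (.leaf [4, 2, 4, 2]) (.leaf [0, 1, 0, 1, 0, 1])))) (.node (.node (.node (.leaf [3, 0, 3, 0]) (.leaf [5, 4, 5, 4, 5, 4])) (.node (.leaf [6, 1, 6, 1]) (.leaf [0, 1, 0, 1, 0, 1]))) (.node (.node (.leaf [2, 1, 2, 1, 2, 1]) (.leaf [0, 1, 0, 1, 0, 1])) (.node (.leaf [6, 2, 6, 2]) (.leaf [0, 1, 0, 1, 0, 1]))))) (.node (.node (.node (.node (.leaf [2, 0, 2, 0]) (.leaf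 [6, 3, 6, 3, 6, 3])) (.node (.leaf [5, 1, 5, 1]) (.leaf [0, 1, 0, 1, 0, 1]))) (.node (.node (.leaf [6, 0, 6, 0]) (.leaf [0, 1, 0, 1, 0, 1])) (.node (.leaf [5, 2, 5, 2]) (.leaf [0, 1, 0, 1, 0, 1])))) (.node (.node (.node (.leaf [4, 0, 4, 0]) (.leaf [6, 4, 6, 4])) (.node (.leaf [3, 2, 3, 2, 3, 2]) (.leaf [0, 1, 0, 1, 0, 1]))) (.node (.node (.leaf [3, 1, 3, 1]) (.leaf [0, 1, 0, 1, 0, 1])) (.node (.leaf [4, 3, 4, 3, 4, 3]) (.leaf [0, 1, 0, 1, 0, 1])))))))

def hints_0 : List (ℕ × ℕ × Bool) := [
  (0, 0, false), (16, 0, false), (8, 0, false), (0, 0, false), (4, 0, false), (20, 0, false), (12, 0, false), (0, 0, false),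
  (2, 0, false), (18, 0, false), (10, 0, false), (0, 0, false), (6, 0, false), (0, 0, false), (14, 0, false), (0, 0, false),
  (1, 0, false), (17, 0, false), (9, 0, false), (0, 0, false), (5, 0, false), (0, 0, false), (13, 0, false), (0, 0, false),
  (3, 0, false), (19, 0, false), (11, 0, false), (0, 0, false), (7, 0, false), (0, 0, false), (15, 0, false), (0, 0, false),
  (0, 1, false), (16, 1, false), (8, 1, false), (0, 0, false), (4, 1, false), (20, 1, false), (12, 1, false), (0, 0, false),
  (2, 1, false), (18, 1, false), (10, 1, false), (0, 0, false), (6, 1, false), (0, 0, false), (14, 1, false), (0, 0, false),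
  (1, 1, false), (17, 1, false), (9, 1, false), (0, 0, false), (5, 1, false), (0, 0, false), (13, 1, false), (0, 0, false),
  (3, 1, false), (19, 1, false), (11, 1, false), (0, 0, false), (7, 1, false), (0, 0, false), (15, 1, false), (0, 0, false)]
def hints : List (ℕ × ℕ × Bool) :=
  hints_0

/-- subgroup words -/
def sw : List (List ℕ) := [[1], [2], [3], [4], [5], [6]]

def subs : List (List ℕ) := [[1], [2], [3], [4], [5], [6]]

/-- parameters -/
def P : Params := ⟨tab, 7, rots, subs⟩

def tree_0 : List ℕ := [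
  0, 8, 16, 24, 32, 34, 41, 40,
  54, 52, 66, 72, 79, 81, 95, 85,
  92, 106, 108, 129, 112, 119, 126, 140,
  139, 146, 174, 142, 170, 184, 191, 204,
  218, 213, 220, 234, 242, 249, 256, 254,
  275, 264, 271, 278, 292, 290, 318, 328,
  335, 333, 347, 360, 366, 372, 378]
def tree : List ℕ :=
  tree_0

def ph0_0 : List ℕ := [
  2048, 2049, 2050, 2051, 2052, 2053, 4106, 8212,
  12316, 24611, 4104, 8210, 12314, 16416, 32805, 24617,
  4102, 8208, 12312, 20511, 32801, 40994, 49180, 65556,
  86026, 4100, 8206, 16407, 20505, 24605, 32795, 28701,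
  49174, 36891, 53270, 69646, 77854, 102439, 90116, 65550,
  86020, 4098, 12301, 16399, 20497, 24597, 32787, 28693,
  40975, 36883, 45071, 69644, 57361, 90114, 65548, 86018,
  8193, 12291, 16389, 20487, 24587, 32777, 28683, 40965,
  36873, 45061, 53251, 57351, 90112, 61447, 94208, 77829,
  102411, 49155, 86016, 204838, 188448, 196649, 180251, 163864,
  143375, 155665, 176147, 118812, 131092, 114716, 114691, 122891,
  106499, 139269, 151559, 172041, 94212, 98319, 131084, 110613,
  135180, 163862, 188446, 204836, 196647, 208932, 213024, 217114,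
  221202, 225288, 77839, 81936, 102421, 106512, 110598, 122904,
  126982, 151583, 114727, 118790, 131088, 98328, 135207, 159775,
  155662, 188439, 180257, 176142, 192535, 204825, 200733, 208921,
  196635, 217110, 221198, 225284, 172036, 69648, 90118, 73753,
  94210, 114710, 118788, 139298, 143370, 151590, 155658, 172072,
  176138, 180244, 184348, 159784, 167964, 147494, 163868, 131107,
  196643, 200737, 213022, 217112, 221200, 225286, 57369, 40992,
  49178, 45096, 53276, 57382, 61468, 73748, 102435, 106510,
  110596, 139287, 143362, 151577, 155650, 172059, 176130, 184333,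
  192527, 167955, 188431, 163857, 196629, 200723, 208913, 213007,
  204821, 221196, 225282, 94242, 90150, 69642, 65554, 86024,
  32808, 36903, 57375, 77847, 114701, 102429, 122893, 135169,
  139279, 147457, 151569, 159745, 172051, 180225, 184323, 192517,
  167945, 188421, 163847, 196619, 200713, 208903, 212997, 204811,
  217091, 225280, 131083, 24615, 40990, 49176, 57380, 61466,
  73746, 77856, 81938, 102441, 106514, 110600, 122906, 126984,
  139296, 114729, 118792, 131090, 98330, 94240, 86053, 65542,
  135209, 147488, 143378, 163866, 180261, 176144, 184344, 204831,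
  213026, 217116, 221204, 225290, 172038]

/-- known edges at a check point -/
def mask0 : ℕ := 0x20c30c3042840b121420408160468c181c30605021c30304891204502040cd902c1833440b063831420d1038581818181

theorem treeRun_ok : stIs (runList (treeStep P) tree ⟨1, 0, []⟩) 56 mask0 = true := by decide +kernel

def seg0 : List Phase := [.scans ph0_0]

theorem seg0_ok : stIs (runList (phaseStep P) seg0 ⟨56, mask0, []⟩) 56 (2 ^ (56 * P.k) - 1) = true := by decide +kernel

/-- the certificate -/
def phases : List Phase :=
  seg0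

theorem cert_ok : checkCert P 56 tree phases = true :=
  checkCert_of_run P treeRun_ok (run_last P seg0_ok)

theorem gen0_ok : genOK P 56 0 = true := by decide +kernel

theorem gen1_ok : genOK P 56 1 = true := by decide +kernel

theorem gen2_ok : genOK P 56 2 = true := by decide +kernel

theorem gen3_ok : genOK P 56 3 = true := by decide +kernel

theorem gen4_ok : genOK P 56 4 = true := by decide +kernel

theorem gen5_ok : genOK P 56 5 = true := by decide +kernel

theorem gen6_ok : genOK P 56 6 = true := by decide +kernel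

theorem tab_ok : tableOK P 56 = true := tableOK_of_gens P (by decide +kernel) (by decide +kernel) fun x hx =>
  match x, hx with
  | 0, _ => gen0_ok
  | 1, _ => gen1_ok
  | 2, _ => gen2_ok
  | 3, _ => gen3_ok
  | 4, _ => gen4_ok
  | 5, _ => gen5_ok
  | 6, _ => gen6_ok
  | _ + 7, hx => absurd (show _ + 7 < 7 from hx) (by omega)

theorem base0_ok : Fixes P 56 [0, 1, 0, 1, 0, 1] :=
  fixes_of_powFix P (u := [0, 1]) (e := 3) (by decide +kernel) (by decide +kernel)

theorem base1_ok : Fixes P 56 [0, 2, 0, 2] :=
  fixes_of_powFix P (u := [0, 2]) (e := 2) (by decide +kernel) (by decide +kernel)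

theorem base2_ok : Fixes P 56 [0, 3, 0, 3] :=
  fixes_of_powFix P (u := [0, 3]) (e := 2) (by decide +kernel) (by decide +kernel)

theorem base3_ok : Fixes P 56 [0, 4, 0, 4] :=
  fixes_of_powFix P (u := [0, 4]) (e := 2) (by decide +kernel) (by decide +kernel)

theorem base4_ok : Fixes P 56 [0, 5, 0, 5] :=
  fixes_of_powFix P (u := [0, 5]) (e := 2) (by decide +kernel) (by decide +kernel)

theorem base5_ok : Fixes P 56 [0, 6, 0, 6] :=
  fixes_of_powFix P (u := [0, 6]) (e := 2) (by decide +kernel) (by decide +kernel)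

theorem base6_ok : Fixes P 56 [1, 2, 1, 2, 1, 2] :=
  fixes_of_powFix P (u := [1, 2]) (e := 3) (by decide +kernel) (by decide +kernel)

theorem base7_ok : Fixes P 56 [1, 3, 1, 3] :=
  fixes_of_powFix P (u := [1, 3]) (e := 2) (by decide +kernel) (by decide +kernel)

theorem base8_ok : Fixes P 56 [1, 4, 1, 4] :=
  fixes_of_powFix P (u := [1, 4]) (e := 2) (by decide +kernel) (by decide +kernel)

theorem base9_ok : Fixes P 56 [1, 5, 1, 5] :=
  fixes_of_powFix P (u := [1, 5]) (e := 2) (by decide +kernel) (by decide +kernel)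

theorem base10_ok : Fixes P 56 [1, 6, 1, 6] :=
  fixes_of_powFix P (u := [1, 6]) (e := 2) (by decide +kernel) (by decide +kernel)

theorem base11_ok : Fixes P 56 [2, 3, 2, 3, 2, 3] :=
  fixes_of_powFix P (u := [2, 3]) (e := 3) (by decide +kernel) (by decide +kernel)

theorem base12_ok : Fixes P 56 [2, 4, 2, 4] :=
  fixes_of_powFix P (u := [2, 4]) (e := 2) (by decide +kernel) (by decide +kernel)

theorem base13_ok : Fixes P 56 [2, 5, 2, 5] :=
  fixes_of_powFix P (u := [2, 5]) (e := 2) (by decide +kernel) (by decide +kernel)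

theorem base14_ok : Fixes P 56 [2, 6, 2, 6] :=
  fixes_of_powFix P (u := [2, 6]) (e := 2) (by decide +kernel) (by decide +kernel)

theorem base15_ok : Fixes P 56 [3, 4, 3, 4, 3, 4] :=
  fixes_of_powFix P (u := [3, 4]) (e := 3) (by decide +kernel) (by decide +kernel)

theorem base16_ok : Fixes P 56 [3, 5, 3, 5] :=
  fixes_of_powFix P (u := [3, 5]) (e := 2) (by decide +kernel) (by decide +kernel)

theorem base17_ok : Fixes P 56 [3, 6, 3, 6, 3, 6] :=
  fixes_of_powFix P (u := [3, 6]) (e := 3) (by decide +kernel) (by decide +kernel)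

theorem base18_ok : Fixes P 56 [4, 5, 4, 5, 4, 5] :=
  fixes_of_powFix P (u := [4, 5]) (e := 3) (by decide +kernel) (by decide +kernel)

theorem base19_ok : Fixes P 56 [4, 6, 4, 6] :=
  fixes_of_powFix P (u := [4, 6]) (e := 2) (by decide +kernel) (by decide +kernel)

theorem base20_ok : Fixes P 56 [5, 6, 5, 6] :=
  fixes_of_powFix P (u := [5, 6]) (e := 2) (by decide +kernel) (by decide +kernel)

theorem base_ok : ∀ w ∈ base, Fixes P 56 w := by
  intro w hw
  rw [base] at hw
  rcases List.mem_cons.1 hw with rfl | hw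
  · exact base0_ok
  rcases List.mem_cons.1 hw with rfl | hw
  · exact base1_ok
  rcases List.mem_cons.1 hw with rfl | hw
  · exact base2_ok
  rcases List.mem_cons.1 hw with rfl | hw
  · exact base3_ok
  rcases List.mem_cons.1 hw with rfl | hw
  · exact base4_ok
  rcases List.mem_cons.1 hw with rfl | hw
  · exact base5_ok
  rcases List.mem_cons.1 hw with rfl | hw
  · exact base6_ok
  rcases List.mem_cons.1 hw with rfl | hw
  · exact base7_ok
  rcases List.mem_cons.1 hw with rfl | hw
  · exact base8_ok
  rcases List.mem_cons.1 hw with rfl | hw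
  · exact base9_ok
  rcases List.mem_cons.1 hw with rfl | hw
  · exact base10_ok
  rcases List.mem_cons.1 hw with rfl | hw
  · exact base11_ok
  rcases List.mem_cons.1 hw with rfl | hw
  · exact base12_ok
  rcases List.mem_cons.1 hw with rfl | hw
  · exact base13_ok
  rcases List.mem_cons.1 hw with rfl | hw
  · exact base14_ok
  rcases List.mem_cons.1 hw with rfl | hw
  · exact base15_ok
  rcases List.mem_cons.1 hw with rfl | hw
  · exact base16_ok
  rcases List.mem_cons.1 hw with rfl | hw
  · exact base17_ok
  rcases List.mem_cons.1 hw with rfl | hw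
  · exact base18_ok
  rcases List.mem_cons.1 hw with rfl | hw
  · exact base19_ok
  rcases List.mem_cons.1 hw with rfl | hw
  · exact base20_ok
  exact absurd hw List.not_mem_nil

theorem rots_ok : rotsOK base rots.entries hints = true := by decide +kernel

theorem fix_ok : wordsFixBase P sw = true := by decide +kernel

theorem tree_ok : treeOK P tree 0 = true := by decide +kernel

theorem tree_len : tree.length + 1 = 56 := by decide +kernel

end Cfsg.Agent.CosetData.ChainE7
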