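import Cfsg.Agent.Lib.Compute.CosetLower
import Cfsg.Agent.Lib.Compute.CosetData.ChainE7

/-! A base chain on the certified table. -/

set_option autoImplicit false
set_option maxRecDepth 100000
set_option Elab.async false

namespace Cfsg.Agent.CosetData.ChainE7

open Cfsg.Agent.CosetCert

def lev0_t_0 : List ℕ := [
  0, 65, 130, 195, 260, 262, 325, 326,
  518, 451, 579, 642, 706, 708, 769, 833,
  836, 1024, 1088, 1092, 963, 1412, 1155, 1222,
  1475, 1282, 1286, 1538, 1542, 1798, 1857, 1862,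
  1923, 2054, 1987, 2180, 2115, 2244, 2373, 2306,
  2308, 2437, 2564, 2501, 2627, 2629, 2949, 2950,
  3012, 3014, 3206, 3267, 3330, 3393, 3456]
def lev0_t : List ℕ :=
  lev0_t_0

/-- level -/
def lev0 : BaseLevel :=
  ⟨[[0],
    [1],
    [2],
    [3],
    [4],
    [5],
    [6]], 0, lev0_t⟩

def lev1_t_0 : List ℕ := [
  64, 129, 194, 259, 261, 324, 325, 517,
  450, 578, 641, 705, 707, 768, 832, 835,
  1091, 962, 1154, 1221, 1281, 1285, 1797, 1922,
  2179, 2372]
def lev1_t : List ℕ :=
  lev1_t_0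

/-- level -/
def lev1 : BaseLevel :=
  ⟨[[1],
    [2],
    [3],
    [4],
    [5],
    [6],
    [2],
    [5],
    [1],
    [6],
    [4],
    [3]], 1, lev1_t⟩

def lev2_t_0 : List ℕ := [
  128, 193, 258, 260, 323, 324, 516, 449,
  577, 640, 704, 706, 834, 961, 1220]
def lev2_t : List ℕ :=
  lev2_t_0

/-- level -/
def lev2 : BaseLevel :=
  ⟨[[2],
    [3],
    [4],
    [5],
    [6],
    [5],
    [6],
    [4],
    [3],
    [2]], 2, lev2_t⟩

def lev3_t_0 : List ℕ := [
  192, 257, 259, 322, 323, 515, 448, 576,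
  705]
def lev3_t : List ℕ :=
  lev3_t_0

/-- level -/
def lev3 : BaseLevel :=
  ⟨[[3],
    [4],
    [5],
    [6],
    [3],
    [4],
    [6],
    [5]], 3, lev3_t⟩

def lev4_t_0 : List ℕ := [
  256, 258, 321, 322, 514]
def lev4_t : List ℕ :=
  lev4_t_0

/-- level -/
def lev4 : BaseLevel :=
  ⟨[[4],
    [5],
    [6],
    [5],
    [4],
    [6]], 4, lev4_t⟩

def lev5_t_0 : List ℕ := [
  320]
def lev5_t : List ℕ :=
  lev5_t_0

/-- level -/
def lev5 : BaseLevel :=
  ⟨[[5],
    [5]], 5, lev5_t⟩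

/-- the levels -/
def levels : List BaseLevel := [lev0, lev1, lev2, lev3, lev4, lev5]

theorem levels_ok : chainGood P 56 [] levels = true := by decide +kernel

theorem levels_size : Nat.ble 2903040 (chainSize levels) = true := by decide +kernel

end Cfsg.Agent.CosetData.ChainE7
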