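import Cfsg.Agent.Lib.Compute.CosetData.ChainL728Tab

/-! Coset enumeration certificate data (S1697 chain). -/

set_option autoImplicit false
set_option maxRecDepth 100000
set_option Elab.async false

namespace Cfsg.Agent.CosetData.ChainL728

open Cfsg.Agent.CosetCert

theorem base0_ok : Fixes P 728 [0, 1, 0, 1, 0, 1] :=
  fixes_of_powFix P (u := [0, 1]) (e := 3) (by decide +kernel) (by decide +kernel)

theorem base1_ok : Fixes P 728 [0, 2, 0, 2] :=
  fixes_of_powFix P (u := [0, 2]) (e := 2) (by decide +kernel) (by decide +kernel)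

theorem base2_ok : Fixes P 728 [0, 3, 0, 3] :=
  fixes_of_powFix P (u := [0, 3]) (e := 2) (by decide +kernel) (by decide +kernel)

theorem base3_ok : Fixes P 728 [0, 4, 0, 4] :=
  fixes_of_powFix P (u := [0, 4]) (e := 2) (by decide +kernel) (by decide +kernel)

theorem base4_ok : Fixes P 728 [0, 5, 0, 5] :=
  fixes_of_powFix P (u := [0, 5]) (e := 2) (by decide +kernel) (by decide +kernel)

theorem base5_ok : Fixes P 728 [0, 6, 0, 6] :=
  fixes_of_powFix P (u := [0, 6]) (e := 2) (by decide +kernel) (by decide +kernel)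

theorem base6_ok : Fixes P 728 [0, 7, 0, 7] :=
  fixes_of_powFix P (u := [0, 7]) (e := 2) (by decide +kernel) (by decide +kernel)

theorem base7_ok : Fixes P 728 [1, 2, 1, 2, 1, 2] :=
  fixes_of_powFix P (u := [1, 2]) (e := 3) (by decide +kernel) (by decide +kernel)

theorem base8_ok : Fixes P 728 [1, 3, 1, 3] :=
  fixes_of_powFix P (u := [1, 3]) (e := 2) (by decide +kernel) (by decide +kernel)

theorem base9_ok : Fixes P 728 [1, 4, 1, 4] :=
  fixes_of_powFix P (u := [1, 4]) (e := 2) (by decide +kernel) (by decide +kernel)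

theorem base10_ok : Fixes P 728 [1, 5, 1, 5] :=
  fixes_of_powFix P (u := [1, 5]) (e := 2) (by decide +kernel) (by decide +kernel)

theorem base11_ok : Fixes P 728 [1, 6, 1, 6] :=
  fixes_of_powFix P (u := [1, 6]) (e := 2) (by decide +kernel) (by decide +kernel)

theorem base12_ok : Fixes P 728 [1, 7, 1, 7] :=
  fixes_of_powFix P (u := [1, 7]) (e := 2) (by decide +kernel) (by decide +kernel)

theorem base13_ok : Fixes P 728 [2, 3, 2, 3, 2, 3] :=
  fixes_of_powFix P (u := [2, 3]) (e := 3) (by decide +kernel) (by decide +kernel)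

theorem base14_ok : Fixes P 728 [2, 4, 2, 4] :=
  fixes_of_powFix P (u := [2, 4]) (e := 2) (by decide +kernel) (by decide +kernel)

theorem base15_ok : Fixes P 728 [2, 5, 2, 5] :=
  fixes_of_powFix P (u := [2, 5]) (e := 2) (by decide +kernel) (by decide +kernel)

theorem base16_ok : Fixes P 728 [2, 6, 2, 6, 2, 6] :=
  fixes_of_powFix P (u := [2, 6]) (e := 3) (by decide +kernel) (by decide +kernel)

theorem base17_ok : Fixes P 728 [2, 7, 2, 7] :=
  fixes_of_powFix P (u := [2, 7]) (e := 2) (by decide +kernel) (by decide +kernel)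

theorem base18_ok : Fixes P 728 [3, 4, 3, 4, 3, 4] :=
  fixes_of_powFix P (u := [3, 4]) (e := 3) (by decide +kernel) (by decide +kernel)

theorem base19_ok : Fixes P 728 [3, 5, 3, 5] :=
  fixes_of_powFix P (u := [3, 5]) (e := 2) (by decide +kernel) (by decide +kernel)

theorem base20_ok : Fixes P 728 [3, 6, 3, 6] :=
  fixes_of_powFix P (u := [3, 6]) (e := 2) (by decide +kernel) (by decide +kernel)

theorem base21_ok : Fixes P 728 [3, 7, 3, 7] :=
  fixes_of_powFix P (u := [3, 7]) (e := 2) (by decide +kernel) (by decide +kernel)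

theorem base22_ok : Fixes P 728 [4, 5, 4, 5, 4, 5] :=
  fixes_of_powFix P (u := [4, 5]) (e := 3) (by decide +kernel) (by decide +kernel)

theorem base23_ok : Fixes P 728 [4, 6, 4, 6] :=
  fixes_of_powFix P (u := [4, 6]) (e := 2) (by decide +kernel) (by decide +kernel)

theorem base24_ok : Fixes P 728 [4, 7, 4, 7] :=
  fixes_of_powFix P (u := [4, 7]) (e := 2) (by decide +kernel) (by decide +kernel)

theorem base25_ok : Fixes P 728 [5, 6, 5, 6] :=
  fixes_of_powFix P (u := [5, 6]) (e := 2) (by decide +kernel) (by decide +kernel)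

theorem base26_ok : Fixes P 728 [5, 7, 5, 7] :=
  fixes_of_powFix P (u := [5, 7]) (e := 2) (by decide +kernel) (by decide +kernel)

theorem base27_ok : Fixes P 728 [6, 7, 6, 7, 6, 7] :=
  fixes_of_powFix P (u := [6, 7]) (e := 3) (by decide +kernel) (by decide +kernel)

theorem base28_ok : Fixes P 728 [2, 1, 0, 2, 3, 4, 2, 6, 7, 2, 1, 0, 2, 3, 4, 2, 6, 7, 2, 1, 0, 2, 3, 4, 2, 6, 7, 2, 1, 0, 2, 3, 4, 2, 6, 7, 2, 1, 0, 2, 3, 4, 2, 6, 7, 2, 1, 0, 2, 3, 4, 2, 6, 7, 2, 1, 0, 2, 3, 4, 2, 6, 7, 2, 1, 0, 2, 3, 4, 2, 6, 7, 2, 1, 0, 2, 3, 4, 2, 6, 7, 2, 1, 0, 2, 3, 4, 2, 6, 7] :=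
  fixes_of_powFix P (u := [2, 1, 0, 2, 3, 4, 2, 6, 7]) (e := 10) (by decide +kernel) (by decide +kernel)

end Cfsg.Agent.CosetData.ChainL728
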