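import Cfsg.Agent.Lib.Compute.CosetData.ChainL728Cert
import Cfsg.Agent.Lib.Compute.CosetData.ChainL728Gens
import Cfsg.Agent.Lib.Compute.CosetData.ChainL728Rel0

/-! Coset enumeration certificate data (S1697 chain). -/

set_option autoImplicit false
set_option maxRecDepth 100000
set_option Elab.async false

namespace Cfsg.Agent.CosetData.ChainL728

open Cfsg.Agent.CosetCert

theorem base_ok : ∀ w ∈ base, Fixes P 728 w := by
  intro w hw
  rw [base] at hw
  rcases List.mem_cons.1 hw with rfl | hw
  · exact base0_ok
  rcases List.mem_cons.1 hw with rfl | hw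
  · exact base1_ok
  rcases List.mem_cons.1 hw with rfl | hw
  · exact base2_ok
  rcases List.mem_cons.1 hw with rfl | hw
  · exact base3_ok
  rcases List.mem_cons.1 hw with rfl | hw
  · exact base4_ok
  rcases List.mem_cons.1 hw with rfl | hw
  · exact base5_ok
  rcases List.mem_cons.1 hw with rfl | hw
  · exact base6_ok
  rcases List.mem_cons.1 hw with rfl | hw
  · exact base7_ok
  rcases List.mem_cons.1 hw with rfl | hw
  · exact base8_ok
  rcases List.mem_cons.1 hw with rfl | hw
  · exact base9_ok
  rcases List.mem_cons.1 hw with rfl | hw
  · exact base10_ok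
  rcases List.mem_cons.1 hw with rfl | hw
  · exact base11_ok
  rcases List.mem_cons.1 hw with rfl | hw
  · exact base12_ok
  rcases List.mem_cons.1 hw with rfl | hw
  · exact base13_ok
  rcases List.mem_cons.1 hw with rfl | hw
  · exact base14_ok
  rcases List.mem_cons.1 hw with rfl | hw
  · exact base15_ok
  rcases List.mem_cons.1 hw with rfl | hw
  · exact base16_ok
  rcases List.mem_cons.1 hw with rfl | hw
  · exact base17_ok
  rcases List.mem_cons.1 hw with rfl | hw
  · exact base18_ok
  rcases List.mem_cons.1 hw with rfl | hw
  · exact base19_ok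
  rcases List.mem_cons.1 hw with rfl | hw
  · exact base20_ok
  rcases List.mem_cons.1 hw with rfl | hw
  · exact base21_ok
  rcases List.mem_cons.1 hw with rfl | hw
  · exact base22_ok
  rcases List.mem_cons.1 hw with rfl | hw
  · exact base23_ok
  rcases List.mem_cons.1 hw with rfl | hw
  · exact base24_ok
  rcases List.mem_cons.1 hw with rfl | hw
  · exact base25_ok
  rcases List.mem_cons.1 hw with rfl | hw
  · exact base26_ok
  rcases List.mem_cons.1 hw with rfl | hw
  · exact base27_ok
  rcases List.mem_cons.1 hw with rfl | hw
  · exact base28_ok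
  exact absurd hw List.not_mem_nil

theorem rots_ok : rotsOK base rots.entries hints = true := by decide +kernel

theorem fix_ok : wordsFixBase P sw = true := by decide +kernel

theorem tree_ok : treeOK P tree 0 = true := by decide +kernel

theorem tree_len : tree.length + 1 = 728 := by decide +kernel

end Cfsg.Agent.CosetData.ChainL728
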