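import Cfsg.Agent.Lib.Compute.CosetData.ChainL728Aux

/-! Coset enumeration certificate data (S1697 chain). -/

set_option autoImplicit false
set_option maxRecDepth 100000
set_option Elab.async false

namespace Cfsg.Agent.CosetData.ChainL728

open Cfsg.Agent.CosetCert

def ph1_p0_0 : List Aux := [
  .node 202 1, .node 202 6, .node 206 1, .derive 730 [.bwd 0, .edge 0, .edge 1, .edge 0, .fwd 0] [0] (.rel 1), .derive 730 [.bwd 1, .edge 5, .fwd 3] [5] (.rel 20), .node 206 6, .node 223 1, .derive 732 [.bwd 0, .edge 4, .fwd 6] [4] (.rel 18),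
  .node 247 1, .derive 733 [.bwd 0, .edge 4, .fwd 6] [4] (.rel 18), .node 254 6, .derive 734 [.bwd 0, .edge 2, .edge 6, .edge 2, .fwd 9] [2] (.rel 33), .node 258 6, .derive 735 [.bwd 0, .edge 2, .edge 6, .edge 2, .fwd 7] [2] (.rel 33), .node 336 7, .node 369 1,
  .derive 737 [.bwd 0, .edge 0, .edge 1, .edge 0, .fwd 0] [0] (.rel 1), .derive 737 [.bwd 1, .edge 5, .fwd 10] [5] (.rel 20), .node 369 6, .node 371 1, .derive 739 [.bwd 0, .edge 4, .fwd 4] [4] (.rel 18), .derive 739 [.bwd 1, .edge 5, .fwd 12] [5] (.rel 20), .node 390 6, .derive 740 [.bwd 0, .edge 2, .edge 6, .edge 2, .fwd 4] [2] (.rel 33),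
  .node 392 6, .node 397 7, .derive 742 [.bwd 0, .edge 5, .fwd 11] [5] (.rel 53), .node 430 6, .node 434 6, .derive 744 [.bwd 0, .edge 5, .fwd 1] [5] (.rel 51), .node 437 6, .node 449 0,
  .derive 746 [.bwd 0, .edge 2, .fwd 0] [2] (.rel 2), .node 449 6, .derive 747 [.bwd 0, .edge 1, .fwd 3] [1] (.rel 23), .derive 747 [.bwd 1, .edge 4, .fwd 1] [4] (.rel 47), .node 453 7, .node 463 2, .node 469 2, .derive 750 [.bwd 0, .edge 5, .fwd 1] [5] (.rel 30),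
  .node 470 6, .derive 751 [.bwd 0, .edge 1, .fwd 30] [1] (.rel 23), .node 471 6, .derive 752 [.bwd 0, .edge 4, .fwd 2] [4] (.rel 47), .node 472 6, .derive 753 [.bwd 0, .edge 1, .fwd 32] [1] (.rel 23), .derive 753 [.bwd 1, .edge 5, .fwd 5] [5] (.rel 51), .node 474 0,
  .derive 754 [.bwd 0, .edge 2, .fwd 0] [2] (.rel 2), .node 476 6, .derive 755 [.bwd 0, .edge 3, .fwd 7] [3] (.rel 41), .node 477 0, .derive 756 [.bwd 0, .edge 1, .edge 0, .edge 1, .fwd 20] [1] (.rel 0), .node 478 6, .derive 757 [.bwd 0, .edge 1, .fwd 31] [1] (.rel 23), .derive 757 [.bwd 1, .edge 5, .fwd 12] [5] (.rel 51),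
  .node 480 6, .derive 758 [.bwd 0, .edge 3, .fwd 3] [3] (.rel 41), .node 482 6, .derive 759 [.bwd 0, .edge 4, .fwd 14] [4] (.rel 47), .node 484 6, .derive 760 [.bwd 0, .edge 4, .fwd 7] [4] (.rel 47), .derive 760 [.bwd 1, .edge 5, .fwd 3] [5] (.rel 51), .node 487 2,
  .node 487 7, .node 488 7, .derive 763 [.bwd 0, .edge 2, .fwd 0] [2] (.rel 35), .node 489 0, .derive 764 [.bwd 0, .edge 6, .fwd 20] [6] (.rel 10), .node 489 2, .derive 765 [.bwd 0, .edge 4, .fwd 6] [4] (.rel 28), .derive 765 [.bwd 1, .edge 6, .edge 2, .edge 6, .fwd 1] [6] (.rel 32),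
  .node 489 7, .derive 766 [.bwd 0, .edge 1, .fwd 7] [1] (.rel 25), .node 491 2, .derive 767 [.bwd 0, .edge 5, .fwd 11] [5] (.rel 30), .node 491 7, .node 492 7, .derive 769 [.bwd 0, .edge 3, .fwd 12] [3] (.rel 43), .node 493 0,
  .derive 770 [.bwd 0, .edge 3, .fwd 12] [3] (.rel 4), .derive 770 [.bwd 1, .edge 6, .fwd 29] [6] (.rel 10), .node 493 2, .derive 771 [.bwd 0, .edge 4, .fwd 0] [4] (.rel 28), .node 493 7, .node 494 7, .node 495 2, .derive 774 [.bwd 0, .edge 5, .fwd 17] [5] (.rel 30),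
  .node 495 7, .node 496 7, .node 497 2, .derive 777 [.bwd 0, .edge 5, .fwd 8] [5] (.rel 30), .node 497 7, .node 498 7, .node 499 2, .derive 780 [.bwd 0, .edge 4, .fwd 20] [4] (.rel 28),
  .node 499 7, .node 500 7, .node 501 2, .derive 783 [.bwd 0, .edge 4, .fwd 12] [4] (.rel 28)]
def ph1_p0_1 : List Aux := [
  .derive 783 [.bwd 1, .edge 5, .fwd 5] [5] (.rel 30), .node 501 7, .derive 784 [.bwd 0, .edge 4, .fwd 13] [4] (.rel 49), .node 503 6, .node 506 6, .derive 786 [.bwd 0, .edge 5, .fwd 1] [5] (.rel 51), .node 518 6, .derive 787 [.bwd 0, .edge 3, .fwd 48] [3] (.rel 41),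
  .node 519 6, .derive 788 [.bwd 0, .edge 3, .fwd 48] [3] (.rel 41), .derive 788 [.bwd 1, .edge 5, .fwd 3] [5] (.rel 51), .node 522 7, .derive 789 [.bwd 0, .edge 3, .fwd 18] [3] (.rel 43), .node 523 7, .node 524 2, .node 524 7,
  .node 525 2, .derive 793 [.bwd 0, .edge 5, .fwd 2] [5] (.rel 30), .node 525 7, .derive 794 [.bwd 0, .edge 5, .fwd 3] [5] (.rel 53), .node 573 6, .node 583 6, .derive 796 [.bwd 0, .edge 3, .fwd 1] [3] (.rel 41), .node 592 6,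
  .node 594 6, .derive 798 [.bwd 0, .edge 4, .fwd 16] [4] (.rel 47), .node 598 2, .node 599 7, .derive 800 [.bwd 0, .edge 4, .fwd 38] [4] (.rel 49), .node 600 7, .derive 801 [.bwd 0, .edge 4, .fwd 16] [4] (.rel 49), .node 601 2,
  .derive 802 [.bwd 0, .edge 4, .fwd 41] [4] (.rel 28), .node 601 7, .node 602 2, .derive 804 [.bwd 0, .edge 4, .fwd 18] [4] (.rel 28), .node 602 7, .derive 805 [.bwd 0, .edge 3, .fwd 3] [3] (.rel 43), .node 608 6, .node 610 6,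
  .derive 807 [.bwd 0, .edge 5, .fwd 1] [5] (.rel 51), .node 611 6, .node 612 0, .derive 809 [.bwd 0, .edge 2, .fwd 91] [2] (.rel 2), .node 612 6, .derive 810 [.bwd 0, .edge 1, .fwd 3] [1] (.rel 23), .node 614 6, .node 616 6,
  .derive 812 [.bwd 0, .edge 3, .edge 6] [3] (.rel 41), .node 617 6, .node 618 6, .node 619 7, .derive 815 [.bwd 0, .edge 1, .fwd 0] [1] (.rel 25), .derive 815 [.bwd 1, .edge 2, .fwd 116] [2] (.rel 35), .derive 815 [.bwd 2, .edge 3, .fwd 2] [3] (.rel 43), .derive 815 [.bwd 3, .edge 4, .fwd 3] [4] (.rel 49),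
  .node 625 1, .derive 816 [.bwd 0, .edge 3, .fwd 0] [3] (.rel 16), .node 625 6, .derive 817 [.bwd 0, .edge 2, .edge 6, .edge 2, .fwd 128] [2] (.rel 33), .node 626 1, .node 628 1, .node 629 1, .derive 820 [.bwd 0, .edge 3, .fwd 0] [3] (.rel 16),
  .derive 820 [.bwd 1, .edge 6, .fwd 3] [6] (.rel 22), .node 630 1, .derive 821 [.bwd 0, .edge 6, .fwd 4] [6] (.rel 22), .node 632 1, .node 633 1, .node 637 6, .node 638 6, .derive 825 [.bwd 0, .edge 5, .fwd 1] [5] (.rel 51),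
  .node 641 6, .node 642 6, .node 689 7, .node 692 7, .derive 829 [.bwd 0, .edge 3, .fwd 1] [3] (.rel 43), .node 693 6, .node 694 6, .derive 831 [.bwd 0, .edge 1, .fwd 1] [1] (.rel 23),
  .derive 831 [.bwd 1, .edge 3, .fwd 29] [3] (.rel 41), .node 695 6, .derive 832 [.bwd 0, .edge 3, .fwd 9] [3] (.rel 41), .node 696 6, .derive 833 [.bwd 0, .edge 3, .fwd 10] [3] (.rel 41), .node 697 2, .node 703 1, .derive 835 [.bwd 0, .edge 3, .fwd 19] [3] (.rel 16),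
  .node 704 1, .derive 836 [.bwd 0, .edge 3, .fwd 20] [3] (.rel 16), .derive 836 [.bwd 1, .edge 6, .fwd 3] [6] (.rel 22), .node 716 2, .derive 837 [.bwd 0, .edge 1, .edge 2, .edge 1, .fwd 57] [1] (.rel 15), .node 717 2, .node 728 6, .derive 839 [.bwd 0, .bwd 194, .fwd 193] [1] (.rel 23),
  .node 730 6, .derive 840 [.bwd 0, .bwd 193, .fwd 0] [0] (.rel 11), .derive 840 [.bwd 1, .bwd 195, .fwd 192] [1] (.rel 23), .derive 840 [.bwd 2, .fwd 194, .fwd 4] [5] (.rel 51)]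
def ph1_p0_2 : List Aux := [
  .node 732 6, .derive 841 [.bwd 0, .fwd 193, .fwd 6] [4] (.rel 47), .node 733 6, .derive 842 [.bwd 0, .fwd 193, .fwd 6] [4] (.rel 47), .node 737 6, .derive 843 [.bwd 0, .bwd 188, .fwd 0] [0] (.rel 11), .derive 843 [.bwd 1, .bwd 190, .fwd 187] [1] (.rel 23), .derive 843 [.bwd 2, .fwd 189, .fwd 6] [5] (.rel 51),
  .node 739 6, .derive 844 [.bwd 0, .fwd 188, .fwd 4] [4] (.rel 47), .derive 844 [.bwd 1, .fwd 188, .fwd 7] [5] (.rel 51), .node 740 7, .derive 845 [.bwd 0, .bwd 189, .edge 7, .edge 6, .fwd 126] [6] (.rel 55), .node 741 7, .derive 846 [.bwd 0, .bwd 189, .edge 7, .edge 6, .fwd 116] [6] (.rel 55), .node 743 7,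
  .node 744 7, .derive 848 [.bwd 0, .fwd 187, .fwd 1] [5] (.rel 53), .node 746 6, .derive 849 [.bwd 0, .bwd 187, .fwd 185] [0] (.rel 11), .derive 849 [.bwd 1, .bwd 167, .bwd 138] [1] (.rel 23), .node 747 2, .derive 850 [.bwd 0, .bwd 186, .fwd 0] [4] (.rel 28), .node 747 7,
  .derive 851 [.bwd 0, .bwd 190, .edge 7, .edge 6, .fwd 187] [6] (.rel 55), .node 749 1, .node 749 6, .derive 853 [.bwd 0, .bwd 189, .edge 6, .edge 2, .fwd 85] [2] (.rel 33), .node 750 1, .derive 854 [.bwd 0, .bwd 190, .edge 1, .edge 2, .fwd 67] [2] (.rel 14), .derive 854 [.bwd 1, .fwd 190, .fwd 4] [5] (.rel 20), .node 751 2,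
  .node 751 7, .derive 856 [.bwd 0, .bwd 192, .edge 7, .edge 6, .fwd 168] [6] (.rel 55), .node 752 2, .derive 857 [.bwd 0, .fwd 191, .fwd 3] [4] (.rel 28), .node 753 2, .derive 858 [.bwd 0, .fwd 190, .fwd 5] [5] (.rel 30), .node 753 7, .derive 859 [.bwd 0, .bwd 194, .edge 7, .edge 6, .fwd 162] [6] (.rel 55),
  .node 755 2, .node 755 7, .derive 861 [.bwd 0, .bwd 192, .edge 7, .edge 6, .fwd 157] [6] (.rel 55), .node 757 2, .derive 862 [.bwd 0, .fwd 188, .fwd 9] [5] (.rel 30), .node 757 7, .derive 863 [.bwd 0, .bwd 192, .edge 7, .edge 6, .fwd 157] [6] (.rel 55), .node 758 2,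
  .node 758 7, .derive 865 [.bwd 0, .bwd 192, .edge 7, .edge 6, .fwd 156] [6] (.rel 55), .node 759 2, .derive 866 [.bwd 0, .fwd 191, .fwd 14] [4] (.rel 28), .node 759 7, .derive 867 [.bwd 0, .bwd 194, .edge 7, .edge 6, .fwd 156] [6] (.rel 55), .node 760 2, .derive 868 [.bwd 0, .fwd 193, .fwd 11] [4] (.rel 28),
  .derive 868 [.bwd 1, .fwd 193, .fwd 5] [5] (.rel 30), .node 760 7, .derive 869 [.bwd 0, .bwd 197, .edge 7, .edge 6, .fwd 156] [6] (.rel 55), .node 761 3, .node 761 7, .derive 871 [.bwd 0, .bwd 197, .fwd 196] [2] (.rel 35), .node 764 2, .derive 872 [.bwd 0, .fwd 194, .bwd 214, .bwd 194, .fwd 0] [6] (.rel 32),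
  .node 764 7, .derive 873 [.bwd 0, .bwd 197, .fwd 192] [0] (.rel 13), .node 765 3, .derive 874 [.bwd 0, .bwd 195, .fwd 0] [6] (.rel 40), .node 765 7, .derive 875 [.bwd 0, .fwd 198, .fwd 8] [4] (.rel 49), .node 767 3, .derive 876 [.bwd 0, .fwd 195, .fwd 11] [5] (.rel 38),
  .node 767 7, .derive 877 [.bwd 0, .bwd 198, .fwd 196] [2] (.rel 35), .node 770 2, .derive 878 [.bwd 0, .bwd 195, .fwd 192] [0] (.rel 3), .node 771 1, .derive 879 [.bwd 0, .bwd 194, .edge 1, .edge 2, .fwd 114] [2] (.rel 14), .derive 879 [.bwd 1, .bwd 194, .fwd 1] [4] (.rel 18), .node 771 3,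
  .derive 880 [.bwd 0, .bwd 197, .edge 3, .fwd 210, .fwd 13] [2] (.rel 27), .node 771 6, .derive 881 [.bwd 0, .bwd 199, .edge 6, .edge 2, .fwd 137] [2] (.rel 33), .node 771 7, .derive 882 [.bwd 0, .bwd 201, .fwd 199] [2] (.rel 35), .node 774 3, .derive 883 [.bwd 0, .fwd 198, .fwd 19] [5] (.rel 38), .node 774 7,
  .derive 884 [.bwd 0, .bwd 201, .fwd 199] [2] (.rel 35), .node 777 1, .derive 885 [.bwd 0, .bwd 199, .edge 1, .edge 2, .fwd 124] [2] (.rel 14), .derive 885 [.bwd 1, .fwd 199, .fwd 14] [5] (.rel 20), .node 777 3, .derive 886 [.bwd 0, .bwd 202, .edge 3, .fwd 206, .fwd 7] [2] (.rel 27), .derive 886 [.bwd 1, .fwd 202, .fwd 14] [5] (.rel 38), .node 777 6,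
  .derive 887 [.bwd 0, .bwd 205, .edge 6, .edge 2, .fwd 149] [2] (.rel 33), .node 777 7, .derive 888 [.bwd 0, .bwd 207, .fwd 205] [2] (.rel 35), .node 780 3]
def ph1_p0_3 : List Aux := [
  .node 780 7, .derive 890 [.bwd 0, .bwd 206, .fwd 204] [2] (.rel 35), .derive 890 [.bwd 1, .fwd 206, .fwd 29] [4] (.rel 49), .node 783 3, .derive 891 [.bwd 0, .fwd 203, .fwd 4] [5] (.rel 38), .node 783 7, .derive 892 [.bwd 0, .bwd 207, .fwd 204] [2] (.rel 35), .node 785 7,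
  .node 786 7, .derive 894 [.bwd 0, .fwd 203, .fwd 1] [5] (.rel 53), .node 787 2, .node 787 7, .derive 896 [.bwd 0, .bwd 205, .edge 7, .edge 6, .fwd 196] [6] (.rel 55), .node 788 2, .derive 897 [.bwd 0, .fwd 203, .fwd 3] [5] (.rel 30), .node 788 7,
  .derive 898 [.bwd 0, .bwd 207, .edge 7, .edge 6, .fwd 197] [6] (.rel 55), .node 791 3, .derive 899 [.bwd 0, .bwd 203, .edge 3, .fwd 223, .fwd 18] [2] (.rel 27), .node 791 6, .node 791 7, .derive 901 [.bwd 0, .bwd 206, .fwd 205] [2] (.rel 35), .node 793 3, .derive 902 [.bwd 0, .bwd 206, .edge 3, .fwd 224, .fwd 19] [2] (.rel 27),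
  .derive 902 [.bwd 1, .fwd 206, .fwd 6] [5] (.rel 38), .node 793 6, .node 793 7, .derive 904 [.bwd 0, .fwd 209, .fwd 6] [5] (.rel 53), .node 795 7, .node 796 7, .derive 906 [.bwd 0, .fwd 207, .fwd 1] [3] (.rel 43), .node 797 2,
  .node 797 7, .derive 908 [.bwd 0, .bwd 209, .edge 7, .edge 6, .fwd 199] [6] (.rel 55), .node 798 2, .derive 909 [.bwd 0, .fwd 209, .fwd 21] [4] (.rel 28), .node 798 7, .derive 910 [.bwd 0, .fwd 211, .fwd 21] [4] (.rel 49), .derive 910 [.bwd 1, .bwd 213, .edge 7, .edge 6, .fwd 201] [6] (.rel 55), .node 799 1,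
  .derive 911 [.bwd 0, .bwd 213, .edge 1, .edge 2, .fwd 172] [2] (.rel 14), .node 799 3, .node 799 6, .derive 913 [.bwd 0, .bwd 216, .edge 6, .edge 2, .fwd 193] [2] (.rel 33), .node 802 1, .derive 914 [.bwd 0, .bwd 213, .edge 1, .edge 2, .fwd 176] [2] (.rel 14), .derive 914 [.bwd 1, .fwd 213, .fwd 56] [4] (.rel 18), .node 802 3,
  .node 802 6, .derive 916 [.bwd 0, .bwd 217, .edge 6, .edge 2, .fwd 198] [2] (.rel 33), .node 802 7, .derive 917 [.bwd 0, .bwd 219, .fwd 217] [2] (.rel 35), .node 804 3, .derive 918 [.bwd 0, .bwd 218, .edge 3, .fwd 221, .fwd 5] [2] (.rel 27), .node 804 6, .derive 919 [.bwd 0, .bwd 220, .edge 6, .edge 2, .fwd 181] [2] (.rel 33),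
  .node 804 7, .derive 920 [.bwd 0, .bwd 222, .fwd 220] [2] (.rel 35), .derive 920 [.bwd 1, .fwd 222, .fwd 31] [4] (.rel 49), .node 806 2, .derive 921 [.bwd 0, .bwd 221, .edge 2, .fwd 310, .fwd 119] [6] (.rel 32), .node 806 7, .node 807 2, .derive 923 [.bwd 0, .fwd 222, .fwd 3] [5] (.rel 30),
  .derive 923 [.bwd 1, .bwd 224, .edge 2, .fwd 307, .fwd 116] [6] (.rel 32), .node 807 7, .node 808 7, .node 809 6, .derive 926 [.bwd 0, .bwd 225, .fwd 223] [0] (.rel 11), .node 810 7, .derive 927 [.bwd 0, .fwd 224, .fwd 3] [1] (.rel 25), .derive 927 [.bwd 1, .bwd 226, .edge 7, .fwd 232, .fwd 9] [6] (.rel 55),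
  .node 811 7, .derive 928 [.bwd 0, .bwd 226, .edge 7, .fwd 233, .fwd 7] [6] (.rel 55), .node 812 2, .derive 929 [.bwd 0, .bwd 227, .edge 2, .fwd 251, .fwd 43] [6] (.rel 32), .node 813 7, .derive 930 [.bwd 0, .bwd 227, .edge 7, .edge 6, .fwd 202] [6] (.rel 55), .node 815 6, .derive 931 [.bwd 0, .bwd 226, .fwd 0] [1] (.rel 23),
  .derive 931 [.bwd 1, .bwd 225, .fwd 1] [3] (.rel 41), .derive 931 [.bwd 2, .bwd 225, .fwd 2] [4] (.rel 47), .derive 931 [.bwd 3, .bwd 230, .edge 6, .fwd 230, .fwd 3] [7] (.rel 54), .node 816 0, .node 816 6, .derive 933 [.bwd 0, .bwd 228, .fwd 226] [1] (.rel 23), .derive 933 [.bwd 1, .bwd 228, .fwd 1] [3] (.rel 41), .node 818 0,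
  .derive 934 [.bwd 0, .bwd 227, .edge 0, .fwd 231, .fwd 4] [1] (.rel 0), .node 820 0, .derive 935 [.bwd 0, .bwd 226, .fwd 0] [3] (.rel 4), .derive 935 [.bwd 1, .fwd 226, .fwd 3] [6] (.rel 10), .node 824 2, .derive 936 [.bwd 0, .bwd 223, .edge 2, .fwd 286, .fwd 82] [6] (.rel 32), .node 825 2, .derive 937 [.bwd 0, .fwd 223, .fwd 2] [5] (.rel 30),
  .derive 937 [.bwd 1, .bwd 225, .edge 2, .fwd 287, .fwd 82] [6] (.rel 32), .node 826 2, .derive 938 [.bwd 0, .bwd 225, .edge 2, .fwd 273, .fwd 63] [6] (.rel 32), .node 829 6]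
def ph1_p0_4 : List Aux := [
  .derive 939 [.bwd 0, .fwd 223, .bwd 22] [3] (.rel 41), .derive 939 [.bwd 1, .bwd 225, .edge 6, .edge 7, .fwd 223] [7] (.rel 54), .node 830 2, .node 831 2, .node 832 2, .derive 942 [.bwd 0, .bwd 223, .edge 2, .edge 6, .fwd 219] [6] (.rel 32), .node 833 2, .derive 943 [.bwd 0, .bwd 223, .edge 2, .fwd 228, .fwd 3] [6] (.rel 32),
  .node 834 3, .node 835 2, .node 836 2, .node 837 3, .derive 947 [.bwd 0, .fwd 219, .fwd 59] [1] (.rel 17), .node 838 3, .derive 948 [.bwd 0, .bwd 220, .edge 3, .fwd 222, .fwd 2] [2] (.rel 27), .node 838 6,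
  .derive 949 [.bwd 0, .bwd 222, .edge 6, .fwd 222, .fwd 0] [2] (.rel 33), .node 839 2, .derive 950 [.bwd 0, .fwd 222, .bwd 406, .bwd 376, .fwd 186] [1] (.rel 15), .node 840 2, .derive 951 [.bwd 0, .bwd 222, .fwd 0] [0] (.rel 3), .derive 951 [.bwd 1, .fwd 222, .bwd 407, .bwd 375, .fwd 184] [1] (.rel 15), .derive 951 [.bwd 2, .fwd 222, .fwd 4] [5] (.rel 30), .node 841 2,
  .derive 952 [.bwd 0, .fwd 222, .fwd 6] [4] (.rel 28), .node 842 2, .derive 953 [.bwd 0, .fwd 222, .fwd 6] [4] (.rel 28), .node 843 2, .derive 954 [.bwd 0, .bwd 222, .fwd 0] [0] (.rel 3), .derive 954 [.bwd 1, .fwd 222, .bwd 405, .bwd 374, .fwd 185] [1] (.rel 15), .derive 954 [.bwd 2, .fwd 222, .fwd 6] [5] (.rel 30), .node 844 2,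
  .derive 955 [.bwd 0, .fwd 222, .fwd 4] [4] (.rel 28), .derive 955 [.bwd 1, .fwd 222, .fwd 7] [5] (.rel 30), .node 849 2, .derive 956 [.bwd 0, .fwd 215, .fwd 213] [0] (.rel 3), .derive 956 [.bwd 1, .bwd 217, .bwd 403, .fwd 217, .fwd 1] [6] (.rel 32), .node 850 1, .derive 957 [.bwd 0, .bwd 216, .fwd 403, .bwd 278, .bwd 52] [2] (.rel 14), .derive 957 [.bwd 1, .bwd 216, .fwd 1] [4] (.rel 18),
  .node 850 7, .derive 958 [.bwd 0, .bwd 219, .fwd 217] [2] (.rel 35), .node 852 3, .node 853 7, .derive 960 [.bwd 0, .fwd 216, .fwd 77] [2] (.rel 35), .node 854 3, .derive 961 [.bwd 0, .fwd 215, .fwd 3] [5] (.rel 38), .node 854 6,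
  .node 855 3, .node 855 7, .derive 964 [.bwd 0, .bwd 218, .fwd 217] [2] (.rel 35), .node 857 3, .node 857 7, .derive 966 [.bwd 0, .fwd 217, .fwd 3] [4] (.rel 49), .node 858 3, .derive 967 [.bwd 0, .fwd 217, .fwd 6] [5] (.rel 38),
  .node 858 7, .derive 968 [.bwd 0, .bwd 220, .fwd 218] [2] (.rel 35), .derive 968 [.bwd 1, .fwd 220, .fwd 8] [5] (.rel 53), .node 860 3, .derive 969 [.bwd 0, .bwd 219, .fwd 409, .fwd 225, .fwd 8] [2] (.rel 27), .node 860 7, .derive 970 [.bwd 0, .bwd 221, .fwd 220] [2] (.rel 35), .node 862 3,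
  .derive 971 [.bwd 0, .fwd 219, .fwd 12] [5] (.rel 38), .node 862 7, .derive 972 [.bwd 0, .bwd 222, .fwd 220] [2] (.rel 35), .node 864 3, .derive 973 [.bwd 0, .bwd 220, .fwd 410, .fwd 224, .fwd 4] [2] (.rel 27), .node 864 7, .derive 974 [.bwd 0, .bwd 222, .fwd 221] [2] (.rel 35), .node 866 3,
  .node 866 7, .derive 976 [.bwd 0, .bwd 222, .fwd 220] [2] (.rel 35), .derive 976 [.bwd 1, .fwd 222, .fwd 17] [4] (.rel 49), .node 868 3, .derive 977 [.bwd 0, .fwd 219, .fwd 4] [5] (.rel 38), .node 868 7, .derive 978 [.bwd 0, .bwd 223, .fwd 220] [2] (.rel 35), .node 870 4,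
  .node 870 7, .derive 980 [.bwd 0, .bwd 221, .fwd 220] [3] (.rel 43), .node 871 6, .node 872 1, .derive 982 [.bwd 0, .bwd 220, .fwd 0] [6] (.rel 22), .node 872 3, .derive 983 [.bwd 0, .bwd 222, .fwd 0] [6] (.rel 40), .node 872 7,
  .derive 984 [.bwd 0, .bwd 225, .fwd 223] [2] (.rel 35), .node 874 4, .derive 985 [.bwd 0, .bwd 223, .fwd 419, .fwd 230, .fwd 10] [3] (.rel 37), .derive 985 [.bwd 1, .bwd 223, .fwd 1] [6] (.rel 46), .node 874 7, .node 875 6, .derive 987 [.bwd 0, .fwd 224, .fwd 11] [4] (.rel 47), .node 876 4,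
  .node 876 7, .derive 989 [.bwd 0, .bwd 226, .fwd 224] [3] (.rel 43), .derive 989 [.bwd 1, .fwd 226, .fwd 17] [5] (.rel 53), .node 877 6]
def ph1_p0 : List Aux :=
  ((ph1_p0_0 ++ ph1_p0_1) ++ (ph1_p0_2 ++ (ph1_p0_3 ++ ph1_p0_4)))

theorem ph1_p0_ok : stHas (runList (auxStep' P) ph1_p0 (mkSt 728 mask2 [])) 991 mask2 ph1_eq1 = true := by decide +kernel

def ph1_p1_0 : List Aux := [
  .node 878 1, .node 878 3, .derive 992 [.bwd 0, .fwd 226, .fwd 222] [0] (.rel 5), .derive 992 [.bwd 1, .bwd 228, .fwd 422, .fwd 240, .fwd 17] [2] (.rel 27), .node 878 6, .derive 993 [.bwd 0, .bwd 230, .fwd 423, .bwd 361, .fwd 137] [2] (.rel 33), .node 879 0, .derive 994 [.bwd 0, .fwd 229, .fwd 117] [2] (.rel 2),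
  .derive 994 [.bwd 1, .bwd 229, .fwd 1] [4] (.rel 6), .node 879 3, .derive 995 [.bwd 0, .bwd 233, .fwd 230] [1] (.rel 17), .derive 995 [.bwd 1, .fwd 233, .bwd 347, .bwd 233, .fwd 1] [2] (.rel 27), .node 880 4, .derive 996 [.bwd 0, .fwd 232, .fwd 23] [2] (.rel 29), .node 880 6, .derive 997 [.bwd 0, .bwd 235, .fwd 233] [3] (.rel 41),
  .node 880 7, .derive 998 [.bwd 0, .fwd 236, .fwd 24] [2] (.rel 35), .derive 998 [.bwd 1, .bwd 238, .fwd 234] [3] (.rel 43), .node 881 7, .derive 999 [.bwd 0, .fwd 237, .fwd 150] [2] (.rel 35), .node 882 6, .node 883 4, .node 883 7,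
  .node 884 6, .node 885 0, .derive 1004 [.bwd 0, .fwd 234, .fwd 19] [5] (.rel 8), .node 885 3, .derive 1005 [.bwd 0, .fwd 236, .fwd 18] [5] (.rel 38), .node 885 6, .derive 1006 [.bwd 0, .fwd 239, .fwd 363, .bwd 300, .fwd 82] [2] (.rel 33), .node 886 4,
  .derive 1007 [.bwd 0, .fwd 238, .fwd 9] [2] (.rel 29), .node 886 6, .derive 1008 [.bwd 0, .bwd 241, .fwd 238] [3] (.rel 41), .derive 1008 [.bwd 1, .fwd 240, .fwd 20] [5] (.rel 51), .node 886 7, .derive 1009 [.bwd 0, .fwd 243, .fwd 13] [2] (.rel 35), .derive 1009 [.bwd 1, .bwd 245, .fwd 240] [3] (.rel 43), .node 887 7,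
  .derive 1010 [.bwd 0, .fwd 243, .fwd 167] [2] (.rel 35), .node 888 6, .node 889 4, .node 889 7, .derive 1013 [.bwd 0, .bwd 244, .fwd 243] [3] (.rel 43), .node 890 6, .derive 1014 [.bwd 0, .fwd 243, .fwd 46] [4] (.rel 47), .node 891 4,
  .derive 1015 [.bwd 0, .bwd 244, .fwd 448, .fwd 262, .fwd 25] [3] (.rel 37), .node 891 7, .derive 1016 [.bwd 0, .bwd 246, .fwd 244] [3] (.rel 43), .derive 1016 [.bwd 1, .fwd 246, .fwd 7] [5] (.rel 53), .node 892 6, .node 895 3, .derive 1018 [.bwd 0, .bwd 243, .fwd 446, .fwd 303, .fwd 82] [2] (.rel 27), .node 895 7,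
  .derive 1019 [.bwd 0, .bwd 245, .fwd 244] [2] (.rel 35), .node 897 3, .derive 1020 [.bwd 0, .bwd 244, .fwd 448, .fwd 303, .fwd 82] [2] (.rel 27), .derive 1020 [.bwd 1, .fwd 244, .fwd 5] [5] (.rel 38), .node 897 7, .derive 1021 [.bwd 0, .fwd 246, .fwd 5] [5] (.rel 53), .node 899 4, .derive 1022 [.bwd 0, .fwd 244, .fwd 20] [2] (.rel 29),
  .node 899 6, .node 899 7, .derive 1024 [.bwd 0, .fwd 247, .fwd 22] [2] (.rel 35), .derive 1024 [.bwd 1, .bwd 249, .fwd 246] [3] (.rel 43), .node 900 7, .node 901 6, .node 902 4, .derive 1027 [.bwd 0, .fwd 247, .fwd 23] [2] (.rel 29),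
  .node 902 6, .derive 1028 [.bwd 0, .fwd 248, .fwd 8] [5] (.rel 51), .node 902 7, .derive 1029 [.bwd 0, .fwd 251, .fwd 25] [2] (.rel 35), .derive 1029 [.bwd 1, .fwd 251, .fwd 10] [5] (.rel 53), .node 903 7, .node 904 6, .derive 1031 [.bwd 0, .fwd 251, .fwd 9] [5] (.rel 51),
  .node 907 3, .node 907 7, .derive 1033 [.bwd 0, .bwd 250, .fwd 249] [2] (.rel 35), .node 909 3, .node 909 7, .derive 1035 [.bwd 0, .bwd 250, .fwd 248] [2] (.rel 35), .derive 1035 [.bwd 1, .fwd 250, .fwd 25] [4] (.rel 49), .node 911 3,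
  .derive 1036 [.bwd 0, .bwd 248, .fwd 246] [1] (.rel 17), .node 912 6, .derive 1037 [.bwd 0, .bwd 248, .fwd 247] [3] (.rel 41), .node 913 7, .derive 1038 [.bwd 0, .fwd 248, .fwd 215] [2] (.rel 35), .node 914 3, .node 915 4, .node 915 6,
  .derive 1041 [.bwd 0, .bwd 248, .fwd 247] [3] (.rel 41), .node 915 7, .derive 1042 [.bwd 0, .bwd 250, .fwd 247] [3] (.rel 43), .node 917 6]
def ph1_p1_1 : List Aux := [
  .node 918 4, .derive 1044 [.bwd 0, .fwd 247, .fwd 6] [2] (.rel 29), .derive 1044 [.bwd 1, .bwd 249, .fwd 466, .fwd 279, .fwd 31] [3] (.rel 37), .node 918 6, .derive 1045 [.bwd 0, .bwd 251, .fwd 249] [3] (.rel 41), .node 918 7, .derive 1046 [.bwd 0, .bwd 253, .fwd 249] [3] (.rel 43), .node 919 7,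
  .node 920 6, .node 921 3, .derive 1049 [.bwd 0, .fwd 249, .fwd 150] [6] (.rel 40), .node 921 7, .derive 1050 [.bwd 0, .bwd 252, .fwd 250] [2] (.rel 35), .node 923 3, .derive 1051 [.bwd 0, .fwd 250, .fwd 4] [5] (.rel 38), .derive 1051 [.bwd 1, .fwd 250, .fwd 147] [6] (.rel 40),
  .node 923 7, .derive 1052 [.bwd 0, .bwd 254, .fwd 251] [2] (.rel 35), .node 926 7, .derive 1053 [.bwd 0, .fwd 250, .fwd 249] [0] (.rel 13), .node 929 3, .derive 1054 [.bwd 0, .bwd 246, .fwd 472, .fwd 435, .fwd 212] [2] (.rel 27), .derive 1054 [.bwd 1, .fwd 246, .fwd 41] [6] (.rel 40), .node 931 2,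
  .derive 1055 [.bwd 0, .bwd 242, .fwd 0] [4] (.rel 28), .derive 1055 [.bwd 1, .bwd 246, .fwd 471, .bwd 400, .bwd 183] [6] (.rel 32), .derive 1055 [.bwd 2, .bwd 243, .fwd 2] [7] (.rel 34), .node 932 6, .derive 1056 [.bwd 0, .bwd 244, .fwd 243] [0] (.rel 11), .derive 1056 [.bwd 1, .bwd 240, .bwd 237] [1] (.rel 23), .node 936 3, .derive 1057 [.bwd 0, .fwd 237, .fwd 77] [6] (.rel 40),
  .node 936 7, .node 937 3, .derive 1059 [.bwd 0, .fwd 238, .fwd 3] [5] (.rel 38), .derive 1059 [.bwd 1, .fwd 238, .fwd 77] [6] (.rel 40), .node 937 7, .node 938 3, .derive 1061 [.bwd 0, .fwd 239, .fwd 54] [6] (.rel 40), .node 938 7,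
  .node 939 2, .derive 1063 [.bwd 0, .fwd 239, .fwd 238] [7] (.rel 34), .node 940 1, .node 941 1, .derive 1065 [.bwd 0, .bwd 240, .fwd 464, .fwd 241, .fwd 1] [2] (.rel 14), .node 941 3, .derive 1066 [.bwd 0, .bwd 242, .fwd 465, .bwd 296, .bwd 49] [2] (.rel 27), .node 942 3,
  .derive 1067 [.bwd 0, .bwd 243, .fwd 465, .fwd 250, .fwd 10] [2] (.rel 27), .derive 1067 [.bwd 1, .fwd 243, .fwd 240] [6] (.rel 40), .node 943 1, .derive 1068 [.bwd 0, .fwd 243, .fwd 7] [6] (.rel 22), .node 943 3, .derive 1069 [.bwd 0, .bwd 246, .fwd 468, .bwd 297, .bwd 48] [2] (.rel 27), .derive 1069 [.bwd 1, .fwd 246, .fwd 8] [6] (.rel 40), .node 944 4,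
  .node 944 7, .node 945 3, .derive 1072 [.bwd 0, .bwd 248, .fwd 470, .bwd 317, .fwd 70] [2] (.rel 27), .node 945 6, .node 946 3, .derive 1074 [.bwd 0, .bwd 250, .fwd 471, .bwd 315, .fwd 67] [2] (.rel 27), .node 946 6, .derive 1075 [.bwd 0, .bwd 252, .fwd 472, .fwd 253, .fwd 3] [2] (.rel 33),
  .node 947 4, .node 947 6, .derive 1077 [.bwd 0, .fwd 253, .fwd 62] [1] (.rel 23), .node 948 4, .derive 1078 [.bwd 0, .fwd 253, .fwd 3] [2] (.rel 29), .node 948 6, .derive 1079 [.bwd 0, .bwd 256, .fwd 254] [3] (.rel 41), .node 950 3,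
  .derive 1080 [.bwd 0, .fwd 253, .fwd 223] [1] (.rel 17), .node 950 7, .node 951 3, .derive 1082 [.bwd 0, .bwd 254, .fwd 0] [0] (.rel 5), .derive 1082 [.bwd 1, .fwd 253, .fwd 4] [5] (.rel 38), .node 951 7, .derive 1083 [.bwd 0, .fwd 256, .fwd 221] [1] (.rel 25), .node 952 3,
  .node 952 7, .derive 1085 [.bwd 0, .fwd 256, .fwd 7] [4] (.rel 49), .node 953 3, .node 953 7, .derive 1087 [.bwd 0, .fwd 257, .fwd 6] [4] (.rel 49), .node 954 3, .derive 1088 [.bwd 0, .fwd 256, .fwd 222] [1] (.rel 17), .derive 1088 [.bwd 1, .fwd 256, .fwd 7] [5] (.rel 38),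
  .node 954 7, .derive 1089 [.bwd 0, .bwd 260, .fwd 0] [0] (.rel 13), .node 955 3, .derive 1090 [.bwd 0, .fwd 257, .fwd 8] [5] (.rel 38), .node 955 7, .derive 1091 [.bwd 0, .fwd 259, .fwd 9] [5] (.rel 53), .node 956 1, .derive 1092 [.bwd 0, .bwd 260, .fwd 474, .fwd 420, .fwd 194] [2] (.rel 14),
  .derive 1092 [.bwd 1, .bwd 259, .fwd 1] [6] (.rel 22), .node 957 0, .derive 1093 [.bwd 0, .fwd 259, .bwd 69] [2] (.rel 2), .node 957 3]
def ph1_p1_2 : List Aux := [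
  .derive 1094 [.bwd 0, .fwd 261, .bwd 313, .bwd 261, .fwd 0] [2] (.rel 27), .node 957 7, .derive 1095 [.bwd 0, .bwd 264, .fwd 261] [1] (.rel 25), .node 959 4, .node 959 6, .node 961 4, .node 961 6, .derive 1099 [.bwd 0, .bwd 261, .fwd 259] [3] (.rel 41),
  .derive 1099 [.bwd 1, .fwd 261, .fwd 3] [5] (.rel 51), .node 963 4, .node 963 7, .derive 1101 [.bwd 0, .bwd 262, .fwd 261] [3] (.rel 43), .node 964 6, .derive 1102 [.bwd 0, .fwd 262, .fwd 479, .bwd 451, .fwd 230] [2] (.rel 33), .node 965 4, .node 965 7,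
  .node 966 6, .derive 1105 [.bwd 0, .fwd 263, .fwd 4] [4] (.rel 47), .node 967 4, .node 967 7, .derive 1107 [.bwd 0, .bwd 265, .fwd 263] [3] (.rel 43), .derive 1107 [.bwd 1, .fwd 265, .fwd 10] [5] (.rel 53), .node 968 6, .derive 1108 [.bwd 0, .fwd 265, .fwd 483, .bwd 449, .fwd 223] [2] (.rel 33),
  .derive 1108 [.bwd 1, .fwd 265, .fwd 11] [5] (.rel 51), .node 969 4, .derive 1109 [.bwd 0, .fwd 265, .fwd 11] [2] (.rel 29), .node 969 7, .derive 1110 [.bwd 0, .fwd 267, .fwd 12] [2] (.rel 35), .derive 1110 [.bwd 1, .bwd 269, .fwd 267] [3] (.rel 43), .node 970 6, .derive 1111 [.bwd 0, .fwd 268, .fwd 488, .bwd 446, .fwd 209] [2] (.rel 33),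
  .node 971 4, .node 971 7, .derive 1113 [.bwd 0, .fwd 269, .fwd 18] [5] (.rel 53), .node 972 6, .derive 1114 [.bwd 0, .fwd 269, .fwd 489, .bwd 447, .fwd 211] [2] (.rel 33), .node 973 4, .derive 1115 [.bwd 0, .fwd 269, .fwd 5] [2] (.rel 29), .node 973 7,
  .derive 1116 [.bwd 0, .fwd 271, .fwd 6] [2] (.rel 35), .derive 1116 [.bwd 1, .bwd 273, .fwd 271] [3] (.rel 43), .node 974 6, .derive 1117 [.bwd 0, .fwd 272, .fwd 493, .bwd 444, .fwd 201] [2] (.rel 33), .node 975 4, .derive 1118 [.bwd 0, .bwd 273, .fwd 493, .fwd 290, .fwd 26] [3] (.rel 37), .node 975 7, .derive 1119 [.bwd 0, .bwd 275, .fwd 274] [3] (.rel 43),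
  .node 976 6, .derive 1120 [.bwd 0, .fwd 275, .fwd 495, .bwd 447, .fwd 203] [2] (.rel 33), .derive 1120 [.bwd 1, .fwd 275, .fwd 27] [4] (.rel 47), .node 977 4, .derive 1121 [.bwd 0, .bwd 276, .fwd 496, .fwd 288, .fwd 19] [3] (.rel 37), .node 977 7, .derive 1122 [.bwd 0, .bwd 278, .fwd 276] [3] (.rel 43), .node 978 6,
  .derive 1123 [.bwd 0, .fwd 277, .fwd 497, .bwd 449, .fwd 203] [2] (.rel 33), .node 979 5, .node 979 7, .derive 1125 [.bwd 0, .bwd 279, .fwd 278] [4] (.rel 49), .node 980 6, .derive 1126 [.bwd 0, .fwd 279, .fwd 278] [3] (.rel 41), .node 982 3, .derive 1127 [.bwd 0, .bwd 279, .fwd 277] [1] (.rel 17),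
  .derive 1127 [.bwd 1, .bwd 279, .fwd 1] [6] (.rel 40), .node 983 4, .derive 1128 [.bwd 0, .bwd 279, .fwd 0] [6] (.rel 46), .node 983 7, .derive 1129 [.bwd 0, .bwd 282, .fwd 280] [3] (.rel 43), .node 985 5, .node 985 7, .derive 1131 [.bwd 0, .fwd 280, .fwd 12] [3] (.rel 43),
  .derive 1131 [.bwd 1, .bwd 282, .fwd 279] [4] (.rel 49), .node 986 6, .node 988 5, .derive 1133 [.bwd 0, .bwd 279, .fwd 503, .fwd 295, .fwd 17] [4] (.rel 45), .node 988 7, .derive 1134 [.bwd 0, .bwd 281, .fwd 280] [4] (.rel 49), .node 989 6, .derive 1135 [.bwd 0, .fwd 281, .fwd 279] [3] (.rel 41),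
  .derive 1135 [.bwd 1, .fwd 281, .fwd 19] [5] (.rel 51), .node 991 0, .node 991 3, .derive 1137 [.bwd 0, .bwd 282, .fwd 281] [1] (.rel 17), .node 992 4, .derive 1138 [.bwd 0, .fwd 282, .fwd 272] [0] (.rel 7), .derive 1138 [.bwd 1, .fwd 282, .fwd 20] [2] (.rel 29), .node 992 6,
  .derive 1139 [.bwd 0, .bwd 286, .fwd 283] [3] (.rel 41), .node 993 7, .derive 1140 [.bwd 0, .fwd 284, .fwd 171] [2] (.rel 35), .node 994 3, .derive 1141 [.bwd 0, .bwd 285, .fwd 282] [0] (.rel 5), .derive 1141 [.bwd 1, .fwd 285, .bwd 402, .bwd 285, .fwd 1] [2] (.rel 27), .node 995 4, .derive 1142 [.bwd 0, .fwd 284, .fwd 282] [1] (.rel 19),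
  .derive 1142 [.bwd 1, .bwd 284, .fwd 1] [2] (.rel 29), .node 995 6, .node 996 5, .derive 1144 [.bwd 0, .fwd 285, .fwd 29] [2] (.rel 31)]
def ph1_p1_3 : List Aux := [
  .node 996 6, .derive 1145 [.bwd 0, .fwd 287, .bwd 309, .bwd 287, .fwd 0] [2] (.rel 33), .derive 1145 [.bwd 1, .bwd 289, .fwd 287] [4] (.rel 47), .node 996 7, .derive 1146 [.bwd 0, .fwd 290, .fwd 33] [2] (.rel 35), .derive 1146 [.bwd 1, .bwd 292, .fwd 288] [4] (.rel 49), .node 997 7, .derive 1147 [.bwd 0, .fwd 291, .fwd 287] [3] (.rel 43),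
  .node 998 6, .derive 1148 [.bwd 0, .fwd 290, .fwd 287] [3] (.rel 41), .node 999 6, .node 1001 5, .derive 1150 [.bwd 0, .bwd 289, .fwd 525, .fwd 322, .fwd 42] [4] (.rel 45), .node 1001 7, .node 1002 6, .node 1004 3,
  .derive 1153 [.bwd 0, .bwd 290, .fwd 288] [0] (.rel 5), .derive 1153 [.bwd 1, .fwd 290, .fwd 25] [5] (.rel 38), .node 1005 4, .node 1005 6, .derive 1155 [.bwd 0, .bwd 292, .fwd 290] [3] (.rel 41), .derive 1155 [.bwd 1, .fwd 292, .fwd 23] [5] (.rel 51), .node 1007 5, .derive 1156 [.bwd 0, .fwd 290, .fwd 11] [2] (.rel 31),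
  .node 1007 6, .derive 1157 [.bwd 0, .bwd 293, .fwd 291] [4] (.rel 47), .node 1007 7, .derive 1158 [.bwd 0, .fwd 294, .fwd 13] [2] (.rel 35), .derive 1158 [.bwd 1, .bwd 296, .fwd 291] [4] (.rel 49), .node 1008 7, .derive 1159 [.bwd 0, .fwd 295, .fwd 290] [3] (.rel 43), .derive 1159 [.bwd 1, .fwd 295, .fwd 24] [5] (.rel 53),
  .node 1009 6, .derive 1160 [.bwd 0, .fwd 294, .fwd 291] [3] (.rel 41), .node 1010 6, .node 1012 5, .node 1012 7, .derive 1163 [.bwd 0, .bwd 294, .fwd 293] [4] (.rel 49), .node 1013 6, .derive 1164 [.bwd 0, .fwd 294, .fwd 293] [3] (.rel 41),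
  .node 1015 5, .derive 1165 [.bwd 0, .bwd 293, .fwd 536, .fwd 298, .fwd 5] [4] (.rel 45), .node 1015 7, .derive 1166 [.bwd 0, .fwd 294, .fwd 29] [3] (.rel 43), .node 1016 6, .derive 1167 [.bwd 0, .fwd 294, .fwd 292] [3] (.rel 41), .derive 1167 [.bwd 1, .fwd 294, .fwd 7] [5] (.rel 51), .node 1018 4,
  .derive 1168 [.bwd 0, .fwd 293, .fwd 103] [2] (.rel 29), .node 1018 7, .derive 1169 [.bwd 0, .fwd 295, .fwd 103] [2] (.rel 35), .derive 1169 [.bwd 1, .bwd 297, .fwd 295] [3] (.rel 43), .node 1019 6, .derive 1170 [.bwd 0, .fwd 296, .fwd 540, .bwd 531, .fwd 283] [2] (.rel 33), .node 1020 4, .node 1020 7,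
  .derive 1172 [.bwd 0, .fwd 297, .fwd 102] [2] (.rel 35), .derive 1172 [.bwd 1, .fwd 297, .fwd 7] [5] (.rel 53), .node 1021 6, .derive 1173 [.bwd 0, .fwd 297, .fwd 6] [5] (.rel 51), .node 1022 5, .derive 1174 [.bwd 0, .fwd 297, .fwd 25] [2] (.rel 31), .node 1022 6, .node 1022 7,
  .derive 1176 [.bwd 0, .fwd 300, .fwd 27] [2] (.rel 35), .derive 1176 [.bwd 1, .bwd 302, .fwd 299] [4] (.rel 49), .node 1023 7, .node 1024 6, .derive 1178 [.bwd 0, .fwd 300, .fwd 298] [3] (.rel 41), .node 1025 6, .derive 1179 [.bwd 0, .bwd 301, .bwd 550, .fwd 549, .fwd 300] [7] (.rel 54), .node 1027 5,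
  .derive 1180 [.bwd 0, .fwd 300, .fwd 31] [2] (.rel 31), .node 1027 6, .node 1027 7, .derive 1182 [.bwd 0, .fwd 303, .fwd 32] [2] (.rel 35), .node 1028 7, .derive 1183 [.bwd 0, .fwd 303, .fwd 10] [5] (.rel 53), .node 1029 6, .derive 1184 [.bwd 0, .fwd 302, .fwd 11] [5] (.rel 51),
  .node 1030 6, .derive 1185 [.bwd 0, .bwd 303, .bwd 555, .fwd 554, .fwd 302] [7] (.rel 54), .node 1032 4, .node 1032 7, .derive 1187 [.bwd 0, .bwd 303, .fwd 302] [3] (.rel 43), .node 1033 6, .derive 1188 [.bwd 0, .fwd 303, .fwd 552, .bwd 534, .fwd 286] [2] (.rel 33), .node 1034 4,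
  .derive 1189 [.bwd 0, .bwd 304, .fwd 552, .fwd 330, .fwd 33] [3] (.rel 37), .node 1034 7, .derive 1190 [.bwd 0, .bwd 306, .fwd 305] [3] (.rel 43), .node 1035 6, .derive 1191 [.bwd 0, .fwd 306, .fwd 553, .bwd 534, .fwd 283] [2] (.rel 33), .node 1036 4, .node 1036 6, .derive 1193 [.bwd 0, .fwd 306, .fwd 305] [1] (.rel 23),
  .node 1037 7, .derive 1194 [.bwd 0, .fwd 306, .fwd 305] [3] (.rel 43), .node 1039 4, .derive 1195 [.bwd 0, .bwd 305, .fwd 552, .fwd 371, .fwd 80] [3] (.rel 37)]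
def ph1_p1_4 : List Aux := [
  .node 1039 6, .node 1040 5, .node 1040 6, .derive 1198 [.bwd 0, .bwd 308, .fwd 307] [4] (.rel 47), .node 1040 7, .derive 1199 [.bwd 0, .bwd 310, .fwd 307] [4] (.rel 49), .node 1041 7, .node 1042 6,
  .derive 1201 [.bwd 0, .fwd 309, .fwd 308] [3] (.rel 41), .node 1044 5, .derive 1202 [.bwd 0, .fwd 308, .fwd 8] [2] (.rel 31), .derive 1202 [.bwd 1, .fwd 308, .fwd 39] [3] (.rel 39), .node 1044 6, .derive 1203 [.bwd 0, .bwd 312, .fwd 309] [4] (.rel 47), .node 1044 7, .derive 1204 [.bwd 0, .bwd 314, .fwd 309] [4] (.rel 49),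
  .node 1045 7, .node 1046 6, .derive 1206 [.bwd 0, .fwd 311, .fwd 309] [3] (.rel 41), .node 1047 6, .derive 1207 [.bwd 0, .bwd 312, .bwd 565, .fwd 563, .fwd 311] [7] (.rel 54), .node 1049 4, .derive 1208 [.bwd 0, .fwd 311, .fwd 196] [6] (.rel 46), .node 1049 7,
  .derive 1209 [.bwd 0, .bwd 314, .fwd 312] [3] (.rel 43), .node 1050 6, .derive 1210 [.bwd 0, .fwd 313, .bwd 554, .bwd 405, .fwd 115] [2] (.rel 33), .node 1051 4, .derive 1211 [.bwd 0, .fwd 312, .fwd 190] [6] (.rel 46), .node 1051 7, .derive 1212 [.bwd 0, .bwd 316, .fwd 313] [3] (.rel 43), .derive 1212 [.bwd 1, .fwd 316, .fwd 7] [5] (.rel 53),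
  .node 1052 6, .derive 1213 [.bwd 0, .fwd 315, .bwd 559, .bwd 392, .fwd 98] [2] (.rel 33), .node 1054 4, .derive 1214 [.bwd 0, .fwd 313, .fwd 279] [2] (.rel 29), .derive 1214 [.bwd 1, .fwd 313, .fwd 53] [6] (.rel 46), .node 1054 7, .derive 1215 [.bwd 0, .fwd 316, .fwd 281] [2] (.rel 35), .node 1055 1,
  .derive 1216 [.bwd 0, .bwd 316, .bwd 560, .fwd 316, .fwd 0] [2] (.rel 14), .derive 1216 [.bwd 1, .bwd 316, .fwd 1] [4] (.rel 18), .derive 1216 [.bwd 2, .fwd 316, .bwd 239] [6] (.rel 22), .derive 1216 [.bwd 3, .bwd 316, .fwd 3] [7] (.rel 24), .node 1055 3, .derive 1217 [.bwd 0, .bwd 321, .bwd 564, .fwd 321, .fwd 0] [2] (.rel 27), .node 1057 7, .node 1058 6,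
  .derive 1219 [.bwd 0, .bwd 315, .fwd 554, .fwd 392, .fwd 95] [7] (.rel 54), .node 1059 4, .derive 1220 [.bwd 0, .fwd 314, .fwd 95] [6] (.rel 46), .node 1059 7, .derive 1221 [.bwd 0, .fwd 317, .fwd 5] [5] (.rel 53), .node 1060 6, .derive 1222 [.bwd 0, .bwd 317, .fwd 557, .fwd 393, .fwd 95] [7] (.rel 54), .node 1061 4,
  .derive 1223 [.bwd 0, .fwd 317, .fwd 68] [6] (.rel 46), .node 1061 7, .node 1062 6, .derive 1225 [.bwd 0, .bwd 319, .fwd 560, .fwd 374, .fwd 67] [7] (.rel 54), .node 1063 1, .derive 1226 [.bwd 0, .fwd 319, .fwd 318] [7] (.rel 24), .node 1063 3, .derive 1227 [.bwd 0, .bwd 322, .fwd 562, .bwd 370, .bwd 65] [2] (.rel 27),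
  .node 1064 3, .node 1065 3, .node 1066 4, .derive 1230 [.bwd 0, .fwd 320, .bwd 63] [2] (.rel 29), .node 1066 7, .derive 1231 [.bwd 0, .fwd 322, .fwd 62] [2] (.rel 35), .node 1067 4, .derive 1232 [.bwd 0, .fwd 322, .fwd 15] [2] (.rel 29),
  .derive 1232 [.bwd 1, .fwd 322, .fwd 316] [6] (.rel 46), .node 1067 7, .derive 1233 [.bwd 0, .fwd 325, .fwd 16] [2] (.rel 35), .node 1068 3, .derive 1234 [.bwd 0, .bwd 325, .fwd 323] [1] (.rel 17), .derive 1234 [.bwd 1, .fwd 325, .fwd 11] [6] (.rel 40), .node 1069 4, .derive 1235 [.bwd 0, .fwd 325, .bwd 65] [2] (.rel 29),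
  .derive 1235 [.bwd 1, .fwd 325, .fwd 13] [6] (.rel 46), .node 1069 7, .derive 1236 [.bwd 0, .fwd 328, .fwd 65] [2] (.rel 35), .node 1070 5, .node 1070 7, .node 1071 6, .node 1072 4, .derive 1240 [.bwd 0, .fwd 328, .fwd 93] [2] (.rel 29),
  .node 1072 6, .derive 1241 [.bwd 0, .bwd 331, .fwd 329] [3] (.rel 41), .node 1074 4, .derive 1242 [.bwd 0, .fwd 329, .fwd 92] [2] (.rel 29), .node 1074 6, .derive 1243 [.bwd 0, .bwd 332, .fwd 330] [3] (.rel 41), .node 1076 5, .node 1076 6,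
  .derive 1245 [.bwd 0, .bwd 331, .fwd 330] [4] (.rel 47), .node 1077 2, .node 1078 5, .derive 1247 [.bwd 0, .fwd 330, .fwd 4] [2] (.rel 31)]
def ph1_p1 : List Aux :=
  ((ph1_p1_0 ++ ph1_p1_1) ++ (ph1_p1_2 ++ (ph1_p1_3 ++ ph1_p1_4)))

theorem ph1_p1_ok : stHas (runList (auxStep' P) ph1_p1 (mkSt 991 mask2 ph1_eq1)) 1248 mask2 ph1_eq2 = true := by decide +kernel

def ph1_p2_0 : List Aux := [
  .node 1078 6, .derive 1248 [.bwd 0, .bwd 333, .fwd 331] [4] (.rel 47), .node 1079 2, .derive 1249 [.bwd 0, .fwd 332, .bwd 586, .bwd 332, .fwd 0] [3] (.rel 26), .derive 1249 [.bwd 1, .bwd 334, .fwd 589, .fwd 338, .fwd 6] [6] (.rel 32), .node 1080 4, .derive 1250 [.bwd 0, .fwd 333, .fwd 296] [1] (.rel 19), .node 1080 7,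
  .node 1081 6, .node 1082 7, .derive 1253 [.bwd 0, .bwd 334, .fwd 0] [0] (.rel 13), .derive 1253 [.bwd 1, .fwd 334, .fwd 3] [5] (.rel 53), .node 1083 6, .node 1084 4, .derive 1255 [.bwd 0, .bwd 334, .fwd 589, .fwd 342, .fwd 8] [3] (.rel 37), .node 1084 7,
  .node 1085 6, .derive 1257 [.bwd 0, .fwd 335, .fwd 8] [4] (.rel 47), .node 1086 7, .derive 1258 [.bwd 0, .bwd 336, .fwd 335] [3] (.rel 43), .node 1087 6, .derive 1259 [.bwd 0, .fwd 336, .fwd 8] [4] (.rel 47), .node 1088 4, .node 1088 7,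
  .derive 1261 [.bwd 0, .fwd 337, .fwd 290] [1] (.rel 25), .derive 1261 [.bwd 1, .fwd 337, .fwd 9] [5] (.rel 53), .node 1089 6, .derive 1262 [.bwd 0, .bwd 337, .fwd 0] [0] (.rel 11), .node 1090 4, .derive 1263 [.bwd 0, .bwd 338, .fwd 596, .fwd 343, .fwd 6] [3] (.rel 37), .node 1090 7, .derive 1264 [.bwd 0, .bwd 340, .fwd 338] [3] (.rel 43),
  .derive 1264 [.bwd 1, .fwd 340, .fwd 13] [5] (.rel 53), .node 1091 6, .derive 1265 [.bwd 0, .fwd 340, .fwd 13] [5] (.rel 51), .node 1092 0, .derive 1266 [.bwd 0, .bwd 341, .fwd 600, .fwd 598, .fwd 338] [1] (.rel 0), .derive 1266 [.bwd 1, .fwd 341, .fwd 255] [2] (.rel 2), .derive 1266 [.bwd 2, .bwd 341, .fwd 2] [6] (.rel 10), .node 1093 3,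
  .derive 1267 [.bwd 0, .bwd 342, .fwd 340] [0] (.rel 5), .node 1093 7, .derive 1268 [.bwd 0, .bwd 344, .fwd 340] [0] (.rel 13), .node 1094 4, .derive 1269 [.bwd 0, .bwd 343, .fwd 0] [2] (.rel 29), .derive 1269 [.bwd 1, .bwd 345, .bwd 605, .fwd 345, .fwd 1] [3] (.rel 37), .node 1094 7, .derive 1270 [.bwd 0, .bwd 346, .fwd 0] [2] (.rel 35),
  .derive 1270 [.bwd 1, .bwd 348, .fwd 346] [3] (.rel 43), .node 1096 5, .node 1096 6, .derive 1272 [.bwd 0, .bwd 347, .fwd 346] [4] (.rel 47), .node 1097 2, .node 1098 5, .derive 1274 [.bwd 0, .bwd 348, .fwd 607, .fwd 350, .fwd 4] [4] (.rel 45), .node 1098 6,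
  .derive 1275 [.bwd 0, .bwd 350, .fwd 349] [4] (.rel 47), .node 1099 2, .derive 1276 [.bwd 0, .fwd 349, .fwd 5] [5] (.rel 30), .node 1100 5, .node 1100 7, .derive 1278 [.bwd 0, .bwd 351, .fwd 350] [4] (.rel 49), .node 1101 6, .derive 1279 [.bwd 0, .fwd 351, .fwd 350] [3] (.rel 41),
  .node 1103 5, .node 1103 7, .derive 1281 [.bwd 0, .bwd 351, .fwd 350] [4] (.rel 49), .node 1104 6, .node 1106 5, .derive 1283 [.bwd 0, .bwd 350, .fwd 613, .fwd 359, .fwd 9] [4] (.rel 45), .node 1106 7, .derive 1284 [.bwd 0, .bwd 352, .fwd 351] [4] (.rel 49),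
  .node 1107 6, .derive 1285 [.bwd 0, .fwd 352, .fwd 350] [3] (.rel 41), .derive 1285 [.bwd 1, .fwd 352, .fwd 11] [5] (.rel 51), .node 1109 5, .derive 1286 [.bwd 0, .fwd 349, .fwd 11] [2] (.rel 31), .node 1109 7, .derive 1287 [.bwd 0, .fwd 351, .fwd 12] [2] (.rel 35), .derive 1287 [.bwd 1, .bwd 353, .fwd 351] [4] (.rel 49),
  .node 1110 6, .derive 1288 [.bwd 0, .fwd 351, .fwd 350] [3] (.rel 41), .node 1112 5, .derive 1289 [.bwd 0, .bwd 350, .fwd 618, .fwd 368, .fwd 18] [4] (.rel 45), .node 1112 7, .node 1113 6, .derive 1291 [.bwd 0, .fwd 351, .fwd 18] [5] (.rel 51), .node 1115 5,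
  .derive 1292 [.bwd 0, .fwd 349, .fwd 5] [2] (.rel 31), .node 1115 7, .derive 1293 [.bwd 0, .fwd 351, .fwd 5] [2] (.rel 35), .derive 1293 [.bwd 1, .bwd 353, .fwd 351] [4] (.rel 49), .node 1116 6, .derive 1294 [.bwd 0, .fwd 351, .fwd 350] [3] (.rel 41), .node 1118 5, .derive 1295 [.bwd 0, .fwd 349, .fwd 26] [3] (.rel 39),
  .node 1118 7, .derive 1296 [.bwd 0, .bwd 352, .fwd 350] [4] (.rel 49), .node 1119 6, .derive 1297 [.bwd 0, .fwd 351, .fwd 350] [3] (.rel 41)]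
def ph1_p2_1 : List Aux := [
  .node 1121 5, .derive 1298 [.bwd 0, .bwd 349, .fwd 624, .fwd 356, .fwd 6] [4] (.rel 45), .node 1121 7, .derive 1299 [.bwd 0, .fwd 350, .fwd 18] [3] (.rel 43), .node 1122 6, .derive 1300 [.bwd 0, .fwd 350, .fwd 349] [3] (.rel 41), .node 1124 7, .derive 1301 [.bwd 0, .bwd 349, .fwd 348] [5] (.rel 53),
  .node 1125 6, .derive 1302 [.bwd 0, .fwd 349, .fwd 348] [4] (.rel 47), .node 1126 2, .node 1127 2, .node 1128 5, .node 1128 7, .derive 1306 [.bwd 0, .bwd 348, .fwd 346] [4] (.rel 49), .node 1130 7,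
  .derive 1307 [.bwd 0, .bwd 346, .fwd 345] [5] (.rel 53), .node 1131 6, .derive 1308 [.bwd 0, .fwd 346, .fwd 9] [3] (.rel 41), .derive 1308 [.bwd 1, .fwd 346, .fwd 345] [4] (.rel 47), .node 1132 2, .node 1133 7, .derive 1310 [.bwd 0, .fwd 346, .fwd 15] [4] (.rel 49), .derive 1310 [.bwd 1, .bwd 348, .fwd 346] [5] (.rel 53),
  .node 1134 6, .derive 1311 [.bwd 0, .fwd 347, .fwd 346] [4] (.rel 47), .node 1135 2, .derive 1312 [.bwd 0, .fwd 346, .fwd 16] [5] (.rel 30), .node 1136 3, .derive 1313 [.bwd 0, .bwd 347, .fwd 346] [0] (.rel 5), .node 1137 2, .derive 1314 [.bwd 0, .fwd 347, .fwd 627, .bwd 367, .fwd 19] [1] (.rel 15),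
  .node 1137 4, .derive 1315 [.bwd 0, .fwd 349, .fwd 348] [1] (.rel 19), .node 1138 5, .derive 1316 [.bwd 0, .fwd 349, .fwd 336] [0] (.rel 9), .derive 1316 [.bwd 1, .fwd 349, .fwd 23] [2] (.rel 31), .node 1138 6, .derive 1317 [.bwd 0, .fwd 352, .fwd 337] [0] (.rel 11), .derive 1317 [.bwd 1, .fwd 352, .bwd 372, .bwd 352, .fwd 1] [2] (.rel 33),
  .derive 1317 [.bwd 2, .bwd 355, .fwd 352] [4] (.rel 47), .node 1138 7, .derive 1318 [.bwd 0, .fwd 355, .fwd 28] [2] (.rel 35), .node 1139 7, .derive 1319 [.bwd 0, .fwd 355, .fwd 354] [3] (.rel 43), .node 1141 4, .derive 1320 [.bwd 0, .fwd 353, .fwd 351] [0] (.rel 7), .derive 1320 [.bwd 1, .bwd 355, .bwd 638, .fwd 355, .fwd 1] [3] (.rel 37),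
  .node 1141 6, .node 1141 7, .node 1142 5, .node 1142 6, .derive 1324 [.bwd 0, .fwd 356, .fwd 351] [1] (.rel 23), .derive 1324 [.bwd 1, .bwd 358, .fwd 355] [4] (.rel 47), .node 1143 2, .node 1144 6,
  .derive 1326 [.bwd 0, .bwd 357, .fwd 355] [5] (.rel 51), .node 1144 7, .derive 1327 [.bwd 0, .fwd 358, .fwd 42] [2] (.rel 35), .derive 1327 [.bwd 1, .bwd 360, .fwd 355] [5] (.rel 53), .node 1145 7, .derive 1328 [.bwd 0, .fwd 358, .fwd 354] [4] (.rel 49), .node 1146 6, .derive 1329 [.bwd 0, .fwd 357, .fwd 354] [4] (.rel 47),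
  .node 1147 6, .derive 1330 [.bwd 0, .fwd 357, .fwd 354] [3] (.rel 41), .derive 1330 [.bwd 1, .bwd 359, .bwd 651, .fwd 649, .fwd 357] [7] (.rel 54), .node 1148 2, .derive 1331 [.bwd 0, .bwd 359, .fwd 650, .fwd 394, .fwd 47] [6] (.rel 32), .node 1150 7, .derive 1332 [.bwd 0, .fwd 357, .fwd 54] [4] (.rel 49), .derive 1332 [.bwd 1, .bwd 359, .fwd 357] [5] (.rel 53),
  .node 1151 6, .node 1152 2, .node 1153 4, .derive 1335 [.bwd 0, .fwd 358, .fwd 356] [0] (.rel 7), .node 1153 6, .derive 1336 [.bwd 0, .fwd 359, .fwd 28] [5] (.rel 51), .node 1153 7, .derive 1337 [.bwd 0, .fwd 361, .fwd 29] [5] (.rel 53),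
  .node 1154 5, .derive 1338 [.bwd 0, .bwd 362, .fwd 652, .fwd 386, .fwd 30] [4] (.rel 45), .node 1154 6, .derive 1339 [.bwd 0, .bwd 364, .fwd 363] [4] (.rel 47), .node 1155 2, .derive 1340 [.bwd 0, .fwd 364, .fwd 654, .bwd 477, .fwd 127] [3] (.rel 26), .derive 1340 [.bwd 1, .fwd 364, .fwd 31] [5] (.rel 30), .node 1156 6,
  .derive 1341 [.bwd 0, .bwd 365, .fwd 363] [5] (.rel 51), .node 1156 7, .derive 1342 [.bwd 0, .fwd 366, .fwd 20] [2] (.rel 35), .derive 1342 [.bwd 1, .bwd 368, .fwd 364] [5] (.rel 53), .node 1157 7, .derive 1343 [.bwd 0, .fwd 367, .fwd 363] [4] (.rel 49), .node 1158 6, .derive 1344 [.bwd 0, .fwd 366, .fwd 362] [4] (.rel 47),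
  .node 1159 6, .derive 1345 [.bwd 0, .fwd 366, .fwd 362] [3] (.rel 41), .derive 1345 [.bwd 1, .fwd 366, .fwd 33] [5] (.rel 51), .derive 1345 [.bwd 2, .bwd 369, .bwd 665, .fwd 662, .fwd 366] [7] (.rel 54)]
def ph1_p2_2 : List Aux := [
  .node 1160 2, .derive 1346 [.bwd 0, .bwd 368, .fwd 663, .fwd 386, .fwd 27] [6] (.rel 32), .node 1162 7, .derive 1347 [.bwd 0, .bwd 367, .fwd 366] [5] (.rel 53), .node 1163 6, .derive 1348 [.bwd 0, .fwd 367, .fwd 366] [4] (.rel 47), .node 1164 2, .node 1165 7,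
  .derive 1350 [.bwd 0, .fwd 366, .fwd 5] [4] (.rel 49), .derive 1350 [.bwd 1, .bwd 368, .fwd 366] [5] (.rel 53), .node 1166 6, .derive 1351 [.bwd 0, .fwd 367, .fwd 38] [3] (.rel 41), .node 1167 2, .node 1168 7, .derive 1353 [.bwd 0, .fwd 365, .fwd 117] [2] (.rel 35), .derive 1353 [.bwd 1, .bwd 367, .fwd 365] [4] (.rel 49),
  .node 1169 6, .derive 1354 [.bwd 0, .fwd 365, .fwd 364] [3] (.rel 41), .node 1171 5, .node 1171 7, .derive 1356 [.bwd 0, .bwd 365, .fwd 364] [4] (.rel 49), .node 1172 6, .derive 1357 [.bwd 0, .fwd 364, .fwd 5] [5] (.rel 51), .node 1174 6,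
  .node 1174 7, .derive 1359 [.bwd 0, .fwd 363, .fwd 22] [2] (.rel 35), .node 1175 7, .node 1176 6, .derive 1361 [.bwd 0, .fwd 362, .fwd 360] [4] (.rel 47), .node 1177 6, .derive 1362 [.bwd 0, .bwd 363, .bwd 665, .fwd 664, .fwd 362] [7] (.rel 54), .node 1178 2,
  .derive 1363 [.bwd 0, .bwd 364, .fwd 665, .fwd 393, .fwd 25] [6] (.rel 32), .node 1180 6, .derive 1364 [.bwd 0, .bwd 362, .fwd 360] [5] (.rel 51), .node 1180 7, .derive 1365 [.bwd 0, .fwd 363, .fwd 28] [2] (.rel 35), .derive 1365 [.bwd 1, .bwd 365, .fwd 362] [5] (.rel 53), .node 1181 7, .node 1182 6,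
  .node 1183 6, .derive 1368 [.bwd 0, .fwd 363, .fwd 11] [5] (.rel 51), .derive 1368 [.bwd 1, .bwd 365, .bwd 669, .fwd 667, .fwd 363] [7] (.rel 54), .node 1184 2, .derive 1369 [.bwd 0, .bwd 365, .fwd 668, .fwd 399, .fwd 31] [6] (.rel 32), .node 1186 5, .node 1186 7, .derive 1371 [.bwd 0, .bwd 364, .fwd 363] [4] (.rel 49),
  .node 1187 6, .derive 1372 [.bwd 0, .fwd 364, .fwd 363] [3] (.rel 41), .node 1189 5, .derive 1373 [.bwd 0, .fwd 362, .fwd 32] [3] (.rel 39), .node 1189 7, .derive 1374 [.bwd 0, .bwd 365, .fwd 363] [4] (.rel 49), .node 1190 6, .derive 1375 [.bwd 0, .fwd 364, .fwd 363] [3] (.rel 41),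
  .node 1192 5, .node 1192 6, .derive 1377 [.bwd 0, .bwd 364, .fwd 363] [4] (.rel 47), .node 1193 2, .node 1193 7, .derive 1379 [.bwd 0, .fwd 365, .fwd 364] [1] (.rel 25), .node 1195 5, .node 1195 6,
  .derive 1381 [.bwd 0, .fwd 364, .fwd 81] [3] (.rel 41), .node 1196 2, .node 1197 6, .derive 1383 [.bwd 0, .bwd 365, .fwd 364] [5] (.rel 51), .node 1197 7, .derive 1384 [.bwd 0, .bwd 367, .fwd 364] [5] (.rel 53), .node 1198 7, .node 1199 6,
  .derive 1386 [.bwd 0, .fwd 366, .fwd 364] [4] (.rel 47), .node 1200 6, .derive 1387 [.bwd 0, .bwd 367, .bwd 678, .fwd 676, .fwd 366] [7] (.rel 54), .node 1201 2, .node 1202 6, .derive 1389 [.bwd 0, .bwd 367, .fwd 364] [5] (.rel 51), .node 1202 7, .derive 1390 [.bwd 0, .fwd 368, .fwd 10] [2] (.rel 35),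
  .derive 1390 [.bwd 1, .fwd 368, .fwd 44] [3] (.rel 43), .derive 1390 [.bwd 2, .bwd 371, .fwd 366] [5] (.rel 53), .node 1203 7, .node 1204 6, .node 1205 6, .derive 1393 [.bwd 0, .bwd 368, .bwd 681, .fwd 679, .fwd 367] [7] (.rel 54), .node 1206 2, .node 1208 5,
  .derive 1395 [.bwd 0, .fwd 365, .fwd 212] [6] (.rel 50), .node 1208 7, .derive 1396 [.bwd 0, .bwd 368, .fwd 366] [4] (.rel 49), .node 1209 6, .derive 1397 [.bwd 0, .fwd 367, .fwd 366] [3] (.rel 41), .derive 1397 [.bwd 1, .bwd 369, .fwd 682, .fwd 565, .fwd 212] [7] (.rel 54), .node 1211 5, .derive 1398 [.bwd 0, .fwd 366, .fwd 207] [6] (.rel 50),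
  .node 1211 7, .derive 1399 [.bwd 0, .bwd 369, .fwd 367] [4] (.rel 49), .node 1212 6, .derive 1400 [.bwd 0, .fwd 368, .fwd 366] [3] (.rel 41)]
def ph1_p2_3 : List Aux := [
  .derive 1400 [.bwd 1, .fwd 368, .fwd 8] [5] (.rel 51), .derive 1400 [.bwd 2, .bwd 371, .fwd 685, .fwd 561, .fwd 208] [7] (.rel 54), .node 1214 5, .derive 1401 [.bwd 0, .fwd 367, .fwd 319] [2] (.rel 31), .derive 1401 [.bwd 1, .fwd 367, .fwd 58] [6] (.rel 50), .node 1214 7, .derive 1402 [.bwd 0, .fwd 370, .fwd 321] [2] (.rel 35), .node 1215 6,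
  .derive 1403 [.bwd 0, .bwd 370, .fwd 685, .fwd 424, .fwd 59] [7] (.rel 54), .node 1216 0, .derive 1404 [.bwd 0, .bwd 369, .fwd 0] [2] (.rel 2), .derive 1404 [.bwd 1, .bwd 369, .fwd 1] [4] (.rel 6), .derive 1404 [.bwd 2, .fwd 369, .bwd 269] [6] (.rel 10), .node 1216 3, .derive 1405 [.bwd 0, .bwd 374, .fwd 369] [1] (.rel 17), .derive 1405 [.bwd 1, .fwd 372, .bwd 266] [6] (.rel 40),
  .derive 1405 [.bwd 2, .bwd 372, .fwd 2] [7] (.rel 42), .node 1218 6, .derive 1406 [.bwd 0, .bwd 371, .fwd 686, .fwd 468, .fwd 101] [7] (.rel 54), .node 1220 5, .derive 1407 [.bwd 0, .fwd 369, .fwd 101] [6] (.rel 50), .node 1220 7, .node 1221 6, .derive 1409 [.bwd 0, .fwd 370, .fwd 5] [5] (.rel 51),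
  .derive 1409 [.bwd 1, .bwd 372, .fwd 688, .fwd 468, .fwd 102] [7] (.rel 54), .node 1223 5, .derive 1410 [.bwd 0, .fwd 369, .fwd 75] [6] (.rel 50), .node 1223 7, .node 1224 6, .derive 1412 [.bwd 0, .bwd 371, .fwd 690, .fwd 439, .fwd 74] [7] (.rel 54), .node 1226 3, .derive 1413 [.bwd 0, .bwd 370, .fwd 368] [1] (.rel 17),
  .derive 1413 [.bwd 1, .fwd 370, .fwd 367] [7] (.rel 42), .node 1228 2, .node 1229 2, .derive 1415 [.bwd 0, .bwd 369, .fwd 690, .fwd 370, .fwd 1] [3] (.rel 26), .node 1229 4, .node 1230 5, .derive 1417 [.bwd 0, .fwd 370, .bwd 70] [2] (.rel 31), .node 1230 7,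
  .derive 1418 [.bwd 0, .fwd 372, .fwd 69] [2] (.rel 35), .node 1231 6, .node 1232 5, .derive 1420 [.bwd 0, .fwd 371, .fwd 17] [2] (.rel 31), .derive 1420 [.bwd 1, .fwd 371, .fwd 360] [6] (.rel 50), .node 1232 7, .derive 1421 [.bwd 0, .fwd 374, .fwd 18] [2] (.rel 35), .node 1233 6,
  .derive 1422 [.bwd 0, .bwd 374, .fwd 698, .fwd 691, .fwd 362] [7] (.rel 54), .node 1234 2, .derive 1423 [.bwd 0, .fwd 373, .fwd 696, .bwd 683, .fwd 352] [1] (.rel 15), .node 1234 4, .derive 1424 [.bwd 0, .fwd 374, .fwd 15] [6] (.rel 46), .node 1235 5, .derive 1425 [.bwd 0, .fwd 374, .bwd 76] [2] (.rel 31), .derive 1425 [.bwd 1, .fwd 374, .fwd 17] [6] (.rel 50),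
  .node 1235 7, .derive 1426 [.bwd 0, .fwd 377, .fwd 74] [2] (.rel 35), .node 1236 6, .derive 1427 [.bwd 0, .bwd 377, .fwd 704, .fwd 390, .fwd 17] [7] (.rel 54), .node 1237 7, .node 1238 6, .node 1239 2, .node 1240 5,
  .derive 1431 [.bwd 0, .fwd 376, .fwd 107] [2] (.rel 31), .node 1240 6, .derive 1432 [.bwd 0, .bwd 379, .fwd 377] [4] (.rel 47), .node 1241 2, .derive 1433 [.bwd 0, .bwd 379, .fwd 709, .fwd 473, .fwd 108] [6] (.rel 32), .node 1242 5, .derive 1434 [.bwd 0, .fwd 378, .fwd 107] [2] (.rel 31), .node 1242 6,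
  .derive 1435 [.bwd 0, .bwd 381, .fwd 379] [4] (.rel 47), .node 1243 2, .derive 1436 [.bwd 0, .fwd 380, .fwd 710, .bwd 384, .fwd 6] [3] (.rel 26), .derive 1436 [.bwd 1, .bwd 382, .fwd 713, .fwd 474, .fwd 109] [6] (.rel 32), .node 1244 6, .derive 1437 [.bwd 0, .bwd 382, .fwd 381] [5] (.rel 51), .node 1245 2, .derive 1438 [.bwd 0, .fwd 382, .fwd 381] [4] (.rel 28),
  .node 1247 6, .derive 1439 [.bwd 0, .bwd 382, .fwd 380] [5] (.rel 51), .node 1248 2, .derive 1440 [.bwd 0, .fwd 381, .fwd 380] [4] (.rel 28), .derive 1440 [.bwd 1, .bwd 383, .fwd 715, .fwd 388, .fwd 5] [6] (.rel 32), .node 1249 1, .derive 1441 [.bwd 0, .bwd 382, .fwd 0] [3] (.rel 16), .derive 1441 [.bwd 1, .fwd 382, .bwd 36] [6] (.rel 22),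
  .node 1250 5, .derive 1442 [.bwd 0, .fwd 382, .fwd 329] [1] (.rel 21), .node 1250 7, .derive 1443 [.bwd 0, .bwd 385, .fwd 383] [4] (.rel 49), .node 1251 6, .node 1253 6, .derive 1445 [.bwd 0, .bwd 383, .fwd 0] [0] (.rel 11), .derive 1445 [.bwd 1, .fwd 383, .fwd 2] [5] (.rel 51),
  .node 1255 5, .node 1255 7, .derive 1447 [.bwd 0, .fwd 383, .fwd 7] [3] (.rel 43), .derive 1447 [.bwd 1, .bwd 385, .fwd 383] [4] (.rel 49)]
def ph1_p2_4 : List Aux := [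
  .node 1256 6, .node 1258 6, .node 1260 5, .derive 1450 [.bwd 0, .bwd 380, .fwd 715, .fwd 389, .fwd 6] [4] (.rel 45), .node 1260 7, .node 1261 6, .derive 1452 [.bwd 0, .fwd 381, .fwd 320] [1] (.rel 23), .derive 1452 [.bwd 1, .fwd 381, .fwd 6] [5] (.rel 51),
  .node 1263 7, .derive 1453 [.bwd 0, .fwd 379, .fwd 4] [3] (.rel 43), .derive 1453 [.bwd 1, .bwd 381, .fwd 379] [4] (.rel 49), .node 1264 6, .derive 1454 [.bwd 0, .fwd 380, .fwd 378] [3] (.rel 41), .derive 1454 [.bwd 1, .fwd 380, .fwd 11] [5] (.rel 51), .node 1266 3, .derive 1455 [.bwd 0, .fwd 378, .fwd 375] [1] (.rel 17),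
  .derive 1455 [.bwd 1, .bwd 377, .fwd 1] [6] (.rel 40), .node 1267 4, .derive 1456 [.bwd 0, .fwd 377, .fwd 374] [0] (.rel 7), .node 1269 7, .derive 1457 [.bwd 0, .bwd 375, .fwd 0] [2] (.rel 35), .derive 1457 [.bwd 1, .bwd 375, .fwd 1] [3] (.rel 43), .derive 1457 [.bwd 2, .bwd 378, .fwd 375] [4] (.rel 49), .node 1271 6,
  .derive 1458 [.bwd 0, .bwd 374, .fwd 373] [5] (.rel 51), .node 1272 2, .derive 1459 [.bwd 0, .fwd 374, .fwd 373] [4] (.rel 28), .node 1273 7, .node 1274 6, .derive 1461 [.bwd 0, .fwd 374, .fwd 5] [4] (.rel 47), .derive 1461 [.bwd 1, .bwd 376, .fwd 374] [5] (.rel 51), .node 1275 2,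
  .derive 1462 [.bwd 0, .fwd 375, .fwd 374] [4] (.rel 28), .node 1276 7, .node 1277 7, .derive 1464 [.bwd 0, .bwd 375, .fwd 374] [5] (.rel 53), .node 1278 6, .derive 1465 [.bwd 0, .fwd 375, .fwd 374] [4] (.rel 47), .node 1279 2, .derive 1466 [.bwd 0, .fwd 375, .fwd 725, .bwd 677, .fwd 328] [3] (.rel 26),
  .node 1280 7, .derive 1467 [.bwd 0, .bwd 376, .fwd 375] [5] (.rel 53), .node 1281 6, .derive 1468 [.bwd 0, .fwd 376, .fwd 375] [4] (.rel 47), .node 1282 2, .node 1283 7, .derive 1470 [.bwd 0, .fwd 376, .fwd 11] [4] (.rel 49), .derive 1470 [.bwd 1, .bwd 378, .fwd 376] [5] (.rel 53),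
  .node 1284 6, .derive 1471 [.bwd 0, .fwd 377, .fwd 376] [4] (.rel 47), .node 1285 2, .derive 1472 [.bwd 0, .fwd 377, .fwd 727, .bwd 671, .fwd 324] [3] (.rel 26), .derive 1472 [.bwd 1, .fwd 377, .fwd 13] [5] (.rel 30), .node 1286 7, .derive 1473 [.bwd 0, .fwd 377, .fwd 13] [2] (.rel 35), .derive 1473 [.bwd 1, .bwd 379, .fwd 377] [5] (.rel 53),
  .node 1287 6, .derive 1474 [.bwd 0, .fwd 377, .fwd 376] [4] (.rel 47), .node 1288 2, .derive 1475 [.bwd 0, .fwd 377, .fwd 727, .bwd 649, .fwd 291] [3] (.rel 26), .derive 1475 [.bwd 1, .bwd 379, .fwd 731, .fwd 392, .fwd 15] [6] (.rel 32), .node 1289 7, .derive 1476 [.bwd 0, .fwd 378, .fwd 21] [4] (.rel 49), .node 1290 6,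
  .node 1291 2, .derive 1478 [.bwd 0, .fwd 378, .fwd 20] [5] (.rel 30), .node 1292 7, .derive 1479 [.bwd 0, .fwd 378, .fwd 5] [2] (.rel 35), .derive 1479 [.bwd 1, .bwd 380, .fwd 378] [5] (.rel 53), .node 1293 6, .derive 1480 [.bwd 0, .fwd 378, .fwd 377] [4] (.rel 47), .node 1294 2,
  .derive 1481 [.bwd 0, .fwd 378, .fwd 728, .bwd 638, .fwd 271] [3] (.rel 26), .derive 1481 [.bwd 1, .bwd 380, .fwd 732, .fwd 387, .fwd 8] [6] (.rel 32), .node 1295 7, .derive 1482 [.bwd 0, .fwd 379, .fwd 29] [3] (.rel 43), .derive 1482 [.bwd 1, .bwd 381, .fwd 379] [5] (.rel 53), .node 1296 6, .derive 1483 [.bwd 0, .fwd 380, .fwd 379] [4] (.rel 47), .node 1297 2,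
  .derive 1484 [.bwd 0, .fwd 380, .fwd 730, .bwd 640, .fwd 273] [3] (.rel 26), .node 1298 7, .derive 1485 [.bwd 0, .fwd 380, .fwd 7] [4] (.rel 49), .node 1299 6, .derive 1486 [.bwd 0, .fwd 380, .fwd 20] [3] (.rel 41), .node 1300 2, .derive 1487 [.bwd 0, .fwd 380, .fwd 729, .bwd 640, .fwd 273] [3] (.rel 26), .node 1301 6,
  .derive 1488 [.bwd 0, .fwd 380, .fwd 379] [5] (.rel 51), .node 1302 2, .derive 1489 [.bwd 0, .fwd 380, .fwd 379] [4] (.rel 28), .node 1303 1, .node 1304 6, .derive 1491 [.bwd 0, .bwd 381, .bwd 728, .fwd 381, .fwd 0] [2] (.rel 33), .node 1305 7, .derive 1492 [.bwd 0, .bwd 382, .fwd 381] [5] (.rel 53),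
  .node 1306 6, .node 1307 6, .derive 1494 [.bwd 0, .fwd 381, .fwd 380] [5] (.rel 51), .node 1308 2]
def ph1_p2 : List Aux :=
  ((ph1_p2_0 ++ ph1_p2_1) ++ (ph1_p2_2 ++ (ph1_p2_3 ++ ph1_p2_4)))

theorem ph1_p2_ok : stHas (runList (auxStep' P) ph1_p2 (mkSt 1248 mask2 ph1_eq2)) 1496 mask2 ph1_eq3 = true := by decide +kernel

def ph1_p3_0 : List Aux := [
  .derive 1495 [.bwd 0, .fwd 380, .fwd 379] [4] (.rel 28), .node 1309 1, .node 1310 6, .derive 1497 [.bwd 0, .fwd 380, .fwd 15] [4] (.rel 47), .derive 1497 [.bwd 1, .fwd 380, .fwd 379] [5] (.rel 51), .node 1311 2, .derive 1498 [.bwd 0, .fwd 380, .fwd 379] [4] (.rel 28), .node 1312 1,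
  .derive 1499 [.bwd 0, .fwd 380, .fwd 16] [5] (.rel 20), .node 1313 2, .derive 1500 [.bwd 0, .fwd 380, .fwd 379] [0] (.rel 3), .node 1314 4, .node 1314 6, .derive 1502 [.bwd 0, .fwd 381, .fwd 20] [1] (.rel 23), .node 1314 7, .node 1315 6,
  .derive 1504 [.bwd 0, .fwd 382, .fwd 378] [1] (.rel 23), .node 1315 7, .derive 1505 [.bwd 0, .fwd 384, .fwd 376] [1] (.rel 25), .node 1316 7, .derive 1506 [.bwd 0, .fwd 384, .fwd 362] [0] (.rel 13), .derive 1506 [.bwd 1, .fwd 384, .fwd 26] [2] (.rel 35), .node 1317 7, .derive 1507 [.bwd 0, .fwd 384, .fwd 362] [0] (.rel 13),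
  .derive 1507 [.bwd 1, .bwd 384, .fwd 1] [2] (.rel 35), .derive 1507 [.bwd 2, .fwd 384, .fwd 381] [4] (.rel 49), .node 1318 6, .node 1320 5, .node 1320 6, .derive 1510 [.bwd 0, .fwd 382, .fwd 377] [0] (.rel 11), .derive 1510 [.bwd 1, .bwd 382, .fwd 1] [3] (.rel 41), .derive 1510 [.bwd 2, .bwd 385, .fwd 382] [4] (.rel 47),
  .node 1321 2, .derive 1511 [.bwd 0, .bwd 384, .bwd 739, .fwd 384, .fwd 0] [6] (.rel 32), .node 1321 7, .node 1322 6, .node 1323 6, .derive 1514 [.bwd 0, .bwd 386, .fwd 385] [5] (.rel 51), .node 1324 2, .derive 1515 [.bwd 0, .fwd 386, .bwd 737, .bwd 386, .fwd 0] [1] (.rel 15),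
  .derive 1515 [.bwd 1, .fwd 386, .fwd 385] [4] (.rel 28), .node 1324 7, .node 1325 7, .node 1326 7, .derive 1518 [.bwd 0, .fwd 387, .fwd 383] [5] (.rel 53), .node 1327 6, .derive 1519 [.bwd 0, .fwd 386, .fwd 383] [5] (.rel 51), .node 1328 6,
  .derive 1520 [.bwd 0, .fwd 386, .fwd 383] [4] (.rel 47), .derive 1520 [.bwd 1, .bwd 388, .bwd 748, .fwd 745, .fwd 386] [7] (.rel 54), .node 1329 2, .derive 1521 [.bwd 0, .fwd 387, .fwd 383] [4] (.rel 28), .derive 1521 [.bwd 1, .bwd 389, .fwd 747, .fwd 434, .fwd 52] [6] (.rel 32), .node 1330 2, .derive 1522 [.bwd 0, .fwd 387, .fwd 386] [7] (.rel 34), .node 1331 1,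
  .derive 1523 [.bwd 0, .fwd 387, .fwd 54] [6] (.rel 22), .node 1332 6, .derive 1524 [.bwd 0, .fwd 387, .fwd 60] [4] (.rel 47), .derive 1524 [.bwd 1, .fwd 387, .fwd 386] [5] (.rel 51), .node 1333 2, .node 1334 1, .node 1335 5, .derive 1527 [.bwd 0, .bwd 388, .fwd 745, .fwd 417, .fwd 35] [4] (.rel 45),
  .node 1335 6, .derive 1528 [.bwd 0, .fwd 389, .fwd 382] [0] (.rel 11), .node 1336 2, .derive 1529 [.bwd 0, .fwd 389, .fwd 34] [5] (.rel 30), .node 1336 7, .node 1337 6, .derive 1531 [.bwd 0, .fwd 390, .fwd 34] [5] (.rel 51), .node 1338 6,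
  .derive 1532 [.bwd 0, .fwd 390, .fwd 35] [4] (.rel 47), .derive 1532 [.bwd 1, .bwd 392, .fwd 390] [5] (.rel 51), .node 1339 2, .derive 1533 [.bwd 0, .fwd 391, .fwd 390] [4] (.rel 28), .node 1340 7, .derive 1534 [.bwd 0, .fwd 391, .fwd 143] [3] (.rel 43), .node 1341 7, .derive 1535 [.bwd 0, .fwd 390, .fwd 386] [5] (.rel 53),
  .node 1342 6, .derive 1536 [.bwd 0, .fwd 389, .fwd 386] [5] (.rel 51), .node 1343 6, .derive 1537 [.bwd 0, .fwd 389, .fwd 386] [4] (.rel 47), .derive 1537 [.bwd 1, .bwd 391, .bwd 759, .fwd 757, .fwd 389] [7] (.rel 54), .node 1344 2, .derive 1538 [.bwd 0, .fwd 390, .fwd 385] [4] (.rel 28), .derive 1538 [.bwd 1, .bwd 392, .fwd 759, .fwd 414, .fwd 26] [6] (.rel 32),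
  .node 1345 2, .derive 1539 [.bwd 0, .fwd 390, .fwd 35] [5] (.rel 30), .derive 1539 [.bwd 1, .fwd 390, .fwd 389] [7] (.rel 34), .node 1346 1, .derive 1540 [.bwd 0, .fwd 390, .fwd 30] [6] (.rel 22), .node 1347 6, .derive 1541 [.bwd 0, .fwd 390, .fwd 389] [5] (.rel 51), .node 1348 2,
  .derive 1542 [.bwd 0, .fwd 390, .fwd 389] [4] (.rel 28), .node 1350 6, .derive 1543 [.bwd 0, .fwd 389, .fwd 4] [4] (.rel 47), .derive 1543 [.bwd 1, .fwd 389, .fwd 388] [5] (.rel 51)]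
def ph1_p3_1 : List Aux := [
  .node 1351 2, .node 1353 6, .derive 1545 [.bwd 0, .fwd 386, .fwd 385] [4] (.rel 47), .node 1354 2, .derive 1546 [.bwd 0, .fwd 386, .fwd 750, .bwd 735, .fwd 372] [3] (.rel 26), .derive 1546 [.bwd 1, .bwd 388, .fwd 754, .fwd 506, .fwd 125] [6] (.rel 32), .node 1355 7, .derive 1547 [.bwd 0, .bwd 388, .fwd 387] [5] (.rel 53),
  .node 1356 6, .node 1357 2, .derive 1549 [.bwd 0, .bwd 388, .fwd 753, .fwd 505, .fwd 124] [6] (.rel 32), .node 1358 7, .node 1359 6, .node 1360 6, .derive 1552 [.bwd 0, .bwd 387, .bwd 751, .fwd 750, .fwd 386] [7] (.rel 54), .node 1361 2,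
  .derive 1553 [.bwd 0, .fwd 387, .fwd 384] [4] (.rel 28), .derive 1553 [.bwd 1, .bwd 389, .fwd 752, .fwd 412, .fwd 21] [6] (.rel 32), .node 1362 2, .derive 1554 [.bwd 0, .fwd 388, .fwd 387] [7] (.rel 34), .node 1364 7, .derive 1555 [.bwd 0, .fwd 386, .fwd 382] [5] (.rel 53), .node 1365 6, .derive 1556 [.bwd 0, .fwd 385, .fwd 383] [5] (.rel 51),
  .node 1366 6, .derive 1557 [.bwd 0, .bwd 386, .bwd 751, .fwd 750, .fwd 385] [7] (.rel 54), .node 1367 2, .derive 1558 [.bwd 0, .bwd 387, .fwd 751, .fwd 416, .fwd 26] [6] (.rel 32), .node 1368 2, .derive 1559 [.bwd 0, .fwd 387, .fwd 10] [5] (.rel 30), .derive 1559 [.bwd 1, .fwd 387, .fwd 386] [7] (.rel 34), .node 1370 7,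
  .node 1371 6, .derive 1561 [.bwd 0, .fwd 385, .fwd 384] [4] (.rel 47), .node 1372 2, .derive 1562 [.bwd 0, .fwd 385, .fwd 748, .bwd 726, .fwd 359] [3] (.rel 26), .node 1373 7, .derive 1563 [.bwd 0, .fwd 385, .fwd 30] [3] (.rel 43), .derive 1563 [.bwd 1, .bwd 387, .fwd 385] [5] (.rel 53), .node 1374 6,
  .node 1375 2, .derive 1565 [.bwd 0, .fwd 385, .fwd 748, .bwd 722, .fwd 354] [3] (.rel 26), .node 1376 6, .derive 1566 [.bwd 0, .bwd 386, .fwd 385] [5] (.rel 51), .node 1377 2, .derive 1567 [.bwd 0, .fwd 386, .fwd 385] [4] (.rel 28), .node 1378 7, .derive 1568 [.bwd 0, .bwd 387, .fwd 386] [2] (.rel 35),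
  .node 1380 6, .node 1381 2, .node 1382 7, .node 1383 7, .node 1384 6, .node 1385 6, .derive 1574 [.bwd 0, .bwd 383, .bwd 751, .fwd 749, .fwd 382] [7] (.rel 54), .node 1386 2,
  .derive 1575 [.bwd 0, .fwd 383, .fwd 380] [4] (.rel 28), .node 1387 2, .derive 1576 [.bwd 0, .fwd 383, .fwd 382] [7] (.rel 34), .node 1389 7, .node 1390 6, .derive 1578 [.bwd 0, .fwd 380, .fwd 38] [3] (.rel 41), .derive 1578 [.bwd 1, .fwd 380, .fwd 378] [5] (.rel 51), .node 1391 6,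
  .derive 1579 [.bwd 0, .bwd 381, .bwd 751, .fwd 749, .fwd 380] [7] (.rel 54), .node 1392 2, .node 1393 2, .derive 1581 [.bwd 0, .fwd 381, .fwd 380] [7] (.rel 34), .node 1395 7, .derive 1582 [.bwd 0, .bwd 381, .fwd 379] [5] (.rel 53), .node 1396 6, .derive 1583 [.bwd 0, .fwd 380, .fwd 379] [4] (.rel 47),
  .derive 1583 [.bwd 1, .bwd 382, .fwd 749, .fwd 594, .fwd 215] [7] (.rel 54), .node 1397 2, .derive 1584 [.bwd 0, .fwd 381, .fwd 747, .bwd 508, .fwd 120] [3] (.rel 26), .derive 1584 [.bwd 1, .fwd 381, .fwd 216] [7] (.rel 34), .node 1398 7, .derive 1585 [.bwd 0, .bwd 382, .fwd 380] [5] (.rel 53), .node 1399 6, .derive 1586 [.bwd 0, .fwd 381, .fwd 380] [4] (.rel 47),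
  .derive 1586 [.bwd 1, .bwd 383, .fwd 751, .fwd 590, .fwd 210] [7] (.rel 54), .node 1400 2, .derive 1587 [.bwd 0, .fwd 382, .fwd 748, .bwd 484, .fwd 93] [3] (.rel 26), .derive 1587 [.bwd 1, .fwd 382, .fwd 9] [5] (.rel 30), .derive 1587 [.bwd 2, .fwd 382, .fwd 212] [7] (.rel 34), .node 1401 7, .derive 1588 [.bwd 0, .fwd 382, .fwd 325] [2] (.rel 35), .node 1402 6,
  .derive 1589 [.bwd 0, .bwd 382, .fwd 751, .fwd 441, .fwd 55] [7] (.rel 54), .node 1403 2, .derive 1590 [.bwd 0, .bwd 382, .fwd 751, .fwd 704, .fwd 327] [6] (.rel 32), .derive 1590 [.bwd 1, .fwd 382, .fwd 56] [7] (.rel 34), .node 1404 3, .derive 1591 [.bwd 0, .bwd 383, .fwd 379] [0] (.rel 5), .node 1405 2, .derive 1592 [.bwd 0, .fwd 380, .bwd 749, .bwd 380, .fwd 0] [1] (.rel 15),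
  .node 1406 2, .derive 1593 [.bwd 0, .fwd 378, .fwd 93] [7] (.rel 34), .node 1407 7, .node 1408 6]
def ph1_p3_2 : List Aux := [
  .derive 1595 [.bwd 0, .bwd 378, .fwd 749, .fwd 480, .fwd 91] [7] (.rel 54), .node 1409 2, .derive 1596 [.bwd 0, .fwd 378, .fwd 5] [5] (.rel 30), .derive 1596 [.bwd 1, .fwd 378, .fwd 93] [7] (.rel 34), .node 1410 7, .node 1411 6, .derive 1598 [.bwd 0, .bwd 378, .fwd 749, .fwd 453, .fwd 66] [7] (.rel 54), .node 1412 2,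
  .derive 1599 [.bwd 0, .fwd 378, .fwd 67] [7] (.rel 34), .node 1413 2, .derive 1600 [.bwd 0, .fwd 378, .fwd 746, .bwd 448, .bwd 62] [1] (.rel 15), .derive 1600 [.bwd 1, .fwd 378, .fwd 377] [7] (.rel 34), .node 1414 4, .node 1415 4, .derive 1602 [.bwd 0, .bwd 379, .fwd 377] [2] (.rel 29), .node 1416 5,
  .node 1417 7, .derive 1604 [.bwd 0, .fwd 378, .fwd 65] [2] (.rel 35), .node 1418 6, .node 1419 2, .derive 1606 [.bwd 0, .bwd 378, .fwd 750, .fwd 446, .fwd 62] [6] (.rel 32), .node 1420 7, .derive 1607 [.bwd 0, .fwd 378, .fwd 17] [2] (.rel 35), .node 1421 6,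
  .derive 1608 [.bwd 0, .bwd 378, .fwd 751, .fwd 739, .fwd 362] [7] (.rel 54), .node 1422 2, .derive 1609 [.bwd 0, .bwd 378, .fwd 751, .fwd 397, .fwd 18] [6] (.rel 32), .derive 1609 [.bwd 1, .fwd 378, .fwd 364] [7] (.rel 34), .node 1423 4, .derive 1610 [.bwd 0, .fwd 378, .bwd 349] [1] (.rel 19), .derive 1610 [.bwd 1, .bwd 380, .fwd 378] [2] (.rel 29), .node 1423 7,
  .node 1424 5, .derive 1612 [.bwd 0, .fwd 380, .fwd 17] [6] (.rel 50), .node 1425 7, .derive 1613 [.bwd 0, .fwd 380, .fwd 75] [2] (.rel 35), .node 1426 6, .derive 1614 [.bwd 0, .bwd 380, .fwd 756, .fwd 397, .fwd 18] [7] (.rel 54), .node 1427 2, .derive 1615 [.bwd 0, .bwd 380, .fwd 756, .fwd 454, .fwd 72] [6] (.rel 32),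
  .derive 1615 [.bwd 1, .fwd 380, .fwd 20] [7] (.rel 34), .node 1428 6, .node 1429 2, .node 1431 6, .derive 1618 [.bwd 0, .bwd 380, .fwd 378] [5] (.rel 51), .node 1432 2, .derive 1619 [.bwd 0, .fwd 379, .fwd 378] [4] (.rel 28), .derive 1619 [.bwd 1, .bwd 381, .fwd 759, .fwd 489, .fwd 102] [6] (.rel 32),
  .node 1433 7, .node 1434 6, .derive 1621 [.bwd 0, .bwd 380, .fwd 378] [5] (.rel 51), .node 1435 2, .derive 1622 [.bwd 0, .fwd 379, .fwd 378] [4] (.rel 28), .derive 1622 [.bwd 1, .bwd 381, .fwd 761, .fwd 489, .fwd 103] [6] (.rel 32), .node 1436 7, .derive 1623 [.bwd 0, .fwd 380, .fwd 6] [3] (.rel 43),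
  .node 1437 2, .derive 1624 [.bwd 0, .fwd 379, .fwd 378] [5] (.rel 30), .node 1439 2, .derive 1625 [.bwd 0, .fwd 377, .fwd 376] [5] (.rel 30), .derive 1625 [.bwd 1, .bwd 379, .fwd 760, .fwd 383, .fwd 3] [6] (.rel 32), .node 1440 1, .derive 1626 [.bwd 0, .fwd 378, .fwd 376] [4] (.rel 18), .derive 1626 [.bwd 1, .fwd 378, .bwd 33] [6] (.rel 22),
  .node 1441 7, .derive 1627 [.bwd 0, .bwd 378, .fwd 0] [3] (.rel 43), .node 1442 7, .derive 1628 [.bwd 0, .fwd 377, .fwd 332] [1] (.rel 25), .derive 1628 [.bwd 1, .bwd 379, .fwd 377] [5] (.rel 53), .node 1443 6, .node 1446 7, .node 1447 6,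
  .derive 1631 [.bwd 0, .fwd 373, .fwd 2] [3] (.rel 41), .derive 1631 [.bwd 1, .fwd 373, .fwd 372] [4] (.rel 47), .node 1450 7, .derive 1632 [.bwd 0, .fwd 371, .fwd 4] [4] (.rel 49), .node 1451 6, .node 1453 6, .derive 1634 [.bwd 0, .fwd 368, .fwd 1] [3] (.rel 41), .node 1455 2,
  .derive 1635 [.bwd 0, .bwd 365, .fwd 742, .fwd 651, .fwd 270] [3] (.rel 26), .node 1455 4, .derive 1636 [.bwd 0, .fwd 366, .fwd 364] [1] (.rel 19), .derive 1636 [.bwd 1, .bwd 366, .fwd 1] [6] (.rel 46), .node 1456 7, .derive 1637 [.bwd 0, .fwd 366, .fwd 365] [0] (.rel 13), .node 1458 2, .derive 1638 [.bwd 0, .fwd 362, .fwd 361] [5] (.rel 30),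
  .node 1459 7, .derive 1639 [.bwd 0, .fwd 362, .fwd 361] [4] (.rel 49), .node 1460 6, .node 1461 2, .derive 1641 [.bwd 0, .fwd 362, .fwd 5] [4] (.rel 28), .derive 1641 [.bwd 1, .fwd 362, .fwd 361] [5] (.rel 30), .node 1462 3, .node 1462 7,
  .node 1463 6, .node 1464 6, .derive 1645 [.bwd 0, .fwd 362, .fwd 361] [5] (.rel 51), .node 1465 2]
def ph1_p3_3 : List Aux := [
  .derive 1646 [.bwd 0, .fwd 362, .fwd 361] [4] (.rel 28), .node 1466 1, .derive 1647 [.bwd 0, .fwd 362, .fwd 310] [3] (.rel 16), .node 1467 6, .derive 1648 [.bwd 0, .fwd 362, .fwd 361] [5] (.rel 51), .node 1468 2, .derive 1649 [.bwd 0, .fwd 362, .fwd 361] [4] (.rel 28), .node 1469 1,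
  .node 1470 6, .derive 1651 [.bwd 0, .fwd 362, .fwd 11] [4] (.rel 47), .derive 1651 [.bwd 1, .fwd 362, .fwd 361] [5] (.rel 51), .node 1471 2, .derive 1652 [.bwd 0, .fwd 362, .fwd 361] [4] (.rel 28), .node 1472 1, .derive 1653 [.bwd 0, .fwd 362, .fwd 306] [3] (.rel 16), .derive 1653 [.bwd 1, .fwd 362, .fwd 13] [5] (.rel 20),
  .node 1473 6, .derive 1654 [.bwd 0, .fwd 361, .fwd 360] [5] (.rel 51), .node 1474 2, .derive 1655 [.bwd 0, .fwd 361, .fwd 360] [4] (.rel 28), .derive 1655 [.bwd 1, .bwd 363, .fwd 741, .fwd 377, .fwd 14] [6] (.rel 32), .node 1475 1, .derive 1656 [.bwd 0, .fwd 362, .fwd 266] [3] (.rel 16), .derive 1656 [.bwd 1, .fwd 362, .fwd 15] [6] (.rel 22),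
  .node 1476 6, .derive 1657 [.bwd 0, .fwd 362, .fwd 21] [4] (.rel 47), .node 1477 2, .node 1478 1, .derive 1659 [.bwd 0, .fwd 362, .fwd 20] [5] (.rel 20), .node 1479 6, .derive 1660 [.bwd 0, .fwd 361, .fwd 360] [5] (.rel 51), .node 1480 2,
  .derive 1661 [.bwd 0, .fwd 361, .fwd 360] [4] (.rel 28), .derive 1661 [.bwd 1, .bwd 363, .fwd 742, .fwd 369, .fwd 6] [6] (.rel 32), .node 1481 1, .derive 1662 [.bwd 0, .fwd 362, .fwd 243] [3] (.rel 16), .derive 1662 [.bwd 1, .fwd 362, .fwd 8] [6] (.rel 22), .node 1482 6, .derive 1663 [.bwd 0, .fwd 362, .fwd 29] [3] (.rel 41), .derive 1663 [.bwd 1, .fwd 362, .fwd 361] [5] (.rel 51),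
  .node 1483 2, .derive 1664 [.bwd 0, .fwd 362, .fwd 361] [4] (.rel 28), .node 1485 6, .derive 1665 [.bwd 0, .fwd 360, .fwd 5] [4] (.rel 47), .node 1488 2, .derive 1666 [.bwd 0, .fwd 356, .fwd 355] [5] (.rel 30), .node 1489 1, .derive 1667 [.bwd 0, .fwd 356, .fwd 355] [4] (.rel 18),
  .node 1489 3, .node 1492 6, .derive 1669 [.bwd 0, .fwd 354, .fwd 353] [5] (.rel 51), .node 1493 2, .node 1494 2, .derive 1671 [.bwd 0, .fwd 354, .fwd 353] [5] (.rel 30), .node 1495 1, .derive 1672 [.bwd 0, .fwd 354, .fwd 353] [4] (.rel 18),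
  .node 1495 3, .derive 1673 [.bwd 0, .bwd 357, .fwd 738, .fwd 367, .fwd 8] [2] (.rel 27), .node 1496 0, .node 1497 2, .derive 1675 [.bwd 0, .fwd 356, .fwd 15] [4] (.rel 28), .derive 1675 [.bwd 1, .fwd 356, .fwd 355] [5] (.rel 30), .node 1498 1, .derive 1676 [.bwd 0, .fwd 356, .fwd 355] [4] (.rel 18),
  .node 1498 3, .node 1500 6, .derive 1678 [.bwd 0, .fwd 355, .fwd 353] [0] (.rel 11), .node 1501 6, .derive 1679 [.bwd 0, .bwd 356, .fwd 355] [4] (.rel 47), .node 1501 7, .derive 1680 [.bwd 0, .bwd 358, .fwd 355] [4] (.rel 49), .node 1502 2,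
  .derive 1681 [.bwd 0, .fwd 358, .bwd 378, .bwd 358, .fwd 0] [1] (.rel 15), .node 1502 7, .node 1503 6, .node 1504 7, .derive 1684 [.bwd 0, .fwd 359, .fwd 353] [1] (.rel 25), .node 1505 6, .derive 1685 [.bwd 0, .fwd 359, .fwd 351] [1] (.rel 23), .node 1506 6,
  .derive 1686 [.bwd 0, .fwd 359, .fwd 334] [0] (.rel 11), .node 1507 6, .derive 1687 [.bwd 0, .fwd 358, .fwd 334] [0] (.rel 11), .derive 1687 [.bwd 1, .bwd 360, .bwd 745, .fwd 741, .fwd 356] [7] (.rel 54), .node 1508 2, .derive 1688 [.bwd 0, .bwd 358, .fwd 742, .fwd 388, .fwd 33] [6] (.rel 32), .node 1509 6, .derive 1689 [.bwd 0, .bwd 359, .fwd 358] [5] (.rel 51),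
  .node 1510 2, .derive 1690 [.bwd 0, .fwd 359, .fwd 350] [0] (.rel 3), .derive 1690 [.bwd 1, .fwd 358, .fwd 357] [4] (.rel 28), .node 1510 7, .derive 1691 [.bwd 0, .bwd 361, .fwd 0] [3] (.rel 43), .derive 1691 [.bwd 1, .fwd 361, .fwd 358] [4] (.rel 49), .node 1511 7, .derive 1692 [.bwd 0, .bwd 362, .fwd 360] [2] (.rel 35),
  .node 1512 6, .derive 1693 [.bwd 0, .bwd 362, .bwd 748, .fwd 747, .fwd 361] [7] (.rel 54), .node 1513 2, .node 1514 2]
def ph1_p3_4 : List Aux := [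
  .derive 1695 [.bwd 0, .fwd 362, .fwd 361] [5] (.rel 30), .node 1515 7, .derive 1696 [.bwd 0, .bwd 362, .fwd 0] [1] (.rel 25), .derive 1696 [.bwd 1, .bwd 364, .fwd 361] [2] (.rel 35), .derive 1696 [.bwd 2, .fwd 363, .fwd 361] [4] (.rel 49), .node 1517 6, .node 1518 6, .derive 1698 [.bwd 0, .fwd 362, .fwd 359] [5] (.rel 51),
  .derive 1698 [.bwd 1, .bwd 364, .bwd 752, .fwd 750, .fwd 362] [7] (.rel 54), .node 1519 2, .derive 1699 [.bwd 0, .fwd 363, .fwd 359] [5] (.rel 30), .derive 1699 [.bwd 1, .bwd 365, .fwd 752, .fwd 413, .fwd 58] [6] (.rel 32), .node 1520 2, .derive 1700 [.bwd 0, .fwd 364, .fwd 359] [4] (.rel 28), .derive 1700 [.bwd 1, .fwd 364, .fwd 363] [7] (.rel 34), .node 1521 1,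
  .derive 1701 [.bwd 0, .fwd 364, .fwd 360] [4] (.rel 18), .derive 1701 [.bwd 1, .fwd 364, .fwd 62] [6] (.rel 22), .node 1521 3, .derive 1702 [.bwd 0, .fwd 366, .fwd 62] [6] (.rel 40), .node 1522 1, .derive 1703 [.bwd 0, .fwd 366, .fwd 365] [7] (.rel 24), .node 1523 0, .derive 1704 [.bwd 0, .fwd 366, .fwd 64] [6] (.rel 10),
  .node 1524 2, .derive 1705 [.bwd 0, .fwd 366, .fwd 72] [4] (.rel 28), .derive 1705 [.bwd 1, .fwd 366, .fwd 365] [5] (.rel 30), .node 1525 1, .node 1525 3, .node 1526 0, .node 1527 6, .derive 1709 [.bwd 0, .fwd 367, .fwd 44] [4] (.rel 47),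
  .derive 1709 [.bwd 1, .bwd 369, .fwd 367] [5] (.rel 51), .node 1528 2, .derive 1710 [.bwd 0, .fwd 368, .fwd 359] [0] (.rel 3), .node 1529 7, .derive 1711 [.bwd 0, .bwd 369, .fwd 367] [2] (.rel 35), .node 1530 6, .derive 1712 [.bwd 0, .bwd 369, .bwd 761, .fwd 759, .fwd 368] [7] (.rel 54), .node 1531 2,
  .derive 1713 [.bwd 0, .fwd 369, .fwd 41] [5] (.rel 30), .node 1532 2, .derive 1714 [.bwd 0, .fwd 369, .fwd 42] [4] (.rel 28), .derive 1714 [.bwd 1, .fwd 369, .fwd 368] [5] (.rel 30), .node 1533 3, .derive 1715 [.bwd 0, .fwd 369, .fwd 759, .bwd 512, .fwd 150] [4] (.rel 36), .node 1533 7, .node 1534 6,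
  .derive 1717 [.bwd 0, .fwd 370, .fwd 151] [3] (.rel 41), .node 1535 6, .derive 1718 [.bwd 0, .fwd 370, .fwd 367] [5] (.rel 51), .derive 1718 [.bwd 1, .bwd 372, .bwd 763, .fwd 761, .fwd 370] [7] (.rel 54), .node 1536 2, .derive 1719 [.bwd 0, .fwd 371, .fwd 367] [5] (.rel 30), .derive 1719 [.bwd 1, .bwd 373, .fwd 763, .fwd 396, .fwd 29] [6] (.rel 32), .node 1537 2,
  .derive 1720 [.bwd 0, .fwd 372, .fwd 367] [4] (.rel 28), .derive 1720 [.bwd 1, .fwd 372, .fwd 371] [7] (.rel 34), .node 1538 1, .derive 1721 [.bwd 0, .fwd 372, .fwd 367] [4] (.rel 18), .derive 1721 [.bwd 1, .fwd 372, .fwd 32] [6] (.rel 22), .node 1538 3, .derive 1722 [.bwd 0, .fwd 374, .fwd 33] [6] (.rel 40), .node 1539 1,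
  .derive 1723 [.bwd 0, .fwd 374, .fwd 43] [5] (.rel 20), .derive 1723 [.bwd 1, .fwd 374, .fwd 373] [7] (.rel 24), .node 1540 0, .derive 1724 [.bwd 0, .fwd 374, .fwd 37] [6] (.rel 10), .node 1541 2, .derive 1725 [.bwd 0, .fwd 374, .fwd 373] [5] (.rel 30), .node 1542 3, .node 1543 2,
  .derive 1727 [.bwd 0, .fwd 373, .fwd 3] [4] (.rel 28), .node 1544 3, .node 1545 2, .derive 1729 [.bwd 0, .fwd 372, .fwd 371] [4] (.rel 28), .derive 1729 [.bwd 1, .bwd 374, .fwd 761, .fwd 498, .fwd 135] [6] (.rel 32), .node 1547 6, .derive 1730 [.bwd 0, .fwd 370, .fwd 369] [5] (.rel 51), .node 1550 6,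
  .derive 1731 [.bwd 0, .bwd 368, .bwd 756, .fwd 755, .fwd 367] [7] (.rel 54), .node 1551 2, .derive 1732 [.bwd 0, .bwd 369, .fwd 756, .fwd 388, .fwd 13] [6] (.rel 32), .node 1552 2, .derive 1733 [.bwd 0, .fwd 369, .fwd 368] [7] (.rel 34), .node 1553 3, .node 1555 6, .derive 1735 [.bwd 0, .fwd 365, .fwd 362] [5] (.rel 51),
  .derive 1735 [.bwd 1, .bwd 367, .bwd 754, .fwd 752, .fwd 365] [7] (.rel 54), .node 1556 2, .derive 1736 [.bwd 0, .bwd 367, .fwd 753, .fwd 392, .fwd 18] [6] (.rel 32), .node 1557 2, .derive 1737 [.bwd 0, .fwd 366, .fwd 365] [7] (.rel 34), .node 1558 3, .derive 1738 [.bwd 0, .fwd 366, .fwd 20] [6] (.rel 40), .node 1560 6,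
  .node 1561 2, .derive 1740 [.bwd 0, .fwd 363, .fwd 362] [4] (.rel 28), .node 1563 6, .derive 1741 [.bwd 0, .fwd 360, .fwd 359] [5] (.rel 51)]
def ph1_p3 : List Aux :=
  ((ph1_p3_0 ++ ph1_p3_1) ++ (ph1_p3_2 ++ (ph1_p3_3 ++ ph1_p3_4)))

theorem ph1_p3_ok : stHas (runList (auxStep' P) ph1_p3 (mkSt 1496 mask2 ph1_eq3)) 1742 mask2 ph1_eq4 = true := by decide +kernel

end Cfsg.Agent.CosetData.ChainL728
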