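import Cfsg.Agent.Lib.Compute.CosetData.ChainL728Aux

/-! Coset enumeration certificate data (S1697 chain). -/

set_option autoImplicit false
set_option maxRecDepth 100000
set_option Elab.async false

namespace Cfsg.Agent.CosetData.ChainL728

open Cfsg.Agent.CosetCert

def ph1_p4_0 : List Aux := [
  .node 1564 2, .node 1566 2, .derive 1743 [.bwd 0, .fwd 358, .fwd 357] [5] (.rel 30), .node 1567 3, .node 1567 7, .derive 1745 [.bwd 0, .fwd 359, .fwd 358] [4] (.rel 49), .node 1568 6, .node 1569 2,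
  .node 1570 3, .derive 1748 [.bwd 0, .bwd 359, .fwd 744, .fwd 434, .fwd 64] [2] (.rel 27), .node 1570 7, .node 1571 6, .node 1572 6, .derive 1751 [.bwd 0, .bwd 361, .bwd 746, .fwd 744, .fwd 360] [7] (.rel 54), .node 1573 2, .node 1574 2,
  .derive 1753 [.bwd 0, .fwd 361, .fwd 360] [7] (.rel 34), .node 1575 3, .node 1577 6, .derive 1755 [.bwd 0, .bwd 359, .bwd 742, .fwd 740, .fwd 358] [7] (.rel 54), .node 1578 2, .derive 1756 [.bwd 0, .fwd 358, .fwd 355] [5] (.rel 30), .derive 1756 [.bwd 1, .bwd 361, .fwd 742, .fwd 369, .fwd 7] [6] (.rel 32), .node 1579 2,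
  .derive 1757 [.bwd 0, .fwd 359, .fwd 358] [7] (.rel 34), .node 1580 3, .node 1582 6, .derive 1759 [.bwd 0, .fwd 357, .fwd 356] [5] (.rel 51), .derive 1759 [.bwd 1, .bwd 359, .fwd 739, .fwd 574, .fwd 211] [7] (.rel 54), .node 1583 2, .derive 1760 [.bwd 0, .fwd 358, .fwd 356] [4] (.rel 28), .derive 1760 [.bwd 1, .fwd 358, .fwd 212] [7] (.rel 34),
  .node 1584 1, .derive 1761 [.bwd 0, .fwd 358, .fwd 112] [3] (.rel 16), .derive 1761 [.bwd 1, .fwd 358, .fwd 212] [7] (.rel 24), .node 1585 6, .derive 1762 [.bwd 0, .fwd 358, .fwd 357] [5] (.rel 51), .derive 1762 [.bwd 1, .bwd 360, .fwd 741, .fwd 570, .fwd 207] [7] (.rel 54), .node 1586 2, .derive 1763 [.bwd 0, .fwd 359, .fwd 357] [4] (.rel 28),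
  .derive 1763 [.bwd 1, .fwd 359, .fwd 208] [7] (.rel 34), .node 1587 1, .derive 1764 [.bwd 0, .fwd 359, .fwd 78] [3] (.rel 16), .derive 1764 [.bwd 1, .fwd 359, .fwd 10] [5] (.rel 20), .derive 1764 [.bwd 2, .fwd 359, .fwd 209] [7] (.rel 24), .node 1588 6, .derive 1765 [.bwd 0, .bwd 360, .fwd 741, .fwd 414, .fwd 50] [7] (.rel 54), .node 1589 2,
  .derive 1766 [.bwd 0, .bwd 360, .fwd 741, .fwd 686, .fwd 305] [6] (.rel 32), .derive 1766 [.bwd 1, .fwd 360, .fwd 52] [7] (.rel 34), .node 1591 2, .derive 1767 [.bwd 0, .fwd 357, .fwd 356] [0] (.rel 3), .node 1594 6, .derive 1768 [.bwd 0, .bwd 354, .fwd 732, .fwd 446, .fwd 75] [7] (.rel 54), .node 1597 6, .derive 1769 [.bwd 0, .bwd 350, .fwd 728, .fwd 418, .fwd 56] [7] (.rel 54),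
  .node 1598 2, .derive 1770 [.bwd 0, .fwd 350, .fwd 56] [7] (.rel 34), .node 1600 4, .derive 1771 [.bwd 0, .fwd 348, .bwd 53] [1] (.rel 19), .derive 1771 [.bwd 1, .fwd 348, .fwd 347] [7] (.rel 48), .node 1601 3, .node 1602 3, .derive 1773 [.bwd 0, .bwd 349, .fwd 727, .fwd 350, .fwd 1] [4] (.rel 36),
  .node 1602 5, .derive 1774 [.bwd 0, .fwd 350, .fwd 349] [2] (.rel 31), .node 1602 6, .node 1602 7, .node 1604 6, .node 1605 2, .derive 1778 [.bwd 0, .bwd 351, .fwd 729, .fwd 416, .fwd 54] [6] (.rel 32), .node 1607 6,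
  .derive 1779 [.bwd 0, .bwd 350, .fwd 727, .fwd 711, .fwd 330] [7] (.rel 54), .node 1608 2, .derive 1780 [.bwd 0, .bwd 350, .fwd 727, .fwd 368, .fwd 17] [6] (.rel 32), .derive 1780 [.bwd 1, .fwd 350, .fwd 332] [7] (.rel 34), .node 1610 5, .derive 1781 [.bwd 0, .fwd 347, .bwd 319] [1] (.rel 21), .derive 1781 [.bwd 1, .fwd 347, .fwd 345] [2] (.rel 31), .node 1610 7,
  .node 1611 6, .node 1613 6, .derive 1784 [.bwd 0, .bwd 347, .fwd 726, .fwd 365, .fwd 13] [7] (.rel 54), .node 1614 2, .derive 1785 [.bwd 0, .bwd 347, .fwd 726, .fwd 420, .fwd 60] [6] (.rel 32), .derive 1785 [.bwd 1, .fwd 347, .fwd 15] [7] (.rel 34), .node 1616 2, .node 1617 3,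
  .node 1618 2, .derive 1788 [.bwd 0, .fwd 344, .fwd 343] [5] (.rel 30), .derive 1788 [.bwd 1, .bwd 346, .fwd 725, .fwd 447, .fwd 88] [6] (.rel 32), .node 1619 3, .derive 1789 [.bwd 0, .fwd 344, .fwd 88] [6] (.rel 40), .node 1619 7, .derive 1790 [.bwd 0, .fwd 347, .fwd 345] [4] (.rel 49), .node 1620 6,
  .derive 1791 [.bwd 0, .bwd 347, .fwd 727, .fwd 449, .fwd 89] [7] (.rel 54), .node 1621 2, .derive 1792 [.bwd 0, .fwd 347, .fwd 346] [5] (.rel 30), .derive 1792 [.bwd 1, .bwd 349, .fwd 728, .fwd 450, .fwd 91] [6] (.rel 32)]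
def ph1_p4_1 : List Aux := [
  .node 1622 3, .derive 1793 [.bwd 0, .fwd 347, .fwd 92] [6] (.rel 40), .node 1622 7, .derive 1794 [.bwd 0, .fwd 350, .fwd 348] [4] (.rel 49), .node 1623 6, .derive 1795 [.bwd 0, .fwd 349, .fwd 9] [3] (.rel 41), .derive 1795 [.bwd 1, .bwd 351, .fwd 730, .fwd 455, .fwd 94] [7] (.rel 54), .node 1625 1,
  .derive 1796 [.bwd 0, .fwd 348, .fwd 346] [5] (.rel 20), .derive 1796 [.bwd 1, .fwd 348, .bwd 31] [6] (.rel 22), .node 1626 7, .derive 1797 [.bwd 0, .fwd 348, .fwd 346] [4] (.rel 49), .node 1627 6, .derive 1798 [.bwd 0, .bwd 347, .fwd 0] [3] (.rel 41), .derive 1798 [.bwd 1, .bwd 349, .fwd 726, .fwd 382, .fwd 33] [7] (.rel 54), .node 1628 6,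
  .derive 1799 [.bwd 0, .fwd 347, .fwd 346] [5] (.rel 51), .node 1630 6, .node 1632 6, .derive 1801 [.bwd 0, .fwd 343, .fwd 1] [4] (.rel 47), .node 1635 4, .derive 1802 [.bwd 0, .bwd 341, .fwd 339] [2] (.rel 29), .node 1635 6, .derive 1803 [.bwd 0, .fwd 342, .fwd 257] [3] (.rel 41),
  .node 1636 7, .derive 1804 [.bwd 0, .fwd 342, .fwd 340] [1] (.rel 25), .node 1638 7, .node 1639 6, .derive 1806 [.bwd 0, .fwd 338, .fwd 337] [4] (.rel 47), .node 1641 3, .derive 1807 [.bwd 0, .fwd 336, .fwd 335] [5] (.rel 38), .node 1641 7,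
  .derive 1808 [.bwd 0, .fwd 339, .fwd 5] [4] (.rel 49), .node 1642 7, .derive 1809 [.bwd 0, .bwd 339, .fwd 338] [3] (.rel 43), .node 1643 6, .node 1645 2, .derive 1811 [.bwd 0, .fwd 338, .fwd 337] [5] (.rel 30), .node 1646 1, .derive 1812 [.bwd 0, .fwd 338, .fwd 337] [4] (.rel 18),
  .node 1646 3, .derive 1813 [.bwd 0, .fwd 340, .fwd 701, .bwd 650, .fwd 292] [4] (.rel 36), .node 1648 2, .derive 1814 [.bwd 0, .fwd 338, .fwd 337] [5] (.rel 30), .node 1649 1, .derive 1815 [.bwd 0, .fwd 338, .fwd 337] [4] (.rel 18), .node 1649 3, .node 1650 0,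
  .node 1651 2, .derive 1818 [.bwd 0, .fwd 339, .fwd 12] [4] (.rel 28), .derive 1818 [.bwd 1, .fwd 339, .fwd 338] [5] (.rel 30), .node 1652 1, .derive 1819 [.bwd 0, .fwd 339, .fwd 338] [4] (.rel 18), .node 1652 3, .derive 1820 [.bwd 0, .fwd 341, .fwd 702, .bwd 647, .fwd 289] [4] (.rel 36), .node 1654 2,
  .derive 1821 [.bwd 0, .fwd 338, .fwd 337] [5] (.rel 30), .derive 1821 [.bwd 1, .bwd 340, .fwd 702, .fwd 353, .fwd 14] [6] (.rel 32), .node 1655 1, .derive 1822 [.bwd 0, .fwd 339, .fwd 337] [4] (.rel 18), .derive 1822 [.bwd 1, .fwd 339, .fwd 15] [6] (.rel 22), .node 1655 3, .derive 1823 [.bwd 0, .fwd 342, .fwd 702, .bwd 610, .fwd 243] [4] (.rel 36), .derive 1823 [.bwd 1, .fwd 342, .fwd 16] [6] (.rel 40),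
  .node 1656 0, .derive 1824 [.bwd 0, .fwd 342, .fwd 242] [3] (.rel 4), .derive 1824 [.bwd 1, .fwd 342, .fwd 18] [6] (.rel 10), .node 1657 2, .derive 1825 [.bwd 0, .fwd 342, .fwd 25] [4] (.rel 28), .node 1658 1, .node 1658 3, .node 1659 0,
  .derive 1828 [.bwd 0, .fwd 343, .fwd 24] [5] (.rel 8), .node 1660 2, .derive 1829 [.bwd 0, .fwd 343, .fwd 342] [5] (.rel 30), .derive 1829 [.bwd 1, .bwd 345, .fwd 707, .fwd 350, .fwd 7] [6] (.rel 32), .node 1661 1, .derive 1830 [.bwd 0, .fwd 344, .fwd 342] [4] (.rel 18), .derive 1830 [.bwd 1, .fwd 344, .fwd 8] [6] (.rel 22), .node 1661 3,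
  .derive 1831 [.bwd 0, .fwd 347, .fwd 707, .bwd 593, .fwd 218] [4] (.rel 36), .derive 1831 [.bwd 1, .fwd 347, .fwd 10] [6] (.rel 40), .node 1662 0, .derive 1832 [.bwd 0, .fwd 347, .fwd 216] [3] (.rel 4), .derive 1832 [.bwd 1, .fwd 347, .fwd 12] [6] (.rel 10), .node 1663 2, .derive 1833 [.bwd 0, .fwd 346, .fwd 345] [5] (.rel 30), .node 1664 3,
  .derive 1834 [.bwd 0, .fwd 346, .fwd 707, .bwd 591, .fwd 217] [4] (.rel 36), .node 1666 1, .derive 1835 [.bwd 0, .fwd 344, .fwd 343] [5] (.rel 20), .node 1666 3, .derive 1836 [.bwd 0, .fwd 346, .fwd 343] [5] (.rel 38), .node 1667 3, .node 1669 2, .derive 1838 [.bwd 0, .fwd 344, .fwd 343] [5] (.rel 30),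
  .node 1670 1, .node 1671 1, .derive 1840 [.bwd 0, .fwd 344, .fwd 343] [5] (.rel 20), .node 1671 3]
def ph1_p4_2 : List Aux := [
  .node 1672 0, .derive 1842 [.bwd 0, .fwd 345, .fwd 342] [4] (.rel 6), .node 1675 1, .derive 1843 [.bwd 0, .fwd 342, .fwd 13] [4] (.rel 18), .node 1675 3, .derive 1844 [.bwd 0, .fwd 343, .fwd 340] [5] (.rel 38), .node 1676 3, .node 1678 2,
  .derive 1846 [.bwd 0, .fwd 341, .fwd 336] [0] (.rel 3), .node 1679 7, .derive 1847 [.bwd 0, .fwd 341, .fwd 336] [4] (.rel 49), .node 1680 6, .derive 1848 [.bwd 0, .fwd 341, .fwd 337] [4] (.rel 47), .node 1682 6, .node 1683 2, .node 1684 6,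
  .derive 1851 [.bwd 0, .fwd 339, .fwd 334] [1] (.rel 23), .derive 1851 [.bwd 1, .bwd 341, .bwd 701, .fwd 699, .fwd 339] [7] (.rel 54), .node 1685 2, .node 1686 2, .derive 1853 [.bwd 0, .fwd 339, .fwd 310] [0] (.rel 3), .derive 1853 [.bwd 1, .bwd 341, .fwd 699, .fwd 371, .fwd 26] [6] (.rel 32), .node 1687 2, .derive 1854 [.bwd 0, .fwd 340, .fwd 310] [0] (.rel 3),
  .derive 1854 [.bwd 1, .fwd 340, .fwd 339] [7] (.rel 34), .node 1688 1, .derive 1855 [.bwd 0, .fwd 340, .fwd 29] [6] (.rel 22), .node 1689 2, .derive 1856 [.bwd 0, .fwd 340, .fwd 339] [5] (.rel 30), .node 1690 7, .derive 1857 [.bwd 0, .fwd 340, .fwd 328] [0] (.rel 13), .derive 1857 [.bwd 1, .bwd 342, .fwd 339] [2] (.rel 35),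
  .derive 1857 [.bwd 2, .fwd 341, .fwd 337] [4] (.rel 49), .node 1692 6, .derive 1858 [.bwd 0, .bwd 339, .bwd 700, .fwd 339, .fwd 0] [7] (.rel 54), .node 1693 2, .derive 1859 [.bwd 0, .fwd 338, .fwd 337] [7] (.rel 34), .node 1695 7, .node 1696 6, .derive 1861 [.bwd 0, .fwd 334, .fwd 333] [4] (.rel 47),
  .node 1698 2, .derive 1862 [.bwd 0, .fwd 333, .fwd 328] [5] (.rel 30), .derive 1862 [.bwd 1, .fwd 333, .fwd 332] [7] (.rel 34), .node 1699 1, .derive 1863 [.bwd 0, .fwd 333, .fwd 328] [5] (.rel 20), .derive 1863 [.bwd 1, .fwd 333, .fwd 47] [6] (.rel 22), .node 1699 3, .derive 1864 [.bwd 0, .fwd 336, .fwd 328] [5] (.rel 38),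
  .derive 1864 [.bwd 1, .fwd 336, .fwd 48] [6] (.rel 40), .node 1700 1, .derive 1865 [.bwd 0, .fwd 336, .fwd 329] [4] (.rel 18), .derive 1865 [.bwd 1, .fwd 336, .fwd 335] [7] (.rel 24), .node 1700 3, .derive 1866 [.bwd 0, .fwd 338, .fwd 334] [7] (.rel 42), .node 1701 0, .derive 1867 [.bwd 0, .fwd 338, .fwd 332] [4] (.rel 6),
  .derive 1867 [.bwd 1, .fwd 338, .fwd 55] [6] (.rel 10), .node 1701 3, .node 1703 0, .derive 1869 [.bwd 0, .fwd 337, .fwd 336] [7] (.rel 12), .node 1705 1, .derive 1870 [.bwd 0, .fwd 335, .fwd 63] [4] (.rel 18), .derive 1870 [.bwd 1, .fwd 335, .fwd 334] [5] (.rel 20), .node 1705 3,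
  .node 1706 0, .node 1706 3, .node 1709 2, .derive 1874 [.bwd 0, .fwd 335, .fwd 39] [4] (.rel 28), .derive 1874 [.bwd 1, .fwd 335, .fwd 334] [5] (.rel 30), .node 1710 7, .derive 1875 [.bwd 0, .fwd 335, .fwd 323] [0] (.rel 13), .node 1711 6,
  .node 1712 2, .derive 1877 [.bwd 0, .fwd 334, .fwd 333] [7] (.rel 34), .node 1714 3, .derive 1878 [.bwd 0, .fwd 331, .fwd 330] [5] (.rel 38), .node 1714 7, .derive 1879 [.bwd 0, .fwd 334, .fwd 39] [4] (.rel 49), .node 1715 7, .node 1716 6,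
  .node 1718 2, .derive 1882 [.bwd 0, .fwd 330, .fwd 325] [5] (.rel 30), .derive 1882 [.bwd 1, .fwd 330, .fwd 329] [7] (.rel 34), .node 1719 1, .derive 1883 [.bwd 0, .fwd 330, .fwd 325] [5] (.rel 20), .derive 1883 [.bwd 1, .fwd 330, .fwd 24] [6] (.rel 22), .node 1719 3, .derive 1884 [.bwd 0, .fwd 333, .fwd 325] [5] (.rel 38),
  .derive 1884 [.bwd 1, .fwd 333, .fwd 24] [6] (.rel 40), .node 1720 1, .derive 1885 [.bwd 0, .fwd 333, .fwd 326] [4] (.rel 18), .derive 1885 [.bwd 1, .fwd 333, .fwd 332] [7] (.rel 24), .node 1720 3, .derive 1886 [.bwd 0, .fwd 335, .fwd 331] [7] (.rel 42), .node 1721 0, .derive 1887 [.bwd 0, .fwd 335, .fwd 328] [4] (.rel 6),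
  .derive 1887 [.bwd 1, .fwd 335, .fwd 31] [6] (.rel 10), .node 1721 3, .derive 1888 [.bwd 0, .fwd 337, .fwd 32] [6] (.rel 40), .node 1723 0]
def ph1_p4_3 : List Aux := [
  .derive 1889 [.bwd 0, .fwd 335, .fwd 41] [5] (.rel 8), .derive 1889 [.bwd 1, .fwd 335, .fwd 334] [7] (.rel 12), .node 1725 3, .derive 1890 [.bwd 0, .fwd 333, .fwd 332] [5] (.rel 38), .node 1727 3, .node 1729 3, .derive 1892 [.bwd 0, .fwd 330, .fwd 701, .bwd 689, .fwd 320] [4] (.rel 36), .derive 1892 [.bwd 1, .fwd 330, .fwd 119] [6] (.rel 40),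
  .node 1731 2, .derive 1893 [.bwd 0, .fwd 328, .fwd 327] [7] (.rel 34), .node 1732 3, .derive 1894 [.bwd 0, .fwd 328, .fwd 8] [6] (.rel 40), .node 1733 3, .derive 1895 [.bwd 0, .fwd 328, .fwd 327] [7] (.rel 42), .node 1735 2, .derive 1896 [.bwd 0, .fwd 327, .fwd 323] [5] (.rel 30),
  .derive 1896 [.bwd 1, .fwd 327, .fwd 326] [7] (.rel 34), .node 1736 3, .derive 1897 [.bwd 0, .fwd 327, .fwd 13] [6] (.rel 40), .node 1737 3, .derive 1898 [.bwd 0, .fwd 327, .fwd 326] [7] (.rel 42), .node 1739 2, .node 1740 3, .derive 1900 [.bwd 0, .fwd 325, .fwd 687, .bwd 666, .fwd 305] [4] (.rel 36),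
  .node 1741 2, .derive 1901 [.bwd 0, .fwd 325, .fwd 324] [5] (.rel 30), .node 1742 3, .node 1743 3, .derive 1903 [.bwd 0, .fwd 325, .fwd 324] [5] (.rel 38), .node 1743 7, .node 1744 7, .derive 1905 [.bwd 0, .bwd 327, .fwd 326] [3] (.rel 43),
  .node 1745 6, .node 1747 7, .node 1748 7, .node 1749 6, .node 1751 2, .derive 1910 [.bwd 0, .fwd 323, .fwd 322] [7] (.rel 34), .node 1752 3, .node 1753 3,
  .derive 1912 [.bwd 0, .fwd 323, .fwd 322] [7] (.rel 42), .node 1755 2, .derive 1913 [.bwd 0, .fwd 322, .fwd 321] [7] (.rel 34), .node 1756 3, .derive 1914 [.bwd 0, .bwd 323, .fwd 682, .fwd 354, .fwd 26] [2] (.rel 27), .derive 1914 [.bwd 1, .fwd 323, .fwd 319] [5] (.rel 38), .derive 1914 [.bwd 2, .fwd 323, .fwd 7] [6] (.rel 40), .node 1757 3,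
  .derive 1915 [.bwd 0, .fwd 323, .fwd 322] [7] (.rel 42), .node 1759 2, .derive 1916 [.bwd 0, .fwd 322, .fwd 320] [5] (.rel 30), .derive 1916 [.bwd 1, .fwd 322, .fwd 195] [7] (.rel 34), .node 1760 1, .derive 1917 [.bwd 0, .fwd 322, .fwd 320] [4] (.rel 18), .derive 1917 [.bwd 1, .fwd 322, .fwd 195] [7] (.rel 24), .node 1760 3,
  .derive 1918 [.bwd 0, .fwd 324, .fwd 194] [7] (.rel 42), .node 1761 0, .derive 1919 [.bwd 0, .fwd 323, .fwd 193] [7] (.rel 12), .node 1762 2, .derive 1920 [.bwd 0, .fwd 323, .fwd 321] [5] (.rel 30), .derive 1920 [.bwd 1, .fwd 323, .fwd 187] [7] (.rel 34), .node 1763 1, .derive 1921 [.bwd 0, .fwd 323, .fwd 321] [4] (.rel 18),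
  .derive 1921 [.bwd 1, .fwd 323, .fwd 187] [7] (.rel 24), .node 1763 3, .derive 1922 [.bwd 0, .fwd 325, .fwd 186] [7] (.rel 42), .node 1764 0, .derive 1923 [.bwd 0, .fwd 323, .fwd 185] [7] (.rel 12), .node 1765 2, .derive 1924 [.bwd 0, .bwd 324, .fwd 683, .fwd 628, .fwd 283] [6] (.rel 32), .derive 1924 [.bwd 1, .fwd 324, .fwd 49] [7] (.rel 34),
  .node 1766 3, .derive 1925 [.bwd 0, .fwd 324, .fwd 285] [6] (.rel 40), .derive 1925 [.bwd 1, .fwd 324, .fwd 51] [7] (.rel 42), .node 1769 2, .derive 1926 [.bwd 0, .fwd 320, .fwd 51] [7] (.rel 34), .node 1770 3, .derive 1927 [.bwd 0, .fwd 320, .fwd 51] [7] (.rel 42), .node 1771 3,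
  .derive 1928 [.bwd 0, .fwd 320, .bwd 48] [1] (.rel 17), .derive 1928 [.bwd 1, .fwd 320, .fwd 319] [7] (.rel 42), .node 1772 6, .node 1773 6, .derive 1930 [.bwd 0, .fwd 320, .fwd 1] [4] (.rel 47), .node 1773 7, .derive 1931 [.bwd 0, .bwd 323, .fwd 318] [3] (.rel 43), .node 1774 6,
  .derive 1932 [.bwd 0, .fwd 322, .bwd 654, .bwd 309, .bwd 278] [2] (.rel 33), .node 1774 7, .derive 1933 [.bwd 0, .bwd 325, .fwd 322] [5] (.rel 53), .node 1775 7, .node 1776 6, .node 1777 2, .derive 1936 [.bwd 0, .bwd 325, .fwd 676, .fwd 381, .fwd 57] [6] (.rel 32), .node 1778 3,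
  .derive 1937 [.bwd 0, .fwd 325, .fwd 56] [6] (.rel 40), .node 1779 2, .derive 1938 [.bwd 0, .bwd 326, .fwd 675, .fwd 343, .fwd 22] [6] (.rel 32), .derive 1938 [.bwd 1, .fwd 326, .fwd 312] [7] (.rel 34)]
def ph1_p4_4 : List Aux := [
  .node 1780 3, .derive 1939 [.bwd 0, .fwd 326, .fwd 23] [6] (.rel 40), .derive 1939 [.bwd 1, .fwd 326, .fwd 314] [7] (.rel 42), .node 1781 7, .node 1782 6, .node 1784 2, .derive 1942 [.bwd 0, .bwd 324, .fwd 670, .fwd 387, .fwd 64] [6] (.rel 32), .derive 1942 [.bwd 1, .fwd 324, .fwd 13] [7] (.rel 34),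
  .node 1785 3, .derive 1943 [.bwd 0, .fwd 324, .fwd 61] [6] (.rel 40), .derive 1943 [.bwd 1, .fwd 324, .fwd 14] [7] (.rel 42), .node 1786 3, .node 1788 3, .derive 1945 [.bwd 0, .fwd 322, .fwd 85] [6] (.rel 40), .node 1788 7, .derive 1946 [.bwd 0, .fwd 325, .fwd 321] [5] (.rel 53),
  .node 1789 7, .node 1790 6, .derive 1948 [.bwd 0, .bwd 324, .fwd 670, .fwd 413, .fwd 85] [7] (.rel 54), .node 1792 3, .derive 1949 [.bwd 0, .fwd 321, .fwd 319] [5] (.rel 38), .node 1792 7, .derive 1950 [.bwd 0, .fwd 323, .fwd 319] [5] (.rel 53), .node 1793 7,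
  .node 1794 6, .derive 1952 [.bwd 0, .bwd 322, .fwd 671, .fwd 414, .fwd 89] [7] (.rel 54), .node 1796 7, .derive 1953 [.bwd 0, .fwd 318, .fwd 316] [5] (.rel 53), .node 1797 6, .derive 1954 [.bwd 0, .bwd 318, .fwd 665, .fwd 349, .fwd 24] [7] (.rel 54), .node 1802 6, .derive 1955 [.bwd 0, .fwd 309, .bwd 647, .bwd 309, .fwd 0] [2] (.rel 33),
  .derive 1955 [.bwd 1, .bwd 311, .fwd 309] [4] (.rel 47), .node 1802 7, .derive 1956 [.bwd 0, .fwd 312, .fwd 309] [2] (.rel 35), .node 1805 6, .node 1807 4, .node 1807 7, .node 1808 6, .derive 1960 [.bwd 0, .fwd 306, .fwd 3] [4] (.rel 47),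
  .node 1809 6, .derive 1961 [.bwd 0, .fwd 306, .fwd 305] [3] (.rel 41), .node 1811 3, .derive 1962 [.bwd 0, .fwd 305, .fwd 302] [5] (.rel 38), .node 1812 3, .derive 1963 [.bwd 0, .bwd 306, .fwd 304] [1] (.rel 17), .derive 1963 [.bwd 1, .fwd 306, .fwd 643, .bwd 598, .fwd 252] [4] (.rel 36), .node 1814 1,
  .derive 1964 [.bwd 0, .fwd 304, .fwd 303] [5] (.rel 20), .node 1814 3, .derive 1965 [.bwd 0, .fwd 306, .fwd 303] [5] (.rel 38), .node 1815 0, .node 1815 3, .node 1818 3, .derive 1968 [.bwd 0, .fwd 303, .fwd 300] [5] (.rel 38), .node 1819 3,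
  .derive 1969 [.bwd 0, .fwd 303, .fwd 641, .bwd 592, .fwd 249] [4] (.rel 36), .node 1821 1, .derive 1970 [.bwd 0, .fwd 300, .fwd 10] [6] (.rel 22), .node 1821 3, .derive 1971 [.bwd 0, .fwd 303, .fwd 298] [5] (.rel 38), .derive 1971 [.bwd 1, .fwd 303, .fwd 11] [6] (.rel 40), .node 1822 0, .derive 1972 [.bwd 0, .fwd 303, .fwd 298] [4] (.rel 6),
  .derive 1972 [.bwd 1, .fwd 303, .fwd 12] [6] (.rel 10), .node 1822 3, .derive 1973 [.bwd 0, .fwd 305, .fwd 13] [6] (.rel 40), .node 1825 1, .derive 1974 [.bwd 0, .fwd 299, .fwd 20] [4] (.rel 18), .node 1825 3, .node 1826 0, .node 1826 3,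
  .node 1829 1, .derive 1978 [.bwd 0, .fwd 297, .fwd 5] [6] (.rel 22), .node 1829 3, .derive 1979 [.bwd 0, .fwd 300, .fwd 295] [5] (.rel 38), .derive 1979 [.bwd 1, .fwd 300, .fwd 6] [6] (.rel 40), .node 1830 0, .derive 1980 [.bwd 0, .fwd 300, .fwd 295] [4] (.rel 6), .derive 1980 [.bwd 1, .fwd 300, .fwd 8] [6] (.rel 10),
  .node 1830 3, .derive 1981 [.bwd 0, .fwd 302, .fwd 9] [6] (.rel 40), .node 1833 3, .derive 1982 [.bwd 0, .bwd 297, .fwd 644, .fwd 334, .fwd 29] [2] (.rel 27), .derive 1982 [.bwd 1, .fwd 297, .fwd 296] [5] (.rel 38), .node 1835 3, .derive 1983 [.bwd 0, .fwd 295, .fwd 292] [5] (.rel 38), .node 1836 4,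
  .node 1838 1, .derive 1985 [.bwd 0, .fwd 293, .fwd 292] [5] (.rel 20), .node 1839 0, .node 1840 0, .derive 1987 [.bwd 0, .fwd 293, .fwd 291] [5] (.rel 8), .node 1840 3, .node 1841 4, .node 1842 3,
  .node 1843 3, .node 1844 4, .node 1847 6, .derive 1993 [.bwd 0, .fwd 288, .fwd 285] [4] (.rel 47)]
def ph1_p4 : List Aux :=
  ((ph1_p4_0 ++ ph1_p4_1) ++ (ph1_p4_2 ++ (ph1_p4_3 ++ ph1_p4_4)))

theorem ph1_p4_ok : stHas (runList (auxStep' P) ph1_p4 (mkSt 1742 mask2 ph1_eq4)) 1994 mask2 ph1_eq5 = true := by decide +kernel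

def ph1_p5_0 : List Aux := [
  .derive 1993 [.bwd 1, .bwd 290, .bwd 632, .fwd 630, .fwd 288] [7] (.rel 54), .node 1848 2, .derive 1994 [.bwd 0, .fwd 289, .fwd 287] [4] (.rel 28), .node 1849 2, .node 1851 2, .derive 1996 [.bwd 0, .fwd 287, .fwd 286] [7] (.rel 34), .node 1852 1, .derive 1997 [.bwd 0, .bwd 288, .fwd 628, .fwd 622, .fwd 281] [2] (.rel 14),
  .node 1853 1, .derive 1998 [.bwd 0, .fwd 287, .fwd 20] [6] (.rel 22), .node 1854 1, .derive 1999 [.bwd 0, .fwd 286, .fwd 285] [7] (.rel 24), .node 1855 0, .derive 2000 [.bwd 0, .fwd 286, .fwd 22] [6] (.rel 10), .node 1856 7, .node 1857 6,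
  .derive 2002 [.bwd 0, .fwd 283, .fwd 282] [4] (.rel 47), .node 1858 2, .derive 2003 [.bwd 0, .bwd 284, .fwd 622, .fwd 621, .fwd 282] [6] (.rel 32), .node 1860 6, .node 1862 1, .derive 2005 [.bwd 0, .fwd 279, .fwd 271] [5] (.rel 20), .derive 2005 [.bwd 1, .fwd 279, .fwd 278] [7] (.rel 24), .node 1862 3,
  .derive 2006 [.bwd 0, .fwd 282, .fwd 271] [5] (.rel 38), .derive 2006 [.bwd 1, .fwd 282, .fwd 278] [7] (.rel 42), .node 1863 0, .derive 2007 [.bwd 0, .fwd 281, .fwd 35] [6] (.rel 10), .node 1863 3, .derive 2008 [.bwd 0, .fwd 284, .fwd 271] [5] (.rel 38), .derive 2008 [.bwd 1, .fwd 284, .fwd 36] [6] (.rel 40), .node 1864 4,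
  .derive 2009 [.bwd 0, .fwd 283, .fwd 37] [6] (.rel 46), .node 1865 0, .derive 2010 [.bwd 0, .fwd 282, .fwd 279] [7] (.rel 12), .node 1865 3, .derive 2011 [.bwd 0, .fwd 284, .fwd 278] [7] (.rel 42), .node 1867 3, .derive 2012 [.bwd 0, .fwd 281, .fwd 42] [6] (.rel 40), .node 1870 0,
  .derive 2013 [.bwd 0, .fwd 278, .fwd 48] [4] (.rel 6), .node 1870 3, .derive 2014 [.bwd 0, .fwd 279, .fwd 276] [5] (.rel 38), .node 1871 4, .node 1872 3, .node 1874 7, .derive 2017 [.bwd 0, .fwd 278, .fwd 31] [4] (.rel 49), .node 1875 6,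
  .derive 2018 [.bwd 0, .fwd 277, .fwd 268] [0] (.rel 11), .node 1876 2, .derive 2019 [.bwd 0, .bwd 278, .fwd 613, .fwd 612, .fwd 277] [6] (.rel 32), .node 1878 4, .derive 2020 [.bwd 0, .fwd 276, .fwd 606, .bwd 421, .fwd 115] [5] (.rel 44), .node 1878 7, .derive 2021 [.bwd 0, .fwd 278, .fwd 275] [5] (.rel 53), .node 1879 6,
  .derive 2022 [.bwd 0, .fwd 278, .fwd 36] [4] (.rel 47), .node 1882 1, .derive 2023 [.bwd 0, .fwd 276, .fwd 268] [5] (.rel 20), .derive 2023 [.bwd 1, .fwd 276, .fwd 275] [7] (.rel 24), .node 1882 3, .derive 2024 [.bwd 0, .fwd 279, .fwd 268] [5] (.rel 38), .derive 2024 [.bwd 1, .fwd 279, .fwd 275] [7] (.rel 42), .node 1883 0,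
  .derive 2025 [.bwd 0, .fwd 279, .fwd 269] [5] (.rel 8), .derive 2025 [.bwd 1, .fwd 279, .fwd 25] [6] (.rel 10), .node 1883 3, .derive 2026 [.bwd 0, .fwd 281, .fwd 25] [6] (.rel 40), .node 1884 4, .derive 2027 [.bwd 0, .fwd 280, .fwd 25] [6] (.rel 46), .node 1885 3, .derive 2028 [.bwd 0, .fwd 279, .fwd 273] [7] (.rel 42),
  .node 1887 3, .derive 2029 [.bwd 0, .fwd 276, .fwd 28] [6] (.rel 40), .node 1890 4, .node 1891 4, .node 1893 3, .derive 2032 [.bwd 0, .fwd 267, .fwd 266] [7] (.rel 42), .node 1894 4, .derive 2033 [.bwd 0, .fwd 267, .fwd 4] [6] (.rel 46),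
  .node 1896 3, .derive 2034 [.bwd 0, .fwd 265, .fwd 261] [5] (.rel 38), .derive 2034 [.bwd 1, .fwd 265, .fwd 264] [7] (.rel 42), .node 1897 4, .derive 2035 [.bwd 0, .fwd 265, .fwd 8] [6] (.rel 46), .node 1899 3, .node 1901 3, .derive 2037 [.bwd 0, .fwd 261, .fwd 260] [5] (.rel 38),
  .node 1903 7, .derive 2038 [.bwd 0, .fwd 260, .fwd 258] [5] (.rel 53), .node 1904 6, .node 1905 6, .node 1907 6, .node 1908 6, .node 1910 3, .derive 2043 [.bwd 0, .fwd 257, .fwd 256] [7] (.rel 42),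
  .node 1911 4, .node 1913 3, .derive 2045 [.bwd 0, .fwd 255, .fwd 254] [7] (.rel 42), .node 1914 4]
def ph1_p5_1 : List Aux := [
  .derive 2046 [.bwd 0, .fwd 255, .fwd 16] [2] (.rel 29), .derive 2046 [.bwd 1, .fwd 254, .fwd 4] [6] (.rel 46), .node 1916 1, .derive 2047 [.bwd 0, .fwd 252, .fwd 250] [5] (.rel 20), .derive 2047 [.bwd 1, .fwd 252, .fwd 146] [7] (.rel 24), .node 1916 3, .derive 2048 [.bwd 0, .fwd 255, .fwd 250] [5] (.rel 38), .derive 2048 [.bwd 1, .fwd 255, .fwd 147] [7] (.rel 42),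
  .node 1917 0, .derive 2049 [.bwd 0, .fwd 255, .fwd 251] [4] (.rel 6), .derive 2049 [.bwd 1, .fwd 255, .fwd 147] [7] (.rel 12), .node 1917 3, .derive 2050 [.bwd 0, .fwd 258, .fwd 578, .bwd 361, .fwd 76] [4] (.rel 36), .derive 2050 [.bwd 1, .fwd 258, .fwd 147] [7] (.rel 42), .node 1920 1, .derive 2051 [.bwd 0, .fwd 254, .fwd 252] [5] (.rel 20),
  .derive 2051 [.bwd 1, .fwd 254, .fwd 143] [7] (.rel 24), .node 1920 3, .derive 2052 [.bwd 0, .fwd 257, .fwd 252] [5] (.rel 38), .derive 2052 [.bwd 1, .fwd 257, .fwd 144] [7] (.rel 42), .node 1921 0, .derive 2053 [.bwd 0, .fwd 257, .fwd 253] [4] (.rel 6), .derive 2053 [.bwd 1, .fwd 257, .fwd 144] [7] (.rel 12), .node 1921 3,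
  .derive 2054 [.bwd 0, .fwd 260, .fwd 581, .bwd 333, .fwd 53] [4] (.rel 36), .derive 2054 [.bwd 1, .fwd 260, .fwd 144] [7] (.rel 42), .node 1924 3, .derive 2055 [.bwd 0, .fwd 256, .fwd 215] [6] (.rel 40), .derive 2055 [.bwd 1, .fwd 256, .fwd 42] [7] (.rel 42), .node 1926 3, .derive 2056 [.bwd 0, .fwd 253, .fwd 43] [7] (.rel 42), .node 1928 6,
  .derive 2057 [.bwd 0, .fwd 251, .fwd 40] [1] (.rel 23), .node 1929 7, .node 1930 7, .derive 2059 [.bwd 0, .fwd 250, .fwd 1] [4] (.rel 49), .node 1931 6, .derive 2060 [.bwd 0, .fwd 250, .fwd 244] [3] (.rel 41), .node 1932 7, .derive 2061 [.bwd 0, .fwd 250, .fwd 212] [2] (.rel 35),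
  .node 1934 6, .derive 2062 [.bwd 0, .bwd 249, .bwd 574, .fwd 573, .fwd 248] [7] (.rel 54), .node 1936 3, .derive 2063 [.bwd 0, .fwd 248, .fwd 48] [6] (.rel 40), .node 1938 3, .derive 2064 [.bwd 0, .fwd 246, .fwd 15] [6] (.rel 40), .derive 2064 [.bwd 1, .fwd 246, .fwd 234] [7] (.rel 42), .node 1940 6,
  .node 1942 3, .derive 2066 [.bwd 0, .fwd 242, .fwd 51] [6] (.rel 40), .derive 2066 [.bwd 1, .fwd 242, .fwd 7] [7] (.rel 42), .node 1945 7, .derive 2067 [.bwd 0, .bwd 239, .fwd 237] [3] (.rel 43), .node 1946 6, .derive 2068 [.bwd 0, .fwd 238, .fwd 236] [5] (.rel 51), .derive 2068 [.bwd 1, .bwd 240, .fwd 564, .fwd 325, .fwd 64] [7] (.rel 54),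
  .node 1947 6, .derive 2069 [.bwd 0, .bwd 240, .fwd 564, .fwd 326, .fwd 65] [7] (.rel 54), .node 1949 7, .derive 2070 [.bwd 0, .bwd 239, .fwd 237] [3] (.rel 43), .node 1950 6, .derive 2071 [.bwd 0, .fwd 238, .fwd 236] [5] (.rel 51), .derive 2071 [.bwd 1, .bwd 240, .fwd 562, .fwd 328, .fwd 69] [7] (.rel 54), .node 1951 6,
  .derive 2072 [.bwd 0, .bwd 240, .fwd 562, .fwd 329, .fwd 70] [7] (.rel 54), .node 1953 6, .derive 2073 [.bwd 0, .fwd 238, .fwd 237] [5] (.rel 51), .derive 2073 [.bwd 1, .bwd 240, .fwd 557, .fwd 263, .fwd 19] [7] (.rel 54), .node 1958 7, .derive 2074 [.bwd 0, .bwd 232, .fwd 231] [4] (.rel 49), .node 1962 4, .derive 2075 [.bwd 0, .fwd 227, .fwd 529, .bwd 478, .fwd 183] [5] (.rel 44),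
  .node 1964 3, .derive 2076 [.bwd 0, .fwd 224, .fwd 220] [5] (.rel 38), .node 1965 4, .node 1966 3, .node 1968 4, .derive 2079 [.bwd 0, .fwd 222, .fwd 522, .bwd 471, .fwd 179] [5] (.rel 44), .node 1970 3, .derive 2080 [.bwd 0, .bwd 221, .fwd 219] [1] (.rel 17),
  .derive 2080 [.bwd 1, .fwd 221, .fwd 7] [6] (.rel 40), .node 1971 4, .derive 2081 [.bwd 0, .fwd 221, .fwd 519, .bwd 434, .fwd 150] [5] (.rel 44), .derive 2081 [.bwd 1, .fwd 221, .fwd 8] [6] (.rel 46), .node 1972 3, .derive 2082 [.bwd 0, .fwd 221, .fwd 519, .bwd 429, .fwd 147] [4] (.rel 36), .derive 2082 [.bwd 1, .fwd 221, .fwd 10] [6] (.rel 40), .node 1975 4,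
  .node 1976 3, .node 1979 4, .derive 2085 [.bwd 0, .fwd 214, .fwd 509, .bwd 402, .fwd 121] [5] (.rel 44), .derive 2085 [.bwd 1, .fwd 214, .fwd 3] [6] (.rel 46), .node 1980 3, .derive 2086 [.bwd 0, .fwd 214, .fwd 509, .bwd 397, .fwd 120] [4] (.rel 36), .derive 2086 [.bwd 1, .fwd 214, .fwd 5] [6] (.rel 40), .node 1982 4,
  .derive 2087 [.bwd 0, .fwd 212, .fwd 19] [2] (.rel 29), .derive 2087 [.bwd 1, .fwd 212, .fwd 508, .bwd 393, .fwd 122] [5] (.rel 44), .node 1983 4, .node 1985 0]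
def ph1_p5_2 : List Aux := [
  .derive 2089 [.bwd 0, .fwd 210, .fwd 209] [5] (.rel 8), .node 1987 3, .derive 2090 [.bwd 0, .bwd 210, .fwd 208] [0] (.rel 5), .derive 2090 [.bwd 1, .fwd 210, .fwd 207] [5] (.rel 38), .node 1991 4, .derive 2091 [.bwd 0, .bwd 208, .fwd 501, .fwd 219, .fwd 6] [3] (.rel 37), .node 1993 2, .derive 2092 [.bwd 0, .fwd 207, .fwd 203] [4] (.rel 28),
  .derive 2092 [.bwd 1, .fwd 207, .fwd 206] [7] (.rel 34), .node 1994 3, .node 1996 1, .derive 2094 [.bwd 0, .bwd 206, .fwd 494, .fwd 488, .fwd 200] [2] (.rel 14), .derive 2094 [.bwd 1, .fwd 206, .fwd 205] [7] (.rel 24), .node 1997 0, .derive 2095 [.bwd 0, .fwd 206, .fwd 201] [2] (.rel 2), .node 1998 0,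
  .derive 2096 [.bwd 0, .bwd 207, .fwd 495, .fwd 472, .fwd 189] [1] (.rel 0), .derive 2096 [.bwd 1, .fwd 207, .fwd 17] [6] (.rel 10), .node 1999 0, .derive 2097 [.bwd 0, .bwd 208, .fwd 495, .fwd 469, .fwd 185] [1] (.rel 0), .derive 2097 [.bwd 1, .fwd 208, .fwd 207] [7] (.rel 12), .derive 2097 [.bwd 2, .bwd 210, .bwd 498, .fwd 837, .bwd 1194, .fwd 1578, .fwd 1606, .fwd 1952, .fwd 2232, .fwd 2455, .fwd 2647, .bwd 2654, .bwd 2655, .edge 6, .edge 2, .edge 4, .edge 3, .edge 2, .edge 0, .edge 1, .edge 2, .edge 7, .edge 6, .edge 2, .edge 4, .edge 3, .edge 2, .edge 0, .edge 1, .edge 2, .edge 7, .edge 6, .edge 2, .edge 4, .edge 3, .edge 2, .edge 0, .edge 1, .edge 2, .edge 7, .edge 6, .edge 2, .edge 4, .edge 3, .edge 2, .edge 0, .edge 1, .edge 2, .edge 7, .edge 6, .edge 2, .edge 4, .edge 3, .edge 2, .edge 0, .edge 1, .edge 2, .edge 7, .edge 6, .edge 2, .edge 4, .edge 3, .edge 2, .edge 0, .edge 1, .edge 2, .edge 7, .edge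 6, .edge 2, .edge 4, .edge 3, .edge 2, .edge 0, .edge 1, .edge 2, .edge 7, .edge 6, .fwd 2657, .bwd 2650, .fwd 2454, .bwd 2440, .bwd 2218, .bwd 1937, .fwd 1590, .fwd 1206, .fwd 846, .fwd 506, .bwd 218, .fwd 11] [2] (.rel 71), .derive 2094 [.fwd 10, .fwd 3, .fwd 0] [0] (.rel 3), .derive 2093 [.bwd 0, .fwd 10, .fwd 9] [7] (.rel 12),
  .derive 2095 [.bwd 0, .bwd 14, .bwd 15] [3] (.rel 43), .derive 2003 [.bwd 207, .fwd 490, .bwd 491, .fwd 829, .bwd 831, .fwd 832, .bwd 493, .fwd 494, .fwd 822, .fwd 821, .bwd 1183, .bwd 1573, .fwd 1928, .bwd 1930, .bwd 2215, .fwd 2447, .fwd 2335, .bwd 2095, .bwd 2026, .fwd 1683, .bwd 1412, .fwd 1414, .fwd 1413, .fwd 1032, .fwd 674, .fwd 673, .fwd 1029, .bwd 1030, .fwd 1408, .fwd 1409, .fwd 1677, .bwd 1302, .fwd 1303, .fwd 1304, .bwd 939, .bwd 599, .bwd 290, .bwd 291, .fwd 294, .fwd 293, .fwd 292, .fwd 601, .fwd 517, .fwd 516, .fwd 852, .bwd 853, .fwd 851, .fwd 511, .fwd 221, .bwd 17,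 .bwd 0, .fwd 10, .bwd 212, .bwd 499, .bwd 840, .bwd 841, .bwd 843, .bwd 1200, .fwd 1199, .fwd 1580, .fwd 1934, .fwd 2105, .fwd 2354, .bwd 2280, .bwd 2281, .bwd 2498, .bwd 2687, .edge 4, .edge 3, .edge 2, .edge 0, .edge 1, .edge 2, .edge 7, .edge 6, .edge 2, .edge 4, .edge 3, .edge 2, .edge 0, .edge 1, .edge 2, .edge 7, .edge 6, .edge 2, .edge 4, .edge 3, .edge 2, .edge 0, .edge 1] [] (.rel 73), .derive 2003 [.fwd 0] [] (.free), .derive 222 [.bwd 0, .fwd 208] [6] (.free), .derive 336 [.edge 6, .fwd 0] [] (.free), .derive 1859 [.bwd 0] [] (.free), .derive 336 [.bwd 0, .fwd 493] [7] (.free), .derive 736 [.bwd 2716, .fwd 0] [] (.free),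
  .derive 1694 [.bwd 0] [] (.free), .derive 736 [.bwd 0, .bwd 792] [5] (.free), .derive 742 [.fwd 2707, .fwd 0] [] (.free), .derive 1713 [.bwd 0] [] (.free), .derive 742 [.bwd 0, .bwd 462] [7] (.free), .derive 397 [.fwd 2711, .fwd 0] [] (.free), .derive 1877 [.bwd 0] [] (.free), .derive 397 [.bwd 0, .bwd 188] [6] (.free),
  .derive 368 [.edge 6, .fwd 0] [] (.free), .derive 2019 [.bwd 0] [] (.free), .derive 368 [.bwd 0, .bwd 192] [2] (.free), .derive 353 [.edge 2, .fwd 0] [] (.free), .derive 1876 [.bwd 0] [] (.free), .derive 353 [.bwd 0, .bwd 473] [6] (.free), .derive 357 [.edge 6, .fwd 0] [] (.free), .derive 1711 [.bwd 0] [] (.free),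
  .derive 357 [.bwd 0, .bwd 812] [7] (.free), .derive 375 [.edge 7, .fwd 0] [] (.free), .derive 1529 [.bwd 0] [] (.free), .derive 375 [.bwd 0, .fwd 1183] [5] (.free), .derive 227 [.edge 5, .fwd 0] [] (.free), .derive 1511 [.bwd 0] [] (.free), .derive 227 [.bwd 0, .fwd 859] [7] (.free), .derive 217 [.edge 7, .fwd 0] [] (.free),
  .derive 1692 [.bwd 0] [] (.free), .derive 217 [.bwd 0, .fwd 523] [6] (.free), .derive 213 [.edge 6, .fwd 0] [] (.free), .derive 1858 [.bwd 0] [] (.free), .derive 213 [.bwd 0, .bwd 243] [4] (.free), .derive 108 [.edge 4, .fwd 0] [] (.free), .derive 2002 [.bwd 0] [] (.free), .derive 108 [.bwd 0, .bwd 247] [6] (.free),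
  .derive 112 [.edge 6, .fwd 0] [] (.free), .derive 1857 [.bwd 0] [] (.free), .derive 112 [.bwd 0, .bwd 536] [7] (.free), .derive 135 [.edge 7, .fwd 0] [] (.free), .derive 1690 [.bwd 0] [] (.free), .derive 135 [.bwd 0, .bwd 540] [5] (.free), .derive 136 [.edge 5, .fwd 0] [] (.free), .derive 1856 [.bwd 0] [] (.free),
  .derive 136 [.bwd 0, .fwd 257] [7] (.free), .derive 114 [.edge 7, .fwd 0] [] (.free), .derive 2001 [.bwd 0] [] (.free), .derive 114 [.bwd 0, .bwd 228] [4] (.free), .derive 243 [.edge 4, .fwd 0] [] (.free), .derive 2017 [.bwd 0] [] (.free), .derive 243 [.bwd 0, .bwd 232] [7] (.free), .derive 250 [.edge 7, .fwd 0] [] (.free),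
  .derive 1874 [.bwd 0] [] (.free), .derive 250 [.bwd 0, .fwd 512] [5] (.free), .derive 379 [.edge 5, .fwd 0] [] (.free), .derive 1710 [.bwd 0] [] (.free), .derive 379 [.bwd 0, .fwd 514] [7] (.free), .derive 365 [.edge 7, .fwd 0] [] (.free), .derive 1875 [.bwd 0] [] (.free), .derive 365 [.bwd 0, .fwd 239] [6] (.free),
  .derive 363 [.edge 6, .fwd 0] [] (.free), .derive 2018 [.bwd 0] [] (.free), .derive 363 [.bwd 0, .fwd 241] [0] (.free), .derive 366 [.edge 0, .fwd 0] [] (.free), .derive 1881 [.bwd 0] [] (.free), .derive 366 [.bwd 0, .bwd 513] [6] (.free), .derive 367 [.edge 6, .fwd 0] [] (.free), .derive 1716 [.bwd 0] [] (.free),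
  .derive 367 [.bwd 0, .bwd 849] [7] (.free), .derive 380 [.edge 7, .fwd 0] [] (.free), .derive 1533 [.bwd 0] [] (.free), .derive 380 [.bwd 0, .bwd 855] [5] (.free)]
def ph1_p5_3 : List Aux := [
  .derive 251 [.edge 5, .fwd 0] [] (.free), .derive 1714 [.bwd 0] [] (.free), .derive 251 [.bwd 0, .fwd 525] [7] (.free), .derive 245 [.edge 7, .fwd 0] [] (.free), .derive 1879 [.bwd 0] [] (.free), .derive 245 [.bwd 0, .fwd 249] [6] (.free), .derive 244 [.edge 6, .fwd 0] [] (.free), .derive 2022 [.bwd 0] [] (.free),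
  .derive 244 [.bwd 0, .fwd 251] [4] (.free), .derive 178 [.edge 4, .fwd 0] [] (.free), .derive 2004 [.bwd 0] [] (.free), .derive 178 [.bwd 0, .bwd 291] [6] (.free), .derive 180 [.edge 6, .fwd 0] [] (.free), .derive 1860 [.bwd 0] [] (.free), .derive 180 [.bwd 0, .bwd 576] [7] (.free), .derive 186 [.edge 7, .fwd 0] [] (.free),
  .derive 1695 [.bwd 0] [] (.free), .derive 186 [.bwd 0, .fwd 916] [5] (.free), .derive 185 [.edge 5, .fwd 0] [] (.free), .derive 1515 [.bwd 0] [] (.free), .derive 185 [.bwd 0, .fwd 918] [7] (.free), .derive 179 [.edge 7, .fwd 0] [] (.free), .derive 1696 [.bwd 0] [] (.free), .derive 179 [.bwd 0, .fwd 584] [6] (.free),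
  .derive 177 [.edge 6, .fwd 0] [] (.free), .derive 1861 [.bwd 0] [] (.free), .derive 177 [.bwd 0, .fwd 586] [4] (.free), .derive 219 [.edge 4, .fwd 0] [] (.free), .derive 1697 [.bwd 0] [] (.free), .derive 219 [.bwd 0, .bwd 923] [6] (.free), .derive 221 [.edge 6, .fwd 0] [] (.free), .derive 1517 [.bwd 0] [] (.free),
  .derive 221 [.bwd 0, .bwd 1289] [7] (.free), .derive 229 [.edge 7, .fwd 0] [] (.free), .derive 1325 [.bwd 0] [] (.free), .derive 229 [.bwd 0, .bwd 1648] [5] (.free), .derive 377 [.edge 5, .fwd 0] [] (.free), .derive 1340 [.bwd 0] [] (.free), .derive 377 [.bwd 0, .fwd 1261] [7] (.free), .derive 361 [.edge 7, .fwd 0] [] (.free),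
  .derive 1534 [.bwd 0] [] (.free), .derive 361 [.bwd 0, .fwd 893] [6] (.free), .derive 359 [.edge 6, .fwd 0] [] (.free), .derive 1717 [.bwd 0] [] (.free), .derive 359 [.bwd 0, .fwd 895] [3] (.free), .derive 358 [.edge 3, .fwd 0] [] (.free), .derive 1644 [.bwd 0] [] (.free), .derive 358 [.bwd 0, .bwd 1050] [6] (.free),
  .derive 360 [.edge 6, .fwd 0] [] (.free), .derive 1463 [.bwd 0] [] (.free), .derive 360 [.bwd 0, .bwd 1416] [7] (.free), .derive 376 [.edge 7, .fwd 0] [] (.free), .derive 1276 [.bwd 0] [] (.free), .derive 376 [.bwd 0, .fwd 1794] [5] (.free), .derive 228 [.edge 5, .fwd 0] [] (.free), .derive 1273 [.bwd 0] [] (.free),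
  .derive 228 [.bwd 0, .fwd 1428] [7] (.free), .derive 220 [.edge 7, .fwd 0] [] (.free), .derive 1460 [.bwd 0] [] (.free), .derive 220 [.bwd 0, .fwd 1068] [6] (.free), .derive 218 [.edge 6, .fwd 0] [] (.free), .derive 1640 [.bwd 0] [] (.free), .derive 218 [.bwd 0, .bwd 733] [4] (.free), .derive 172 [.edge 4, .fwd 0] [] (.free),
  .derive 1806 [.bwd 0] [] (.free), .derive 172 [.bwd 0, .bwd 737] [6] (.free), .derive 176 [.edge 6, .fwd 0] [] (.free), .derive 1639 [.bwd 0] [] (.free), .derive 176 [.bwd 0, .bwd 1079] [7] (.free), .derive 184 [.edge 7, .fwd 0] [] (.free), .derive 1459 [.bwd 0] [] (.free), .derive 184 [.bwd 0, .bwd 1083] [5] (.free),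
  .derive 184 [.edge 5, .fwd 0] [] (.free), .derive 1638 [.bwd 0] [] (.free), .derive 184 [.bwd 0, .fwd 747] [7] (.free), .derive 176 [.edge 7, .fwd 0] [] (.free), .derive 1805 [.bwd 0] [] (.free), .derive 176 [.bwd 0, .fwd 441] [6] (.free), .derive 172 [.edge 6, .fwd 0] [] (.free), .derive 1957 [.bwd 0] [] (.free),
  .derive 172 [.bwd 0, .bwd 440] [4] (.free), .derive 218 [.edge 4, .fwd 0] [] (.free), .derive 1960 [.bwd 0] [] (.free), .derive 218 [.bwd 0, .bwd 444] [6] (.free), .derive 220 [.edge 6, .fwd 0] [] (.free), .derive 1808 [.bwd 0] [] (.free), .derive 220 [.bwd 0, .bwd 754] [7] (.free), .derive 228 [.edge 7, .fwd 0] [] (.free),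
  .derive 1641 [.bwd 0] [] (.free), .derive 228 [.bwd 0, .fwd 1095] [5] (.free), .derive 376 [.edge 5, .fwd 0] [] (.free), .derive 1462 [.bwd 0] [] (.free), .derive 376 [.bwd 0, .fwd 1096] [7] (.free), .derive 360 [.edge 7, .fwd 0] [] (.free), .derive 1643 [.bwd 0] [] (.free), .derive 360 [.bwd 0, .fwd 759] [6] (.free),
  .derive 358 [.edge 6, .fwd 0] [] (.free), .derive 1810 [.bwd 0] [] (.free), .derive 358 [.bwd 0, .bwd 456] [3] (.free), .derive 359 [.edge 3, .fwd 0] [] (.free)]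
def ph1_p5_4 : List Aux := [
  .derive 1961 [.bwd 0] [] (.free), .derive 359 [.bwd 0, .bwd 460] [6] (.free), .derive 361 [.edge 6, .fwd 0] [] (.free), .derive 1809 [.bwd 0] [] (.free), .derive 361 [.bwd 0, .bwd 770] [7] (.free), .derive 377 [.edge 7, .fwd 0] [] (.free), .derive 1642 [.bwd 0] [] (.free), .derive 377 [.bwd 0, .bwd 776] [5] (.free),
  .derive 229 [.edge 5, .fwd 0] [] (.free), .derive 1807 [.bwd 0] [] (.free), .derive 229 [.bwd 0, .fwd 472] [7] (.free), .derive 221 [.edge 7, .fwd 0] [] (.free), .derive 1959 [.bwd 0] [] (.free), .derive 221 [.bwd 0, .bwd 243] [4] (.free), .derive 179 [.edge 4, .fwd 0] [] (.free), .derive 2074 [.bwd 0] [] (.free),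
  .derive 179 [.bwd 0, .bwd 247] [7] (.free), .derive 185 [.edge 7, .fwd 0] [] (.free), .derive 1958 [.bwd 0] [] (.free), .derive 185 [.bwd 0, .bwd 366] [5] (.free), .derive 186 [.edge 5, .fwd 0] [] (.free), .derive 2020 [.bwd 0] [] (.free), .derive 186 [.bwd 0, .bwd 370] [4] (.free), .derive 251 [.edge 4, .fwd 0] [] (.free),
  .derive 1878 [.bwd 0] [] (.free), .derive 251 [.bwd 0, .fwd 371] [7] (.free), .derive 245 [.edge 7, .fwd 0] [] (.free), .derive 2021 [.bwd 0] [] (.free), .derive 245 [.bwd 0, .fwd 373] [5] (.free), .derive 367 [.edge 5, .fwd 0] [] (.free), .derive 1880 [.bwd 0] [] (.free), .derive 367 [.bwd 0, .bwd 652] [7] (.free),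
  .derive 380 [.edge 7, .fwd 0] [] (.free), .derive 1715 [.bwd 0] [] (.free), .derive 380 [.bwd 0, .bwd 924] [2] (.free), .derive 396 [.edge 2, .fwd 0] [] (.free), .derive 1748 [.bwd 0] [] (.free), .derive 396 [.bwd 0, .fwd 602] [7] (.free), .derive 392 [.edge 7, .fwd 0] [] (.free), .derive 1908 [.bwd 0] [] (.free),
  .derive 392 [.bwd 0, .fwd 346] [6] (.free), .derive 741 [.bwd 2916, .fwd 0] [] (.free), .derive 2042 [.bwd 0] [] (.free), .derive 741 [.bwd 0, .bwd 278] [7] (.free), .derive 846 [.bwd 2730, .fwd 0] [] (.free), .derive 2072 [.bwd 0] [] (.free), .derive 846 [.bwd 0, .bwd 282] [6] (.free), .derive 782 [.bwd 2732, .fwd 0] [] (.free),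
  .derive 1951 [.bwd 0] [] (.free), .derive 782 [.bwd 0, .bwd 525] [7] (.free), .derive 500 [.fwd 2852, .fwd 0] [] (.free), .derive 1793 [.bwd 0] [] (.free), .derive 500 [.bwd 0, .bwd 531] [5] (.free), .derive 498 [.edge 5, .fwd 0] [] (.free), .derive 1949 [.bwd 0] [] (.free), .derive 498 [.bwd 0, .fwd 296] [7] (.free),
  .derive 779 [.bwd 2862, .fwd 0] [] (.free), .derive 2070 [.bwd 0] [] (.free), .derive 779 [.bwd 0, .fwd 298] [3] (.free), .derive 789 [.fwd 2846, .fwd 0] [] (.free), .derive 1950 [.bwd 0] [] (.free), .derive 789 [.bwd 0, .bwd 539] [7] (.free), .derive 522 [.fwd 2850, .fwd 0] [] (.free), .derive 1792 [.bwd 0] [] (.free),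
  .derive 522 [.bwd 0, .fwd 864] [6] (.free), .derive 513 [.edge 6, .fwd 0] [] (.free), .derive 1747 [.bwd 0] [] (.free), .derive 513 [.bwd 0, .fwd 633] [7] (.free), .derive 503 [.edge 7, .fwd 0] [] (.free), .derive 1907 [.bwd 0] [] (.free), .derive 503 [.bwd 0, .fwd 377] [6] (.free), .derive 785 [.bwd 2867, .fwd 0] [] (.free),
  .derive 2041 [.bwd 0] [] (.free), .derive 785 [.bwd 0, .bwd 310] [7] (.free), .derive 893 [.bwd 2666, .fwd 0] [] (.free), .derive 2071 [.bwd 0] [] (.free), .derive 893 [.bwd 0, .fwd 314] [5] (.free), .derive 894 [.fwd 2667, .fwd 0] [] (.free), .derive 1952 [.bwd 0] [] (.free), .derive 894 [.bwd 0, .fwd 553] [7] (.free),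
  .derive 786 [.fwd 2671, .fwd 0] [] (.free), .derive 1909 [.bwd 0] [] (.free), .derive 786 [.bwd 0, .bwd 646] [6] (.free), .derive 506 [.fwd 2878, .fwd 0] [] (.free), .derive 1749 [.bwd 0] [] (.free), .derive 506 [.bwd 0, .bwd 974] [7] (.free), .derive 516 [.edge 7, .fwd 0] [] (.free), .derive 1570 [.bwd 0] [] (.free),
  .derive 516 [.bwd 0, .bwd 1234] [6] (.free), .derive 523 [.edge 6, .fwd 0] [] (.free), .derive 1622 [.bwd 0] [] (.free), .derive 523 [.bwd 0, .fwd 888] [7] (.free), .derive 790 [.bwd 2878, .fwd 0] [] (.free), .derive 1794 [.bwd 0] [] (.free), .derive 790 [.bwd 0, .fwd 890] [4] (.free), .derive 801 [.fwd 2864, .fwd 0] [] (.free),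
  .derive 1623 [.bwd 0] [] (.free), .derive 801 [.bwd 0, .bwd 1242] [7] (.free), .derive 600 [.fwd 2868, .fwd 0] [] (.free), .derive 1436 [.bwd 0] [] (.free)]
def ph1_p5 : List Aux :=
  ((ph1_p5_0 ++ ph1_p5_1) ++ (ph1_p5_2 ++ (ph1_p5_3 ++ ph1_p5_4)))

theorem ph1_p5_ok : stHas (runList (auxStep' P) ph1_p5 (mkSt 1994 mask2 ph1_eq5)) 2098 mask2 ph1_eq6 = true := by decide +kernel

def ph1_p6_0 : List Aux := [
  .derive 600 [.bwd 0, .fwd 1624] [6] (.free), .derive 585 [.edge 6, .fwd 0] [] (.free), .derive 1382 [.bwd 0] [] (.free), .derive 585 [.bwd 0, .fwd 1352] [7] (.free), .derive 583 [.edge 7, .fwd 0] [] (.free), .derive 1571 [.bwd 0] [] (.free), .derive 583 [.bwd 0, .fwd 994] [6] (.free), .derive 796 [.bwd 2885, .fwd 0] [] (.free),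
  .derive 1750 [.bwd 0] [] (.free), .derive 796 [.bwd 0, .bwd 902] [7] (.free), .derive 906 [.bwd 2680, .fwd 0] [] (.free), .derive 1795 [.bwd 0] [] (.free), .derive 906 [.bwd 0, .fwd 906] [3] (.free), .derive 905 [.bwd 2682, .fwd 0] [] (.free), .derive 1791 [.bwd 0] [] (.free), .derive 905 [.bwd 0, .fwd 918] [7] (.free),
  .derive 795 [.fwd 2687, .fwd 0] [] (.free), .derive 1746 [.bwd 0] [] (.free), .derive 795 [.bwd 0, .bwd 1011] [6] (.free), .derive 573 [.fwd 2898, .fwd 0] [] (.free), .derive 1568 [.bwd 0] [] (.free), .derive 573 [.bwd 0, .bwd 1374] [7] (.free), .derive 577 [.edge 7, .fwd 0] [] (.free), .derive 1378 [.bwd 0] [] (.free),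
  .derive 577 [.bwd 0, .bwd 1655] [6] (.free), .derive 599 [.edge 6, .fwd 0] [] (.free), .derive 1433 [.bwd 0] [] (.free), .derive 599 [.bwd 0, .fwd 1278] [7] (.free), .derive 800 [.bwd 2900, .fwd 0] [] (.free), .derive 1620 [.bwd 0] [] (.free), .derive 800 [.bwd 0, .bwd 935] [4] (.free), .derive 776 [.bwd 2902, .fwd 0] [] (.free),
  .derive 1790 [.bwd 0] [] (.free), .derive 776 [.bwd 0, .bwd 939] [7] (.free), .derive 496 [.fwd 2944, .fwd 0] [] (.free), .derive 1619 [.bwd 0] [] (.free), .derive 496 [.bwd 0, .fwd 1288] [6] (.free), .derive 442 [.edge 6, .fwd 0] [] (.free), .derive 1567 [.bwd 0] [] (.free), .derive 442 [.bwd 0, .fwd 1034] [7] (.free),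
  .derive 434 [.edge 7, .fwd 0] [] (.free), .derive 1745 [.bwd 0] [] (.free), .derive 434 [.bwd 0, .fwd 709] [6] (.free), .derive 744 [.bwd 3014, .fwd 0] [] (.free), .derive 1906 [.bwd 0] [] (.free), .derive 744 [.bwd 0, .bwd 626] [7] (.free), .derive 848 [.bwd 2829, .fwd 0] [] (.free), .derive 1948 [.bwd 0] [] (.free),
  .derive 848 [.bwd 0, .bwd 393] [5] (.free), .derive 847 [.bwd 2831, .fwd 0] [] (.free), .derive 2068 [.bwd 0] [] (.free), .derive 847 [.bwd 0, .fwd 395] [7] (.free), .derive 743 [.fwd 2836, .fwd 0] [] (.free), .derive 2039 [.bwd 0] [] (.free), .derive 743 [.bwd 0, .bwd 463] [6] (.free), .derive 430 [.fwd 3027, .fwd 0] [] (.free),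
  .derive 1904 [.bwd 0] [] (.free), .derive 430 [.bwd 0, .bwd 727] [7] (.free), .derive 438 [.edge 7, .fwd 0] [] (.free), .derive 1743 [.bwd 0] [] (.free), .derive 438 [.bwd 0, .bwd 969] [6] (.free), .derive 492 [.edge 6, .fwd 0] [] (.free), .derive 1788 [.bwd 0] [] (.free), .derive 492 [.bwd 0, .fwd 648] [7] (.free),
  .derive 769 [.bwd 2986, .fwd 0] [] (.free), .derive 1946 [.bwd 0] [] (.free), .derive 769 [.bwd 0, .bwd 413] [3] (.free), .derive 763 [.bwd 2988, .fwd 0] [] (.free), .derive 2067 [.bwd 0] [] (.free), .derive 763 [.bwd 0, .bwd 417] [7] (.free), .derive 488 [.fwd 3004, .fwd 0] [] (.free), .derive 1945 [.bwd 0] [] (.free),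
  .derive 488 [.bwd 0, .fwd 658] [6] (.free), .derive 262 [.edge 6, .fwd 0] [] (.free), .derive 1903 [.bwd 0] [] (.free), .derive 262 [.bwd 0, .fwd 486] [7] (.free), .derive 256 [.edge 7, .fwd 0] [] (.free), .derive 2038 [.bwd 0] [] (.free), .derive 256 [.bwd 0, .fwd 488] [5] (.free), .derive 390 [.edge 5, .fwd 0] [] (.free),
  .derive 1905 [.bwd 0] [] (.free), .derive 390 [.bwd 0, .bwd 750] [7] (.free), .derive 394 [.edge 7, .fwd 0] [] (.free), .derive 1744 [.bwd 0] [] (.free), .derive 394 [.bwd 0, .bwd 991] [6] (.free), .derive 494 [.edge 6, .fwd 0] [] (.free), .derive 1789 [.bwd 0] [] (.free), .derive 494 [.bwd 0, .fwd 670] [7] (.free),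
  .derive 773 [.bwd 3002, .fwd 0] [] (.free), .derive 1947 [.bwd 0] [] (.free), .derive 773 [.bwd 0, .fwd 433] [6] (.free), .derive 845 [.fwd 2878, .fwd 0] [] (.free), .derive 2069 [.bwd 0] [] (.free), .derive 845 [.bwd 0, .fwd 435] [7] (.free), .derive 740 [.fwd 2882, .fwd 0] [] (.free), .derive 2040 [.bwd 0] [] (.free),
  .derive 740 [.bwd 0, .bwd 463] [1] (.free), .derive 757 [.fwd 3042, .fwd 0] [] (.free), .derive 2057 [.bwd 0] [] (.free), .derive 757 [.bwd 0, .bwd 467] [6] (.free)]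
def ph1_p6_1 : List Aux := [
  .derive 478 [.fwd 3046, .fwd 0] [] (.free), .derive 1928 [.bwd 0] [] (.free), .derive 478 [.bwd 0, .fwd 720] [7] (.free), .derive 479 [.edge 7, .fwd 0] [] (.free), .derive 1772 [.bwd 0] [] (.free), .derive 479 [.bwd 0, .fwd 722] [6] (.free), .derive 495 [.edge 6, .fwd 0] [] (.free), .derive 1929 [.bwd 0] [] (.free),
  .derive 495 [.bwd 0, .fwd 474] [7] (.free), .derive 775 [.bwd 3020, .fwd 0] [] (.free), .derive 2058 [.bwd 0] [] (.free), .derive 775 [.bwd 0, .bwd 475] [4] (.free), .derive 784 [.fwd 3009, .fwd 0] [] (.free), .derive 2059 [.bwd 0] [] (.free), .derive 784 [.bwd 0, .bwd 479] [7] (.free), .derive 501 [.fwd 3013, .fwd 0] [] (.free),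
  .derive 1930 [.bwd 0] [] (.free), .derive 501 [.bwd 0, .bwd 733] [6] (.free), .derive 485 [.edge 6, .fwd 0] [] (.free), .derive 1773 [.bwd 0] [] (.free), .derive 485 [.bwd 0, .fwd 734] [7] (.free), .derive 484 [.edge 7, .fwd 0] [] (.free), .derive 1931 [.bwd 0] [] (.free), .derive 484 [.bwd 0, .fwd 486] [6] (.free),
  .derive 760 [.bwd 3063, .fwd 0] [] (.free), .derive 2060 [.bwd 0] [] (.free), .derive 760 [.bwd 0, .fwd 488] [3] (.free), .derive 788 [.fwd 3017, .fwd 0] [] (.free), .derive 1935 [.bwd 0] [] (.free), .derive 788 [.bwd 0, .bwd 487] [7] (.free), .derive 898 [.bwd 2814, .fwd 0] [] (.free), .derive 2062 [.bwd 0] [] (.free),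
  .derive 898 [.bwd 0, .bwd 491] [6] (.free), .derive 794 [.bwd 2816, .fwd 0] [] (.free), .derive 1934 [.bwd 0] [] (.free), .derive 794 [.bwd 0, .bwd 743] [7] (.free), .derive 525 [.fwd 3017, .fwd 0] [] (.free), .derive 1775 [.bwd 0] [] (.free), .derive 525 [.bwd 0, .bwd 1071] [6] (.free), .derive 521 [.edge 6, .fwd 0] [] (.free),
  .derive 1602 [.bwd 0] [] (.free), .derive 521 [.bwd 0, .fwd 1073] [7] (.free), .derive 519 [.edge 7, .fwd 0] [] (.free), .derive 1776 [.bwd 0] [] (.free), .derive 519 [.bwd 0, .bwd 753] [5] (.free), .derive 518 [.edge 5, .fwd 0] [] (.free), .derive 1933 [.bwd 0] [] (.free), .derive 518 [.bwd 0, .bwd 757] [7] (.free),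
  .derive 520 [.edge 7, .fwd 0] [] (.free), .derive 1774 [.bwd 0] [] (.free), .derive 520 [.bwd 0, .fwd 762] [6] (.free), .derive 524 [.edge 6, .fwd 0] [] (.free), .derive 1932 [.bwd 0] [] (.free), .derive 524 [.bwd 0, .fwd 514] [7] (.free), .derive 792 [.bwd 3038, .fwd 0] [] (.free), .derive 2061 [.bwd 0] [] (.free),
  .derive 792 [.bwd 0, .fwd 516] [2] (.free), .derive 901 [.fwd 2835, .fwd 0] [] (.free), .derive 1953 [.bwd 0] [] (.free), .derive 901 [.bwd 0, .bwd 732] [7] (.free), .derive 791 [.fwd 2839, .fwd 0] [] (.free), .derive 1796 [.bwd 0] [] (.free), .derive 791 [.bwd 0, .fwd 1052] [6] (.free), .derive 900 [.bwd 2843, .fwd 0] [] (.free),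
  .derive 1781 [.bwd 0] [] (.free), .derive 900 [.bwd 0, .fwd 761] [7] (.free), .derive 1025 [.bwd 2597, .fwd 0] [] (.free), .derive 1940 [.bwd 0] [] (.free), .derive 1025 [.bwd 0, .fwd 520] [6] (.free), .derive 1179 [.bwd 2299, .fwd 0] [] (.free), .derive 2065 [.bwd 0] [] (.free), .derive 1179 [.bwd 0, .bwd 503] [7] (.free),
  .derive 1026 [.bwd 2301, .fwd 0] [] (.free), .derive 2073 [.bwd 0] [] (.free), .derive 1026 [.bwd 0, .fwd 507] [5] (.free), .derive 1031 [.fwd 2595, .fwd 0] [] (.free), .derive 1954 [.bwd 0] [] (.free), .derive 1031 [.bwd 0, .fwd 747] [7] (.free), .derive 1185 [.fwd 2296, .fwd 0] [] (.free), .derive 1941 [.bwd 0] [] (.free),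
  .derive 1185 [.bwd 0, .bwd 775] [6] (.free), .derive 1030 [.fwd 2300, .fwd 0] [] (.free), .derive 1782 [.bwd 0] [] (.free), .derive 1030 [.bwd 0, .bwd 1103] [7] (.free), .derive 903 [.fwd 2606, .fwd 0] [] (.free), .derive 1610 [.bwd 0] [] (.free), .derive 903 [.bwd 0, .bwd 1422] [6] (.free), .derive 793 [.fwd 2861, .fwd 0] [] (.free),
  .derive 1626 [.bwd 0] [] (.free), .derive 793 [.bwd 0, .fwd 1078] [7] (.free), .derive 904 [.bwd 2863, .fwd 0] [] (.free), .derive 1797 [.bwd 0] [] (.free), .derive 904 [.bwd 0, .fwd 1080] [4] (.free), .derive 920 [.fwd 2834, .fwd 0] [] (.free), .derive 1627 [.bwd 0] [] (.free), .derive 920 [.bwd 0, .bwd 1430] [7] (.free),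
  .derive 804 [.fwd 2839, .fwd 0] [] (.free), .derive 1441 [.bwd 0] [] (.free), .derive 804 [.bwd 0, .fwd 1810] [6] (.free), .derive 919 [.bwd 2844, .fwd 0] [] (.free)]
def ph1_p6_2 : List Aux := [
  .derive 1423 [.bwd 0] [] (.free), .derive 919 [.bwd 0, .fwd 1469] [7] (.free), .derive 1047 [.bwd 2594, .fwd 0] [] (.free), .derive 1611 [.bwd 0] [] (.free), .derive 1047 [.bwd 0, .fwd 1123] [6] (.free), .derive 1207 [.bwd 2285, .fwd 0] [] (.free), .derive 1783 [.bwd 0] [] (.free), .derive 1207 [.bwd 0, .bwd 1092] [7] (.free),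
  .derive 1048 [.bwd 2287, .fwd 0] [] (.free), .derive 1798 [.bwd 0] [] (.free), .derive 1048 [.bwd 0, .bwd 1096, .fwd 0] [3] (.free), .derive 1206 [.fwd 2292, .bwd 0] [] (.free), .derive 1206 [.fwd 0] [] (.free), .derive 1048 [.bwd 0, .bwd 1927] [7] (.free), .derive 1207 [.fwd 2293, .fwd 0] [] (.free), .derive 1393 [.bwd 0] [] (.free),
  .derive 1207 [.bwd 0, .bwd 1931] [6] (.free), .derive 1047 [.fwd 2297, .fwd 0] [] (.free), .derive 1205 [.bwd 0] [] (.free), .derive 1047 [.bwd 0, .bwd 2302] [7] (.free), .derive 919 [.fwd 2612, .fwd 0] [] (.free), .derive 1045 [.bwd 0] [] (.free), .derive 919 [.bwd 0, .bwd 2618] [6] (.free), .derive 804 [.fwd 2868, .fwd 0] [] (.free),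
  .derive 918 [.bwd 0] [] (.free), .derive 804 [.bwd 0, .fwd 2619] [7] (.free), .derive 920 [.bwd 2869, .fwd 0] [] (.free), .derive 1046 [.bwd 0] [] (.free), .derive 920 [.bwd 0, .bwd 2312] [4] (.free), .derive 904 [.bwd 2870, .fwd 0] [] (.free), .derive 1204 [.bwd 0] [] (.free), .derive 904 [.bwd 0, .bwd 2316] [7] (.free),
  .derive 793 [.fwd 2905, .fwd 0] [] (.free), .derive 1044 [.bwd 0] [] (.free), .derive 793 [.bwd 0, .fwd 2321] [6] (.free), .derive 903 [.bwd 2909, .fwd 0] [] (.free), .derive 1203 [.bwd 0] [] (.free), .derive 903 [.bwd 0, .fwd 1954] [7] (.free), .derive 1030 [.bwd 2660, .fwd 0] [] (.free), .derive 1391 [.bwd 0] [] (.free),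
  .derive 1030 [.bwd 0, .fwd 1576] [6] (.free), .derive 1185 [.bwd 2360, .fwd 0] [] (.free), .derive 1579 [.bwd 0] [] (.free), .derive 1185 [.bwd 0, .fwd 1578] [7] (.free), .derive 1031 [.bwd 2362, .fwd 0] [] (.free), .derive 1392 [.bwd 0] [] (.free), .derive 1031 [.bwd 0, .bwd 1583] [5] (.free), .derive 1026 [.bwd 2667, .fwd 0] [] (.free),
  .derive 1578 [.bwd 0] [] (.free), .derive 1026 [.bwd 0, .bwd 1229] [7] (.free), .derive 1179 [.fwd 2379, .fwd 0] [] (.free), .derive 1755 [.bwd 0] [] (.free), .derive 1179 [.bwd 0, .bwd 1233] [6] (.free), .derive 1025 [.fwd 2383, .fwd 0] [] (.free), .derive 1577 [.bwd 0] [] (.free), .derive 1025 [.bwd 0, .bwd 1595] [7] (.free),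
  .derive 900 [.fwd 2687, .fwd 0] [] (.free), .derive 1389 [.bwd 0] [] (.free), .derive 900 [.bwd 0, .bwd 1981] [6] (.free), .derive 791 [.fwd 2939, .fwd 0] [] (.free), .derive 1202 [.bwd 0] [] (.free), .derive 791 [.bwd 0, .fwd 1982] [7] (.free), .derive 901 [.bwd 2941, .fwd 0] [] (.free), .derive 1390 [.bwd 0] [] (.free),
  .derive 901 [.bwd 0, .fwd 1983] [3] (.free), .derive 1024 [.fwd 2697, .fwd 0] [] (.free), .derive 1365 [.bwd 0] [] (.free), .derive 1024 [.bwd 0, .bwd 2031] [7] (.free), .derive 899 [.fwd 2702, .fwd 0] [] (.free), .derive 1180 [.bwd 0] [] (.free), .derive 899 [.bwd 0, .fwd 2036] [6] (.free), .derive 1023 [.bwd 2706, .fwd 0] [] (.free),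
  .derive 1364 [.bwd 0] [] (.free), .derive 1023 [.bwd 0, .fwd 1652] [7] (.free), .derive 1177 [.bwd 2407, .fwd 0] [] (.free), .derive 1555 [.bwd 0] [] (.free), .derive 1177 [.bwd 0, .fwd 1289] [6] (.free), .derive 1362 [.bwd 2047, .fwd 0] [] (.free), .derive 1735 [.bwd 0] [] (.free), .derive 1362 [.bwd 0, .fwd 1290] [7] (.free),
  .derive 1178 [.bwd 2049, .fwd 0] [] (.free), .derive 1556 [.bwd 0] [] (.free), .derive 1178 [.bwd 0, .fwd 1658] [5] (.free), .derive 1184 [.fwd 2403, .fwd 0] [] (.free), .derive 1367 [.bwd 0] [] (.free), .derive 1184 [.bwd 0, .bwd 1659] [7] (.free), .derive 1368 [.fwd 2043, .fwd 0] [] (.free), .derive 1557 [.bwd 0] [] (.free),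
  .derive 1368 [.bwd 0, .bwd 1663] [6] (.free), .derive 1183 [.fwd 2048, .fwd 0] [] (.free), .derive 1366 [.bwd 0] [] (.free), .derive 1183 [.bwd 0, .bwd 2052] [7] (.free), .derive 1028 [.fwd 2415, .fwd 0] [] (.free), .derive 1181 [.bwd 0] [] (.free), .derive 1028 [.bwd 0, .bwd 2420] [6] (.free), .derive 902 [.fwd 2722, .fwd 0] [] (.free),
  .derive 1027 [.bwd 0] [] (.free), .derive 902 [.bwd 0, .fwd 2422] [7] (.free), .derive 1029 [.bwd 2723, .fwd 0] [] (.free), .derive 1182 [.bwd 0] [] (.free)]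
def ph1_p6_3 : List Aux := [
  .derive 1029 [.bwd 0, .fwd 2424] [2] (.free), .derive 1016 [.bwd 2725, .fwd 0] [] (.free), .derive 1166 [.bwd 0] [] (.free), .derive 1016 [.bwd 0, .bwd 2460] [7] (.free), .derive 891 [.fwd 2754, .fwd 0] [] (.free), .derive 1015 [.bwd 0] [] (.free), .derive 891 [.bwd 0, .fwd 2465] [5] (.free), .derive 889 [.bwd 3002, .fwd 0] [] (.free),
  .derive 1165 [.bwd 0] [] (.free), .derive 889 [.bwd 0, .fwd 2101] [7] (.free), .derive 1013 [.bwd 2766, .fwd 0] [] (.free), .derive 1350 [.bwd 0] [] (.free), .derive 1013 [.bwd 0, .fwd 1714] [6] (.free), .derive 1164 [.bwd 2474, .fwd 0] [] (.free), .derive 1543 [.bwd 0] [] (.free), .derive 1164 [.bwd 0, .fwd 1715] [5] (.free),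
  .derive 1167 [.fwd 2469, .fwd 0] [] (.free), .derive 1351 [.bwd 0] [] (.free), .derive 1167 [.bwd 0, .fwd 2106] [3] (.free), .derive 1017 [.bwd 2473, .fwd 0] [] (.free), .derive 1333 [.bwd 0] [] (.free), .derive 1017 [.bwd 0, .bwd 2148] [6] (.free), .derive 892 [.fwd 2769, .fwd 0] [] (.free), .derive 1151 [.bwd 0] [] (.free),
  .derive 892 [.bwd 0, .bwd 2510] [7] (.free), .derive 783 [.fwd 3019, .fwd 0] [] (.free), .derive 1001 [.bwd 0] [] (.free), .derive 783 [.bwd 0, .fwd 2515] [5] (.free), .derive 780 [.bwd 3227, .fwd 0] [] (.free), .derive 1150 [.bwd 0] [] (.free), .derive 780 [.bwd 0, .fwd 2160] [7] (.free), .derive 890 [.bwd 3030, .fwd 0] [] (.free),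
  .derive 1332 [.bwd 0] [] (.free), .derive 890 [.bwd 0, .fwd 1775] [6] (.free), .derive 1014 [.bwd 2788, .fwd 0] [] (.free), .derive 1524 [.bwd 0] [] (.free), .derive 1014 [.bwd 0, .fwd 1777] [4] (.free), .derive 990 [.bwd 2790, .fwd 0] [] (.free), .derive 1494 [.bwd 0] [] (.free), .derive 990 [.bwd 0, .bwd 1841] [6] (.free),
  .derive 877 [.fwd 2840, .fwd 0] [] (.free), .derive 1307 [.bwd 0] [] (.free), .derive 877 [.bwd 0, .bwd 2226] [7] (.free), .derive 767 [.fwd 3070, .fwd 0] [] (.free), .derive 1130 [.bwd 0] [] (.free), .derive 767 [.bwd 0, .bwd 2575] [5] (.free), .derive 761 [.bwd 3270, .fwd 0] [] (.free), .derive 985 [.bwd 0] [] (.free),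
  .derive 761 [.bwd 0, .fwd 2577] [7] (.free), .derive 871 [.bwd 3088, .fwd 0] [] (.free), .derive 1131 [.bwd 0] [] (.free), .derive 871 [.bwd 0, .fwd 2233] [6] (.free), .derive 981 [.bwd 2869, .fwd 0] [] (.free), .derive 1308 [.bwd 0] [] (.free), .derive 981 [.bwd 0, .fwd 2234] [4] (.free), .derive 987 [.fwd 2860, .fwd 0] [] (.free),
  .derive 1132 [.bwd 0] [] (.free), .derive 987 [.bwd 0, .bwd 2583] [6] (.free), .derive 875 [.fwd 2864, .fwd 0] [] (.free), .derive 986 [.bwd 0] [] (.free), .derive 875 [.bwd 0, .bwd 2867] [7] (.free), .derive 765 [.fwd 3092, .fwd 0] [] (.free), .derive 874 [.bwd 0] [] (.free), .derive 765 [.bwd 0, .bwd 3076] [5] (.free),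
  .derive 774 [.fwd 3276, .fwd 0] [] (.free), .derive 883 [.bwd 0] [] (.free), .derive 774 [.bwd 0, .fwd 2842] [7] (.free), .derive 884 [.bwd 3079, .fwd 0] [] (.free), .derive 1002 [.bwd 0] [] (.free), .derive 884 [.bwd 0, .fwd 2554] [6] (.free), .derive 1003 [.bwd 2845, .fwd 0] [] (.free), .derive 1152 [.bwd 0] [] (.free),
  .derive 1003 [.bwd 0, .fwd 2198] [2] (.free), .derive 1114 [.fwd 2636, .fwd 0] [] (.free), .derive 1334 [.bwd 0] [] (.free), .derive 1114 [.bwd 0, .bwd 2173] [6] (.free), .derive 972 [.fwd 2640, .fwd 0] [] (.free), .derive 1346 [.bwd 0] [] (.free), .derive 972 [.bwd 0, .bwd 1787] [7] (.free), .derive 862 [.fwd 2913, .fwd 0] [] (.free),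
  .derive 1539 [.bwd 0] [] (.free), .derive 862 [.bwd 0, .fwd 1791] [5] (.free), .derive 857 [.bwd 3137, .fwd 0] [] (.free), .derive 1522 [.bwd 0] [] (.free), .derive 857 [.bwd 0, .fwd 1829] [7] (.free), .derive 966 [.bwd 2932, .fwd 0] [] (.free), .derive 1331 [.bwd 0] [] (.free), .derive 966 [.bwd 0, .fwd 2218] [6] (.free),
  .derive 1105 [.bwd 2671, .fwd 0] [] (.free), .derive 1309 [.bwd 0] [] (.free), .derive 1105 [.bwd 0, .bwd 1889] [4] (.free), .derive 1102 [.bwd 2673, .fwd 0] [] (.free), .derive 1495 [.bwd 0] [] (.free), .derive 1102 [.bwd 0, .bwd 1840] [6] (.free), .derive 964 [.fwd 2681, .fwd 0] [] (.free), .derive 1521 [.bwd 0] [] (.free),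
  .derive 964 [.bwd 0, .bwd 1481] [7] (.free), .derive 855 [.fwd 2947, .fwd 0] [] (.free), .derive 1700 [.bwd 0] [] (.free), .derive 855 [.bwd 0, .bwd 1157] [5] (.free)]
def ph1_p6_4 : List Aux := [
  .derive 858 [.fwd 3162, .fwd 0] [] (.free), .derive 1862 [.bwd 0] [] (.free), .derive 858 [.bwd 0, .fwd 1159] [7] (.free), .derive 968 [.bwd 2946, .fwd 0] [] (.free), .derive 1699 [.bwd 0] [] (.free), .derive 968 [.bwd 0, .fwd 1493] [6] (.free), .derive 1108 [.bwd 2683, .fwd 0] [] (.free), .derive 1671 [.bwd 0] [] (.free),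
  .derive 1108 [.bwd 0, .bwd 1482] [4] (.free), .derive 1120 [.fwd 2658, .fwd 0] [] (.free), .derive 1705 [.bwd 0] [] (.free), .derive 1120 [.bwd 0, .bwd 1456] [6] (.free), .derive 976 [.fwd 2663, .fwd 0] [] (.free), .derive 1719 [.bwd 0] [] (.free), .derive 976 [.bwd 0, .bwd 1131] [7] (.free), .derive 866 [.fwd 2942, .fwd 0] [] (.free),
  .derive 1882 [.bwd 0] [] (.free), .derive 866 [.bwd 0, .fwd 1135] [5] (.free), .derive 868 [.fwd 3161, .fwd 0] [] (.free), .derive 1720 [.bwd 0] [] (.free), .derive 868 [.bwd 0, .fwd 1462] [7] (.free), .derive 978 [.bwd 2943, .fwd 0] [] (.free), .derive 1538 [.bwd 0] [] (.free), .derive 978 [.bwd 0, .fwd 1835] [6] (.free),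
  .derive 1123 [.bwd 2668, .fwd 0] [] (.free), .derive 1525 [.bwd 0] [] (.free), .derive 1123 [.bwd 0, .fwd 1497] [3] (.free), .derive 1300 [.fwd 2321, .fwd 0] [] (.free), .derive 1707 [.bwd 0] [] (.free), .derive 1300 [.bwd 0, .bwd 1466] [6] (.free), .derive 1122 [.fwd 2325, .fwd 0] [] (.free), .derive 1722 [.bwd 0] [] (.free),
  .derive 1122 [.bwd 0, .bwd 1138] [7] (.free), .derive 977 [.fwd 2679, .fwd 0] [] (.free), .derive 1886 [.bwd 0] [] (.free), .derive 977 [.bwd 0, .bwd 873] [5] (.free), .derive 975 [.bwd 2959, .fwd 0] [] (.free), .derive 2024 [.bwd 0] [] (.free), .derive 975 [.bwd 0, .fwd 875] [7] (.free), .derive 1119 [.bwd 2692, .fwd 0] [] (.free),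
  .derive 1884 [.bwd 0] [] (.free), .derive 1119 [.bwd 0, .fwd 1152] [6] (.free), .derive 1297 [.bwd 2343, .fwd 0] [] (.free), .derive 1871 [.bwd 0] [] (.free), .derive 1297 [.bwd 0, .fwd 900] [4] (.free), .derive 1483 [.fwd 1966, .fwd 0] [] (.free), .derive 2015 [.bwd 0] [] (.free), .derive 1483 [.bwd 0, .bwd 877] [6] (.free),
  .derive 1296 [.fwd 1970, .fwd 0] [] (.free), .derive 2027 [.bwd 0] [] (.free), .derive 1296 [.bwd 0, .bwd 759] [5] (.free), .derive 1482 [.fwd 1974, .fwd 0] [] (.free), .derive 2085 [.bwd 0] [] (.free), .derive 1482 [.bwd 0, .fwd 761] [6] (.free), .derive 1663 [.bwd 1616, .fwd 0] [] (.free), .derive 2083 [.bwd 0] [] (.free),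
  .derive 1663 [.bwd 0, .bwd 768] [4] (.free), .derive 1665 [.fwd 1613, .fwd 0] [] (.free), .derive 1975 [.bwd 0] [] (.free), .derive 1665 [.bwd 0, .bwd 982] [6] (.free), .derive 1485 [.fwd 1617, .fwd 0] [] (.free), .derive 1979 [.bwd 0] [] (.free), .derive 1485 [.bwd 0, .bwd 842] [7] (.free), .derive 1298 [.fwd 1981, .fwd 0] [] (.free),
  .derive 2052 [.bwd 0] [] (.free), .derive 1298 [.bwd 0, .fwd 846] [5] (.free), .derive 1121 [.fwd 2365, .fwd 0] [] (.free), .derive 1922 [.bwd 0] [] (.free), .derive 1121 [.bwd 0, .fwd 1101] [7] (.free), .derive 1299 [.bwd 2366, .fwd 0] [] (.free), .derive 1831 [.bwd 0] [] (.free), .derive 1299 [.bwd 0, .fwd 1289] [6] (.free),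
  .derive 1486 [.bwd 1988, .fwd 0] [] (.free), .derive 1827 [.bwd 0] [] (.free), .derive 1486 [.bwd 0, .bwd 1303] [3] (.free), .derive 1477 [.bwd 1990, .fwd 0] [] (.free), .derive 1658 [.bwd 0] [] (.free), .derive 1477 [.bwd 0, .bwd 1643] [6] (.free), .derive 1290 [.fwd 2014, .fwd 0] [] (.free), .derive 1661 [.bwd 0] [] (.free),
  .derive 1290 [.bwd 0, .bwd 1439] [7] (.free), .derive 1112 [.fwd 2396, .fwd 0] [] (.free), .derive 1763 [.bwd 0] [] (.free), .derive 1112 [.bwd 0, .bwd 1122] [5] (.free), .derive 1289 [.bwd 2401, .fwd 0] [] (.free), .derive 1920 [.bwd 0] [] (.free), .derive 1289 [.bwd 0, .fwd 1124] [7] (.free), .derive 1476 [.bwd 2025, .fwd 0] [] (.free),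
  .derive 1829 [.bwd 0] [] (.free), .derive 1476 [.bwd 0, .fwd 1313] [6] (.free), .derive 1657 [.bwd 1665, .fwd 0] [] (.free), .derive 1825 [.bwd 0] [] (.free), .derive 1657 [.bwd 0, .fwd 1323] [4] (.free), .derive 1648 [.bwd 1667, .fwd 0] [] (.free), .derive 1814 [.bwd 0] [] (.free), .derive 1648 [.bwd 0, .bwd 1337] [6] (.free),
  .derive 1467 [.fwd 1692, .fwd 0] [] (.free), .derive 1821 [.bwd 0] [] (.free), .derive 1467 [.bwd 0, .bwd 1146] [7] (.free), .derive 1280 [.fwd 2058, .fwd 0] [] (.free)]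
def ph1_p6 : List Aux :=
  ((ph1_p6_0 ++ ph1_p6_1) ++ (ph1_p6_2 ++ (ph1_p6_3 ++ ph1_p6_4)))

theorem ph1_p6_ok : stHas (runList (auxStep' P) ph1_p6 (mkSt 2098 mask2 ph1_eq6)) 2098 mask2 ph1_eq7 = true := by decide +kernel

def ph1_p7_0 : List Aux := [
  .derive 1916 [.bwd 0] [] (.free), .derive 1280 [.bwd 0, .fwd 1150] [5] (.free), .derive 1103 [.fwd 2437, .fwd 0] [] (.free), .derive 1760 [.bwd 0] [] (.free), .derive 1103 [.bwd 0, .fwd 1472] [7] (.free), .derive 1281 [.bwd 2439, .fwd 0] [] (.free), .derive 1655 [.bwd 0] [] (.free), .derive 1281 [.bwd 0, .fwd 1686] [6] (.free),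
  .derive 1468 [.bwd 2065, .fwd 0] [] (.free), .derive 1649 [.bwd 0] [] (.free), .derive 1468 [.bwd 0, .fwd 1703] [4] (.free), .derive 1282 [.bwd 2067, .fwd 0] [] (.free), .derive 1469 [.bwd 0] [] (.free), .derive 1282 [.bwd 0, .bwd 2052] [6] (.free), .derive 1104 [.fwd 2446, .fwd 0] [] (.free), .derive 1475 [.bwd 0] [] (.free),
  .derive 1104 [.bwd 0, .bwd 1840] [7] (.free), .derive 965 [.fwd 2801, .fwd 0] [] (.free), .derive 1584 [.bwd 0] [] (.free), .derive 965 [.bwd 0, .bwd 1835] [5] (.free), .derive 971 [.fwd 3055, .fwd 0] [] (.free), .derive 1587 [.bwd 0] [] (.free), .derive 971 [.bwd 0, .fwd 1837] [7] (.free), .derive 1113 [.bwd 2789, .fwd 0] [] (.free),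
  .derive 1481 [.bwd 0] [] (.free), .derive 1113 [.bwd 0, .fwd 2051] [6] (.free), .derive 1291 [.bwd 2440, .fwd 0] [] (.free), .derive 1478 [.bwd 0] [] (.free), .derive 1291 [.bwd 0, .fwd 1700] [1] (.free), .derive 1452 [.fwd 2122, .fwd 0] [] (.free), .derive 1659 [.bwd 0] [] (.free), .derive 1452 [.bwd 0, .bwd 1694] [6] (.free),
  .derive 1261 [.fwd 2126, .fwd 0] [] (.free), .derive 1662 [.bwd 0] [] (.free), .derive 1261 [.bwd 0, .bwd 1489] [7] (.free), .derive 1088 [.fwd 2511, .fwd 0] [] (.free), .derive 1764 [.bwd 0] [] (.free), .derive 1088 [.bwd 0, .fwd 1493] [5] (.free), .derive 1084 [.bwd 2850, .fwd 0] [] (.free), .derive 1761 [.bwd 0] [] (.free),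
  .derive 1084 [.bwd 0, .fwd 1505] [7] (.free), .derive 1256 [.bwd 2525, .fwd 0] [] (.free), .derive 1656 [.bwd 0] [] (.free), .derive 1256 [.bwd 0, .fwd 1719] [6] (.free), .derive 1448 [.bwd 2143, .fwd 0] [] (.free), .derive 1650 [.bwd 0] [] (.free), .derive 1448 [.bwd 0, .bwd 1400] [4] (.free), .derive 1631 [.fwd 1773, .fwd 0] [] (.free),
  .derive 1815 [.bwd 0] [] (.free), .derive 1631 [.bwd 0, .bwd 1388] [6] (.free), .derive 1447 [.fwd 1778, .fwd 0] [] (.free), .derive 1822 [.bwd 0] [] (.free), .derive 1447 [.bwd 0, .bwd 1197] [7] (.free), .derive 1255 [.fwd 2155, .fwd 0] [] (.free), .derive 1917 [.bwd 0] [] (.free), .derive 1255 [.bwd 0, .bwd 951] [5] (.free),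
  .derive 1446 [.bwd 2159, .fwd 0] [] (.free), .derive 2047 [.bwd 0] [] (.free), .derive 1446 [.bwd 0, .fwd 953] [7] (.free), .derive 1630 [.bwd 1788, .fwd 0] [] (.free), .derive 1970 [.bwd 0] [] (.free), .derive 1630 [.bwd 0, .fwd 1102] [6] (.free), .derive 1800 [.bwd 1444, .fwd 0] [] (.free), .derive 1964 [.bwd 0] [] (.free),
  .derive 1800 [.bwd 0, .bwd 1095] [4] (.free), .derive 1801 [.fwd 1445, .fwd 0] [] (.free), .derive 1974 [.bwd 0] [] (.free), .derive 1801 [.bwd 0, .bwd 1093] [6] (.free), .derive 1632 [.fwd 1449, .fwd 0] [] (.free), .derive 1978 [.bwd 0] [] (.free), .derive 1632 [.bwd 0, .bwd 953] [7] (.free), .derive 1450 [.fwd 1796, .fwd 0] [] (.free),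
  .derive 2051 [.bwd 0] [] (.free), .derive 1450 [.bwd 0, .fwd 957] [5] (.free), .derive 1260 [.fwd 2171, .fwd 0] [] (.free), .derive 1921 [.bwd 0] [] (.free), .derive 1260 [.bwd 0, .fwd 1211] [7] (.free), .derive 1451 [.bwd 2172, .fwd 0] [] (.free), .derive 1830 [.bwd 0] [] (.free), .derive 1451 [.bwd 0, .fwd 1400] [6] (.free),
  .derive 1633 [.bwd 1803, .fwd 0] [] (.free), .derive 1826 [.bwd 0] [] (.free), .derive 1633 [.bwd 0, .fwd 1110] [3] (.free), .derive 1634 [.fwd 1804, .fwd 0] [] (.free), .derive 1977 [.bwd 0] [] (.free), .derive 1634 [.bwd 0, .bwd 1103] [6] (.free), .derive 1453 [.fwd 1808, .fwd 0] [] (.free), .derive 1981 [.bwd 0] [] (.free),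
  .derive 1453 [.bwd 0, .bwd 962] [7] (.free), .derive 1263 [.fwd 2180, .fwd 0] [] (.free), .derive 2054 [.bwd 0] [] (.free), .derive 1263 [.bwd 0, .fwd 966] [4] (.free), .derive 1090 [.fwd 2563, .fwd 0] [] (.free), .derive 2028 [.bwd 0] [] (.free), .derive 1090 [.bwd 0, .fwd 1022] [7] (.free), .derive 1264 [.bwd 2564, .fwd 0] [] (.free),
  .derive 1888 [.bwd 0] [] (.free), .derive 1264 [.bwd 0, .fwd 1298] [6] (.free), .derive 1454 [.bwd 2186, .fwd 0] [] (.free), .derive 1873 [.bwd 0] [] (.free)]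
def ph1_p7_1 : List Aux := [
  .derive 1454 [.bwd 0, .bwd 1057] [5] (.free), .derive 1449 [.bwd 2187, .fwd 0] [] (.free), .derive 2014 [.bwd 0] [] (.free), .derive 1449 [.bwd 0, .bwd 1035] [6] (.free), .derive 1258 [.fwd 2202, .fwd 0] [] (.free), .derive 2026 [.bwd 0] [] (.free), .derive 1258 [.bwd 0, .bwd 1039] [3] (.free), .derive 1087 [.bwd 2587, .fwd 0] [] (.free),
  .derive 1883 [.bwd 0] [] (.free), .derive 1087 [.bwd 0, .bwd 1049] [7] (.free), .derive 953 [.fwd 2926, .fwd 0] [] (.free), .derive 2023 [.bwd 0] [] (.free), .derive 953 [.bwd 0, .fwd 1053] [5] (.free), .derive 955 [.fwd 3179, .fwd 0] [] (.free), .derive 1885 [.bwd 0] [] (.free), .derive 955 [.bwd 0, .fwd 1323] [7] (.free),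
  .derive 1091 [.bwd 2923, .fwd 0] [] (.free), .derive 1721 [.bwd 0] [] (.free), .derive 1091 [.bwd 0, .fwd 1657] [6] (.free), .derive 1265 [.bwd 2585, .fwd 0] [] (.free), .derive 1706 [.bwd 0] [] (.free), .derive 1265 [.bwd 0, .bwd 1358] [5] (.free), .derive 1259 [.bwd 2587, .fwd 0] [] (.free), .derive 1870 [.bwd 0] [] (.free),
  .derive 1259 [.bwd 0, .fwd 1362] [4] (.free), .derive 1254 [.bwd 2603, .fwd 0] [] (.free), .derive 1840 [.bwd 0] [] (.free), .derive 1254 [.bwd 0, .bwd 1381] [6] (.free), .derive 1083 [.fwd 2615, .fwd 0] [] (.free), .derive 1863 [.bwd 0] [] (.free), .derive 1083 [.bwd 0, .bwd 1107] [7] (.free), .derive 951 [.fwd 2953, .fwd 0] [] (.free),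
  .derive 2005 [.bwd 0] [] (.free), .derive 951 [.bwd 0, .fwd 1111] [5] (.free), .derive 950 [.bwd 3211, .fwd 0] [] (.free), .derive 1865 [.bwd 0] [] (.free), .derive 950 [.bwd 0, .fwd 1384] [7] (.free), .derive 1081 [.bwd 2963, .fwd 0] [] (.free), .derive 1701 [.bwd 0] [] (.free), .derive 1081 [.bwd 0, .fwd 1721] [6] (.free),
  .derive 1252 [.bwd 2631, .fwd 0] [] (.free), .derive 1672 [.bwd 0] [] (.free), .derive 1252 [.bwd 0, .fwd 1786] [4] (.free), .derive 1257 [.fwd 2625, .fwd 0] [] (.free), .derive 1496 [.bwd 0] [] (.free), .derive 1257 [.bwd 0, .bwd 2088] [6] (.free), .derive 1085 [.fwd 2629, .fwd 0] [] (.free), .derive 1523 [.bwd 0] [] (.free),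
  .derive 1085 [.bwd 0, .bwd 1726] [7] (.free), .derive 952 [.fwd 2968, .fwd 0] [] (.free), .derive 1703 [.bwd 0] [] (.free), .derive 952 [.bwd 0, .bwd 1686] [5] (.free), .derive 954 [.fwd 3221, .fwd 0] [] (.free), .derive 1723 [.bwd 0] [] (.free), .derive 954 [.bwd 0, .fwd 1688] [7] (.free), .derive 1089 [.bwd 2966, .fwd 0] [] (.free),
  .derive 1540 [.bwd 0] [] (.free), .derive 1089 [.bwd 0, .fwd 2064] [6] (.free), .derive 1262 [.bwd 2631, .fwd 0] [] (.free), .derive 1526 [.bwd 0] [] (.free), .derive 1262 [.bwd 0, .fwd 1730] [0] (.free), .derive 1262 [.fwd 2633, .fwd 0] [] (.free), .derive 1708 [.bwd 0] [] (.free), .derive 1262 [.bwd 0, .bwd 1695] [6] (.free),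
  .derive 1089 [.fwd 2637, .fwd 0] [] (.free), .derive 1724 [.bwd 0] [] (.free), .derive 1089 [.bwd 0, .bwd 1364] [7] (.free), .derive 954 [.fwd 2978, .fwd 0] [] (.free), .derive 1889 [.bwd 0] [] (.free), .derive 954 [.bwd 0, .fwd 1368] [5] (.free), .derive 952 [.bwd 3239, .fwd 0] [] (.free), .derive 1869 [.bwd 0] [] (.free),
  .derive 952 [.bwd 0, .fwd 1412] [7] (.free), .derive 1085 [.bwd 2992, .fwd 0] [] (.free), .derive 1704 [.bwd 0] [] (.free), .derive 1085 [.bwd 0, .fwd 1751] [6] (.free), .derive 1257 [.bwd 2659, .fwd 0] [] (.free), .derive 1674 [.bwd 0] [] (.free), .derive 1257 [.bwd 0, .bwd 1476] [4] (.free), .derive 1252 [.bwd 2661, .fwd 0] [] (.free),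
  .derive 1842 [.bwd 0] [] (.free), .derive 1252 [.bwd 0, .bwd 1424] [6] (.free), .derive 1081 [.fwd 2673, .fwd 0] [] (.free), .derive 1867 [.bwd 0] [] (.free), .derive 1081 [.bwd 0, .bwd 1149] [7] (.free), .derive 950 [.fwd 3011, .fwd 0] [] (.free), .derive 2010 [.bwd 0] [] (.free), .derive 950 [.bwd 0, .bwd 967] [1] (.free),
  .derive 855 [.bwd 3269, .fwd 0] [] (.free), .derive 2097 [.bwd 0] [] (.free), .derive 855 [.bwd 0, .fwd 969] [7] (.free), .derive 964 [.bwd 3241, .fwd 0] [] (.free), .derive 2000 [.bwd 0] [] (.free), .derive 964 [.bwd 0, .fwd 1179] [6] (.free), .derive 1102 [.bwd 2981, .fwd 0] [] (.free), .derive 1986 [.bwd 0] [] (.free),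
  .derive 1102 [.bwd 0, .bwd 995] [5] (.free), .derive 1108 [.fwd 2972, .fwd 0] [] (.free), .derive 2089 [.bwd 0] [] (.free), .derive 1108 [.bwd 0, .bwd 981] [6] (.free)]
def ph1_p7_2 : List Aux := [
  .derive 968 [.fwd 2977, .fwd 0] [] (.free), .derive 2096 [.bwd 0] [] (.free), .derive 968 [.bwd 0, .fwd 985] [1] (.free), .derive 1083 [.fwd 3024, .fwd 0] [] (.free), .derive 2007 [.bwd 0] [] (.free), .derive 1083 [.bwd 0, .fwd 1177] [6] (.free), .derive 1254 [.bwd 2693, .fwd 0] [] (.free), .derive 1987 [.bwd 0] [] (.free),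
  .derive 1254 [.bwd 0, .bwd 1167] [4] (.free), .derive 1259 [.fwd 2687, .fwd 0] [] (.free), .derive 2013 [.bwd 0] [] (.free), .derive 1259 [.bwd 0, .bwd 1145] [6] (.free), .derive 1087 [.fwd 2691, .fwd 0] [] (.free), .derive 2025 [.bwd 0] [] (.free), .derive 1087 [.bwd 0, .fwd 1149] [5] (.free), .derive 1091 [.fwd 3021, .fwd 0] [] (.free),
  .derive 1887 [.bwd 0] [] (.free), .derive 1091 [.bwd 0, .fwd 1420] [6] (.free), .derive 1265 [.bwd 2684, .fwd 0] [] (.free), .derive 1872 [.bwd 0] [] (.free), .derive 1265 [.bwd 0, .fwd 1175] [3] (.free), .derive 1454 [.fwd 2308, .fwd 0] [] (.free), .derive 2016 [.bwd 0] [] (.free), .derive 1454 [.bwd 0, .bwd 1149] [6] (.free),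
  .derive 1264 [.fwd 2312, .fwd 0] [] (.free), .derive 2029 [.bwd 0] [] (.free), .derive 1264 [.bwd 0, .bwd 1032] [4] (.free), .derive 1453 [.fwd 2316, .fwd 0] [] (.free), .derive 2086 [.bwd 0] [] (.free), .derive 1453 [.bwd 0, .fwd 1034] [6] (.free), .derive 1634 [.bwd 1952, .fwd 0] [] (.free), .derive 2084 [.bwd 0] [] (.free),
  .derive 1634 [.bwd 0, .bwd 1043] [3] (.free), .derive 1633 [.bwd 1954, .fwd 0] [] (.free), .derive 1976 [.bwd 0] [] (.free), .derive 1633 [.bwd 0, .bwd 1255] [6] (.free), .derive 1451 [.fwd 1959, .fwd 0] [] (.free), .derive 1980 [.bwd 0] [] (.free), .derive 1451 [.bwd 0, .bwd 1115] [7] (.free), .derive 1260 [.fwd 2334, .fwd 0] [] (.free),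
  .derive 2053 [.bwd 0] [] (.free), .derive 1260 [.bwd 0, .fwd 1119] [4] (.free), .derive 1088 [.fwd 2719, .fwd 0] [] (.free), .derive 1923 [.bwd 0] [] (.free), .derive 1088 [.bwd 0, .fwd 1375] [7] (.free), .derive 1261 [.bwd 2721, .fwd 0] [] (.free), .derive 1832 [.bwd 0] [] (.free), .derive 1261 [.bwd 0, .fwd 1562] [6] (.free),
  .derive 1452 [.bwd 2342, .fwd 0] [] (.free), .derive 1828 [.bwd 0] [] (.free), .derive 1452 [.bwd 0, .fwd 1577] [5] (.free), .derive 1448 [.bwd 2343, .fwd 0] [] (.free), .derive 1817 [.bwd 0] [] (.free), .derive 1448 [.bwd 0, .bwd 1586] [6] (.free), .derive 1256 [.fwd 2353, .fwd 0] [] (.free), .derive 1824 [.bwd 0] [] (.free),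
  .derive 1256 [.bwd 0, .bwd 1397] [7] (.free), .derive 1084 [.fwd 2741, .fwd 0] [] (.free), .derive 1919 [.bwd 0] [] (.free), .derive 1084 [.bwd 0, .bwd 1149] [4] (.free), .derive 1255 [.bwd 2746, .fwd 0] [] (.free), .derive 2049 [.bwd 0] [] (.free), .derive 1255 [.bwd 0, .fwd 1151] [7] (.free), .derive 1447 [.bwd 2365, .fwd 0] [] (.free),
  .derive 1972 [.bwd 0] [] (.free), .derive 1447 [.bwd 0, .fwd 1300] [6] (.free), .derive 1631 [.bwd 1994, .fwd 0] [] (.free), .derive 1966 [.bwd 0] [] (.free), .derive 1631 [.bwd 0, .fwd 1092] [3] (.free), .derive 1629 [.bwd 1996, .fwd 0] [] (.free), .derive 2078 [.bwd 0] [] (.free), .derive 1629 [.bwd 0, .bwd 1084] [6] (.free),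
  .derive 1443 [.fwd 2002, .fwd 0] [] (.free), .derive 2082 [.bwd 0] [] (.free), .derive 1443 [.bwd 0, .fwd 1088] [4] (.free), .derive 1251 [.bwd 2383, .fwd 0] [] (.free), .derive 2012 [.bwd 0] [] (.free), .derive 1251 [.bwd 0, .fwd 1238] [6] (.free), .derive 1444 [.bwd 2385, .fwd 0] [] (.free), .derive 1990 [.bwd 0] [] (.free),
  .derive 1444 [.bwd 0, .bwd 1076] [5] (.free), .derive 1445 [.fwd 2385, .fwd 0] [] (.free), .derive 2090 [.bwd 0] [] (.free), .derive 1445 [.bwd 0, .fwd 1080] [0] (.free), .derive 1445 [.fwd 2389, .fwd 0] [] (.free), .derive 1988 [.bwd 0] [] (.free), .derive 1445 [.bwd 0, .bwd 1255] [6] (.free), .derive 1253 [.fwd 2393, .fwd 0] [] (.free),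
  .derive 2008 [.bwd 0] [] (.free), .derive 1253 [.bwd 0, .fwd 1259] [5] (.free), .derive 1251 [.bwd 2778, .fwd 0] [] (.free), .derive 1868 [.bwd 0] [] (.free), .derive 1251 [.bwd 0, .bwd 1255] [7] (.free), .derive 1080 [.fwd 2785, .fwd 0] [] (.free), .derive 2011 [.bwd 0] [] (.free), .derive 1080 [.bwd 0, .bwd 1182] [4] (.free),
  .derive 1250 [.bwd 2790, .fwd 0] [] (.free), .derive 2050 [.bwd 0] [] (.free), .derive 1250 [.bwd 0, .fwd 1184] [7] (.free), .derive 1443 [.bwd 2408, .fwd 0] [] (.free)]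
def ph1_p7_3 : List Aux := [
  .derive 1973 [.bwd 0] [] (.free), .derive 1443 [.bwd 0, .fwd 1334] [6] (.free), .derive 1629 [.bwd 2032, .fwd 0] [] (.free), .derive 1967 [.bwd 0] [] (.free), .derive 1629 [.bwd 0, .bwd 1130] [5] (.free), .derive 1799 [.fwd 1688, .fwd 0] [] (.free), .derive 2076 [.bwd 0] [] (.free), .derive 1799 [.bwd 0, .bwd 1126] [6] (.free),
  .derive 1628 [.fwd 1692, .fwd 0] [] (.free), .derive 2080 [.bwd 0] [] (.free), .derive 1628 [.bwd 0, .fwd 1130] [1] (.free), .derive 1464 [.bwd 2043, .fwd 0] [] (.free), .derive 1971 [.bwd 0] [] (.free), .derive 1464 [.bwd 0, .bwd 1205] [7] (.free), .derive 1277 [.fwd 2379, .fwd 0] [] (.free), .derive 2048 [.bwd 0] [] (.free),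
  .derive 1277 [.bwd 0, .fwd 1209] [5] (.free), .derive 1100 [.fwd 2757, .fwd 0] [] (.free), .derive 1918 [.bwd 0] [] (.free), .derive 1100 [.bwd 0, .fwd 1462] [7] (.free), .derive 1278 [.bwd 2759, .fwd 0] [] (.free), .derive 1823 [.bwd 0] [] (.free), .derive 1278 [.bwd 0, .fwd 1658] [6] (.free), .derive 1465 [.bwd 2386, .fwd 0] [] (.free),
  .derive 1816 [.bwd 0] [] (.free), .derive 1465 [.bwd 0, .bwd 1374] [5] (.free), .derive 1645 [.fwd 2027, .fwd 0] [] (.free), .derive 1965 [.bwd 0] [] (.free), .derive 1645 [.bwd 0, .fwd 1153] [4] (.free), .derive 1651 [.fwd 2019, .fwd 0] [] (.free), .derive 2077 [.bwd 0] [] (.free), .derive 1651 [.bwd 0, .bwd 1147] [6] (.free),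
  .derive 1470 [.fwd 2023, .fwd 0] [] (.free), .derive 2081 [.bwd 0] [] (.free), .derive 1470 [.bwd 0, .fwd 1151] [5] (.free), .derive 1284 [.bwd 2387, .fwd 0] [] (.free), .derive 2009 [.bwd 0] [] (.free), .derive 1284 [.bwd 0, .fwd 1304] [6] (.free), .derive 1471 [.bwd 2389, .fwd 0] [] (.free), .derive 1989 [.bwd 0] [] (.free),
  .derive 1471 [.bwd 0, .bwd 1345] [4] (.free), .derive 1285 [.bwd 2391, .fwd 0] [] (.free), .derive 1841 [.bwd 0] [] (.free), .derive 1285 [.bwd 0, .bwd 1594] [6] (.free), .derive 1107 [.fwd 2771, .fwd 0] [] (.free), .derive 1864 [.bwd 0] [] (.free), .derive 1107 [.bwd 0, .bwd 1320] [7] (.free), .derive 967 [.fwd 3127, .fwd 0] [] (.free),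
  .derive 2006 [.bwd 0] [] (.free), .derive 967 [.bwd 0, .fwd 1324] [5] (.free), .derive 963 [.bwd 3394, .fwd 0] [] (.free), .derive 1866 [.bwd 0] [] (.free), .derive 963 [.bwd 0, .fwd 1598] [7] (.free), .derive 1101 [.bwd 3142, .fwd 0] [] (.free), .derive 1702 [.bwd 0] [] (.free), .derive 1101 [.bwd 0, .fwd 1935] [6] (.free),
  .derive 1279 [.bwd 2793, .fwd 0] [] (.free), .derive 1673 [.bwd 0] [] (.free), .derive 1279 [.bwd 0, .fwd 2000] [2] (.free), .derive 1466 [.bwd 2420, .fwd 0] [] (.free), .derive 1668 [.bwd 0] [] (.free), .derive 1466 [.bwd 0, .bwd 1668] [5] (.free), .derive 1472 [.fwd 2409, .fwd 0] [] (.free), .derive 1836 [.bwd 0] [] (.free),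
  .derive 1472 [.bwd 0, .fwd 1376] [4] (.free), .derive 1652 [.fwd 2052, .fwd 0] [] (.free), .derive 1984 [.bwd 0] [] (.free), .derive 1652 [.bwd 0, .bwd 1195] [5] (.free), .derive 1818 [.fwd 1717, .fwd 0] [] (.free), .derive 2075 [.bwd 0] [] (.free), .derive 1818 [.bwd 0, .bwd 1199] [4] (.free), .derive 1811 [.bwd 1721, .fwd 0] [] (.free),
  .derive 1962 [.bwd 0] [] (.free), .derive 1811 [.bwd 0, .fwd 1429] [5] (.free), .derive 1646 [.bwd 1736, .fwd 0] [] (.free), .derive 1813 [.bwd 0] [] (.free), .derive 1646 [.bwd 0, .bwd 1430] [1] (.free), .derive 1812 [.bwd 1738, .fwd 0] [] (.free), .derive 1963 [.bwd 0] [] (.free), .derive 1812 [.bwd 0, .fwd 1432] [4] (.free),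
  .derive 1647 [.bwd 1740, .fwd 0] [] (.free), .derive 1837 [.bwd 0] [] (.free), .derive 1647 [.bwd 0, .bwd 1395] [5] (.free), .derive 1653 [.fwd 2067, .fwd 0] [] (.free), .derive 1983 [.bwd 0] [] (.free), .derive 1653 [.bwd 0, .fwd 1186] [4] (.free), .derive 1819 [.fwd 1733, .fwd 0] [] (.free), .derive 2088 [.bwd 0] [] (.free),
  .derive 1819 [.bwd 0, .bwd 1182] [3] (.free), .derive 1969 [.bwd 1433, .fwd 0] [] (.free), .derive 2091 [.bwd 0] [] (.free), .derive 1969 [.bwd 0, .bwd 1186] [4] (.free), .derive 1845 [.bwd 1435, .fwd 0] [] (.free), .derive 1991 [.bwd 0] [] (.free), .derive 1845 [.bwd 0, .bwd 1397] [3] (.free), .derive 1676 [.fwd 1688, .fwd 0] [] (.free),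
  .derive 1843 [.bwd 0] [] (.free), .derive 1676 [.bwd 0, .fwd 1693] [4] (.free), .derive 1499 [.bwd 2034, .fwd 0] [] (.free), .derive 1835 [.bwd 0] [] (.free)]
def ph1_p7_4 : List Aux := [
  .derive 1499 [.bwd 0, .fwd 1709] [5] (.free), .derive 1490 [.bwd 2392, .fwd 0] [] (.free), .derive 1667 [.bwd 0] [] (.free), .derive 1490 [.bwd 0, .bwd 2056] [1] (.free), .derive 1303 [.fwd 2412, .fwd 0] [] (.free), .derive 1489 [.bwd 0] [] (.free), .derive 1303 [.bwd 0, .bwd 2060] [5] (.free), .derive 1312 [.fwd 2779, .fwd 0] [] (.free),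
  .derive 1666 [.bwd 0] [] (.free), .derive 1312 [.bwd 0, .bwd 2048] [4] (.free), .derive 1498 [.fwd 2403, .fwd 0] [] (.free), .derive 1675 [.bwd 0] [] (.free), .derive 1498 [.bwd 0, .fwd 1707] [3] (.free), .derive 1677 [.bwd 2048, .fwd 0] [] (.free), .derive 1844 [.bwd 0] [] (.free), .derive 1677 [.bwd 0, .fwd 1417] [4] (.free),
  .derive 1820 [.fwd 1761, .fwd 0] [] (.free), .derive 1992 [.bwd 0] [] (.free), .derive 1820 [.bwd 0, .bwd 1240] [5] (.free), .derive 1968 [.fwd 1464, .fwd 0] [] (.free), .derive 2079 [.bwd 0] [] (.free), .derive 1968 [.bwd 0, .bwd 1224] [2] (.free), .derive 1982 [.fwd 1438, .fwd 0] [] (.free), .derive 2087 [.bwd 0] [] (.free),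
  .derive 1982 [.bwd 0, .fwd 1226] [5] (.free), .derive 1834 [.bwd 1440, .fwd 0] [] (.free), .derive 2030 [.bwd 0] [] (.free), .derive 1834 [.bwd 0, .bwd 1347] [6] (.free), .derive 1892 [.fwd 1620, .fwd 0] [] (.free), .derive 2033 [.bwd 0] [] (.free), .derive 1892 [.bwd 0, .bwd 1351] [4] (.free), .derive 1734 [.bwd 1624, .fwd 0] [] (.free),
  .derive 1894 [.bwd 0] [] (.free), .derive 1734 [.bwd 0, .bwd 1355] [7] (.free), .derive 1895 [.fwd 1620, .fwd 0] [] (.free), .derive 2032 [.bwd 0] [] (.free), .derive 1895 [.bwd 0, .bwd 1359] [3] (.free), .derive 1733 [.fwd 1624, .fwd 0] [] (.free), .derive 1893 [.bwd 0] [] (.free), .derive 1733 [.bwd 0, .fwd 1629] [7] (.free),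
  .derive 1553 [.bwd 1955, .fwd 0] [] (.free), .derive 1732 [.bwd 0] [] (.free), .derive 1553 [.bwd 0, .fwd 1959] [6] (.free), .derive 1542 [.bwd 2325, .fwd 0] [] (.free), .derive 1725 [.bwd 0] [] (.free), .derive 1542 [.bwd 0, .bwd 1972] [4] (.free), .derive 1349 [.bwd 2349, .fwd 0] [] (.free), .derive 1727 [.bwd 0] [] (.free),
  .derive 1349 [.bwd 0, .bwd 1957] [6] (.free), .derive 1363 [.fwd 2716, .fwd 0] [] (.free), .derive 1736 [.bwd 0] [] (.free), .derive 1363 [.bwd 0, .bwd 1634] [7] (.free), .derive 1554 [.fwd 2332, .fwd 0] [] (.free), .derive 1896 [.bwd 0] [] (.free), .derive 1554 [.bwd 0, .fwd 1638] [5] (.free), .derive 1559 [.fwd 2325, .fwd 0] [] (.free),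
  .derive 1737 [.bwd 0] [] (.free), .derive 1559 [.bwd 0, .fwd 1964] [7] (.free), .derive 1369 [.bwd 2327, .fwd 0] [] (.free), .derive 1558 [.bwd 0] [] (.free), .derive 1369 [.bwd 0, .fwd 2332] [6] (.free), .derive 1352 [.bwd 2716, .fwd 0] [] (.free), .derive 1544 [.bwd 0] [] (.free), .derive 1352 [.bwd 0, .fwd 1989] [3] (.free),
  .derive 1487 [.fwd 2477, .fwd 0] [] (.free), .derive 1728 [.bwd 0] [] (.free), .derive 1487 [.bwd 0, .bwd 1971] [6] (.free), .derive 1549 [.fwd 2356, .fwd 0] [] (.free), .derive 1738 [.bwd 0] [] (.free), .derive 1549 [.bwd 0, .bwd 1648] [7] (.free), .derive 1596 [.fwd 2266, .fwd 0] [] (.free), .derive 1898 [.bwd 0] [] (.free),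
  .derive 1596 [.bwd 0, .bwd 1390] [5] (.free), .derive 1593 [.bwd 2270, .fwd 0] [] (.free), .derive 2034 [.bwd 0] [] (.free), .derive 1593 [.bwd 0, .fwd 1392] [7] (.free), .derive 1546 [.bwd 2278, .fwd 0] [] (.free), .derive 1897 [.bwd 0] [] (.free), .derive 1546 [.bwd 0, .fwd 1659] [6] (.free), .derive 1484 [.bwd 2373, .fwd 0] [] (.free),
  .derive 1891 [.bwd 0] [] (.free), .derive 1484 [.bwd 0, .fwd 1405] [4] (.free), .derive 1664 [.fwd 2140, .fwd 0] [] (.free), .derive 2031 [.bwd 0] [] (.free), .derive 1664 [.bwd 0, .bwd 1399] [6] (.free), .derive 1729 [.fwd 2008, .fwd 0] [] (.free), .derive 2035 [.bwd 0] [] (.free), .derive 1729 [.bwd 0, .bwd 1386] [2] (.free),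
  .derive 1545 [.fwd 2013, .fwd 0] [] (.free), .derive 2046 [.bwd 0] [] (.free), .derive 1545 [.bwd 0, .fwd 1388] [6] (.free), .derive 1353 [.fwd 2389, .fwd 0] [] (.free), .derive 2044 [.bwd 0] [] (.free), .derive 1353 [.bwd 0, .bwd 1396] [4] (.free), .derive 1169 [.bwd 2778, .fwd 0] [] (.free), .derive 1911 [.bwd 0] [] (.free),
  .derive 1169 [.bwd 0, .bwd 1400] [7] (.free), .derive 1018 [.fwd 3147, .fwd 0] [] (.free), .derive 2043 [.bwd 0] [] (.free), .derive 1018 [.bwd 0, .bwd 1355] [6] (.free)]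
def ph1_p7 : List Aux :=
  ((ph1_p7_0 ++ ph1_p7_1) ++ (ph1_p7_2 ++ (ph1_p7_3 ++ ph1_p7_4)))

theorem ph1_p7_ok : stHas (runList (auxStep' P) ph1_p7 (mkSt 2098 mask2 ph1_eq7)) 2098 mask2 ph1_eq8 = true := by decide +kernel

end Cfsg.Agent.CosetData.ChainL728
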