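import Cfsg.Agent.Lib.Compute.CosetData.ChainL728Aux

/-! Coset enumeration certificate data (S1697 chain). -/

set_option autoImplicit false
set_option maxRecDepth 100000
set_option Elab.async false

namespace Cfsg.Agent.CosetData.ChainL728

open Cfsg.Agent.CosetCert

def ph1_p8_0 : List Aux := [
  .derive 1057 [.fwd 3368, .fwd 0] [] (.free), .derive 2063 [.bwd 0] [] (.free), .derive 1057 [.bwd 0, .bwd 1351] [7] (.free), .derive 1218 [.bwd 3056, .fwd 0] [] (.free), .derive 2066 [.bwd 0] [] (.free), .derive 1218 [.bwd 0, .fwd 1355] [6] (.free), .derive 1406 [.bwd 2688, .fwd 0] [] (.free), .derive 2045 [.bwd 0] [] (.free),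
  .derive 1406 [.bwd 0, .fwd 1409] [7] (.free), .derive 1354 [.bwd 2690, .fwd 0] [] (.free), .derive 1914 [.bwd 0] [] (.free), .derive 1354 [.bwd 0, .fwd 1665] [5] (.free), .derive 1357 [.fwd 2789, .fwd 0] [] (.free), .derive 1758 [.bwd 0] [] (.free), .derive 1357 [.bwd 0, .bwd 1665] [7] (.free), .derive 1409 [.fwd 2690, .fwd 0] [] (.free),
  .derive 1915 [.bwd 0] [] (.free), .derive 1409 [.bwd 0, .bwd 1607] [6] (.free), .derive 1221 [.fwd 2695, .fwd 0] [] (.free), .derive 1943 [.bwd 0] [] (.free), .derive 1221 [.bwd 0, .fwd 1609] [7] (.free), .derive 1059 [.fwd 3069, .fwd 0] [] (.free), .derive 1937 [.bwd 0] [] (.free), .derive 1059 [.bwd 0, .fwd 1626] [6] (.free),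
  .derive 1020 [.bwd 3388, .fwd 0] [] (.free), .derive 1912 [.bwd 0] [] (.free), .derive 1020 [.bwd 0, .fwd 1685] [7] (.free), .derive 1172 [.bwd 3171, .fwd 0] [] (.free), .derive 1754 [.bwd 0] [] (.free), .derive 1172 [.bwd 0, .bwd 1705] [4] (.free), .derive 1356 [.fwd 2809, .fwd 0] [] (.free), .derive 1900 [.bwd 0] [] (.free),
  .derive 1356 [.bwd 0, .bwd 1657] [7] (.free), .derive 1171 [.fwd 2813, .fwd 0] [] (.free), .derive 1925 [.bwd 0] [] (.free), .derive 1171 [.bwd 0, .fwd 1661] [6] (.free), .derive 1220 [.fwd 3085, .fwd 0] [] (.free), .derive 1787 [.bwd 0] [] (.free), .derive 1220 [.bwd 0, .bwd 1635] [7] (.free), .derive 1408 [.bwd 2717, .fwd 0] [] (.free),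
  .derive 1939 [.bwd 0] [] (.free), .derive 1408 [.bwd 0, .fwd 1639] [6] (.free), .derive 1595 [.bwd 2342, .fwd 0] [] (.free), .derive 1927 [.bwd 0] [] (.free), .derive 1595 [.bwd 0, .fwd 1665] [7] (.free), .derive 1548 [.bwd 2344, .fwd 0] [] (.free), .derive 1902 [.bwd 0] [] (.free), .derive 1548 [.bwd 0, .bwd 1459] [5] (.free),
  .derive 1730 [.fwd 2069, .fwd 0] [] (.free), .derive 2037 [.bwd 0] [] (.free), .derive 1730 [.bwd 0, .bwd 1419] [7] (.free), .derive 1768 [.fwd 1997, .fwd 0] [] (.free), .derive 2056 [.bwd 0] [] (.free), .derive 1768 [.bwd 0, .bwd 1407] [6] (.free), .derive 1594 [.fwd 2001, .fwd 0] [] (.free), .derive 2064 [.bwd 0] [] (.free),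
  .derive 1594 [.bwd 0, .fwd 1409] [7] (.free), .derive 1407 [.fwd 2358, .fwd 0] [] (.free), .derive 1944 [.bwd 0] [] (.free), .derive 1407 [.bwd 0, .bwd 1431] [6] (.free), .derive 1355 [.bwd 2739, .fwd 0] [] (.free), .derive 2055 [.bwd 0] [] (.free), .derive 1355 [.bwd 0, .fwd 1433] [7] (.free), .derive 1547 [.bwd 2456, .fwd 0] [] (.free),
  .derive 2036 [.bwd 0] [] (.free), .derive 1547 [.bwd 0, .bwd 1479] [3] (.free), .derive 1563 [.fwd 2428, .fwd 0] [] (.free), .derive 1899 [.bwd 0] [] (.free), .derive 1563 [.bwd 0, .bwd 1696] [7] (.free), .derive 1373 [.fwd 2432, .fwd 0] [] (.free), .derive 1924 [.bwd 0] [] (.free), .derive 1373 [.bwd 0, .fwd 1700] [6] (.free),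
  .derive 1410 [.fwd 2745, .fwd 0] [] (.free), .derive 1786 [.bwd 0] [] (.free), .derive 1410 [.bwd 0, .bwd 1674] [7] (.free), .derive 1597 [.bwd 2370, .fwd 0] [] (.free), .derive 1938 [.bwd 0] [] (.free), .derive 1597 [.bwd 0, .fwd 1678] [6] (.free), .derive 1769 [.bwd 2023, .fwd 0] [] (.free), .derive 1926 [.bwd 0] [] (.free),
  .derive 1769 [.bwd 0, .fwd 1703] [7] (.free), .derive 1741 [.bwd 2025, .fwd 0] [] (.free), .derive 1901 [.bwd 0] [] (.free), .derive 1741 [.bwd 0, .fwd 1757] [5] (.free), .derive 1564 [.bwd 2084, .fwd 0] [] (.free), .derive 1742 [.bwd 0] [] (.free), .derive 1564 [.bwd 0, .bwd 2028] [7] (.free), .derive 1598 [.fwd 2380, .fwd 0] [] (.free),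
  .derive 1770 [.bwd 0] [] (.free), .derive 1598 [.bwd 0, .bwd 2014] [6] (.free), .derive 1411 [.fwd 2384, .fwd 0] [] (.free), .derive 1780 [.bwd 0] [] (.free), .derive 1411 [.bwd 0, .fwd 2016] [7] (.free), .derive 1223 [.fwd 2765, .fwd 0] [] (.free), .derive 1617 [.bwd 0] [] (.free), .derive 1223 [.bwd 0, .bwd 2046] [6] (.free),
  .derive 1189 [.bwd 3139, .fwd 0] [] (.free), .derive 1766 [.bwd 0] [] (.free), .derive 1189 [.bwd 0, .fwd 2048] [7] (.free), .derive 1374 [.bwd 2846, .fwd 0] [] (.free)]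
def ph1_p8_1 : List Aux := [
  .derive 1740 [.bwd 0] [] (.free), .derive 1374 [.bwd 0, .fwd 2103] [4] (.free), .derive 1190 [.bwd 2848, .fwd 0] [] (.free), .derive 1562 [.bwd 0] [] (.free), .derive 1190 [.bwd 0, .bwd 2412] [7] (.free), .derive 1034 [.fwd 3215, .fwd 0] [] (.free), .derive 1590 [.bwd 0] [] (.free), .derive 1034 [.bwd 0, .fwd 2416] [6] (.free),
  .derive 1061 [.fwd 3469, .fwd 0] [] (.free), .derive 1430 [.bwd 0] [] (.free), .derive 1061 [.bwd 0, .bwd 2382] [7] (.free), .derive 1224 [.bwd 3153, .fwd 0] [] (.free), .derive 1609 [.bwd 0] [] (.free), .derive 1224 [.bwd 0, .fwd 2386] [6] (.free), .derive 1412 [.bwd 2785, .fwd 0] [] (.free), .derive 1599 [.bwd 0] [] (.free),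
  .derive 1412 [.bwd 0, .fwd 2407] [7] (.free), .derive 1375 [.bwd 2787, .fwd 0] [] (.free), .derive 1565 [.bwd 0] [] (.free), .derive 1375 [.bwd 0, .fwd 2477] [3] (.free), .derive 1191 [.bwd 2864, .fwd 0] [] (.free), .derive 1394 [.bwd 0] [] (.free), .derive 1191 [.bwd 0, .bwd 2454] [7] (.free), .derive 1225 [.fwd 3163, .fwd 0] [] (.free),
  .derive 1581 [.bwd 0] [] (.free), .derive 1225 [.bwd 0, .bwd 2385] [6] (.free), .derive 1062 [.fwd 3167, .fwd 0] [] (.free), .derive 1615 [.bwd 0] [] (.free), .derive 1062 [.bwd 0, .fwd 2387] [7] (.free), .derive 938 [.fwd 3489, .fwd 0] [] (.free), .derive 1606 [.bwd 0] [] (.free), .derive 938 [.bwd 0, .fwd 2410] [6] (.free),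
  .derive 909 [.bwd 3733, .fwd 0] [] (.free), .derive 1576 [.bwd 0] [] (.free), .derive 909 [.bwd 0, .fwd 2475] [7] (.free), .derive 1035 [.bwd 3550, .fwd 0] [] (.free), .derive 1388 [.bwd 0] [] (.free), .derive 1035 [.bwd 0, .bwd 2480] [4] (.free), .derive 1021 [.bwd 3551, .fwd 0] [] (.free), .derive 1575 [.bwd 0] [] (.free),
  .derive 1021 [.bwd 0, .bwd 2123] [7] (.free), .derive 897 [.fwd 3580, .fwd 0] [] (.free), .derive 1753 [.bwd 0] [] (.free), .derive 897 [.bwd 0, .bwd 2072] [6] (.free), .derive 937 [.fwd 3747, .fwd 0] [] (.free), .derive 1778 [.bwd 0] [] (.free), .derive 937 [.bwd 0, .bwd 2060] [7] (.free), .derive 1060 [.bwd 3510, .fwd 0] [] (.free),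
  .derive 1785 [.bwd 0] [] (.free), .derive 1060 [.bwd 0, .fwd 2064] [6] (.free), .derive 1222 [.bwd 3196, .fwd 0] [] (.free), .derive 1757 [.bwd 0] [] (.free), .derive 1222 [.bwd 0, .fwd 2127] [7] (.free), .derive 1173 [.bwd 3198, .fwd 0] [] (.free), .derive 1580 [.bwd 0] [] (.free), .derive 1173 [.bwd 0, .bwd 2133] [5] (.free),
  .derive 1170 [.bwd 3296, .fwd 0] [] (.free), .derive 1756 [.bwd 0] [] (.free), .derive 1170 [.bwd 0, .bwd 1815] [7] (.free), .derive 1219 [.fwd 3210, .fwd 0] [] (.free), .derive 1913 [.bwd 0] [] (.free), .derive 1219 [.bwd 0, .bwd 1754] [6] (.free), .derive 1058 [.fwd 3214, .fwd 0] [] (.free), .derive 1942 [.bwd 0] [] (.free),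
  .derive 1058 [.bwd 0, .fwd 1756] [7] (.free), .derive 936 [.fwd 3532, .fwd 0] [] (.free), .derive 1936 [.bwd 0] [] (.free), .derive 936 [.bwd 0, .fwd 1772] [6] (.free), .derive 895 [.bwd 3774, .fwd 0] [] (.free), .derive 1910 [.bwd 0] [] (.free), .derive 895 [.bwd 0, .fwd 1832] [7] (.free), .derive 1019 [.bwd 3615, .fwd 0] [] (.free),
  .derive 1752 [.bwd 0] [] (.free), .derive 1019 [.bwd 0, .bwd 2158] [2] (.free), .derive 896 [.bwd 3617, .fwd 0] [] (.free), .derive 1573 [.bwd 0] [] (.free), .derive 896 [.bwd 0, .bwd 2162] [7] (.free), .derive 787 [.fwd 3865, .fwd 0] [] (.free), .derive 1751 [.bwd 0] [] (.free), .derive 787 [.bwd 0, .bwd 2166] [6] (.free),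
  .derive 518 [.fwd 4073, .fwd 0] [] (.free), .derive 1572 [.bwd 0] [] (.free), .derive 518 [.bwd 0, .bwd 2530] [7] (.free), .derive 520 [.edge 7, .fwd 0] [] (.free), .derive 1383 [.bwd 0] [] (.free), .derive 520 [.bwd 0, .bwd 2918] [6] (.free), .derive 524 [.edge 6, .fwd 0] [] (.free), .derive 1197 [.bwd 0] [] (.free),
  .derive 524 [.bwd 0, .fwd 2919] [7] (.free), .derive 792 [.bwd 4073, .fwd 0] [] (.free), .derive 1384 [.bwd 0] [] (.free), .derive 792 [.bwd 0, .fwd 2921] [5] (.free), .derive 794 [.fwd 4072, .fwd 0] [] (.free), .derive 1199 [.bwd 0] [] (.free), .derive 794 [.bwd 0, .bwd 3289] [7] (.free), .derive 525 [.fwd 4076, .fwd 0] [] (.free),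
  .derive 1040 [.bwd 0] [] (.free), .derive 525 [.bwd 0, .fwd 3294] [6] (.free), .derive 521 [.edge 6, .fwd 0] [] (.free), .derive 1198 [.bwd 0] [] (.free)]
def ph1_p8_2 : List Aux := [
  .derive 521 [.bwd 0, .fwd 2929] [7] (.free), .derive 519 [.edge 7, .fwd 0] [] (.free), .derive 1385 [.bwd 0] [] (.free), .derive 519 [.bwd 0, .fwd 2549] [6] (.free), .derive 788 [.bwd 4095, .fwd 0] [] (.free), .derive 1574 [.bwd 0] [] (.free), .derive 788 [.bwd 0, .fwd 2551] [7] (.free), .derive 898 [.bwd 3891, .fwd 0] [] (.free),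
  .derive 1386 [.bwd 0] [] (.free), .derive 898 [.bwd 0, .fwd 2936] [4] (.free), .derive 910 [.fwd 3872, .fwd 0] [] (.free), .derive 1201 [.bwd 0] [] (.free), .derive 910 [.bwd 0, .bwd 2937] [7] (.free), .derive 798 [.fwd 3876, .fwd 0] [] (.free), .derive 1387 [.bwd 0] [] (.free), .derive 798 [.bwd 0, .bwd 2941] [6] (.free),
  .derive 594 [.fwd 4091, .fwd 0] [] (.free), .derive 1200 [.bwd 0] [] (.free), .derive 594 [.bwd 0, .bwd 3311] [7] (.free), .derive 595 [.edge 7, .fwd 0] [] (.free), .derive 1041 [.bwd 0] [] (.free), .derive 595 [.bwd 0, .bwd 3625] [6] (.free), .derive 602 [.edge 6, .fwd 0] [] (.free), .derive 915 [.bwd 0] [] (.free),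
  .derive 602 [.bwd 0, .fwd 3626] [7] (.free), .derive 805 [.bwd 4088, .fwd 0] [] (.free), .derive 1042 [.bwd 0] [] (.free), .derive 805 [.bwd 0, .fwd 3628] [3] (.free), .derive 803 [.bwd 4090, .fwd 0] [] (.free), .derive 917 [.bwd 0] [] (.free), .derive 803 [.bwd 0, .bwd 3879] [7] (.free), .derive 601 [.fwd 4097, .fwd 0] [] (.free),
  .derive 802 [.bwd 0] [] (.free), .derive 601 [.fwd 4101, .fwd 0] [2] (.free), .commit 0]
def ph1_p8 : List Aux :=
  (ph1_p8_0 ++ (ph1_p8_1 ++ ph1_p8_2))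

theorem ph1_p8_ok : stIs ((runList (auxStep' P) ph1_p8 (mkSt 2098 mask2 ph1_eq8)).map fun st => { st with eqs := [] }) 2098 mask3 = true := by decide +kernel

end Cfsg.Agent.CosetData.ChainL728
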