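import Cfsg.Agent.Lib.Compute.CosetData.ChainL728Aux0
import Cfsg.Agent.Lib.Compute.CosetData.ChainL728Aux1
import Cfsg.Agent.Lib.Compute.CosetData.ChainL728Aux2

/-! Coset enumeration certificate data (S1697 chain). -/

set_option autoImplicit false
set_option maxRecDepth 100000
set_option Elab.async false

namespace Cfsg.Agent.CosetData.ChainL728

open Cfsg.Agent.CosetCert

/-- the long derivation -/
def ph1 : List Aux :=
  ph1_p0 ++ (ph1_p1 ++ (ph1_p2 ++ (ph1_p3 ++ (ph1_p4 ++ (ph1_p5 ++ (ph1_p6 ++ (ph1_p7 ++ (ph1_p8))))))))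

def seg2 : List Phase := [.aux ph1]

theorem seg2_ok : stIs (runList (phaseStep P) seg2 ⟨728, mask2, []⟩) 2098 mask3 = true :=
  stIs_aux P (auxRun_append P ph1_p0_ok (auxRun_append P ph1_p1_ok (auxRun_append P ph1_p2_ok (auxRun_append P ph1_p3_ok (auxRun_append P ph1_p4_ok (auxRun_append P ph1_p5_ok (auxRun_append P ph1_p6_ok (auxRun_append P ph1_p7_ok (auxRun_last P ph1_p8_ok)))))))))

end Cfsg.Agent.CosetData.ChainL728
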