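import Cfsg.Agent.Lib.Compute.CosetData.ChainL728Tab

/-! Coset enumeration certificate data (S1697 chain). -/

set_option autoImplicit false
set_option maxRecDepth 100000
set_option Elab.async false

namespace Cfsg.Agent.CosetData.ChainL728

open Cfsg.Agent.CosetCert

def ph2_0 : List ℕ := [
  2592783, 2035741, 2531360, 2527254, 2842664, 2514990, 2510870, 2506802,
  2502678, 2019361, 2576399, 2580501, 2564119, 1896462, 2572309, 1130569,
  1126415, 1142801, 1138709, 1208342, 1208331, 1212456, 1216562, 1216523,
  1220648, 1261614, 1261579, 1155095, 1323049, 1323013, 1323035, 1327141,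
  1327109, 1163281, 1327131, 1720359, 1269800, 1269771, 1277984, 1663026,
  1662987, 1712151, 1679392, 1658926, 1658891, 1708055, 1675296, 1245234,
  1245195, 1159191, 1253408, 1040451, 1368075, 1925142, 1056818, 1990710,
  1994776, 1998896, 2007092, 2011160, 2039856, 2043928, 2138154, 2048052,
  2052120, 2142250, 2023472, 2027544, 2031658, 2035736, 2580514, 2453552,
  2015284, 1777719, 1851403, 1966102, 2347054, 1761330, 1847307, 1949718,
  1949707, 2490400, 1929256, 2019382, 1331266, 1331213, 1335348, 1335309,
  1339440, 1339405, 1347626, 1347597, 1347619, 2183200, 2179082, 2662422,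
  2650166, 2646028, 2658328, 2940962, 2965546, 2973744, 2977844, 1187873,
  2187279, 2191377, 2195475, 2199573, 1720334, 2293792, 2314250, 2301992,
  2273330, 2691126, 2695180, 2699306, 2674740, 2678796, 2682922, 2666544,
  2670604, 2269239, 2306058, 2756630, 2310190, 2760726, 2326568, 2281482,
  2773014, 2330674, 2687030, 2768920, 2727970, 2703412, 2793496, 2732066,
  2719792, 2715660, 2805784, 2736162, 2482231, 2473994, 2809878, 2797614,
  2785320, 2781238, 2953250, 2752564, 2949154, 2748464, 2945058, 2969642,
  2723852, 2871338, 2867212, 2920472, 2961442, 2912298, 2904112, 2711576,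
  2900020, 2707480, 1343499, 811012, 811025, 811048, 778286, 2949181,
  2768923, 2969636, 2953255, 2793499, 2732047, 2805789, 2736143, 2912257,
  2871313, 2920449, 2961411, 2916363, 2908165, 2895879, 2891785, 2904075,
  2899977, 2727936, 778263, 770098, 2551878, 2875428, 2555943, 1921051,
  2449437, 2588687, 2879505, 2883607, 2936846, 2019341, 2002986, 2002949,
  2035721, 1953803, 2506755, 1941509, 1970185, 2514947, 1961989, 2428935,
  1966093, 2498563, 1957893, 2424839, 2375681, 2523139, 2433029, 2424842,
  2523168, 2433064, 2461750, 2379789, 2465834, 2457624, 2150448, 2146356,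
  2125879, 2125835, 2072598, 2613280, 1982504, 2121778, 2121739, 2060310,
  2609184, 1974312, 1974283, 1933358, 1933323, 1228801, 1925129, 1945613,
  1236993, 1978375, 1937417, 1994763, 1994754, 2002973, 2011167, 1355810,
  2220098, 1380424, 1634313, 1638407, 2027533, 2027522, 2052103, 2048001,
  2052098, 2150405, 2043913, 1986571, 2134021, 2850880, 2850827, 2629672,
  2846775, 2854945, 2625576, 2957327, 2629643, 2465825, 2621486, 2895943,
  2088974, 2908189, 2891807, 2080782, 2080771, 1425435, 2146339, 2146307,
  2924558, 2043931, 2150431, 2617376, 2609224, 2924545, 2613257, 2084936,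
  2596867, 2600969, 2596876, 2211906, 2215978, 2224176, 2203700, 1425480,
  1421319, 1646601, 1425420, 1388586, 1421360, 1646644, 2891832, 2895924,
  2928653, 2600984, 2789411, 2908208, 2482233, 2404355, 2437121, 2117639,
  2404362, 2400269, 2625608, 2932737, 2846725, 2605068, 2863146, 2531387,
  2842629, 2592780, 2883626, 1957952, 2232376, 2236464, 2568265, 2584595,
  2560021, 2568214, 2818072, 2822192, 2814004, 2834474, 2854936, 2957346,
  2838583, 2854984, 2854916, 2830347, 2801732, 1646657, 2916408, 2936845,
  1642555, 1421347, 1392699, 843834, 1212488, 1220617, 1998920, 2490427,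
  2535436]

def seg3 : List Phase := [.scans ph2_0]

theorem seg3_ok : stIs (runList (phaseStep P) seg3 ⟨2098, mask3, []⟩) 2098 (2 ^ (728 * P.k) - 1) = true := by decide +kernel

end Cfsg.Agent.CosetData.ChainL728
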