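import Cfsg.Agent.Lib.Compute.CosetData.ChainL728Tree
import Cfsg.Agent.Lib.Compute.CosetData.ChainL728Seg0
import Cfsg.Agent.Lib.Compute.CosetData.ChainL728Seg1
import Cfsg.Agent.Lib.Compute.CosetData.ChainL728AuxRun

/-! Coset enumeration certificate data (S1697 chain). -/

set_option autoImplicit false
set_option maxRecDepth 100000
set_option Elab.async false

namespace Cfsg.Agent.CosetData.ChainL728

open Cfsg.Agent.CosetCert

/-- the certificate -/
def phases : List Phase :=
  seg0 ++ (seg1 ++ (seg2 ++ (seg3)))

theorem cert_ok : checkCert P 728 tree phases = true :=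
  checkCert_of_run P treeRun_ok (run_append P seg0_ok (run_append P seg1_ok (run_append P seg2_ok (run_last P seg3_ok))))

end Cfsg.Agent.CosetData.ChainL728
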