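import Cfsg.Agent.Lib.Compute.CosetData.ChainU62Tab

/-! Coset enumeration certificate data (S2091 chain). -/

set_option autoImplicit false
set_option maxRecDepth 100000
set_option Elab.async false

namespace Cfsg.Agent.CosetData.ChainU62

open Cfsg.Agent.CosetCert

theorem base24_ok : Fixes P 6336 [4, 7, 4, 7] :=
  fixes_of_powFix P (u := [4, 7]) (e := 2) (by decide +kernel) (by decide +kernel)

theorem base25_ok : Fixes P 6336 [5, 6, 5, 6, 5, 6] :=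
  fixes_of_powFix P (u := [5, 6]) (e := 3) (by decide +kernel) (by decide +kernel)

theorem base26_ok : Fixes P 6336 [5, 7, 5, 7] :=
  fixes_of_powFix P (u := [5, 7]) (e := 2) (by decide +kernel) (by decide +kernel)

theorem base27_ok : Fixes P 6336 [6, 7, 6, 7, 6, 7] :=
  fixes_of_powFix P (u := [6, 7]) (e := 3) (by decide +kernel) (by decide +kernel)

theorem base28_ok : Fixes P 6336 [0, 1, 2, 3, 4, 5, 6, 0, 1, 2, 3, 4, 5, 6, 0, 1, 2, 3, 4, 5, 6, 0, 1, 2, 3, 4, 5, 6, 0, 1, 2, 3, 4, 5, 6, 0, 1, 2, 3, 4, 5, 6, 0, 1, 2, 3, 4, 5, 6, 0, 1, 2, 3, 4, 5, 6, 0, 1, 2, 3, 4, 5, 6] :=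
  fixes_of_powFix P (u := [0, 1, 2, 3, 4, 5, 6]) (e := 9) (by decide +kernel) (by decide +kernel)

theorem base29_ok : Fixes P 6336 [1, 2, 3, 7, 6, 5, 6, 7, 3, 2, 1, 2, 3, 7, 6, 5, 6, 7, 3, 2, 1, 2, 3, 7, 6, 5, 6, 7, 3, 2] :=
  fixes_of_powFix P (u := [1, 2, 3, 7, 6, 5, 6, 7, 3, 2]) (e := 3) (by decide +kernel) (by decide +kernel)

theorem base30_ok : Fixes P 6336 [1, 2, 3, 7, 6, 5, 1, 2, 3, 7, 6, 5, 1, 2, 3, 7, 6, 5, 1, 2, 3, 7, 6, 5, 1, 2, 3, 7, 6, 5] :=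
  fixes_of_powFix P (u := [1, 2, 3, 7, 6, 5]) (e := 5) (by decide +kernel) (by decide +kernel)

theorem base31_ok : Fixes P 6336 [4, 3, 2, 7, 6, 1, 0, 4, 3, 2, 7, 6, 1, 0, 4, 3, 2, 7, 6, 1, 0, 4, 3, 2, 7, 6, 1, 0, 4, 3, 2, 7, 6, 1, 0, 4, 3, 2, 7, 6, 1, 0, 4, 3, 2, 7, 6, 1, 0, 4, 3, 2, 7, 6, 1, 0, 4, 3, 2, 7, 6, 1, 0] :=
  fixes_of_powFix P (u := [4, 3, 2, 7, 6, 1, 0]) (e := 9) (by decide +kernel) (by decide +kernel)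

theorem base32_ok : Fixes P 6336 [0, 3, 0, 5, 6, 0, 7, 3, 1, 7, 5, 2, 5, 1, 0, 3, 0, 5, 6, 0, 7, 3, 1, 7, 5, 2, 5, 1, 0, 3, 0, 5, 6, 0, 7, 3, 1, 7, 5, 2, 5, 1, 0, 3, 0, 5, 6, 0, 7, 3, 1, 7, 5, 2, 5, 1, 0, 3, 0, 5, 6, 0, 7, 3, 1, 7, 5, 2, 5, 1, 0, 3, 0, 5, 6, 0, 7, 3, 1, 7, 5, 2, 5, 1, 0, 3, 0, 5, 6, 0, 7, 3, 1, 7, 5, 2, 5, 1] :=
  fixes_of_powFix P (u := [0, 3, 0, 5, 6, 0, 7, 3, 1, 7, 5, 2, 5, 1]) (e := 7) (by decide +kernel) (by decide +kernel)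

end Cfsg.Agent.CosetData.ChainU62
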