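import Cfsg.Agent.Lib.Compute.CosetData.ChainU62Aux

/-! Coset enumeration certificate data (S2091 chain). -/

set_option autoImplicit false
set_option maxRecDepth 100000
set_option Elab.async false

namespace Cfsg.Agent.CosetData.ChainU62

open Cfsg.Agent.CosetCert

def ph9_p0_0 : List Aux := [
  .node 24 5, .derive 6496 [.bwd 0, .edge 2, .fwd 0] [2] (.rel 31), .node 29 5, .node 32 2, .derive 6498 [.bwd 0, .edge 6, .edge 2] [6] (.rel 32), .node 32 5, .node 70 5, .node 77 2,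
  .derive 6501 [.bwd 0, .edge 6, .edge 2] [6] (.rel 32), .node 77 5, .node 78 5, .derive 6503 [.bwd 0, .edge 4, .fwd 4] [4] (.rel 45), .node 80 6, .derive 6504 [.bwd 0, .edge 1, .edge 6] [1] (.rel 23), .node 93 1, .derive 6505 [.bwd 0, .edge 7, .edge 1] [7] (.rel 24),
  .node 93 6, .node 94 1, .derive 6507 [.bwd 0, .edge 7, .edge 1] [7] (.rel 24), .node 94 6, .node 95 1, .derive 6509 [.bwd 0, .edge 3, .fwd 3] [3] (.rel 16), .derive 6509 [.bwd 1, .edge 7, .edge 1] [7] (.rel 24), .node 95 6,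
  .derive 6510 [.bwd 0, .edge 3, .fwd 4] [3] (.rel 41), .node 96 6, .node 98 6, .node 118 2, .derive 6513 [.bwd 0, .edge 7, .fwd 24] [7] (.rel 34), .node 118 5, .derive 6514 [.bwd 0, .edge 7, .fwd 24] [7] (.rel 52), .node 118 6,
  .node 119 2, .derive 6516 [.bwd 0, .edge 7, .fwd 25] [7] (.rel 34), .node 119 5, .derive 6517 [.bwd 0, .edge 0, .fwd 5] [0] (.rel 9), .derive 6517 [.bwd 1, .edge 7, .fwd 26] [7] (.rel 52), .node 119 6, .derive 6518 [.bwd 0, .edge 0, .fwd 6] [0] (.rel 11), .node 124 1,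
  .derive 6519 [.bwd 0, .edge 7, .edge 1] [7] (.rel 24), .node 124 6, .derive 6520 [.bwd 0, .edge 2, .fwd 18] [2] (.rel 33), .node 127 6, .node 137 3, .derive 6522 [.bwd 0, .edge 1, .edge 3] [1] (.rel 17), .node 155 1, .derive 6523 [.bwd 0, .edge 7, .edge 1] [7] (.rel 24),
  .node 164 1, .derive 6524 [.bwd 0, .edge 7, .edge 1] [7] (.rel 24), .node 166 1, .derive 6525 [.bwd 0, .edge 2, .edge 1, .edge 2, .fwd 0] [2] (.rel 14), .derive 6525 [.bwd 1, .edge 7, .edge 1] [7] (.rel 24), .node 174 1, .derive 6526 [.bwd 0, .edge 7, .edge 1] [7] (.rel 24), .node 312 3,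
  .node 332 3, .derive 6528 [.bwd 0, .edge 7, .edge 3, .edge 7, .fwd 1] [7] (.rel 42), .node 342 1, .derive 6529 [.bwd 0, .edge 7, .edge 1] [7] (.rel 24), .node 342 3, .derive 6530 [.bwd 0, .edge 7, .edge 3, .edge 7, .edge 3] [7] (.rel 42), .node 342 6, .derive 6531 [.bwd 0, .edge 7, .edge 6, .edge 7, .edge 6] [7] (.rel 54),
  .node 343 1, .derive 6532 [.bwd 0, .edge 7, .edge 1] [7] (.rel 24), .node 343 3, .derive 6533 [.bwd 0, .edge 5, .edge 3] [5] (.rel 38), .node 343 6, .derive 6534 [.bwd 0, .edge 7, .edge 6, .edge 7, .edge 6] [7] (.rel 54), .node 348 1, .node 348 3,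
  .derive 6536 [.bwd 0, .edge 5, .edge 3] [5] (.rel 38), .node 348 6, .derive 6537 [.bwd 0, .edge 7, .edge 6, .edge 7, .edge 6] [7] (.rel 54), .node 349 1, .derive 6538 [.bwd 0, .edge 4, .fwd 5] [4] (.rel 18), .node 349 3, .derive 6539 [.bwd 0, .edge 0, .fwd 17] [0] (.rel 5), .derive 6539 [.bwd 1, .edge 5, .edge 3] [5] (.rel 38),
  .derive 6539 [.bwd 2, .edge 7, .edge 3, .edge 7, .edge 3] [7] (.rel 42), .node 349 6, .derive 6540 [.bwd 0, .edge 7, .edge 6, .edge 7, .edge 6] [7] (.rel 54), .node 350 1, .derive 6541 [.bwd 0, .edge 3, .edge 1] [3] (.rel 16), .derive 6541 [.bwd 1, .edge 6, .edge 1] [6] (.rel 22), .derive 6541 [.bwd 2, .edge 7, .fwd 10] [7] (.rel 24), .node 353 1,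
  .derive 6542 [.bwd 0, .edge 4, .fwd 4] [4] (.rel 18), .derive 6542 [.bwd 1, .edge 6, .edge 1] [6] (.rel 22), .derive 6542 [.bwd 2, .edge 7, .fwd 19] [7] (.rel 24), .node 364 1, .derive 6543 [.bwd 0, .edge 0, .edge 1, .edge 0, .fwd 4] [0] (.rel 1), .derive 6543 [.bwd 1, .edge 6, .edge 1] [6] (.rel 22), .node 364 7, .node 365 1,
  .derive 6545 [.bwd 0, .edge 0, .edge 1, .edge 0, .fwd 12] [0] (.rel 1), .derive 6545 [.bwd 1, .edge 6, .edge 1] [6] (.rel 22), .node 365 7, .node 389 1]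
def ph9_p0_1 : List Aux := [
  .derive 6547 [.bwd 0, .edge 6, .fwd 46] [6] (.rel 22), .node 393 7, .node 394 1, .derive 6549 [.bwd 0, .edge 6, .fwd 54] [6] (.rel 22), .node 405 5, .derive 6550 [.bwd 0, .edge 4, .edge 5] [4] (.rel 45), .derive 6550 [.bwd 1, .edge 7, .edge 5] [7] (.rel 52), .node 406 5,
  .derive 6551 [.bwd 0, .edge 7, .edge 5] [7] (.rel 52), .node 420 5, .derive 6552 [.bwd 0, .edge 4, .edge 5] [4] (.rel 45), .node 421 5, .derive 6553 [.bwd 0, .edge 4, .edge 5] [4] (.rel 45), .node 440 3, .derive 6554 [.bwd 0, .edge 5, .edge 3] [5] (.rel 38), .derive 6554 [.bwd 1, .edge 6, .fwd 59] [6] (.rel 40),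
  .node 456 5, .derive 6555 [.bwd 0, .edge 0, .edge 5] [0] (.rel 9), .derive 6555 [.bwd 1, .edge 7, .edge 5] [7] (.rel 52), .node 463 7, .derive 6556 [.bwd 0, .edge 5, .edge 7] [5] (.rel 53), .node 466 7, .derive 6557 [.bwd 0, .edge 6, .edge 7, .edge 6, .fwd 20] [6] (.rel 55), .node 467 7,
  .node 468 7, .node 469 7, .node 470 7, .node 482 5, .derive 6562 [.bwd 0, .edge 3, .edge 5] [3] (.rel 39), .node 482 7, .node 483 7, .derive 6564 [.bwd 0, .edge 0, .fwd 1] [0] (.rel 13),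
  .node 499 7, .node 502 7, .derive 6566 [.bwd 0, .edge 5, .edge 7] [5] (.rel 53), .derive 6566 [.bwd 1, .edge 6, .edge 7, .edge 6, .fwd 2] [6] (.rel 55), .node 506 7, .node 509 4, .derive 6568 [.bwd 0, .edge 5, .edge 4] [5] (.rel 44), .node 518 4,
  .derive 6569 [.bwd 0, .edge 5, .edge 4] [5] (.rel 44), .node 523 4, .node 524 4, .node 529 1, .derive 6572 [.bwd 0, .edge 3, .fwd 93] [3] (.rel 16), .node 529 4, .derive 6573 [.bwd 0, .edge 5, .edge 4] [5] (.rel 44), .node 530 4,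
  .derive 6574 [.bwd 0, .edge 5, .edge 4] [5] (.rel 44), .node 531 5, .derive 6575 [.bwd 0, .edge 7, .edge 5] [7] (.rel 52), .node 532 4, .derive 6576 [.bwd 0, .edge 1, .fwd 9] [1] (.rel 19), .node 532 5, .derive 6577 [.bwd 0, .edge 3, .fwd 4] [3] (.rel 39), .node 533 5,
  .node 534 5, .derive 6579 [.bwd 0, .edge 3, .fwd 1] [3] (.rel 39), .derive 6579 [.bwd 1, .edge 7, .edge 5] [7] (.rel 52), .node 535 5, .node 536 5, .derive 6581 [.bwd 0, .edge 7, .fwd 1] [7] (.rel 52), .node 541 5, .derive 6582 [.bwd 0, .edge 7, .edge 5] [7] (.rel 52),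
  .node 543 2, .derive 6583 [.bwd 0, .edge 0, .fwd 0] [0] (.rel 3), .derive 6583 [.bwd 1, .edge 1, .edge 2, .edge 1, .fwd 1] [1] (.rel 15), .node 544 2, .derive 6584 [.bwd 0, .edge 6, .fwd 3] [6] (.rel 32), .node 544 5, .node 546 5, .node 547 5,
  .node 547 7, .derive 6588 [.bwd 0, .edge 2, .edge 7] [2] (.rel 35), .node 553 5, .derive 6589 [.bwd 0, .edge 0, .edge 5] [0] (.rel 9), .derive 6589 [.bwd 1, .edge 3, .edge 5] [3] (.rel 39), .derive 6589 [.bwd 2, .edge 6, .edge 5, .edge 6, .fwd 6] [6] (.rel 50), .node 554 4, .derive 6590 [.bwd 0, .edge 5, .edge 4] [5] (.rel 44),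
  .derive 6590 [.bwd 1, .edge 6, .edge 4] [6] (.rel 46), .node 556 5, .derive 6591 [.bwd 0, .edge 6, .edge 5, .edge 6, .fwd 10] [6] (.rel 50), .node 606 5, .derive 6592 [.bwd 0, .edge 3, .edge 5] [3] (.rel 39), .node 642 0, .derive 6593 [.bwd 0, .edge 3, .edge 0] [3] (.rel 4), .node 642 2,
  .derive 6594 [.bwd 0, .edge 3, .edge 2, .edge 3, .edge 2] [3] (.rel 26), .derive 6594 [.bwd 1, .edge 6, .edge 2] [6] (.rel 32), .node 642 5, .node 642 7, .node 646 0, .node 646 5, .node 648 0, .node 651 0,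
  .node 651 5, .derive 6601 [.bwd 0, .edge 3, .edge 5] [3] (.rel 39), .node 652 0, .derive 6602 [.bwd 0, .edge 4, .fwd 3] [4] (.rel 6)]
def ph9_p0_2 : List Aux := [
  .node 652 5, .derive 6603 [.bwd 0, .edge 4, .fwd 4] [4] (.rel 45), .node 657 0, .derive 6604 [.bwd 0, .edge 4, .fwd 8] [4] (.rel 6), .node 657 5, .derive 6605 [.bwd 0, .edge 2, .fwd 11] [2] (.rel 31), .node 674 0, .derive 6606 [.bwd 0, .edge 3, .fwd 14] [3] (.rel 4),
  .node 675 0, .derive 6607 [.bwd 0, .edge 7, .fwd 2] [7] (.rel 12), .node 713 5, .node 717 0, .derive 6609 [.bwd 0, .edge 6, .fwd 3] [6] (.rel 10), .node 718 5, .node 719 5, .derive 6611 [.bwd 0, .edge 6, .edge 5, .edge 6, .fwd 98] [6] (.rel 50),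
  .derive 1007 [.edge 6, .edge 7, .edge 6, .bwd 97, .bwd 0] [7] (.rel 54), .node 721 0, .node 721 5, .derive 6613 [.bwd 0, .edge 2, .edge 5] [2] (.rel 31), .derive 6613 [.bwd 1, .edge 3, .edge 5] [3] (.rel 39), .derive 6613 [.bwd 2, .edge 6, .edge 5, .edge 6, .edge 5] [6] (.rel 50), .node 722 0, .derive 6614 [.bwd 0, .edge 3, .edge 0] [3] (.rel 4),
  .derive 6614 [.bwd 1, .edge 4, .fwd 6] [4] (.rel 6), .node 722 5, .derive 6615 [.bwd 0, .edge 6, .edge 5, .edge 6, .edge 5] [6] (.rel 50), .node 729 2, .derive 6616 [.bwd 0, .edge 6, .edge 2] [6] (.rel 32), .node 730 2, .derive 6617 [.bwd 0, .edge 6, .edge 2] [6] (.rel 32), .node 731 2,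
  .derive 6618 [.bwd 0, .edge 5, .fwd 2] [5] (.rel 30), .node 740 4, .derive 6619 [.bwd 0, .edge 6, .edge 4] [6] (.rel 46), .node 742 0, .derive 6620 [.bwd 0, .edge 3, .fwd 24] [3] (.rel 4), .node 742 7, .derive 6621 [.bwd 0, .edge 1, .edge 7] [1] (.rel 25), .node 743 0,
  .derive 6622 [.bwd 0, .edge 1, .edge 0, .edge 1, .edge 0] [1] (.rel 0), .derive 6622 [.bwd 1, .edge 6, .fwd 5] [6] (.rel 10), .node 743 7, .derive 6623 [.bwd 0, .edge 3, .edge 7, .edge 3, .edge 7] [3] (.rel 43), .node 747 4, .derive 6624 [.bwd 0, .edge 0, .fwd 11] [0] (.rel 7), .derive 6624 [.bwd 1, .edge 1, .edge 4] [1] (.rel 19), .node 760 4,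
  .derive 6625 [.bwd 0, .edge 3, .edge 4, .edge 3, .edge 4] [3] (.rel 37), .node 761 4, .derive 6626 [.bwd 0, .edge 1, .fwd 2] [1] (.rel 19), .node 761 5, .derive 6627 [.bwd 0, .edge 3, .fwd 38] [3] (.rel 39), .node 762 4, .derive 6628 [.bwd 0, .edge 6, .fwd 4] [6] (.rel 46), .node 763 4,
  .derive 6629 [.bwd 0, .edge 3, .edge 4, .edge 3, .fwd 22] [3] (.rel 37), .derive 6629 [.bwd 1, .edge 6, .fwd 9] [6] (.rel 46), .derive 6629 [.bwd 2, .edge 7, .edge 4] [7] (.rel 48), .node 783 5, .derive 6630 [.bwd 0, .edge 3, .edge 5] [3] (.rel 39), .derive 6630 [.bwd 1, .edge 7, .edge 5] [7] (.rel 52), .node 805 4, .derive 6631 [.bwd 0, .edge 7, .edge 4] [7] (.rel 48),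
  .node 806 4, .derive 6632 [.bwd 0, .edge 7, .edge 4] [7] (.rel 48), .node 807 2, .derive 6633 [.bwd 0, .edge 3, .edge 2, .edge 3, .fwd 35] [3] (.rel 26), .node 807 4, .derive 6634 [.bwd 0, .edge 3, .edge 4, .edge 3, .fwd 4] [3] (.rel 37), .node 807 7, .derive 6635 [.bwd 0, .edge 3, .edge 7, .edge 3, .edge 7] [3] (.rel 43),
  .node 808 2, .node 808 4, .derive 6637 [.bwd 0, .edge 3, .edge 4, .edge 3, .fwd 11] [3] (.rel 37), .node 808 7, .derive 6638 [.bwd 0, .edge 3, .edge 7, .edge 3, .edge 7] [3] (.rel 43), .node 810 5, .derive 6639 [.bwd 0, .edge 2, .fwd 0] [2] (.rel 31), .node 811 2,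
  .derive 6640 [.bwd 0, .edge 3, .edge 2, .edge 3, .fwd 0] [3] (.rel 26), .derive 6640 [.bwd 1, .edge 7, .fwd 113] [7] (.rel 34), .node 811 4, .derive 6641 [.bwd 0, .edge 7, .edge 4] [7] (.rel 48), .node 811 5, .derive 6642 [.bwd 0, .edge 7, .fwd 115] [7] (.rel 52), .node 812 4, .derive 6643 [.bwd 0, .edge 3, .edge 4, .edge 3, .fwd 4] [3] (.rel 37),
  .node 812 7, .derive 6644 [.bwd 0, .edge 3, .edge 7, .edge 3, .edge 7] [3] (.rel 43), .derive 2398 [.edge 3, .edge 6, .bwd 0] [6] (.rel 40), .node 819 0, .derive 6645 [.bwd 0, .edge 7, .fwd 89] [7] (.rel 12), .node 819 5, .derive 6646 [.bwd 0, .edge 7, .fwd 89] [7] (.rel 52), .node 820 0,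
  .derive 6647 [.bwd 0, .edge 1, .edge 0, .edge 1, .edge 0] [1] (.rel 0), .derive 6647 [.bwd 1, .edge 7, .fwd 98] [7] (.rel 12), .node 820 3, .derive 6648 [.bwd 0, .edge 1, .edge 3] [1] (.rel 17)]
def ph9_p0_3 : List Aux := [
  .node 820 5, .derive 6649 [.bwd 0, .edge 7, .fwd 100] [7] (.rel 52), .node 821 0, .derive 6650 [.bwd 0, .edge 7, .fwd 107] [7] (.rel 12), .node 823 3, .derive 6651 [.bwd 0, .edge 1, .edge 3] [1] (.rel 17), .node 823 5, .node 824 0,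
  .derive 6653 [.bwd 0, .edge 2, .fwd 16] [2] (.rel 2), .derive 6653 [.bwd 1, .edge 7, .fwd 116] [7] (.rel 12), .node 824 5, .derive 6654 [.bwd 0, .edge 7, .fwd 117] [7] (.rel 52), .node 826 3, .node 832 3, .derive 6656 [.bwd 0, .edge 6, .bwd 37] [6] (.rel 40), .node 835 3,
  .derive 6657 [.bwd 0, .edge 7, .edge 3, .edge 7, .fwd 244] [7] (.rel 42), .node 836 3, .derive 6658 [.bwd 0, .edge 6, .fwd 2] [6] (.rel 40), .node 843 5, .derive 6659 [.bwd 0, .edge 6, .edge 5, .edge 6, .edge 5] [6] (.rel 50), .node 846 5, .derive 6660 [.bwd 0, .edge 4, .fwd 2] [4] (.rel 45), .derive 6660 [.bwd 1, .edge 7, .fwd 97] [7] (.rel 52),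
  .node 849 3, .derive 6661 [.bwd 0, .edge 1, .edge 3] [1] (.rel 17), .node 880 3, .node 881 3, .derive 6663 [.bwd 0, .edge 6, .fwd 1] [6] (.rel 40), .node 888 3, .node 889 3, .derive 6665 [.bwd 0, .edge 6, .fwd 1] [6] (.rel 40),
  .derive 6665 [.bwd 1, .edge 7, .edge 3, .edge 7, .fwd 265] [7] (.rel 42), .node 891 3, .derive 6666 [.bwd 0, .edge 1, .fwd 21] [1] (.rel 17), .derive 6666 [.bwd 1, .edge 6, .bwd 91] [6] (.rel 40), .node 892 0, .derive 6667 [.bwd 0, .edge 6, .fwd 34] [6] (.rel 10), .derive 6667 [.bwd 1, .edge 7, .fwd 143] [7] (.rel 12), .node 892 5,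
  .derive 6668 [.bwd 0, .edge 2, .fwd 33] [2] (.rel 31), .derive 6668 [.bwd 1, .edge 4, .fwd 47] [4] (.rel 45), .node 894 3, .node 896 3, .node 897 3, .derive 6671 [.bwd 0, .edge 6, .edge 3] [6] (.rel 40), .node 903 3, .derive 6672 [.bwd 0, .edge 6, .edge 3] [6] (.rel 40),
  .node 922 5, .derive 6673 [.bwd 0, .edge 2, .fwd 241] [2] (.rel 31), .node 923 3, .node 938 3, .derive 6675 [.bwd 0, .edge 1, .edge 3] [1] (.rel 17), .derive 6675 [.bwd 1, .edge 6, .fwd 2] [6] (.rel 40), .node 940 3, .derive 6676 [.bwd 0, .edge 1, .edge 3] [1] (.rel 17),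
  .node 950 3, .derive 6677 [.bwd 0, .edge 7, .edge 3, .bwd 198, .fwd 199] [7] (.rel 42), .node 951 3, .derive 6678 [.bwd 0, .edge 5, .fwd 32] [5] (.rel 38), .node 953 3, .derive 6679 [.bwd 0, .edge 5, .fwd 10] [5] (.rel 38), .node 957 3, .derive 6680 [.bwd 0, .edge 7, .edge 3, .bwd 212, .bwd 208] [7] (.rel 42),
  .node 958 6, .node 969 1, .node 991 3, .derive 6683 [.bwd 0, .edge 5, .fwd 37] [5] (.rel 38), .node 992 3, .derive 6684 [.bwd 0, .edge 5, .fwd 55] [5] (.rel 38), .derive 6684 [.bwd 1, .edge 6, .fwd 3] [6] (.rel 40), .node 995 1,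
  .node 996 1, .derive 6686 [.bwd 0, .edge 7, .fwd 1] [7] (.rel 24), .node 997 1, .derive 6687 [.bwd 0, .edge 5, .edge 1, .edge 5, .fwd 9] [5] (.rel 20), .derive 6687 [.bwd 1, .edge 6, .fwd 3] [6] (.rel 22), .node 1000 1, .node 1001 1, .derive 6689 [.bwd 0, .edge 7, .fwd 1] [7] (.rel 24),
  .node 1002 1, .derive 6690 [.bwd 0, .edge 6, .fwd 2] [6] (.rel 22), .node 1004 1, .node 1005 1, .derive 6692 [.bwd 0, .edge 4, .fwd 1] [4] (.rel 18), .node 1006 3, .derive 6693 [.bwd 0, .edge 5, .fwd 73] [5] (.rel 38), .node 1007 1,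
  .derive 6694 [.bwd 0, .edge 4, .fwd 10] [4] (.rel 18), .node 1008 1, .node 1008 3, .derive 6696 [.bwd 0, .edge 0, .fwd 5] [0] (.rel 5), .derive 6696 [.bwd 1, .edge 5, .fwd 67] [5] (.rel 38), .node 1009 1, .derive 6697 [.bwd 0, .edge 6, .fwd 4] [6] (.rel 22), .node 1010 1,
  .derive 6698 [.bwd 0, .edge 7, .fwd 2] [7] (.rel 24), .node 1011 1, .node 1012 1, .derive 6700 [.bwd 0, .edge 7, .fwd 1] [7] (.rel 24)]
def ph9_p0_4 : List Aux := [
  .node 1013 1, .derive 6701 [.bwd 0, .edge 6, .edge 1] [6] (.rel 22), .node 1017 1, .derive 6702 [.bwd 0, .edge 4, .fwd 7] [4] (.rel 18), .node 1020 1, .derive 6703 [.bwd 0, .edge 6, .fwd 2] [6] (.rel 22), .derive 6703 [.bwd 1, .edge 7, .fwd 5] [7] (.rel 24), .node 1021 1,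
  .derive 6704 [.bwd 0, .edge 3, .fwd 27] [3] (.rel 16), .node 1021 4, .node 1022 1, .derive 6706 [.bwd 0, .edge 6, .fwd 3] [6] (.rel 22), .node 1022 4, .derive 6707 [.bwd 0, .edge 5, .edge 4] [5] (.rel 44), .derive 6707 [.bwd 1, .edge 6, .fwd 4] [6] (.rel 46), .node 1037 3,
  .derive 6708 [.bwd 0, .edge 5, .fwd 98] [5] (.rel 38), .node 1041 3, .derive 6709 [.bwd 0, .edge 5, .fwd 75] [5] (.rel 38), .node 1042 3, .derive 6710 [.bwd 0, .edge 0, .fwd 2] [0] (.rel 5), .derive 6710 [.bwd 1, .edge 5, .fwd 76] [5] (.rel 38), .node 1045 3, .derive 6711 [.bwd 0, .edge 7, .edge 3, .edge 7, .fwd 7] [7] (.rel 42),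
  .node 1052 1, .derive 6712 [.bwd 0, .edge 6, .fwd 26] [6] (.rel 22), .derive 6712 [.bwd 1, .edge 7, .fwd 36] [7] (.rel 24), .node 1056 1, .derive 6713 [.bwd 0, .edge 3, .fwd 56] [3] (.rel 16), .derive 6713 [.bwd 1, .edge 6, .edge 1] [6] (.rel 22), .derive 6713 [.fwd 0, .edge 2, .bwd 0] [2] (.rel 33), .derive 6594 [.fwd 242, .edge 2, .edge 1, .edge 5, .edge 6, .edge 7, .edge 3, .edge 2, .fwd 65, .bwd 55, .fwd 54, .fwd 57, .bwd 2, .fwd 0, .bwd 3, .bwd 316, .fwd 315, .bwd 373, .bwd 374, .edge 2, .edge 1, .edge 5, .fwd 362, .fwd 361, .edge 3, .edge 2, .edge 1, .edge 5, .edge 6, .edge 7] [] (.rel 89),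
  .derive 6594 [.fwd 0] [] (.free), .derive 1111 [.bwd 0, .fwd 243] [6] (.free), .derive 6591 [.fwd 251, .bwd 262, .edge 6, .edge 7, .edge 3, .edge 2, .edge 1, .edge 2, .edge 3, .edge 7, .edge 6, .edge 5, .edge 6, .edge 7, .edge 3, .edge 2, .edge 1, .edge 2, .edge 3, .edge 7, .bwd 0, .edge 5, .edge 6, .edge 7, .edge 3, .edge 2, .edge 1, .edge 2, .edge 3, .edge 7] [] (.rel 74), .derive 6591 [.fwd 0] [] (.free), .derive 891 [.bwd 0, .fwd 253] [6] (.free), .derive 824 [.edge 6, .fwd 0] [] (.free), .derive 6587 [.bwd 0] [] (.free), .derive 824 [.bwd 0, .bwd 267] [5] (.free),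
  .derive 6654 [.bwd 129, .fwd 0] [] (.free), .derive 6654 [.fwd 0] [] (.free), .derive 547 [.bwd 0, .fwd 130] [7] (.free), .derive 6588 [.bwd 270, .fwd 0] [] (.free), .derive 6598 [.bwd 0] [] (.free), .derive 6588 [.bwd 0, .bwd 239] [2] (.free), .derive 1427 [.bwd 272, .fwd 0] [] (.free), .derive 6605 [.bwd 0] [] (.free),
  .derive 1427 [.bwd 0, .bwd 153] [7] (.free), .derive 546 [.edge 7, .fwd 0] [] (.free), .derive 6646 [.bwd 0] [] (.free), .derive 546 [.bwd 0, .bwd 109] [4] (.free), .derive 1387 [.edge 4, .fwd 0] [] (.free), .derive 546 [.bwd 2, .bwd 159] [5] (.free), .derive 6586 [.bwd 283, .fwd 0] [] (.free), .derive 6586 [.fwd 0] [] (.free),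
  .derive 819 [.bwd 0, .bwd 278] [6] (.free), .derive 820 [.edge 6, .fwd 0] [] (.free), .derive 6589 [.bwd 0] [] (.free), .derive 820 [.bwd 0, .fwd 283] [0] (.free), .derive 6647 [.bwd 164, .fwd 0] [] (.free), .derive 820 [.bwd 2, .fwd 284] [3] (.free), .derive 6648 [.bwd 163, .fwd 0] [] (.free), .derive 820 [.bwd 4, .bwd 288] [5] (.free),
  .derive 6649 [.bwd 163, .fwd 0] [] (.free), .derive 6649 [.fwd 0] [] (.free), .derive 553 [.bwd 0, .fwd 164] [7] (.free), .derive 1467 [.edge 7, .fwd 0] [] (.free), .derive 6603 [.bwd 0] [] (.free), .derive 1467 [.bwd 0, .fwd 267] [4] (.free), .derive 1463 [.edge 4, .fwd 0] [] (.free), .derive 6601 [.bwd 0] [] (.free),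
  .derive 1463 [.bwd 0, .fwd 274] [3] (.free), .derive 6648 [.fwd 10] [] (.free), .derive 6647 [.fwd 13] [] (.free), .derive 1048 [.bwd 0, .fwd 177] [7] (.free), .derive 1475 [.edge 7, .fwd 0] [] (.free), .derive 6602 [.bwd 0] [] (.free), .derive 1475 [.bwd 0, .fwd 278] [4] (.free), .derive 1445 [.edge 4, .fwd 0] [] (.free),
  .derive 6600 [.bwd 0] [] (.free), .derive 1445 [.bwd 0, .bwd 177] [7] (.free), .derive 1390 [.edge 7, .fwd 0] [] (.free), .derive 6650 [.bwd 0] [] (.free), .derive 1390 [.bwd 0, .bwd 146] [6] (.free), .derive 1389 [.edge 6, .fwd 0] [] (.free), .derive 6667 [.bwd 0] [] (.free), .derive 1389 [.bwd 0, .fwd 148] [7] (.free),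
  .derive 1430 [.edge 7, .fwd 0] [] (.free), .derive 6599 [.bwd 0] [] (.free), .derive 1430 [.bwd 0, .bwd 286] [4] (.free), .derive 1431 [.edge 4, .fwd 0] [] (.free), .derive 6604 [.bwd 0] [] (.free), .derive 1431 [.bwd 0, .bwd 200] [7] (.free), .derive 1051 [.edge 7, .fwd 0] [] (.free), .derive 6645 [.bwd 0] [] (.free),
  .derive 1051 [.bwd 0, .bwd 187] [2] (.free), .derive 1050 [.edge 2, .fwd 0] [] (.free), .derive 6653 [.bwd 0] [] (.free), .derive 1050 [.bwd 0, .fwd 189] [7] (.free)]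
def ph9_p0 : List Aux :=
  ((ph9_p0_0 ++ ph9_p0_1) ++ (ph9_p0_2 ++ (ph9_p0_3 ++ ph9_p0_4)))

theorem ph9_p0_ok : stHas (runList (auxStep' P) ph9_p0 (mkSt 6496 mask10 [])) 6714 mask10 ph9_eq1 = true := by decide +kernel

def ph9_p1_0 : List Aux := [
  .derive 1432 [.edge 7, .fwd 0] [] (.free), .derive 6597 [.bwd 0] [] (.free), .derive 1432 [.bwd 0, .bwd 294] [3] (.free), .derive 1438 [.edge 3, .fwd 0] [] (.free), .derive 6606 [.bwd 0] [] (.free), .derive 1438 [.bwd 0, .bwd 295] [7] (.free), .derive 1062 [.edge 7, .fwd 0] [] (.free), .derive 6607 [.bwd 0] [] (.free),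
  .derive 1062 [.bwd 0, .bwd 295] [6] (.free), .derive 1063 [.edge 6, .fwd 0] [] (.free), .derive 6609 [.bwd 0] [] (.free), .derive 1063 [.bwd 0, .bwd 274] [3] (.free), .derive 1010 [.edge 3, .fwd 0] [] (.free), .derive 6620 [.bwd 0] [] (.free), .derive 1010 [.bwd 0, .bwd 272] [6] (.free), .derive 1011 [.edge 6, .fwd 0] [] (.free),
  .derive 6622 [.bwd 0] [] (.free), .derive 1011 [.bwd 0, .bwd 277] [0] (.free), .derive 6555 [.fwd 400, .fwd 0] [] (.free), .derive 1011 [.bwd 2, .fwd 278] [1] (.free), .derive 6699 [.bwd 122, .fwd 0] [] (.free), .derive 6699 [.fwd 0] [] (.free), .derive 1965 [.bwd 0, .bwd 122] [7] (.free), .derive 2241 [.edge 7, .fwd 0] [] (.free),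
  .derive 6700 [.bwd 0] [] (.free), .derive 2241 [.bwd 0, .bwd 99] [6] (.free), .derive 2395 [.edge 6, .fwd 0] [] (.free), .derive 6712 [.bwd 0] [] (.free), .derive 2395 [.bwd 0, .fwd 101] [7] (.free), .derive 2396 [.edge 7, .fwd 0] [] (.free), .derive 6695 [.bwd 0] [] (.free), .derive 2396 [.bwd 0, .bwd 136] [6] (.free),
  .derive 2189 [.edge 6, .fwd 0] [] (.free), .derive 6697 [.bwd 0] [] (.free), .derive 2189 [.bwd 0, .bwd 137] [7] (.free), .derive 1966 [.edge 7, .fwd 0] [] (.free), .derive 6698 [.bwd 0] [] (.free), .derive 1966 [.bwd 0, .bwd 133] [4] (.free), .derive 2170 [.edge 4, .fwd 0] [] (.free), .derive 6702 [.bwd 0] [] (.free),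
  .derive 2170 [.bwd 0, .bwd 134] [6] (.free), .derive 2169 [.edge 6, .fwd 0] [] (.free), .derive 6703 [.bwd 0] [] (.free), .derive 2169 [.bwd 0, .fwd 136] [7] (.free), .derive 2240 [.edge 7, .fwd 0] [] (.free), .derive 6701 [.bwd 0] [] (.free), .derive 2240 [.bwd 0, .fwd 144] [6] (.free), .derive 6555 [.fwd 28] [] (.free),
  .derive 743 [.bwd 0, .bwd 332] [6] (.free), .derive 742 [.edge 6, .fwd 0] [] (.free), .derive 743 [.bwd 2, .fwd 431] [7] (.free), .derive 6623 [.bwd 308, .fwd 0] [] (.free), .derive 6623 [.fwd 0] [] (.free), .derive 1055 [.bwd 0, .bwd 217] [6] (.free), .derive 1005 [.edge 6, .fwd 0] [] (.free), .derive 6666 [.bwd 0] [] (.free),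
  .derive 1005 [.bwd 0, .fwd 221] [1] (.free), .derive 6692 [.bwd 173, .fwd 0] [] (.free), .derive 6692 [.fwd 0] [] (.free), .derive 6611 [.bwd 9] [] (.free), .derive 742 [.bwd 0, .bwd 343] [7] (.free), .derive 6621 [.bwd 323, .fwd 0] [] (.free), .derive 6621 [.fwd 0] [] (.free), .derive 1007 [.bwd 0, .fwd 324] [1] (.free),
  .derive 6694 [.bwd 176, .fwd 0] [] (.free), .derive 6694 [.fwd 0] [] (.free), .derive 2174 [.bwd 0, .fwd 177] [4] (.free), .derive 2179 [.edge 4, .fwd 0] [] (.free), .derive 6688 [.bwd 0] [] (.free), .derive 2179 [.bwd 0, .bwd 189] [7] (.free), .derive 2156 [.edge 7, .fwd 0] [] (.free), .derive 6689 [.bwd 0] [] (.free),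
  .derive 2156 [.bwd 0, .bwd 190] [6] (.free), .derive 6619 [.fwd 338, .fwd 0] [] (.free), .derive 6690 [.bwd 0] [] (.free), .derive 6619 [.bwd 0, .bwd 166] [3] (.free), .derive 6629 [.fwd 319, .fwd 0] [] (.free), .derive 6704 [.bwd 0] [] (.free), .derive 6629 [.bwd 0, .bwd 166] [6] (.free), .derive 6625 [.bwd 321, .fwd 0] [] (.free),
  .derive 6706 [.bwd 0] [] (.free), .derive 6625 [.bwd 0, .bwd 170] [1] (.free), .derive 6626 [.fwd 331, .fwd 0] [] (.free), .derive 6626 [.fwd 0] [] (.free), .derive 1022 [.bwd 0, .bwd 329] [6] (.free), .derive 1021 [.edge 6, .fwd 0] [] (.free), .derive 6628 [.bwd 0] [] (.free), .derive 1021 [.bwd 0, .bwd 333] [4] (.free),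
  .derive 6705 [.bwd 178, .fwd 0] [] (.free), .derive 6705 [.fwd 0] [] (.free), .derive 762 [.bwd 0, .bwd 175] [6] (.free), .derive 761 [.edge 6, .fwd 0] [] (.free), .derive 6707 [.bwd 0] [] (.free), .derive 761 [.bwd 0, .fwd 179] [5] (.free), .derive 6627 [.bwd 342, .fwd 0] [] (.free), .derive 6627 [.fwd 0] [] (.free),
  .derive 2156 [.bwd 0, .fwd 343] [3] (.free), .derive 6625 [.fwd 348, .fwd 0] [] (.free), .derive 6625 [.fwd 0] [] (.free), .derive 6610 [.bwd 0, .bwd 341] [6] (.free)]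
def ph9_p1_1 : List Aux := [
  .derive 6668 [.bwd 147] [] (.free), .derive 1387 [.bwd 0, .fwd 260] [2] (.free), .derive 1386 [.edge 2, .fwd 0] [] (.free), .derive 6652 [.bwd 0] [] (.free), .derive 1386 [.bwd 0, .bwd 297] [5] (.free), .derive 6651 [.bwd 300, .bwd 0, .edge 3, .edge 5] [] (.rel 38), .derive 6651 [.fwd 0] [] (.free), .derive 1380 [.bwd 0, .fwd 301] [1] (.free),
  .derive 1368 [.edge 4, .bwd 0, .edge 4] [1] (.rel 19), .derive 1534 [.edge 5, .edge 1, .edge 5, .bwd 134, .fwd 312, .edge 5] [1] (.rel 21), .derive 2329 [.edge 7, .bwd 0, .edge 7] [1] (.rel 25), .derive 1536 [.edge 4, .bwd 0, .edge 4] [1] (.rel 19), .derive 2331 [.edge 3, .bwd 0, .edge 3] [1] (.rel 17), .derive 3825 [.edge 6, .bwd 1, .edge 6] [1] (.rel 23), .derive 3035 [.edge 1, .edge 2, .bwd 0, .edge 2, .edge 1] [2] (.rel 14), .derive 3016 [.edge 3, .bwd 1, .edge 3] [1] (.rel 17),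
  .derive 4119 [.edge 0, .bwd 1, .edge 0] [2] (.rel 2), .derive 3834 [.edge 4, .bwd 2, .edge 4] [2] (.rel 29), .derive 4923 [.edge 6, .bwd 1, .edge 6] [2] (.rel 33), .derive 4117 [.edge 5, .bwd 0, .edge 5] [2] (.rel 31), .derive 5097 [.edge 2, .edge 3, .bwd 0, .edge 3, .edge 2] [3] (.rel 26), .derive 4925 [.edge 6, .bwd 1, .edge 6] [2] (.rel 33), .derive 4091 [.edge 4, .bwd 0, .edge 4] [2] (.rel 29), .derive 3587 [.edge 0, .bwd 0, .edge 0] [2] (.rel 2),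
  .derive 3578 [.edge 6, .bwd 0, .edge 6] [2] (.rel 33), .derive 2100 [.edge 2, .edge 1, .bwd 0, .edge 1, .edge 2] [1] (.rel 15), .derive 2083 [.edge 7, .bwd 0, .edge 7] [1] (.rel 25), .derive 2097 [.edge 4, .bwd 0, .edge 4] [1] (.rel 19), .derive 2508 [.edge 1, .edge 0, .bwd 0, .edge 0, .edge 1] [0] (.rel 1), .derive 3363 [.edge 7, .bwd 0, .edge 7] [0] (.rel 13), .derive 2506 [.edge 5, .bwd 0, .edge 5] [0] (.rel 9), .derive 4044 [.edge 6, .bwd 1, .edge 6] [0] (.rel 11),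
  .derive 1929 [.edge 0, .edge 1, .bwd 1, .edge 1, .edge 0, .fwd 249] [] (.rel 0), .derive 6691 [.bwd 0] [] (.free), .derive 1929 [.bwd 0, .bwd 249, .fwd 75] [4] (.free), .derive 1955 [.edge 4, .fwd 0] [] (.free), .derive 6655 [.bwd 0] [] (.free), .derive 1955 [.bwd 0, .bwd 250] [5] (.free), .derive 1460 [.edge 5, .fwd 0] [] (.free), .derive 6693 [.bwd 0] [] (.free),
  .derive 1460 [.bwd 0, .bwd 248] [0] (.free), .derive 1909 [.edge 0, .fwd 0] [] (.free), .derive 6696 [.bwd 0] [] (.free), .derive 1909 [.bwd 0, .fwd 250] [5] (.free), .derive 1933 [.edge 5, .fwd 0] [] (.free), .derive 6661 [.bwd 0] [] (.free), .derive 1933 [.bwd 0, .fwd 320] [1] (.free), .derive 3360 [.bwd 16, .bwd 245, .fwd 101, .edge 0] [6] (.rel 10),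
  .derive 2191 [.edge 7, .edge 6, .edge 7, .bwd 0, .edge 7] [6] (.rel 55), .derive 3361 [.bwd 0, .edge 4, .edge 6] [4] (.rel 47), .derive 2391 [.bwd 0, .edge 1, .edge 4] [1] (.rel 19), .derive 2392 [.edge 5, .bwd 1, .edge 5] [4] (.rel 45), .derive 3363 [.edge 7, .bwd 0, .edge 7] [4] (.rel 49), .derive 2397 [.bwd 0, .edge 1, .edge 4] [1] (.rel 19), .derive 3534 [.edge 6, .bwd 1, .edge 6] [4] (.rel 47), .derive 3581 [.edge 1, .bwd 0, .edge 1] [4] (.rel 18),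
  .derive 3539 [.bwd 0, .edge 6, .edge 4] [6] (.rel 46), .derive 2393 [.edge 3, .bwd 0, .edge 3] [6] (.rel 40), .derive 3532 [.edge 5, .bwd 0, .edge 5, .edge 6, .edge 5] [6] (.rel 50), .derive 3652 [.edge 6, .edge 0, .bwd 0] [0] (.rel 11), .derive 2197 [.edge 4, .bwd 1, .edge 4] [6] (.rel 46), .derive 3533 [.bwd 0, .edge 2, .edge 6] [2] (.rel 33), .derive 3655 [.bwd 0, .edge 5, .edge 2] [5] (.rel 30), .derive 3996 [.edge 6, .bwd 0, .edge 6, .edge 5, .edge 6] [5] (.rel 51),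
  .derive 3668 [.edge 7, .bwd 0, .edge 7] [5] (.rel 53), .derive 3997 [.bwd 0, .edge 4, .edge 5] [4] (.rel 45), .derive 3876 [.bwd 0, .edge 1, .edge 4] [1] (.rel 19), .derive 3884 [.edge 6, .bwd 1, .edge 6] [4] (.rel 47), .derive 4000 [.edge 4, .edge 1, .bwd 0] [1] (.rel 19), .derive 3759 [.edge 5, .bwd 0, .edge 5, .fwd 0, .edge 5] [1] (.rel 21), .derive 5386 [.edge 7, .fwd 0, .edge 7] [1] (.rel 25), .derive 5387 [.edge 6, .fwd 0, .edge 6] [1] (.rel 23),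
  .derive 3437 [.edge 7, .fwd 0, .edge 7] [1] (.rel 25), .derive 3738 [.edge 1, .edge 5, .fwd 0, .edge 5, .edge 1] [5] (.rel 20), .derive 2215 [.edge 6, .fwd 1, .edge 6] [1] (.rel 23), .derive 3123 [.edge 3, .fwd 0, .edge 3] [1] (.rel 17), .derive 3501 [.edge 1, .edge 2, .fwd 0, .edge 2, .edge 1] [2] (.rel 14), .derive 5413 [.edge 4, .fwd 0, .edge 4] [2] (.rel 29), .derive 3750 [.edge 3, .fwd 4, .edge 3] [5] (.rel 38), .derive 5594 [.edge 0, .fwd 0, .edge 0] [5] (.rel 8),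
  .derive 4002 [.edge 7, .bwd 13, .edge 7] [1] (.rel 25), .derive 3721 [.edge 1, .edge 5, .bwd 0, .edge 5, .edge 1] [5] (.rel 20), .derive 3882 [.edge 6, .bwd 1, .edge 6] [1] (.rel 23), .derive 4013 [.bwd 1, .edge 3, .edge 5] [3] (.rel 39), .derive 4016 [.edge 6, .edge 5, .edge 6, .bwd 2, .edge 6] [5] (.rel 51), .derive 3736 [.edge 1, .edge 5, .edge 1, .bwd 0, .edge 1] [5] (.rel 20), .derive 5789 [.edge 5, .edge 3, .bwd 1] [3] (.rel 39), .derive 3731 [.edge 7, .bwd 2, .edge 7] [5] (.rel 53),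
  .derive 4018 [.edge 4, .bwd 0, .edge 4] [5] (.rel 44), .derive 3742 [.edge 1, .edge 5, .edge 1, .bwd 0, .edge 1] [5] (.rel 20), .derive 3724 [.bwd 1, .edge 2, .edge 5] [2] (.rel 31), .derive 2514 [.edge 7, .bwd 0, .edge 7] [2] (.rel 35), .derive 3728 [.edge 6, .bwd 0, .edge 6] [2] (.rel 33), .derive 4058 [.edge 2, .edge 3, .bwd 0, .edge 3, .edge 2] [3] (.rel 26), .derive 5772 [.edge 5, .bwd 0, .edge 5] [3] (.rel 39), .derive 5751 [.edge 7, .bwd 1, .edge 7, .fwd 1, .edge 7] [3] (.rel 43),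
  .derive 6240 [.edge 3, .edge 4, .fwd 0, .edge 4, .edge 3] [4] (.rel 36), .derive 4008 [.edge 2, .edge 3, .edge 2, .bwd 2, .edge 2] [3] (.rel 26), .derive 5929 [.edge 3, .edge 6, .bwd 3] [6] (.rel 40), .derive 5738 [.edge 2, .bwd 0, .edge 2] [6] (.rel 32)]
def ph9_p1_2 : List Aux := [
  .derive 5779 [.edge 5, .edge 6, .edge 5, .bwd 1, .edge 5] [6] (.rel 50), .derive 5933 [.edge 0, .bwd 0, .edge 0] [6] (.rel 10), .derive 4048 [.edge 6, .edge 3, .bwd 1] [3] (.rel 41), .derive 5780 [.edge 0, .bwd 0, .edge 0] [3] (.rel 4), .derive 5774 [.edge 2, .bwd 1, .edge 2, .edge 3, .edge 2] [3] (.rel 26), .derive 4027 [.edge 0, .bwd 0, .edge 0] [3] (.rel 4), .derive 5785 [.bwd 0, .edge 6, .edge 3] [6] (.rel 40), .derive 5932 [.bwd 0, .edge 4, .edge 6] [4] (.rel 47),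
  .derive 6235 [.edge 1, .bwd 0, .edge 1] [4] (.rel 18), .derive 5948 [.edge 6, .bwd 0, .edge 6] [4] (.rel 47), .derive 6155 [.edge 4, .edge 5, .bwd 0] [5] (.rel 44), .derive 5949 [.edge 0, .bwd 0, .edge 0] [5] (.rel 8), .derive 6139 [.edge 3, .bwd 0, .edge 3] [5] (.rel 38), .derive 5940 [.edge 4, .bwd 0, .edge 4] [5] (.rel 44), .derive 6142 [.edge 5, .edge 3, .bwd 0] [3] (.rel 39), .derive 5479 [.edge 1, .bwd 0, .edge 1] [3] (.rel 16),
  .derive 5790 [.edge 0, .bwd 0, .edge 0] [3] (.rel 4), .derive 5798 [.edge 7, .edge 3, .edge 7, .bwd 1, .edge 7] [3] (.rel 43), .derive 4024 [.edge 0, .bwd 0, .edge 0] [3] (.rel 4), .derive 5481 [.edge 5, .bwd 1, .edge 5] [3] (.rel 39), .derive 5594 [.edge 6, .bwd 0, .edge 6] [3] (.rel 41), .derive 5482 [.bwd 0, .edge 0, .edge 3] [0] (.rel 5), .derive 5399 [.edge 7, .bwd 0, .edge 7] [0] (.rel 13), .derive 5379 [.edge 0, .edge 2, .bwd 0] [2] (.rel 2),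
  .derive 5400 [.edge 4, .bwd 0, .edge 4] [2] (.rel 29), .derive 3610 [.edge 7, .bwd 0, .edge 7] [2] (.rel 35), .derive 3455 [.edge 2, .edge 1, .bwd 0, .edge 1, .edge 2] [1] (.rel 15), .derive 3742 [.edge 6, .bwd 1, .edge 6] [2] (.rel 33), .derive 5486 [.edge 2, .edge 0, .bwd 0] [0] (.rel 3), .derive 3608 [.edge 4, .bwd 1, .edge 4] [2] (.rel 29), .derive 2199 [.edge 2, .edge 1, .bwd 0, .edge 1, .bwd 510] [1] (.rel 15), .derive 3736 [.edge 7, .bwd 1, .edge 7] [2] (.rel 35),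
  .derive 3624 [.edge 6, .bwd 0, .edge 6] [2] (.rel 33), .derive 3464 [.bwd 511, .bwd 2, .edge 6] [1] (.rel 23), .derive 3461 [.edge 3, .bwd 0, .edge 3] [1] (.rel 17), .derive 3453 [.edge 5, .bwd 1, .edge 5, .edge 1, .edge 5] [1] (.rel 21), .derive 2038 [.edge 6, .bwd 0, .edge 6] [1] (.rel 23), .derive 5357 [.edge 7, .bwd 1, .edge 7] [1] (.rel 25), .derive 5397 [.edge 4, .bwd 0, .edge 4] [1] (.rel 19), .derive 2242 [.edge 7, .bwd 2, .edge 7] [1] (.rel 25),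
  .derive 2042 [.edge 3, .bwd 0, .edge 3] [1] (.rel 17), .derive 2031 [.edge 4, .bwd 0, .edge 4] [1] (.rel 19), .derive 2044 [.edge 7, .bwd 0, .edge 7] [1] (.rel 25), .derive 3457 [.edge 0, .bwd 8, .edge 0, .bwd 16, .edge 0] [1] (.rel 0), .derive 3428 [.edge 4, .bwd 9, .edge 4] [1] (.rel 19), .derive 3451 [.edge 0, .bwd 11, .edge 0, .bwd 0, .edge 0] [1] (.rel 0), .derive 3786 [.edge 1, .edge 2, .bwd 0, .edge 2, .edge 1] [2] (.rel 14), .derive 2201 [.edge 6, .bwd 1, .edge 6] [1] (.rel 23),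
  .derive 3680 [.edge 1, .edge 2, .bwd 0, .edge 2, .edge 1] [2] (.rel 14), .derive 2205 [.edge 4, .bwd 1, .edge 4] [1] (.rel 19), .derive 2195 [.edge 7, .bwd 2, .edge 7] [1] (.rel 25), .derive 3796 [.edge 6, .bwd 0, .edge 6] [1] (.rel 23), .derive 3510 [.edge 0, .edge 1, .bwd 92, .bwd 0, .edge 0] [1] (.rel 0), .derive 3653 [.edge 4, .bwd 1, .edge 4] [1] (.rel 19), .derive 3799 [.edge 1, .edge 2, .bwd 0, .edge 2, .edge 1] [2] (.rel 14), .derive 3684 [.edge 6, .bwd 0, .edge 6] [2] (.rel 33),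
  .derive 3782 [.edge 7, .bwd 0, .edge 7] [2] (.rel 35), .derive 5495 [.edge 5, .bwd 0, .edge 5] [2] (.rel 31), .derive 3682 [.edge 6, .bwd 1, .edge 6] [2] (.rel 33), .derive 5871 [.edge 4, .bwd 1, .edge 4] [2] (.rel 29), .derive 5497 [.edge 7, .bwd 0, .edge 7] [2] (.rel 35), .derive 5892 [.edge 2, .edge 3, .bwd 0, .edge 3, .edge 2] [3] (.rel 26), .derive 5559 [.edge 5, .bwd 0, .edge 5] [3] (.rel 39), .derive 5896 [.edge 0, .bwd 0, .edge 0] [3] (.rel 4),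
  .derive 5531 [.edge 3, .edge 2, .bwd 0, .edge 2, .edge 3] [2] (.rel 27), .derive 5866 [.edge 7, .bwd 0, .edge 7] [2] (.rel 35), .derive 5552 [.edge 0, .edge 1, .edge 0, .edge 1, .bwd 37] [1] (.rel 0), .derive 3743 [.edge 7, .bwd 38, .edge 7] [0] (.rel 13), .derive 5484 [.edge 4, .bwd 0, .edge 4] [0] (.rel 7), .derive 4020 [.edge 0, .edge 5, .bwd 1] [5] (.rel 8), .derive 5481 [.edge 4, .bwd 3, .edge 4] [1] (.rel 19), .derive 5487 [.edge 6, .bwd 4, .edge 6] [1] (.rel 23),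
  .derive 5555 [.edge 1, .edge 3, .bwd 0] [3] (.rel 16), .derive 5861 [.edge 1, .fwd 7, .bwd 2, .edge 2, .edge 1] [2] (.rel 14), .derive 5176 [.edge 0, .bwd 0, .edge 0] [2] (.rel 2), .derive 5926 [.edge 3, .edge 6, .bwd 58] [6] (.rel 40), .derive 5445 [.edge 2, .edge 1, .edge 2, .bwd 122, .edge 2] [1] (.rel 15), .derive 3870 [.edge 7, .bwd 0, .edge 7] [1] (.rel 25), .derive 3366 [.edge 1, .edge 2, .bwd 127, .edge 2, .edge 1] [2] (.rel 14), .derive 1932 [.bwd 128, .edge 3, .edge 1] [3] (.rel 16),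
  .derive 1932 [.bwd 129, .edge 6, .edge 1] [6] (.rel 22), .derive 2184 [.edge 2, .bwd 0, .edge 2] [6] (.rel 32), .derive 3352 [.edge 6, .edge 3, .bwd 0] [3] (.rel 41), .derive 1936 [.edge 4, .bwd 1, .edge 4] [6] (.rel 46), .derive 2185 [.bwd 0, .edge 1, .edge 6] [1] (.rel 23), .derive 3374 [.bwd 0, .edge 2, .edge 1, .edge 2, .edge 1] [2] (.rel 14), .derive 3676 [.edge 6, .bwd 0, .edge 6] [2] (.rel 33), .derive 5351 [.edge 2, .edge 3, .bwd 0, .edge 3, .edge 2] [3] (.rel 26),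
  .derive 1447 [.edge 2, .bwd 8, .edge 2, .edge 3, .edge 2] [3] (.rel 26), .derive 1944 [.edge 7, .bwd 0, .edge 7, .edge 3, .edge 7, .fwd 446] [] (.rel 43), .derive 6669 [.bwd 0] [] (.free), .derive 1944 [.bwd 0, .bwd 372] [5] (.free), .derive 1880 [.edge 5, .fwd 0] [] (.free), .derive 6709 [.bwd 0] [] (.free), .derive 1880 [.bwd 0, .bwd 373] [0] (.free), .derive 1175 [.edge 0, .fwd 0] [] (.free),
  .derive 6710 [.bwd 0] [] (.free), .derive 1175 [.bwd 0, .fwd 375] [5] (.free), .derive 1921 [.edge 5, .fwd 0] [] (.free), .derive 6671 [.bwd 0] [] (.free)]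
def ph9_p1_3 : List Aux := [
  .derive 1921 [.bwd 0, .fwd 454] [6] (.free), .derive 2403 [.bwd 0, .edge 4, .edge 6] [4] (.rel 47), .derive 3349 [.edge 0, .bwd 0, .edge 0] [4] (.rel 6), .derive 5435 [.edge 0, .bwd 182, .edge 0] [3] (.rel 4), .derive 5081 [.edge 5, .bwd 0, .edge 5] [3] (.rel 39), .derive 1119 [.edge 5, .edge 1, .edge 5, .bwd 331, .fwd 505, .edge 5] [1] (.rel 21), .derive 2678 [.edge 5, .edge 6, .edge 7, .edge 3, .edge 2, .fwd 0, .edge 5, .edge 6, .edge 7, .edge 3, .edge 2, .edge 1, .edge 5, .edge 6, .edge 7, .edge 3, .edge 2, .edge 1, .fwd 592, .fwd 206, .fwd 547, .edge 3, .edge 2, .edge 1, .bwd 626, .fwd 625, .edge 7, .fwd 333, .edge 2] [1] (.rel 86), .derive 6595 [.bwd 616, .edge 6, .edge 7, .edge 3, .edge 2, .edge 1, .edge 2, .edge 3, .edge 7, .edge 6, .edge 5, .edge 6, .edge 7, .edge 3, .edge 2, .edge 1, .edge 2, .edge 3, .edge 7, .edge 6, .bwd 356, .bwd 513, .edge 6, .edge 7,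 .edge 3, .edge 2, .edge 1, .edge 2, .edge 3, .fwd 673, .fwd 671] [] (.rel 75),
  .derive 6595 [.fwd 0] [] (.free), .derive 6565 [.bwd 0, .bwd 618] [5] (.free), .derive 1692 [.edge 5, .edge 6, .bwd 0, .bwd 674, .fwd 675] [6] (.rel 50), .derive 6596 [.bwd 619, .bwd 1, .bwd 678, .edge 5] [] (.rel 53), .derive 6596 [.fwd 0] [] (.free), .derive 1118 [.bwd 0, .bwd 621] [7] (.free), .derive 6593 [.bwd 628, .bwd 0, .edge 0, .edge 7] [] (.rel 12), .derive 6593 [.fwd 0] [] (.free),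
  .derive 1117 [.bwd 0, .fwd 629] [3] (.free), .derive 1817 [.edge 2, .edge 3, .edge 2, .bwd 0, .edge 2] [3] (.rel 26), .derive 1084 [.edge 5, .bwd 0, .edge 5] [3] (.rel 39), .derive 1130 [.edge 0, .bwd 8, .edge 0] [6] (.rel 10), .node 1061 1, .derive 6714 [.bwd 0, .edge 3, .fwd 438, .fwd 187] [3] (.rel 16), .derive 6714 [.bwd 1, .edge 6, .bwd 213] [6] (.rel 22), .node 1066 6,
  .derive 6715 [.bwd 0, .edge 5, .edge 6, .edge 5, .fwd 459] [5] (.rel 51), .node 1068 3, .derive 6716 [.bwd 0, .edge 5, .fwd 479] [5] (.rel 38), .node 1071 6, .node 1073 3, .derive 6718 [.bwd 0, .edge 5, .fwd 501] [5] (.rel 38), .node 1077 3, .derive 6719 [.bwd 0, .edge 5, .fwd 476] [5] (.rel 38),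
  .node 1079 6, .derive 6720 [.bwd 0, .edge 0, .fwd 5] [0] (.rel 11), .node 1082 7, .derive 6721 [.bwd 0, .edge 2, .edge 7] [2] (.rel 35), .derive 6721 [.bwd 1, .edge 5, .edge 7] [5] (.rel 53), .node 1085 2, .derive 6722 [.bwd 0, .edge 6, .bwd 2] [6] (.rel 32), .derive 6722 [.bwd 1, .edge 7, .edge 2] [7] (.rel 34),
  .node 1093 3, .node 1106 5, .node 1107 5, .derive 6725 [.bwd 0, .edge 3, .fwd 1] [3] (.rel 39), .node 1108 7, .derive 6726 [.bwd 0, .edge 0, .fwd 708] [0] (.rel 13), .node 1129 3, .derive 6727 [.bwd 0, .bwd 36, .edge 3] [6] (.rel 40),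
  .node 1130 3, .derive 6728 [.bwd 0, .fwd 29, .edge 3] [6] (.rel 40), .node 1134 5, .node 1154 0, .derive 6730 [.bwd 0, .edge 3, .edge 0] [3] (.rel 4), .derive 6730 [.bwd 1, .edge 6, .edge 0] [6] (.rel 10), .node 1169 3, .derive 6731 [.bwd 0, .edge 7, .edge 3, .edge 7, .fwd 8] [7] (.rel 42),
  .node 1174 3, .node 1188 3, .derive 6733 [.bwd 0, .edge 7, .edge 3, .edge 7, .fwd 9] [7] (.rel 42), .node 1193 6, .derive 6734 [.bwd 0, .edge 2, .edge 6] [2] (.rel 33), .node 1200 3, .node 1204 1, .node 1204 6,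
  .node 1207 5, .derive 6738 [.bwd 0, .edge 2, .fwd 14] [2] (.rel 31), .node 1208 3, .node 1208 5, .node 1209 3, .derive 6741 [.bwd 0, .edge 0, .fwd 7] [0] (.rel 5), .derive 6741 [.bwd 1, .edge 1, .edge 3] [1] (.rel 17), .derive 6741 [.bwd 2, .edge 6, .fwd 4] [6] (.rel 40),
  .node 1213 6, .node 1217 3, .derive 6743 [.bwd 0, .edge 5, .fwd 5] [5] (.rel 38), .node 1217 6, .derive 6744 [.bwd 0, .edge 4, .fwd 3] [4] (.rel 47), .node 1218 1, .derive 6745 [.bwd 0, .edge 4, .fwd 15] [4] (.rel 18), .node 1218 6,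
  .derive 6746 [.bwd 0, .edge 4, .fwd 16] [4] (.rel 47), .node 1219 3, .derive 6747 [.bwd 0, .edge 6, .fwd 20] [6] (.rel 40), .node 1219 5, .derive 6748 [.bwd 0, .edge 0, .fwd 16] [0] (.rel 9), .node 1221 0, .derive 6749 [.bwd 0, .edge 1, .edge 0, .edge 1, .edge 0] [1] (.rel 0), .derive 6749 [.bwd 1, .edge 3, .edge 0] [3] (.rel 4),
  .derive 6749 [.bwd 2, .edge 6, .edge 0] [6] (.rel 10), .node 1222 0, .derive 6750 [.bwd 0, .edge 3, .edge 0] [3] (.rel 4), .derive 6750 [.bwd 1, .edge 4, .fwd 5] [4] (.rel 6), .node 1230 4, .derive 6751 [.bwd 0, .edge 7, .fwd 755] [7] (.rel 48), .node 1241 4, .derive 6752 [.bwd 0, .edge 7, .fwd 755] [7] (.rel 48),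
  .node 1243 4, .derive 6753 [.bwd 0, .edge 7, .fwd 745] [7] (.rel 48), .node 1244 4, .derive 6754 [.bwd 0, .edge 7, .fwd 756] [7] (.rel 48)]
def ph9_p1_4 : List Aux := [
  .node 1245 4, .derive 6755 [.bwd 0, .edge 7, .fwd 759] [7] (.rel 48), .node 1255 6, .node 1263 6, .derive 6757 [.bwd 0, .edge 3, .fwd 1] [3] (.rel 41), .derive 6757 [.bwd 1, .edge 7, .edge 6, .edge 7, .edge 6] [7] (.rel 54), .node 1265 5, .derive 6758 [.bwd 0, .edge 7, .fwd 696] [7] (.rel 52),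
  .node 1266 5, .derive 6759 [.bwd 0, .edge 1, .edge 5, .edge 1, .fwd 2] [1] (.rel 21), .node 1268 3, .derive 6760 [.bwd 0, .edge 7, .edge 3, .bwd 647, .bwd 636] [7] (.rel 42), .node 1268 6, .derive 6761 [.bwd 0, .edge 4, .edge 6] [4] (.rel 47), .derive 6761 [.bwd 1, .edge 7, .edge 6, .edge 7, .edge 6] [7] (.rel 54), .node 1270 3,
  .derive 6762 [.bwd 0, .edge 6, .edge 3] [6] (.rel 40), .node 1275 3, .derive 6763 [.bwd 0, .edge 7, .edge 3, .bwd 652, .bwd 648] [7] (.rel 42), .node 1275 6, .derive 6764 [.bwd 0, .edge 4, .edge 6] [4] (.rel 47), .derive 6764 [.bwd 1, .edge 7, .edge 6, .edge 7, .edge 6] [7] (.rel 54), .node 1276 3, .derive 6765 [.bwd 0, .edge 4, .edge 3, .edge 4, .bwd 633] [4] (.rel 36),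
  .derive 6765 [.bwd 1, .edge 7, .edge 3, .bwd 640, .bwd 636] [7] (.rel 42), .node 1304 5, .derive 6766 [.bwd 0, .edge 4, .fwd 756] [4] (.rel 45), .node 1314 3, .derive 6767 [.bwd 0, .edge 7, .edge 3, .edge 7, .bwd 110] [7] (.rel 42), .node 1315 3, .derive 6768 [.bwd 0, .edge 7, .edge 3, .edge 7, .fwd 111] [7] (.rel 42), .node 1319 3,
  .derive 6769 [.bwd 0, .edge 1, .edge 3] [1] (.rel 17), .derive 6769 [.bwd 1, .edge 7, .edge 3, .edge 7, .fwd 589] [7] (.rel 42), .node 1328 3, .derive 6770 [.bwd 0, .edge 6, .edge 3] [6] (.rel 40), .derive 6770 [.bwd 1, .edge 7, .edge 3, .edge 7, .fwd 95] [7] (.rel 42), .node 1337 2, .derive 6771 [.bwd 0, .edge 5, .fwd 773] [5] (.rel 30), .node 1337 6,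
  .node 1367 3, .derive 6773 [.bwd 0, .edge 4, .edge 3, .edge 4, .fwd 25] [4] (.rel 36), .derive 6773 [.bwd 1, .edge 7, .edge 3, .edge 7, .fwd 1] [7] (.rel 42), .derive 2798 [.edge 4, .bwd 26, .bwd 1] [6] (.rel 46), .node 1367 6, .derive 6774 [.bwd 0, .edge 2, .bwd 122] [2] (.rel 33), .derive 6774 [.bwd 1, .fwd 5, .bwd 2] [3] (.rel 41), .derive 2798 [.bwd 0, .fwd 1, .fwd 125, .edge 2, .edge 3] [2] (.rel 27),
  .node 1400 5, .node 1401 5, .derive 6776 [.bwd 0, .edge 4, .fwd 739] [4] (.rel 45), .derive 6776 [.bwd 1, .edge 7, .fwd 2] [7] (.rel 52), .node 1425 5, .derive 6777 [.bwd 0, .edge 1, .edge 5, .edge 1, .fwd 4] [1] (.rel 21), .derive 6777 [.bwd 1, .edge 3, .edge 5] [3] (.rel 39), .derive 6777 [.bwd 2, .edge 4, .fwd 46] [4] (.rel 45),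
  .node 1451 6, .node 1456 3, .derive 6779 [.bwd 0, .edge 1, .edge 3] [1] (.rel 17), .node 1456 6, .derive 6780 [.bwd 0, .edge 2, .fwd 3] [2] (.rel 33), .node 1457 3, .derive 6781 [.bwd 0, .edge 0, .fwd 4] [0] (.rel 5), .node 1459 3,
  .derive 6782 [.bwd 0, .edge 7, .edge 3, .edge 7, .fwd 107] [7] (.rel 42), .node 1464 3, .derive 6783 [.bwd 0, .edge 1, .fwd 493] [1] (.rel 17), .node 1468 6, .derive 6784 [.bwd 0, .edge 4, .fwd 11] [4] (.rel 47), .derive 6784 [.bwd 1, .edge 7, .edge 6, .edge 7, .fwd 66] [7] (.rel 54), .node 1473 3, .derive 6785 [.bwd 0, .edge 5, .fwd 13] [5] (.rel 38),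
  .node 1515 3, .derive 6786 [.bwd 0, .edge 5, .fwd 629] [5] (.rel 38), .node 1516 3, .derive 6787 [.bwd 0, .edge 5, .fwd 134] [5] (.rel 38), .node 1519 3, .derive 6788 [.bwd 0, .edge 7, .edge 3, .edge 7, .fwd 2] [7] (.rel 42), .node 1530 3, .derive 6789 [.bwd 0, .edge 0, .fwd 2] [0] (.rel 5),
  .derive 6789 [.bwd 1, .edge 7, .edge 3, .edge 7, .fwd 7] [7] (.rel 42), .node 1535 3, .node 1535 6, .derive 6791 [.bwd 0, .edge 4, .edge 6] [4] (.rel 47), .node 1537 1, .node 1537 6, .derive 6793 [.bwd 0, .edge 0, .edge 6] [0] (.rel 11), .node 1540 6,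
  .derive 6794 [.bwd 0, .edge 2, .edge 6] [2] (.rel 33), .derive 6794 [.bwd 1, .edge 4, .fwd 3] [4] (.rel 47), .node 1551 0, .node 1552 0, .derive 6796 [.bwd 0, .edge 6, .edge 0] [6] (.rel 10), .derive 6796 [.bwd 1, .edge 7, .fwd 2] [7] (.rel 12), .node 1552 3, .derive 6797 [.bwd 0, .edge 6, .edge 3] [6] (.rel 40),
  .node 1557 0, .derive 6798 [.bwd 0, .edge 6, .edge 0] [6] (.rel 10), .node 1558 0, .derive 6799 [.bwd 0, .edge 4, .fwd 8] [4] (.rel 6)]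
def ph9_p1 : List Aux :=
  ((ph9_p1_0 ++ ph9_p1_1) ++ (ph9_p1_2 ++ (ph9_p1_3 ++ ph9_p1_4)))

theorem ph9_p1_ok : stHas (runList (auxStep' P) ph9_p1 (mkSt 6714 mask10 ph9_eq1)) 6800 mask10 ph9_eq2 = true := by decide +kernel

end Cfsg.Agent.CosetData.ChainU62
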