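import Cfsg.Agent.Lib.Compute.CosetData.ChainU62Aux

/-! Coset enumeration certificate data (S2091 chain). -/

set_option autoImplicit false
set_option maxRecDepth 100000
set_option Elab.async false

namespace Cfsg.Agent.CosetData.ChainU62

open Cfsg.Agent.CosetCert

def ph9_p2_0 : List Aux := [
  .derive 6799 [.bwd 1, .edge 7, .fwd 3] [7] (.rel 12), .node 1583 1, .node 1584 1, .node 1585 1, .derive 6802 [.bwd 0, .edge 7, .fwd 1] [7] (.rel 24), .node 1587 0, .node 1588 0, .derive 6804 [.bwd 0, .edge 7, .fwd 1] [7] (.rel 12),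
  .node 1592 1, .derive 6805 [.bwd 0, .edge 7, .fwd 7] [7] (.rel 24), .node 1610 3, .derive 6806 [.bwd 0, .edge 6, .edge 3] [6] (.rel 40), .node 1647 5, .node 1648 5, .derive 6808 [.bwd 0, .edge 4, .fwd 1] [4] (.rel 45), .node 1649 5,
  .node 1650 5, .derive 6810 [.bwd 0, .edge 4, .fwd 1] [4] (.rel 45), .node 1658 5, .derive 6811 [.bwd 0, .edge 3, .edge 5] [3] (.rel 39), .derive 6811 [.bwd 1, .edge 7, .edge 5] [7] (.rel 52), .node 1668 6, .derive 6812 [.bwd 0, .edge 2, .edge 6] [2] (.rel 33), .node 1670 6,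
  .derive 6813 [.bwd 0, .edge 2, .bwd 176] [2] (.rel 33), .node 1671 6, .node 1672 6, .node 1675 6, .derive 6816 [.bwd 0, .edge 1, .fwd 4] [1] (.rel 23), .derive 6816 [.bwd 1, .edge 4, .fwd 2] [4] (.rel 47), .node 1681 6, .node 1682 6,
  .node 1683 6, .derive 6819 [.bwd 0, .edge 3, .fwd 1] [3] (.rel 41), .node 1694 6, .derive 6820 [.bwd 0, .edge 3, .fwd 8] [3] (.rel 41), .node 1698 6, .derive 6821 [.bwd 0, .edge 3, .fwd 11] [3] (.rel 41), .node 1699 6, .derive 6822 [.bwd 0, .edge 3, .fwd 8] [3] (.rel 41),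
  .node 1748 7, .node 1754 7, .derive 6824 [.bwd 0, .edge 4, .fwd 1] [4] (.rel 49), .derive 6824 [.bwd 1, .edge 6, .edge 7, .edge 6, .bwd 114] [6] (.rel 55), .node 1765 7, .derive 6825 [.bwd 0, .edge 4, .bwd 24] [4] (.rel 49), .node 1766 7, .derive 6826 [.bwd 0, .edge 4, .bwd 785] [4] (.rel 49),
  .node 1788 7, .node 1789 7, .derive 6828 [.bwd 0, .edge 2, .fwd 3] [2] (.rel 35), .derive 6828 [.bwd 1, .edge 4, .fwd 2] [4] (.rel 49), .node 1790 7, .derive 6829 [.bwd 0, .edge 2, .fwd 8] [2] (.rel 35), .node 1801 7, .derive 6830 [.bwd 0, .edge 0, .fwd 6] [0] (.rel 13),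
  .derive 6830 [.bwd 1, .edge 4, .fwd 3] [4] (.rel 49), .node 1823 7, .derive 6831 [.bwd 0, .edge 6, .edge 7, .edge 6, .fwd 17] [6] (.rel 55), .node 1846 3, .derive 6832 [.bwd 0, .edge 6, .edge 3] [6] (.rel 40), .node 1876 1, .derive 6833 [.bwd 0, .edge 4, .edge 1] [4] (.rel 18), .derive 6833 [.bwd 1, .bwd 174, .fwd 176] [6] (.rel 22),
  .node 1886 3, .derive 6834 [.bwd 0, .edge 5, .bwd 212] [5] (.rel 38), .derive 2183 [.edge 5, .fwd 284, .edge 5, .bwd 212, .bwd 0] [6] (.rel 50), .node 1886 6, .derive 6835 [.bwd 0, .fwd 3, .bwd 1] [3] (.rel 41), .derive 6835 [.bwd 1, .edge 5, .edge 6, .edge 5, .edge 6] [5] (.rel 51), .derive 3636 [.edge 3, .edge 7, .edge 3, .edge 7, .bwd 1] [7] (.rel 42), .node 1896 1,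
  .derive 6836 [.bwd 0, .edge 2, .edge 1, .edge 2, .edge 1] [2] (.rel 14), .derive 6836 [.bwd 1, .edge 7, .edge 1] [7] (.rel 24), .node 1896 3, .node 1913 1, .derive 6838 [.bwd 0, .edge 4, .edge 1] [4] (.rel 18), .derive 6838 [.bwd 1, .edge 7, .edge 1] [7] (.rel 24), .node 1913 3, .derive 6839 [.bwd 0, .edge 7, .edge 3, .edge 7, .fwd 4] [7] (.rel 42),
  .node 1920 6, .derive 6840 [.bwd 0, .edge 5, .edge 6, .edge 5, .fwd 46] [5] (.rel 51), .derive 6840 [.bwd 1, .edge 7, .fwd 281, .edge 7, .edge 6] [7] (.rel 54), .node 1927 3, .derive 6841 [.bwd 0, .edge 5, .fwd 120] [5] (.rel 38), .node 1928 1, .node 1939 1, .derive 6843 [.bwd 0, .edge 7, .edge 1] [7] (.rel 24),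
  .node 1939 3, .node 1939 6, .derive 6845 [.bwd 0, .edge 4, .edge 6] [4] (.rel 47), .node 1951 3, .derive 6846 [.bwd 0, .edge 0, .fwd 3] [0] (.rel 5), .derive 6846 [.bwd 1, .edge 7, .edge 3, .edge 7, .fwd 9] [7] (.rel 42), .node 1951 6, .derive 6847 [.bwd 0, .edge 2, .fwd 294] [2] (.rel 33),
  .node 1952 1, .derive 6848 [.bwd 0, .edge 2, .fwd 450, .edge 2, .edge 1] [2] (.rel 14), .derive 6848 [.bwd 1, .edge 7, .edge 1] [7] (.rel 24), .node 1952 3]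
def ph9_p2_1 : List Aux := [
  .derive 6849 [.bwd 0, .edge 5, .fwd 25] [5] (.rel 38), .derive 6849 [.bwd 1, .edge 7, .edge 3, .edge 7, .fwd 12] [7] (.rel 42), .node 1954 1, .derive 6850 [.bwd 0, .edge 3, .edge 1] [3] (.rel 16), .derive 6850 [.bwd 1, .edge 7, .fwd 18] [7] (.rel 24), .node 1990 6, .derive 6851 [.bwd 0, .edge 1, .edge 6] [1] (.rel 23), .node 1990 7,
  .derive 6852 [.bwd 0, .edge 1, .edge 7] [1] (.rel 25), .derive 6852 [.bwd 1, .edge 3, .edge 7, .edge 3, .edge 7] [3] (.rel 43), .derive 3536 [.edge 3, .edge 6, .bwd 0] [6] (.rel 40), .node 2009 6, .node 2010 3, .derive 6854 [.bwd 0, .edge 5, .fwd 102] [5] (.rel 38), .node 2010 6, .derive 6855 [.bwd 0, .edge 2, .fwd 3] [2] (.rel 33),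
  .node 2014 1, .derive 6856 [.bwd 0, .edge 7, .edge 1] [7] (.rel 24), .node 2014 6, .node 2015 1, .derive 6858 [.bwd 0, .edge 4, .fwd 3] [4] (.rel 18), .derive 6858 [.bwd 1, .edge 7, .edge 1] [7] (.rel 24), .node 2016 6, .node 2017 6,
  .derive 6860 [.bwd 0, .edge 2, .fwd 5] [2] (.rel 33), .derive 6860 [.bwd 1, .edge 4, .fwd 2] [4] (.rel 47), .node 2019 1, .derive 6861 [.bwd 0, .edge 0, .edge 1, .edge 0, .bwd 384] [0] (.rel 1), .node 2023 6, .derive 6862 [.bwd 0, .edge 4, .edge 6] [4] (.rel 47), .node 2029 1, .node 2030 1,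
  .derive 6864 [.bwd 0, .edge 4, .fwd 1] [4] (.rel 18), .node 2030 6, .derive 6865 [.bwd 0, .edge 5, .edge 6, .edge 5, .edge 6] [5] (.rel 51), .node 2034 1, .derive 6866 [.bwd 0, .edge 7, .fwd 4] [7] (.rel 24), .node 2035 6, .derive 6867 [.bwd 0, .edge 5, .edge 6, .edge 5, .edge 6] [5] (.rel 51), .node 2045 0,
  .derive 6868 [.bwd 0, .edge 2, .bwd 12] [2] (.rel 2), .node 2045 1, .derive 6869 [.bwd 0, .edge 2, .fwd 399, .edge 2, .fwd 6] [2] (.rel 14), .node 2045 6, .node 2046 1, .node 2046 6, .derive 6872 [.bwd 0, .edge 4, .fwd 2] [4] (.rel 47), .node 2047 1,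
  .derive 6873 [.bwd 0, .edge 5, .edge 1, .edge 5, .fwd 139] [5] (.rel 20), .derive 6873 [.bwd 1, .edge 7, .fwd 4] [7] (.rel 24), .node 2048 0, .derive 6874 [.bwd 0, .edge 5, .fwd 145] [5] (.rel 8), .derive 6874 [.bwd 1, .edge 7, .fwd 12] [7] (.rel 12), .node 2048 1, .derive 6875 [.bwd 0, .edge 5, .edge 1, .edge 5, .fwd 150] [5] (.rel 20), .derive 6875 [.bwd 1, .edge 7, .fwd 13] [7] (.rel 24),
  .node 2055 6, .node 2060 1, .derive 6877 [.bwd 0, .edge 4, .edge 1] [4] (.rel 18), .derive 6877 [.bwd 1, .edge 7, .edge 1] [7] (.rel 24), .node 2060 6, .derive 6878 [.bwd 0, .edge 4, .edge 6] [4] (.rel 47), .node 2078 6, .derive 6879 [.bwd 0, .edge 5, .edge 6, .edge 5, .fwd 6] [5] (.rel 51),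
  .node 2112 6, .node 2116 6, .derive 6881 [.bwd 0, .edge 1, .edge 6] [1] (.rel 23), .derive 6881 [.bwd 1, .edge 4, .edge 6] [4] (.rel 47), .node 2141 3, .derive 6882 [.bwd 0, .edge 5, .edge 3] [5] (.rel 38), .derive 6882 [.bwd 1, .edge 7, .edge 3, .edge 7, .bwd 387] [7] (.rel 42), .node 2142 1,
  .node 2142 3, .derive 6884 [.bwd 0, .edge 6, .fwd 4] [6] (.rel 40), .derive 6845 [.bwd 84, .edge 7, .edge 6, .bwd 3, .bwd 0] [7] (.rel 54), .node 2143 1, .derive 6885 [.bwd 0, .edge 7, .fwd 4] [7] (.rel 24), .node 2143 3, .node 2144 3, .derive 6887 [.bwd 0, .edge 0, .fwd 1] [0] (.rel 5),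
  .node 2145 3, .derive 6888 [.bwd 0, .edge 0, .fwd 8] [0] (.rel 5), .derive 6888 [.bwd 1, .edge 2, .edge 3, .edge 2, .edge 3] [2] (.rel 27), .derive 6847 [.fwd 87, .edge 7, .bwd 0] [7] (.rel 34), .node 2150 1, .derive 6889 [.bwd 0, .edge 2, .edge 1, .edge 2, .fwd 13] [2] (.rel 14), .node 2151 1, .derive 6890 [.bwd 0, .edge 7, .fwd 2] [7] (.rel 24),
  .node 2152 1, .derive 6891 [.bwd 0, .edge 6, .fwd 2] [6] (.rel 22), .derive 6891 [.bwd 1, .edge 7, .edge 1] [7] (.rel 24), .node 2199 3, .derive 6892 [.bwd 0, .fwd 461, .fwd 971] [1] (.rel 17), .derive 6892 [.bwd 1, .edge 2, .edge 3, .edge 2, .edge 3] [2] (.rel 27), .derive 6892 [.bwd 2, .edge 6, .edge 3] [6] (.rel 40), .node 2202 3,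
  .derive 6893 [.bwd 0, .bwd 446, .edge 3] [1] (.rel 17), .derive 6893 [.bwd 1, .edge 6, .edge 3] [6] (.rel 40), .node 2232 1, .derive 6894 [.bwd 0, .bwd 244, .fwd 245] [3] (.rel 16)]
def ph9_p2_2 : List Aux := [
  .derive 6894 [.bwd 1, .edge 4, .bwd 91] [4] (.rel 18), .node 2232 6, .node 2235 3, .derive 6896 [.bwd 0, .edge 2, .edge 3, .edge 2, .edge 3] [2] (.rel 27), .derive 6896 [.bwd 1, .edge 5, .edge 3] [5] (.rel 38), .node 2239 6, .derive 6897 [.bwd 0, .edge 5, .fwd 659, .edge 5, .edge 6] [5] (.rel 51), .node 2259 1,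
  .derive 6898 [.bwd 0, .edge 7, .bwd 15] [7] (.rel 24), .derive 3113 [.edge 7, .bwd 15, .bwd 0] [2] (.rel 35), .node 2259 6, .derive 6899 [.bwd 0, .edge 4, .edge 6] [4] (.rel 47), .node 2260 1, .derive 6900 [.bwd 0, .edge 4, .fwd 5] [4] (.rel 18), .derive 6900 [.bwd 1, .edge 6, .bwd 461] [6] (.rel 22), .derive 6900 [.bwd 2, .edge 7, .bwd 18] [7] (.rel 24),
  .node 2282 6, .node 2285 7, .derive 6902 [.bwd 0, .edge 4, .bwd 287] [4] (.rel 49), .node 2287 1, .node 2287 6, .derive 6904 [.bwd 0, .edge 0, .fwd 4] [0] (.rel 11), .derive 6904 [.bwd 1, .edge 5, .edge 6, .edge 5, .fwd 189] [5] (.rel 51), .node 2287 7,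
  .derive 6905 [.bwd 0, .edge 2, .bwd 293] [2] (.rel 35), .node 2288 1, .derive 6906 [.bwd 0, .edge 4, .fwd 6] [4] (.rel 18), .node 2291 6, .node 2292 6, .derive 6908 [.bwd 0, .edge 4, .fwd 1] [4] (.rel 47), .node 2293 6, .derive 6909 [.bwd 0, .edge 1, .fwd 2] [1] (.rel 23),
  .node 2298 6, .derive 6910 [.bwd 0, .edge 4, .edge 6] [4] (.rel 47), .node 2299 1, .derive 6911 [.bwd 0, .edge 4, .edge 1] [4] (.rel 18), .derive 6911 [.bwd 1, .edge 7, .edge 1] [7] (.rel 24), .node 2299 6, .derive 6912 [.bwd 0, .edge 4, .edge 6] [4] (.rel 47), .node 2304 6,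
  .derive 6913 [.bwd 0, .edge 0, .fwd 9] [0] (.rel 11), .derive 6913 [.bwd 1, .edge 4, .edge 6] [4] (.rel 47), .node 2310 6, .derive 6914 [.bwd 0, .edge 0, .edge 6] [0] (.rel 11), .derive 6914 [.bwd 1, .edge 4, .fwd 13] [4] (.rel 47), .node 2315 6, .derive 6915 [.bwd 0, .edge 0, .fwd 17] [0] (.rel 11), .node 2316 6,
  .derive 6916 [.bwd 0, .edge 4, .fwd 2] [4] (.rel 47), .node 2318 6, .node 2319 6, .node 2320 6, .derive 6919 [.bwd 0, .edge 4, .fwd 1] [4] (.rel 47), .node 2321 6, .node 2323 6, .derive 6921 [.bwd 0, .edge 2, .fwd 5] [2] (.rel 33),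
  .derive 6921 [.bwd 1, .edge 5, .edge 6, .edge 5, .fwd 23] [5] (.rel 51), .node 2325 6, .node 2326 6, .derive 6923 [.bwd 0, .edge 4, .fwd 1] [4] (.rel 47), .node 2327 6, .derive 6924 [.bwd 0, .edge 0, .fwd 9] [0] (.rel 11), .node 2329 3, .derive 6925 [.bwd 0, .fwd 652, .fwd 281] [1] (.rel 17),
  .node 2329 6, .derive 6926 [.bwd 0, .edge 0, .fwd 15] [0] (.rel 11), .derive 6926 [.bwd 1, .fwd 655, .fwd 283] [1] (.rel 23), .derive 6926 [.bwd 2, .edge 5, .edge 6, .edge 5, .fwd 27] [5] (.rel 51), .node 2330 6, .derive 6927 [.bwd 0, .edge 2, .fwd 11] [2] (.rel 33), .derive 6927 [.bwd 1, .edge 4, .fwd 9] [4] (.rel 47), .node 2332 1,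
  .derive 6928 [.bwd 0, .edge 4, .fwd 659] [4] (.rel 18), .node 2334 1, .node 2335 1, .derive 6930 [.bwd 0, .edge 3, .fwd 1] [3] (.rel 16), .node 2335 6, .derive 6931 [.bwd 0, .edge 2, .edge 6] [2] (.rel 33), .derive 6931 [.bwd 1, .edge 5, .edge 6, .edge 5, .fwd 35] [5] (.rel 51), .node 2337 6,
  .derive 6932 [.bwd 0, .edge 2, .fwd 29] [2] (.rel 33), .derive 6932 [.bwd 1, .edge 4, .fwd 27] [4] (.rel 47), .node 2360 4, .derive 6933 [.bwd 0, .edge 6, .fwd 382] [6] (.rel 46), .node 2361 4, .derive 6934 [.bwd 0, .edge 5, .fwd 2] [5] (.rel 44), .node 2362 4, .node 2363 4,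
  .derive 6936 [.bwd 0, .edge 5, .fwd 1] [5] (.rel 44), .derive 6936 [.bwd 1, .edge 6, .fwd 390] [6] (.rel 46), .node 2364 4, .derive 6937 [.bwd 0, .edge 6, .fwd 394] [6] (.rel 46), .node 2365 4, .derive 6938 [.bwd 0, .edge 5, .fwd 2] [5] (.rel 44), .node 2366 4, .node 2368 4,
  .derive 6940 [.bwd 0, .edge 6, .fwd 401] [6] (.rel 46), .node 2369 4, .derive 6941 [.bwd 0, .edge 5, .fwd 2] [5] (.rel 44), .node 2370 4]
def ph9_p2_3 : List Aux := [
  .derive 6942 [.bwd 0, .edge 6, .fwd 2] [6] (.rel 46), .derive 6942 [.bwd 1, .edge 7, .edge 4] [7] (.rel 48), .node 2381 4, .derive 6943 [.bwd 0, .edge 7, .edge 4] [7] (.rel 48), .node 2382 4, .derive 6944 [.bwd 0, .edge 6, .fwd 2] [6] (.rel 46), .node 2383 4, .derive 6945 [.bwd 0, .edge 5, .fwd 2] [5] (.rel 44),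
  .derive 6945 [.bwd 1, .edge 6, .fwd 415] [6] (.rel 46), .node 2398 4, .derive 6946 [.bwd 0, .fwd 1019, .bwd 386] [6] (.rel 46), .node 2399 1, .derive 6947 [.bwd 0, .edge 3, .edge 1] [3] (.rel 16), .node 2399 4, .derive 6948 [.bwd 0, .edge 5, .fwd 4] [5] (.rel 44), .node 2399 6,
  .derive 6949 [.bwd 0, .edge 3, .fwd 150] [3] (.rel 41), .node 2401 4, .derive 6950 [.bwd 0, .edge 7, .bwd 515] [7] (.rel 48), .node 2404 7, .node 2405 4, .node 2405 7, .derive 6953 [.bwd 0, .edge 0, .fwd 2] [0] (.rel 13), .node 2406 4,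
  .node 2407 4, .derive 6955 [.bwd 0, .edge 6, .fwd 1] [6] (.rel 46), .node 2408 7, .node 2410 4, .node 2411 4, .derive 6958 [.bwd 0, .edge 3, .edge 4, .edge 3, .fwd 8] [3] (.rel 37), .derive 6958 [.bwd 1, .edge 6, .fwd 2] [6] (.rel 46), .node 2412 4,
  .node 2413 4, .derive 6960 [.bwd 0, .edge 5, .fwd 1] [5] (.rel 44), .node 2414 4, .node 2415 4, .derive 6962 [.bwd 0, .edge 5, .fwd 1] [5] (.rel 44), .node 2416 4, .derive 6963 [.bwd 0, .edge 6, .fwd 2] [6] (.rel 46), .node 2417 4,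
  .node 2418 4, .node 2418 7, .derive 6966 [.bwd 0, .edge 5, .edge 7] [5] (.rel 53), .node 2419 4, .derive 6967 [.bwd 0, .edge 5, .fwd 3] [5] (.rel 44), .derive 6967 [.bwd 1, .edge 6, .fwd 13] [6] (.rel 46), .node 2420 4, .node 2421 4,
  .derive 6969 [.bwd 0, .edge 5, .fwd 1] [5] (.rel 44), .node 2434 4, .node 2435 4, .derive 6971 [.bwd 0, .edge 5, .fwd 1] [5] (.rel 44), .node 2435 7, .node 2436 4, .derive 6973 [.bwd 0, .edge 7, .edge 4] [7] (.rel 48), .node 2437 4,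
  .node 2437 6, .derive 6975 [.bwd 0, .edge 3, .fwd 103] [3] (.rel 41), .node 2437 7, .derive 6976 [.bwd 0, .edge 3, .edge 7, .edge 3, .fwd 6] [3] (.rel 43), .node 2438 4, .derive 6977 [.bwd 0, .edge 0, .fwd 5] [0] (.rel 7), .derive 6977 [.bwd 1, .edge 7, .edge 4] [7] (.rel 48), .node 2438 6,
  .derive 6978 [.bwd 0, .edge 3, .fwd 105] [3] (.rel 41), .node 2440 4, .derive 6979 [.bwd 0, .edge 5, .edge 4] [5] (.rel 44), .derive 6979 [.bwd 1, .edge 7, .edge 4] [7] (.rel 48), .node 2441 4, .derive 6980 [.bwd 0, .edge 6, .fwd 3] [6] (.rel 46), .node 2442 4, .derive 6981 [.bwd 0, .edge 5, .fwd 2] [5] (.rel 44),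
  .node 2443 4, .node 2443 6, .derive 6983 [.bwd 0, .edge 5, .edge 6, .edge 5, .edge 6] [5] (.rel 51), .node 2444 4, .derive 6984 [.bwd 0, .edge 5, .fwd 3] [5] (.rel 44), .node 2445 4, .derive 6985 [.bwd 0, .edge 5, .edge 4] [5] (.rel 44), .derive 6985 [.bwd 1, .edge 6, .fwd 3] [6] (.rel 46),
  .derive 6985 [.bwd 2, .edge 7, .edge 4] [7] (.rel 48), .node 2446 7, .derive 6986 [.bwd 0, .edge 5, .edge 7] [5] (.rel 53), .node 2449 6, .derive 6987 [.bwd 0, .edge 3, .fwd 556] [3] (.rel 41), .node 2450 6, .derive 6988 [.bwd 0, .edge 3, .fwd 553] [3] (.rel 41), .node 2450 7,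
  .derive 6989 [.bwd 0, .edge 3, .edge 7, .edge 3, .fwd 61] [3] (.rel 43), .node 2451 4, .derive 6990 [.bwd 0, .edge 1, .fwd 36] [1] (.rel 19), .node 2460 7, .node 2461 7, .node 2466 7, .node 2467 7, .derive 6994 [.bwd 0, .edge 5, .fwd 1] [5] (.rel 53),
  .node 2468 4, .derive 6995 [.bwd 0, .edge 3, .edge 4, .edge 3, .fwd 59] [3] (.rel 37), .node 2468 7, .derive 6996 [.bwd 0, .edge 1, .fwd 4] [1] (.rel 25)]
def ph9_p2_4 : List Aux := [
  .derive 6996 [.bwd 1, .edge 5, .edge 7] [5] (.rel 53), .node 2469 4, .derive 6997 [.bwd 0, .edge 5, .fwd 5] [5] (.rel 44), .node 2469 6, .derive 6998 [.bwd 0, .edge 3, .fwd 239] [3] (.rel 41), .node 2470 1, .derive 6999 [.bwd 0, .edge 7, .edge 1] [7] (.rel 24), .node 2470 4,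
  .node 2471 4, .node 2471 6, .node 2472 4, .node 2473 4, .derive 7004 [.bwd 0, .edge 2, .fwd 1] [2] (.rel 29), .node 2473 7, .node 2474 4, .derive 7006 [.bwd 0, .edge 1, .edge 4] [1] (.rel 19),
  .derive 7006 [.bwd 1, .edge 3, .edge 4, .edge 3, .fwd 75] [3] (.rel 37), .derive 7006 [.bwd 2, .edge 5, .fwd 5] [5] (.rel 44), .node 2474 7, .derive 7007 [.bwd 0, .edge 5, .fwd 5] [5] (.rel 53), .node 2475 4, .node 2475 6, .derive 7009 [.bwd 0, .edge 0, .bwd 426] [0] (.rel 11), .node 2478 3,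
  .derive 7010 [.bwd 0, .edge 2, .edge 3, .edge 2, .fwd 161] [2] (.rel 27), .derive 7010 [.bwd 1, .edge 5, .bwd 537] [5] (.rel 38), .node 2480 7, .derive 7011 [.bwd 0, .edge 3, .edge 7, .edge 3, .fwd 35] [3] (.rel 43), .node 2481 2, .derive 7012 [.bwd 0, .edge 0, .edge 2] [0] (.rel 3), .derive 7012 [.bwd 1, .edge 6, .bwd 226] [6] (.rel 32), .node 2481 7,
  .node 2482 7, .derive 7014 [.bwd 0, .edge 3, .edge 7, .edge 3, .fwd 14] [3] (.rel 43), .derive 7014 [.bwd 1, .edge 5, .fwd 2] [5] (.rel 53), .node 2484 4, .derive 7015 [.bwd 0, .edge 3, .edge 4, .edge 3, .fwd 70] [3] (.rel 37), .derive 7015 [.bwd 1, .edge 5, .edge 4] [5] (.rel 44), .node 2484 7, .derive 7016 [.bwd 0, .edge 2, .edge 7] [2] (.rel 35),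
  .derive 7016 [.bwd 1, .edge 3, .edge 7, .edge 3, .fwd 41] [3] (.rel 43), .node 2485 4, .derive 7017 [.bwd 0, .edge 3, .edge 4, .edge 3, .fwd 73] [3] (.rel 37), .node 2486 4, .derive 7018 [.bwd 0, .edge 5, .fwd 2] [5] (.rel 44), .node 2487 4, .node 2519 3, .derive 7020 [.bwd 0, .edge 5, .bwd 134] [5] (.rel 38),
  .node 2520 3, .derive 7021 [.bwd 0, .edge 6, .fwd 2] [6] (.rel 40), .node 2521 3, .derive 7022 [.bwd 0, .edge 1, .fwd 622] [1] (.rel 17), .derive 7022 [.bwd 1, .edge 5, .fwd 3] [5] (.rel 38), .node 2525 4, .derive 7023 [.bwd 0, .edge 1, .fwd 159] [1] (.rel 19), .node 2527 4,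
  .derive 7024 [.bwd 0, .edge 7, .edge 4] [7] (.rel 48), .node 2536 4, .derive 7025 [.bwd 0, .edge 7, .edge 4] [7] (.rel 48), .node 2537 4, .derive 7026 [.bwd 0, .edge 6, .fwd 2] [6] (.rel 46), .node 2537 7, .node 2538 0, .derive 7028 [.bwd 0, .edge 5, .edge 0] [5] (.rel 8),
  .node 2538 4, .derive 7029 [.bwd 0, .edge 5, .fwd 5] [5] (.rel 44), .derive 7029 [.bwd 1, .edge 6, .fwd 12] [6] (.rel 46), .node 2538 7, .node 2542 3, .derive 7031 [.bwd 0, .bwd 302, .bwd 152] [1] (.rel 17), .derive 7031 [.bwd 1, .edge 6, .bwd 157] [6] (.rel 40), .node 2544 4,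
  .derive 7032 [.bwd 0, .edge 6, .fwd 177] [6] (.rel 46), .node 2544 7, .node 2545 4, .derive 7034 [.bwd 0, .edge 6, .fwd 182] [6] (.rel 46), .node 2545 7, .node 2546 4, .derive 7036 [.bwd 0, .edge 5, .fwd 6] [5] (.rel 44), .node 2546 7,
  .derive 7037 [.bwd 0, .edge 5, .fwd 6] [5] (.rel 53), .node 2547 4, .derive 7038 [.bwd 0, .edge 5, .fwd 7] [5] (.rel 44), .node 2547 7, .derive 7039 [.bwd 0, .edge 5, .fwd 7] [5] (.rel 53), .node 2554 0, .derive 7040 [.bwd 0, .edge 4, .edge 0] [4] (.rel 6), .node 2555 0,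
  .derive 7041 [.bwd 0, .edge 4, .edge 0] [4] (.rel 6), .derive 7041 [.bwd 1, .edge 5, .fwd 3] [5] (.rel 8), .node 2557 0, .derive 7042 [.bwd 0, .edge 7, .edge 0] [7] (.rel 12), .node 2558 0, .derive 7043 [.bwd 0, .edge 5, .fwd 2] [5] (.rel 8), .derive 7043 [.bwd 1, .edge 7, .edge 0] [7] (.rel 12), .node 2559 0,
  .node 2559 6, .derive 7045 [.bwd 0, .edge 1, .fwd 111] [1] (.rel 23), .node 2559 7, .node 2560 0]
def ph9_p2 : List Aux :=
  ((ph9_p2_0 ++ ph9_p2_1) ++ (ph9_p2_2 ++ (ph9_p2_3 ++ ph9_p2_4)))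

theorem ph9_p2_ok : stHas (runList (auxStep' P) ph9_p2 (mkSt 6800 mask10 ph9_eq2)) 7048 mask10 ph9_eq3 = true := by decide +kernel

def ph9_p3_0 : List Aux := [
  .derive 7047 [.bwd 0, .edge 5, .fwd 4] [5] (.rel 8), .node 2560 7, .derive 7048 [.bwd 0, .edge 5, .fwd 3] [5] (.rel 53), .node 2562 4, .node 2562 7, .node 2563 4, .derive 7051 [.bwd 0, .edge 1, .fwd 155] [1] (.rel 19), .derive 7051 [.bwd 1, .edge 5, .fwd 3] [5] (.rel 44),
  .node 2563 7, .derive 7052 [.bwd 0, .edge 5, .fwd 4] [5] (.rel 53), .node 2565 0, .derive 7053 [.bwd 0, .edge 2, .edge 0] [2] (.rel 2), .derive 7053 [.bwd 1, .edge 7, .edge 0] [7] (.rel 12), .node 2565 6, .node 2566 0, .node 2569 0,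
  .derive 7056 [.bwd 0, .edge 5, .edge 0] [5] (.rel 8), .node 2570 0, .derive 7057 [.bwd 0, .edge 2, .edge 0] [2] (.rel 2), .derive 7057 [.bwd 1, .edge 7, .fwd 3] [7] (.rel 12), .node 2570 6, .derive 7058 [.bwd 0, .edge 2, .edge 6] [2] (.rel 33), .derive 7058 [.bwd 1, .edge 4, .fwd 8] [4] (.rel 47), .node 2571 2,
  .node 2571 7, .node 2572 4, .node 2572 7, .derive 7062 [.bwd 0, .edge 5, .fwd 2] [5] (.rel 53), .node 2574 7, .node 2575 4, .derive 7064 [.bwd 0, .edge 3, .edge 4, .edge 3, .fwd 4] [3] (.rel 37), .derive 7064 [.bwd 1, .edge 5, .edge 4] [5] (.rel 44),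
  .node 2575 7, .derive 7065 [.bwd 0, .edge 5, .fwd 4] [5] (.rel 53), .node 2576 7, .node 2577 2, .derive 7067 [.bwd 0, .edge 5, .edge 2] [5] (.rel 30), .node 2577 4, .derive 7068 [.bwd 0, .edge 5, .edge 4] [5] (.rel 44), .node 2577 7,
  .derive 7069 [.bwd 0, .edge 5, .fwd 5] [5] (.rel 53), .node 2578 0, .derive 7070 [.bwd 0, .edge 3, .fwd 27] [3] (.rel 4), .node 2579 0, .derive 7071 [.bwd 0, .edge 1, .edge 0, .edge 1, .fwd 48] [1] (.rel 0), .derive 7071 [.bwd 1, .edge 5, .fwd 3] [5] (.rel 8), .node 2579 4, .derive 7072 [.bwd 0, .edge 3, .edge 4, .edge 3, .fwd 9] [3] (.rel 37),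
  .derive 7072 [.bwd 1, .edge 5, .edge 4] [5] (.rel 44), .node 2579 6, .derive 7073 [.bwd 0, .edge 1, .fwd 166] [1] (.rel 23), .node 2604 5, .derive 7074 [.bwd 0, .edge 7, .edge 5] [7] (.rel 52), .node 2605 5, .node 2606 5, .node 2607 5,
  .node 2608 5, .node 2609 5, .node 2611 5, .node 2612 5, .node 2613 5, .derive 7082 [.bwd 0, .edge 0, .fwd 6] [0] (.rel 9), .derive 7082 [.bwd 1, .edge 7, .fwd 2] [7] (.rel 52), .node 2614 5,
  .derive 7083 [.bwd 0, .edge 4, .fwd 3] [4] (.rel 45), .derive 7083 [.bwd 1, .edge 7, .fwd 6] [7] (.rel 52), .node 2615 5, .derive 7084 [.bwd 0, .edge 0, .fwd 3] [0] (.rel 9), .derive 7084 [.bwd 1, .edge 2, .fwd 16] [2] (.rel 31), .derive 7084 [.bwd 2, .edge 4, .fwd 14] [4] (.rel 45), .derive 7084 [.bwd 3, .edge 7, .fwd 13] [7] (.rel 52), .node 2616 5,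
  .derive 7085 [.bwd 0, .edge 7, .edge 5] [7] (.rel 52), .node 2618 5, .derive 7086 [.bwd 0, .edge 4, .edge 5] [4] (.rel 45), .node 2621 5, .derive 7087 [.bwd 0, .edge 2, .fwd 20] [2] (.rel 31), .derive 7087 [.bwd 1, .edge 4, .edge 5] [4] (.rel 45), .derive 7087 [.bwd 2, .edge 7, .fwd 24] [7] (.rel 52), .node 2624 6,
  .derive 7088 [.bwd 0, .edge 1, .fwd 620] [1] (.rel 23), .node 2628 5, .node 2628 6, .derive 7090 [.bwd 0, .edge 1, .bwd 590] [1] (.rel 23), .node 2629 5, .derive 7091 [.bwd 0, .edge 3, .edge 5] [3] (.rel 39), .derive 7091 [.bwd 1, .edge 7, .fwd 4] [7] (.rel 52), .node 2630 5,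
  .derive 7092 [.bwd 0, .edge 1, .edge 5, .edge 1, .edge 5] [1] (.rel 21), .node 2631 5, .node 2632 5, .derive 7094 [.bwd 0, .edge 7, .fwd 1] [7] (.rel 52), .node 2633 5, .derive 7095 [.bwd 0, .edge 4, .fwd 2] [4] (.rel 45), .node 2634 5, .derive 7096 [.bwd 0, .edge 4, .fwd 13] [4] (.rel 45),
  .derive 7096 [.bwd 1, .edge 7, .fwd 8] [7] (.rel 52), .node 2634 6, .derive 7097 [.bwd 0, .edge 4, .fwd 15] [4] (.rel 47), .node 2637 4]
def ph9_p3_1 : List Aux := [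
  .node 2637 5, .derive 7099 [.bwd 0, .edge 7, .edge 5] [7] (.rel 52), .node 2637 6, .node 2638 4, .node 2638 6, .derive 7102 [.bwd 0, .edge 2, .fwd 2] [2] (.rel 33), .node 2639 5, .derive 7103 [.bwd 0, .edge 3, .fwd 51] [3] (.rel 39),
  .node 2639 6, .derive 7104 [.bwd 0, .bwd 738, .fwd 737] [1] (.rel 23), .node 2644 7, .node 2645 7, .derive 7106 [.bwd 0, .edge 5, .fwd 1] [5] (.rel 53), .node 2646 5, .derive 7107 [.bwd 0, .edge 4, .edge 5] [4] (.rel 45), .node 2652 7,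
  .node 2657 7, .node 2658 7, .derive 7110 [.bwd 0, .edge 0, .fwd 6] [0] (.rel 13), .derive 7110 [.bwd 1, .edge 5, .fwd 2] [5] (.rel 53), .node 2659 7, .derive 7111 [.bwd 0, .edge 3, .edge 7, .edge 3, .edge 7] [3] (.rel 43), .derive 7111 [.bwd 1, .edge 4, .fwd 6] [4] (.rel 49), .node 2663 0,
  .derive 7112 [.bwd 0, .edge 7, .edge 0] [7] (.rel 12), .node 2663 5, .derive 7113 [.bwd 0, .edge 2, .edge 5] [2] (.rel 31), .derive 7113 [.bwd 1, .edge 7, .edge 5] [7] (.rel 52), .node 2664 0, .node 2664 5, .node 2665 0, .derive 7116 [.bwd 0, .edge 4, .edge 0] [4] (.rel 6),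
  .derive 7116 [.bwd 1, .edge 7, .fwd 3] [7] (.rel 12), .node 2665 5, .derive 7117 [.bwd 0, .edge 4, .edge 5] [4] (.rel 45), .derive 7117 [.bwd 1, .edge 7, .fwd 5] [7] (.rel 52), .node 2667 5, .derive 7118 [.bwd 0, .edge 1, .edge 5, .edge 1, .fwd 23] [1] (.rel 21), .derive 7118 [.bwd 1, .edge 4, .edge 5] [4] (.rel 45), .node 2667 7,
  .derive 7119 [.bwd 0, .edge 2, .edge 7] [2] (.rel 35), .derive 7119 [.bwd 1, .edge 4, .edge 7] [4] (.rel 49), .node 2672 0, .node 2673 0, .derive 7121 [.bwd 0, .edge 1, .edge 0, .edge 1, .fwd 13] [1] (.rel 0), .derive 7121 [.bwd 1, .edge 5, .fwd 2] [5] (.rel 8), .node 2676 7, .derive 7122 [.bwd 0, .edge 4, .edge 7] [4] (.rel 49),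
  .derive 7122 [.bwd 1, .edge 5, .edge 7] [5] (.rel 53), .node 2678 3, .derive 7123 [.bwd 0, .edge 6, .fwd 795] [6] (.rel 40), .derive 6812 [.bwd 629, .edge 7, .bwd 803, .bwd 795, .bwd 0] [7] (.rel 54), .node 2683 3, .derive 7124 [.bwd 0, .edge 6, .fwd 795] [6] (.rel 40), .derive 3204 [.edge 6, .edge 7, .bwd 804, .bwd 795, .bwd 0] [7] (.rel 54), .node 2687 0,
  .derive 7125 [.bwd 0, .edge 6, .fwd 27] [6] (.rel 10), .node 2688 0, .derive 7126 [.bwd 0, .edge 6, .fwd 34] [6] (.rel 10), .node 2689 1, .derive 7127 [.bwd 0, .edge 2, .fwd 853, .edge 2, .bwd 693] [2] (.rel 14), .node 2701 4, .node 2702 4, .derive 7129 [.bwd 0, .edge 6, .fwd 1] [6] (.rel 46),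
  .node 2703 4, .node 2704 0, .derive 7131 [.bwd 0, .edge 3, .fwd 8] [3] (.rel 4), .node 2704 4, .node 2705 0, .derive 7133 [.bwd 0, .edge 6, .fwd 3] [6] (.rel 10), .derive 7133 [.bwd 1, .edge 7, .edge 0] [7] (.rel 12), .node 2705 4,
  .node 2705 5, .derive 7135 [.bwd 0, .edge 2, .edge 5] [2] (.rel 31), .derive 7135 [.bwd 1, .edge 3, .fwd 48] [3] (.rel 39), .derive 7135 [.bwd 2, .edge 7, .edge 5] [7] (.rel 52), .node 2706 4, .derive 7136 [.bwd 0, .edge 6, .fwd 12] [6] (.rel 46), .node 2707 4, .derive 7137 [.bwd 0, .edge 5, .fwd 2] [5] (.rel 44),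
  .node 2707 7, .derive 7138 [.bwd 0, .edge 2, .edge 7] [2] (.rel 35), .derive 7138 [.bwd 1, .edge 5, .edge 7] [5] (.rel 53), .node 2708 4, .node 2708 5, .derive 7140 [.bwd 0, .edge 3, .fwd 133] [3] (.rel 39), .derive 4216 [.edge 3, .edge 7, .edge 3, .bwd 133, .bwd 0] [7] (.rel 42), .node 2709 5,
  .derive 7141 [.bwd 0, .edge 3, .fwd 116] [3] (.rel 39), .derive 4215 [.edge 3, .edge 7, .edge 3, .bwd 116, .bwd 0] [7] (.rel 42), .node 2711 4, .node 2712 4, .node 2713 0, .derive 7144 [.bwd 0, .edge 7, .edge 0] [7] (.rel 12), .node 2713 4, .node 2714 0,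
  .derive 7146 [.bwd 0, .edge 5, .fwd 3] [5] (.rel 8), .derive 7146 [.bwd 1, .edge 7, .edge 0] [7] (.rel 12), .node 2714 4, .derive 7147 [.bwd 0, .edge 1, .fwd 37] [1] (.rel 19)]
def ph9_p3_2 : List Aux := [
  .derive 7147 [.bwd 1, .edge 5, .fwd 5] [5] (.rel 44), .node 2715 4, .derive 7148 [.bwd 0, .edge 5, .fwd 10] [5] (.rel 44), .node 2716 4, .derive 7149 [.bwd 0, .edge 0, .fwd 25] [0] (.rel 7), .derive 7149 [.bwd 1, .edge 1, .fwd 3] [1] (.rel 19), .node 2717 2, .node 2717 4,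
  .node 2718 2, .derive 7152 [.bwd 0, .edge 5, .fwd 2] [5] (.rel 30), .node 2718 4, .derive 7153 [.bwd 0, .edge 5, .fwd 3] [5] (.rel 44), .node 2719 2, .derive 7154 [.bwd 0, .edge 6, .fwd 4] [6] (.rel 32), .node 2719 4, .derive 7155 [.bwd 0, .edge 6, .fwd 4] [6] (.rel 46),
  .node 2719 7, .node 2720 4, .node 2721 4, .derive 7158 [.bwd 0, .edge 3, .edge 4, .edge 3, .fwd 47] [3] (.rel 37), .derive 7158 [.bwd 1, .edge 6, .fwd 2] [6] (.rel 46), .node 2721 5, .derive 7159 [.bwd 0, .edge 3, .fwd 92] [3] (.rel 39), .node 2722 1,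
  .derive 7160 [.bwd 0, .edge 3, .fwd 64] [3] (.rel 16), .derive 6781 [.bwd 763, .edge 2, .fwd 759, .bwd 64, .bwd 0] [2] (.rel 27), .node 2722 2, .node 2722 7, .derive 7162 [.bwd 0, .edge 0, .fwd 11] [0] (.rel 13), .node 2723 4, .derive 7163 [.bwd 0, .edge 1, .fwd 22] [1] (.rel 19), .derive 7163 [.bwd 1, .edge 3, .edge 4, .edge 3, .fwd 47] [3] (.rel 37),
  .node 2723 5, .derive 7164 [.bwd 0, .edge 3, .fwd 179] [3] (.rel 39), .node 2724 4, .derive 7165 [.bwd 0, .edge 7, .fwd 5] [7] (.rel 48), .node 2727 7, .node 2728 7, .node 2729 7, .derive 7168 [.bwd 0, .edge 4, .fwd 1] [4] (.rel 49),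
  .node 2730 7, .derive 7169 [.bwd 0, .edge 4, .fwd 4] [4] (.rel 49), .node 2735 1, .derive 7170 [.bwd 0, .edge 3, .fwd 880] [3] (.rel 16), .node 2735 6, .node 2737 7, .node 2742 7, .derive 7173 [.bwd 0, .edge 0, .fwd 1] [0] (.rel 13),
  .node 2743 3, .derive 7174 [.bwd 0, .edge 5, .bwd 858] [5] (.rel 38), .derive 7010 [.fwd 324, .bwd 858, .bwd 0] [4] (.rel 45), .node 2743 7, .derive 7175 [.bwd 0, .edge 5, .fwd 5] [5] (.rel 53), .node 2744 1, .derive 7176 [.bwd 0, .edge 5, .edge 1, .edge 5, .fwd 11] [5] (.rel 20), .node 2744 7,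
  .derive 7177 [.bwd 0, .edge 5, .fwd 10] [5] (.rel 53), .node 2746 5, .node 2747 5, .derive 7179 [.bwd 0, .edge 3, .fwd 201] [3] (.rel 39), .node 2748 4, .node 2749 4, .derive 7181 [.bwd 0, .edge 3, .edge 4, .edge 3, .fwd 158] [3] (.rel 37), .derive 7181 [.bwd 1, .edge 6, .fwd 2] [6] (.rel 46),
  .node 2749 5, .derive 7182 [.bwd 0, .edge 0, .fwd 7] [0] (.rel 9), .node 2750 6, .derive 7183 [.bwd 0, .edge 0, .fwd 22] [0] (.rel 11), .node 2751 2, .node 2752 2, .derive 7185 [.bwd 0, .edge 5, .fwd 1] [5] (.rel 30), .node 2753 2,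
  .derive 7186 [.bwd 0, .edge 6, .fwd 2] [6] (.rel 32), .node 2754 1, .node 2754 2, .derive 7188 [.bwd 0, .edge 0, .fwd 3] [0] (.rel 3), .node 2796 2, .derive 7189 [.bwd 0, .edge 4, .fwd 829] [4] (.rel 28), .node 2796 5, .node 2798 5,
  .derive 7191 [.bwd 0, .fwd 832, .edge 5] [2] (.rel 31), .derive 7191 [.bwd 1, .edge 4, .fwd 2] [4] (.rel 45), .derive 7191 [.bwd 2, .fwd 838, .bwd 839, .bwd 841, .edge 2, .fwd 1173, .edge 5, .edge 6, .edge 7, .edge 3, .edge 2, .edge 1, .edge 5, .edge 6, .edge 7, .edge 3, .edge 2, .edge 1, .edge 5, .edge 6, .edge 7, .fwd 1362, .fwd 985, .edge 2, .edge 1, .edge 5, .edge 6, .edge 7, .edge 3, .fwd 55] [1] (.rel 86), .node 2798 7, .derive 7192 [.bwd 0, .edge 4, .edge 7] [4] (.rel 49), .node 2803 4, .derive 7193 [.bwd 0, .edge 6, .fwd 468] [6] (.rel 46), .node 2824 5,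
  .node 2824 7, .derive 7195 [.bwd 0, .edge 1, .bwd 706] [1] (.rel 25), .node 2825 5, .derive 7196 [.bwd 0, .edge 0, .fwd 3] [0] (.rel 9), .node 2825 7, .derive 7197 [.bwd 0, .edge 3, .bwd 887, .fwd 888, .bwd 823] [3] (.rel 43), .node 2826 4, .node 2836 4,
  .derive 7199 [.bwd 0, .edge 3, .edge 4, .fwd 866, .bwd 577] [3] (.rel 37), .node 2837 4, .derive 7200 [.bwd 0, .edge 5, .fwd 2] [5] (.rel 44), .node 2838 4]
def ph9_p3_3 : List Aux := [
  .node 2839 4, .derive 7202 [.bwd 0, .edge 5, .fwd 1] [5] (.rel 44), .node 2840 4, .node 2846 4, .derive 7204 [.bwd 0, .edge 3, .edge 4, .edge 3, .fwd 9] [3] (.rel 37), .node 2847 4, .derive 7205 [.bwd 0, .edge 5, .fwd 3] [5] (.rel 44), .derive 7205 [.bwd 1, .edge 6, .fwd 3] [6] (.rel 46),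
  .node 2855 4, .derive 7206 [.bwd 0, .edge 6, .fwd 9] [6] (.rel 46), .node 2856 4, .derive 7207 [.bwd 0, .edge 6, .fwd 13] [6] (.rel 46), .node 2914 2, .node 2915 1, .derive 7209 [.bwd 0, .edge 0, .bwd 1201, .edge 0, .fwd 540] [0] (.rel 1), .derive 7209 [.bwd 1, .edge 3, .fwd 830] [3] (.rel 16),
  .node 2915 2, .derive 7210 [.bwd 0, .edge 3, .edge 2, .edge 3, .edge 2] [3] (.rel 26), .derive 7210 [.bwd 1, .edge 5, .fwd 5] [5] (.rel 30), .node 2915 4, .derive 7211 [.bwd 0, .edge 0, .bwd 547] [0] (.rel 7), .node 2915 6, .derive 7212 [.bwd 0, .edge 3, .fwd 836] [3] (.rel 41), .node 2916 2,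
  .node 2917 2, .derive 7214 [.bwd 0, .edge 0, .fwd 12] [0] (.rel 3), .derive 7214 [.bwd 1, .edge 5, .fwd 2] [5] (.rel 30), .node 2918 4, .derive 7215 [.bwd 0, .bwd 47, .fwd 46] [2] (.rel 29), .derive 7215 [.bwd 1, .edge 5, .bwd 51] [5] (.rel 44), .node 2919 1, .derive 7216 [.bwd 0, .edge 3, .fwd 745] [3] (.rel 16),
  .node 2919 7, .derive 7217 [.bwd 0, .bwd 885, .fwd 49] [2] (.rel 35), .derive 7217 [.bwd 1, .edge 3, .edge 7, .edge 3, .fwd 218] [3] (.rel 43), .node 2922 2, .node 2922 4, .node 2922 5, .node 2923 4, .derive 7221 [.bwd 0, .edge 0, .fwd 2] [0] (.rel 7),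
  .derive 7221 [.bwd 1, .edge 3, .edge 4, .edge 3, .fwd 105] [3] (.rel 37), .node 2923 6, .derive 7222 [.bwd 0, .edge 3, .fwd 262] [3] (.rel 41), .node 2986 4, .derive 7223 [.bwd 0, .edge 6, .fwd 41] [6] (.rel 46), .node 2987 4, .derive 7224 [.bwd 0, .edge 6, .fwd 45] [6] (.rel 46), .node 3015 5,
  .node 3016 2, .derive 7226 [.bwd 0, .edge 3, .edge 2, .edge 3, .edge 2] [3] (.rel 26), .derive 7226 [.bwd 1, .edge 6, .fwd 26] [6] (.rel 32), .node 3016 4, .derive 7227 [.bwd 0, .edge 6, .bwd 579] [6] (.rel 46), .node 3016 5, .derive 7228 [.bwd 0, .edge 3, .fwd 6] [3] (.rel 39), .node 3016 7,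
  .node 3017 5, .derive 7230 [.bwd 0, .edge 2, .fwd 9] [2] (.rel 31), .derive 7230 [.bwd 1, .edge 3, .edge 5] [3] (.rel 39), .node 3020 5, .derive 7231 [.bwd 0, .edge 3, .edge 5] [3] (.rel 39), .node 3021 2, .node 3021 7, .node 3022 2,
  .derive 7234 [.bwd 0, .edge 5, .fwd 2] [5] (.rel 30), .node 3022 7, .derive 7235 [.bwd 0, .edge 4, .edge 7] [4] (.rel 49), .derive 7235 [.bwd 1, .edge 5, .fwd 4] [5] (.rel 53), .node 3023 2, .derive 7236 [.bwd 0, .edge 6, .fwd 5] [6] (.rel 32), .node 3024 2, .node 3025 2,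
  .derive 7238 [.bwd 0, .edge 0, .fwd 8] [0] (.rel 3), .derive 7238 [.bwd 1, .edge 6, .fwd 2] [6] (.rel 32), .node 3032 7, .derive 7239 [.bwd 0, .edge 1, .fwd 12] [1] (.rel 25), .node 3034 0, .derive 7240 [.bwd 0, .edge 3, .edge 0] [3] (.rel 4), .node 3034 7, .node 3035 7,
  .derive 7242 [.bwd 0, .edge 4, .fwd 1] [4] (.rel 49), .node 3045 2, .derive 7243 [.bwd 0, .edge 1, .edge 2, .edge 1, .fwd 358] [1] (.rel 15), .node 3045 4, .node 3045 6, .derive 7245 [.bwd 0, .edge 1, .fwd 475] [1] (.rel 23), .node 3054 2, .derive 7246 [.bwd 0, .edge 3, .edge 2, .edge 3, .fwd 51] [3] (.rel 26),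
  .node 3054 6, .node 3055 6, .derive 7248 [.bwd 0, .edge 0, .fwd 1] [0] (.rel 11), .node 3063 4, .node 3063 7, .node 3064 4, .derive 7251 [.bwd 0, .edge 3, .edge 4, .edge 3, .fwd 485] [3] (.rel 37), .derive 7251 [.bwd 1, .edge 5, .fwd 3] [5] (.rel 44),
  .node 3064 7, .derive 7252 [.bwd 0, .edge 5, .fwd 4] [5] (.rel 53), .node 3067 4, .node 3067 7]
def ph9_p3_4 : List Aux := [
  .node 3068 4, .derive 7255 [.bwd 0, .edge 3, .edge 4, .edge 3, .fwd 480] [3] (.rel 37), .derive 7255 [.bwd 1, .edge 5, .fwd 3] [5] (.rel 44), .node 3068 6, .derive 7256 [.bwd 0, .edge 3, .bwd 906] [3] (.rel 41), .node 3068 7, .derive 7257 [.bwd 0, .edge 5, .fwd 6] [5] (.rel 53), .node 3069 4,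
  .derive 7258 [.bwd 0, .edge 3, .edge 4, .edge 3, .fwd 308] [3] (.rel 37), .node 3069 5, .derive 7259 [.bwd 0, .edge 3, .fwd 315] [3] (.rel 39), .node 3069 6, .derive 7260 [.bwd 0, .edge 3, .fwd 314] [3] (.rel 41), .node 3070 5, .node 3086 1, .derive 7262 [.bwd 0, .edge 6, .fwd 912] [6] (.rel 22),
  .node 3087 1, .derive 7263 [.bwd 0, .edge 4, .fwd 2] [4] (.rel 18), .derive 7263 [.bwd 1, .edge 6, .fwd 916] [6] (.rel 22), .node 3088 4, .node 3089 4, .derive 7265 [.bwd 0, .edge 6, .fwd 1] [6] (.rel 46), .node 3090 1, .node 3091 1,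
  .derive 7267 [.bwd 0, .edge 6, .fwd 1] [6] (.rel 22), .node 3092 4, .derive 7268 [.bwd 0, .edge 1, .fwd 6] [1] (.rel 19), .node 3093 1, .derive 7269 [.bwd 0, .edge 3, .fwd 783] [3] (.rel 16), .derive 7269 [.bwd 1, .edge 5, .edge 1, .edge 5, .fwd 6] [5] (.rel 20), .node 3093 6, .derive 7270 [.bwd 0, .edge 3, .fwd 785] [3] (.rel 41),
  .node 3094 4, .derive 7271 [.bwd 0, .edge 6, .fwd 7] [6] (.rel 46), .node 3103 7, .node 3104 7, .derive 7273 [.bwd 0, .edge 5, .fwd 1] [5] (.rel 53), .node 3105 4, .node 3106 4, .derive 7275 [.bwd 0, .edge 0, .fwd 1] [0] (.rel 7),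
  .derive 7275 [.bwd 1, .edge 1, .edge 4] [1] (.rel 19), .node 3107 7, .node 3110 4, .derive 7277 [.bwd 0, .edge 1, .edge 4] [1] (.rel 19), .node 3111 4, .derive 7278 [.bwd 0, .edge 2, .fwd 2] [2] (.rel 29), .node 3113 1, .derive 7279 [.bwd 0, .fwd 737, .bwd 739, .edge 2, .edge 1] [2] (.rel 14),
  .derive 7279 [.bwd 1, .edge 7, .edge 1] [7] (.rel 24), .node 3114 1, .node 3120 1, .derive 7281 [.bwd 0, .edge 4, .edge 1] [4] (.rel 18), .derive 7281 [.bwd 1, .edge 7, .edge 1] [7] (.rel 24), .node 3120 6, .node 3122 7, .derive 7283 [.bwd 0, .edge 2, .fwd 13] [2] (.rel 35),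
  .node 3124 7, .derive 7284 [.bwd 0, .edge 0, .fwd 15] [0] (.rel 13), .node 3125 4, .node 3126 4, .derive 7286 [.bwd 0, .edge 6, .fwd 1] [6] (.rel 46), .node 3126 7, .node 3127 4, .derive 7288 [.bwd 0, .edge 5, .fwd 3] [5] (.rel 44),
  .node 3127 7, .derive 7289 [.bwd 0, .edge 5, .fwd 3] [5] (.rel 53), .node 3128 4, .derive 7290 [.bwd 0, .edge 6, .fwd 4] [6] (.rel 46), .node 3131 4, .node 3132 4, .derive 7292 [.bwd 0, .edge 5, .fwd 1] [5] (.rel 44), .node 3132 6,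
  .node 3133 4, .derive 7294 [.bwd 0, .edge 0, .fwd 3] [0] (.rel 7), .node 3133 6, .derive 7295 [.bwd 0, .edge 0, .fwd 3] [0] (.rel 11), .node 3134 4, .derive 7296 [.bwd 0, .edge 5, .fwd 4] [5] (.rel 44), .node 3135 4, .node 3136 4,
  .derive 7298 [.bwd 0, .edge 6, .fwd 1] [6] (.rel 46), .node 3137 4, .derive 7299 [.bwd 0, .edge 5, .fwd 2] [5] (.rel 44), .node 3138 1, .derive 7300 [.bwd 0, .edge 3, .fwd 34] [3] (.rel 16), .derive 7300 [.bwd 1, .edge 7, .edge 1] [7] (.rel 24), .node 3138 4, .node 3142 4,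
  .derive 7302 [.bwd 0, .edge 5, .fwd 9] [5] (.rel 44), .node 3155 4, .node 3156 4, .derive 7304 [.bwd 0, .edge 0, .fwd 1] [0] (.rel 7), .node 3158 4, .derive 7305 [.bwd 0, .edge 3, .edge 4, .edge 3, .fwd 48] [3] (.rel 37), .node 3165 7, .derive 7306 [.bwd 0, .edge 2, .fwd 603] [2] (.rel 35),
  .node 3166 7, .derive 7307 [.bwd 0, .edge 2, .fwd 604] [2] (.rel 35), .node 3177 4, .node 3178 4]
def ph9_p3 : List Aux :=
  ((ph9_p3_0 ++ ph9_p3_1) ++ (ph9_p3_2 ++ (ph9_p3_3 ++ ph9_p3_4)))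

theorem ph9_p3_ok : stHas (runList (auxStep' P) ph9_p3 (mkSt 7048 mask10 ph9_eq3)) 7310 mask10 ph9_eq4 = true := by decide +kernel

end Cfsg.Agent.CosetData.ChainU62
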