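import Cfsg.Agent.Lib.Compute.CosetData.ChainU62Aux

/-! Coset enumeration certificate data (S2091 chain). -/

set_option autoImplicit false
set_option maxRecDepth 100000
set_option Elab.async false

namespace Cfsg.Agent.CosetData.ChainU62

open Cfsg.Agent.CosetCert

def ph9_p4_0 : List Aux := [
  .node 3179 4, .node 3191 4, .derive 7311 [.bwd 0, .edge 0, .fwd 3] [0] (.rel 7), .derive 7311 [.bwd 1, .edge 1, .edge 4] [1] (.rel 19), .derive 7311 [.bwd 2, .edge 2, .fwd 3] [2] (.rel 29), .node 3200 7, .derive 7312 [.bwd 0, .bwd 983, .fwd 354] [2] (.rel 35), .node 3201 7,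
  .node 3202 7, .derive 7314 [.bwd 0, .edge 0, .fwd 1] [0] (.rel 13), .node 3205 7, .derive 7315 [.bwd 0, .edge 2, .fwd 356] [2] (.rel 35), .derive 7154 [.bwd 299, .edge 3, .edge 2, .fwd 359, .bwd 0] [3] (.rel 26), .node 3254 7, .node 3255 7, .derive 7317 [.bwd 0, .edge 4, .fwd 1] [4] (.rel 49),
  .node 3256 7, .derive 7318 [.bwd 0, .edge 5, .fwd 2] [5] (.rel 53), .node 3257 7, .derive 7319 [.bwd 0, .edge 1, .fwd 2] [1] (.rel 25), .node 3261 1, .node 3261 7, .node 3262 7, .derive 7322 [.bwd 0, .edge 4, .fwd 1] [4] (.rel 49),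
  .node 3266 7, .derive 7323 [.bwd 0, .edge 2, .fwd 6] [2] (.rel 35), .node 3267 7, .node 3268 7, .derive 7325 [.bwd 0, .edge 2, .fwd 1] [2] (.rel 35), .node 3269 7, .node 3270 4, .derive 7327 [.bwd 0, .edge 6, .fwd 31] [6] (.rel 46),
  .node 3270 7, .node 3271 4, .derive 7329 [.bwd 0, .edge 6, .fwd 35] [6] (.rel 46), .node 3271 7, .node 3275 4, .derive 7331 [.bwd 0, .edge 1, .edge 4] [1] (.rel 19), .node 3275 7, .node 3276 4,
  .derive 7333 [.bwd 0, .edge 1, .edge 4] [1] (.rel 19), .derive 7333 [.bwd 1, .edge 6, .fwd 39] [6] (.rel 46), .node 3276 7, .derive 7334 [.bwd 0, .edge 5, .fwd 4] [5] (.rel 53), .node 3277 4, .derive 7335 [.bwd 0, .edge 6, .fwd 44] [6] (.rel 46), .node 3277 7, .node 3278 7,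
  .node 3279 7, .node 3280 1, .derive 7339 [.bwd 0, .edge 0, .edge 1, .edge 0, .fwd 29] [0] (.rel 1), .node 3280 7, .derive 7340 [.bwd 0, .edge 2, .fwd 3] [2] (.rel 35), .node 3282 7, .node 3283 7, .derive 7342 [.bwd 0, .edge 4, .fwd 7] [4] (.rel 49),
  .node 3284 7, .derive 7343 [.bwd 0, .edge 0, .fwd 2] [0] (.rel 13), .node 3285 7, .derive 7344 [.bwd 0, .edge 4, .fwd 2] [4] (.rel 49), .derive 7344 [.bwd 1, .edge 5, .fwd 32] [5] (.rel 53), .node 3286 7, .derive 7345 [.bwd 0, .edge 1, .fwd 8] [1] (.rel 25), .node 3288 7,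
  .derive 7346 [.bwd 0, .edge 4, .fwd 10] [4] (.rel 49), .node 3292 4, .derive 7347 [.bwd 0, .edge 2, .fwd 29] [2] (.rel 29), .derive 7347 [.bwd 1, .edge 5, .fwd 22] [5] (.rel 44), .node 3292 7, .derive 7348 [.bwd 0, .edge 0, .fwd 39] [0] (.rel 13), .derive 7348 [.bwd 1, .edge 2, .fwd 31] [2] (.rel 35), .derive 7348 [.bwd 2, .edge 5, .fwd 24] [5] (.rel 53),
  .node 3293 4, .derive 7349 [.bwd 0, .edge 5, .fwd 39] [5] (.rel 44), .node 3293 7, .derive 7350 [.bwd 0, .edge 5, .fwd 39] [5] (.rel 53), .node 3311 5, .node 3311 7, .node 3312 5, .derive 7353 [.bwd 0, .edge 3, .fwd 2] [3] (.rel 39),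
  .node 3312 7, .derive 7354 [.bwd 0, .edge 1, .fwd 51] [1] (.rel 25), .node 3314 5, .derive 7355 [.bwd 0, .edge 2, .fwd 6] [2] (.rel 31), .node 3314 7, .derive 7356 [.bwd 0, .edge 2, .fwd 7] [2] (.rel 35), .node 3315 7, .derive 7357 [.bwd 0, .edge 1, .fwd 62] [1] (.rel 25),
  .derive 7357 [.bwd 1, .edge 4, .fwd 3] [4] (.rel 49), .node 3319 5, .node 3319 7, .node 3320 5, .derive 7360 [.bwd 0, .edge 0, .fwd 2] [0] (.rel 9), .node 3320 7, .node 3323 0, .derive 7362 [.bwd 0, .edge 6, .edge 0] [6] (.rel 10),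
  .node 3323 5, .node 3324 0, .derive 7364 [.bwd 0, .edge 6, .edge 0] [6] (.rel 10), .node 3324 5]
def ph9_p4_1 : List Aux := [
  .derive 7365 [.bwd 0, .edge 4, .fwd 3] [4] (.rel 45), .node 3325 0, .derive 7366 [.bwd 0, .edge 3, .fwd 4] [3] (.rel 4), .node 3325 4, .node 3325 5, .node 3325 7, .derive 7369 [.bwd 0, .edge 2, .edge 7] [2] (.rel 35), .node 3326 0,
  .derive 7370 [.bwd 0, .edge 1, .edge 0, .edge 1, .edge 0] [1] (.rel 0), .derive 7370 [.bwd 1, .edge 6, .fwd 7] [6] (.rel 10), .node 3326 4, .derive 7371 [.bwd 0, .edge 1, .fwd 110] [1] (.rel 19), .derive 7371 [.bwd 1, .edge 6, .fwd 8] [6] (.rel 46), .node 3328 0, .derive 7372 [.bwd 0, .edge 3, .fwd 19] [3] (.rel 4), .derive 7372 [.bwd 1, .edge 6, .edge 0] [6] (.rel 10),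
  .node 3328 2, .node 3328 4, .derive 7374 [.bwd 0, .edge 3, .edge 4, .edge 3, .fwd 14] [3] (.rel 37), .derive 7374 [.bwd 1, .edge 6, .edge 4] [6] (.rel 46), .node 3328 5, .node 3328 7, .derive 7376 [.bwd 0, .edge 1, .fwd 31] [1] (.rel 25), .node 3329 2,
  .derive 7377 [.bwd 0, .edge 6, .fwd 7] [6] (.rel 32), .node 3331 7, .node 3332 5, .node 3332 7, .derive 7380 [.bwd 0, .edge 1, .fwd 71] [1] (.rel 25), .derive 7380 [.bwd 1, .edge 4, .fwd 3] [4] (.rel 49), .node 3333 0, .derive 7381 [.bwd 0, .edge 6, .edge 0] [6] (.rel 10),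
  .node 3333 4, .derive 7382 [.bwd 0, .edge 6, .edge 4] [6] (.rel 46), .node 3333 5, .derive 7383 [.bwd 0, .edge 3, .fwd 8] [3] (.rel 39), .node 3333 7, .derive 7384 [.bwd 0, .edge 1, .fwd 43] [1] (.rel 25), .node 3336 0, .derive 7385 [.bwd 0, .edge 6, .edge 0] [6] (.rel 10),
  .node 3336 4, .derive 7386 [.bwd 0, .edge 6, .edge 4] [6] (.rel 46), .node 3336 5, .derive 7387 [.bwd 0, .edge 1, .edge 5, .edge 1, .fwd 64] [1] (.rel 21), .node 3336 7, .derive 7388 [.bwd 0, .edge 1, .fwd 112] [1] (.rel 25), .node 3346 4, .node 3347 1,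
  .derive 7390 [.bwd 0, .edge 6, .edge 1] [6] (.rel 22), .node 3347 4, .derive 7391 [.bwd 0, .edge 0, .fwd 3] [0] (.rel 7), .derive 7391 [.bwd 1, .edge 6, .fwd 460] [6] (.rel 46), .node 3348 1, .derive 7392 [.bwd 0, .edge 3, .fwd 5] [3] (.rel 16), .derive 7392 [.bwd 1, .edge 6, .edge 1] [6] (.rel 22), .node 3348 7,
  .derive 7393 [.bwd 0, .edge 2, .bwd 837] [2] (.rel 35), .node 3353 7, .derive 7394 [.bwd 0, .edge 4, .bwd 987] [4] (.rel 49), .node 3364 0, .node 3365 0, .derive 7396 [.bwd 0, .edge 7, .fwd 1] [7] (.rel 12), .node 3366 0, .node 3366 5,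
  .node 3367 0, .derive 7399 [.bwd 0, .edge 1, .edge 0, .edge 1, .fwd 522] [1] (.rel 0), .derive 7399 [.bwd 1, .edge 3, .fwd 3] [3] (.rel 4), .derive 7399 [.bwd 2, .edge 4, .edge 0] [4] (.rel 6), .node 3367 5, .derive 7400 [.bwd 0, .edge 3, .fwd 5] [3] (.rel 39), .node 3368 7, .node 3369 7,
  .node 3372 0, .derive 7403 [.bwd 0, .edge 3, .fwd 12] [3] (.rel 4), .derive 7403 [.bwd 1, .edge 7, .edge 0] [7] (.rel 12), .derive 4238 [.edge 7, .edge 5, .bwd 0] [5] (.rel 53), .node 3372 5, .derive 7404 [.bwd 0, .edge 2, .edge 5] [2] (.rel 31), .derive 7404 [.bwd 1, .edge 4, .edge 5] [4] (.rel 45), .node 3377 0,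
  .derive 7405 [.bwd 0, .edge 7, .edge 0] [7] (.rel 12), .node 3377 5, .derive 7406 [.bwd 0, .edge 1, .edge 5, .edge 1, .fwd 610] [1] (.rel 21), .derive 7406 [.bwd 1, .edge 7, .edge 5] [7] (.rel 52), .node 3378 0, .derive 7407 [.bwd 0, .edge 3, .fwd 5] [3] (.rel 4), .derive 7407 [.bwd 1, .edge 7, .edge 0] [7] (.rel 12), .node 3378 4,
  .node 3378 5, .derive 7409 [.bwd 0, .edge 3, .fwd 7] [3] (.rel 39), .derive 7409 [.bwd 1, .edge 7, .edge 5] [7] (.rel 52), .node 3379 0, .derive 7410 [.bwd 0, .edge 3, .fwd 32] [3] (.rel 4), .node 3379 5, .derive 7411 [.bwd 0, .edge 1, .edge 5, .edge 1, .fwd 356] [1] (.rel 21), .node 3379 7,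
  .derive 7412 [.bwd 0, .edge 3, .edge 7, .edge 3, .edge 7] [3] (.rel 43), .node 3382 7, .node 3383 7, .node 3384 7]
def ph9_p4_2 : List Aux := [
  .node 3389 7, .node 3390 7, .node 3391 7, .derive 7418 [.bwd 0, .edge 6, .edge 7, .edge 6, .edge 7] [6] (.rel 55), .node 3396 7, .derive 7419 [.bwd 0, .edge 4, .fwd 4] [4] (.rel 49), .node 3397 7, .derive 7420 [.bwd 0, .edge 2, .fwd 7] [2] (.rel 35),
  .derive 7420 [.bwd 1, .edge 5, .fwd 10] [5] (.rel 53), .node 3406 7, .derive 7421 [.bwd 0, .edge 4, .edge 7] [4] (.rel 49), .derive 7421 [.bwd 1, .edge 6, .edge 7, .edge 6, .edge 7] [6] (.rel 55), .node 3427 7, .derive 7422 [.bwd 0, .bwd 1478, .edge 7] [1] (.rel 25), .node 3428 7, .node 3430 1,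
  .node 3442 1, .derive 7425 [.bwd 0, .edge 2, .bwd 1472, .edge 2, .edge 1] [2] (.rel 14), .derive 7425 [.bwd 1, .edge 3, .edge 1] [3] (.rel 16), .derive 7425 [.bwd 2, .edge 6, .edge 1] [6] (.rel 22), .node 3444 4, .derive 7426 [.bwd 0, .edge 1, .edge 4] [1] (.rel 19), .node 3444 7, .derive 7427 [.bwd 0, .edge 1, .edge 7] [1] (.rel 25),
  .node 3445 7, .node 3446 7, .node 3458 1, .derive 7430 [.bwd 0, .edge 5, .fwd 1483, .edge 5, .fwd 11] [5] (.rel 20), .node 3465 1, .derive 7431 [.bwd 0, .edge 4, .fwd 2] [4] (.rel 18), .derive 7431 [.bwd 1, .edge 5, .bwd 1484, .edge 5, .bwd 1123] [5] (.rel 20), .node 3465 2,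
  .derive 7432 [.bwd 0, .edge 4, .edge 2] [4] (.rel 28), .derive 7432 [.bwd 1, .edge 5, .edge 2] [5] (.rel 30), .node 3468 4, .derive 7433 [.bwd 0, .edge 6, .fwd 244] [6] (.rel 46), .node 3468 7, .node 3469 7, .node 3470 7, .derive 7436 [.bwd 0, .edge 2, .fwd 14] [2] (.rel 35),
  .node 3477 4, .derive 7437 [.bwd 0, .edge 1, .edge 4] [1] (.rel 19), .derive 7437 [.bwd 1, .edge 5, .fwd 21] [5] (.rel 44), .node 3477 7, .derive 7438 [.bwd 0, .edge 0, .fwd 18] [0] (.rel 13), .node 3478 4, .derive 7439 [.bwd 0, .edge 6, .fwd 308] [6] (.rel 46), .node 3479 4,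
  .derive 7440 [.bwd 0, .edge 5, .fwd 2] [5] (.rel 44), .node 3496 5, .node 3497 5, .derive 7442 [.bwd 0, .edge 4, .fwd 1] [4] (.rel 45), .node 3497 7, .derive 7443 [.bwd 0, .edge 1, .fwd 51] [1] (.rel 25), .node 3502 7, .derive 7444 [.bwd 0, .edge 6, .edge 7, .edge 6, .fwd 57] [6] (.rel 55),
  .node 3503 7, .derive 7445 [.bwd 0, .edge 6, .edge 7, .edge 6, .fwd 58] [6] (.rel 55), .node 3504 7, .derive 7446 [.bwd 0, .edge 6, .edge 7, .edge 6, .edge 7] [6] (.rel 55), .node 3505 4, .derive 7447 [.bwd 0, .edge 6, .fwd 279] [6] (.rel 46), .node 3505 7, .node 3506 4,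
  .derive 7449 [.bwd 0, .edge 6, .fwd 277] [6] (.rel 46), .node 3506 7, .derive 7450 [.bwd 0, .edge 0, .fwd 3] [0] (.rel 13), .node 3507 1, .derive 7451 [.bwd 0, .edge 2, .fwd 1515, .edge 2, .edge 1] [2] (.rel 14), .derive 7451 [.bwd 1, .edge 6, .fwd 319] [6] (.rel 22), .node 3507 7, .derive 7452 [.bwd 0, .edge 6, .edge 7, .edge 6, .edge 7] [6] (.rel 55),
  .node 3508 4, .derive 7453 [.bwd 0, .edge 6, .fwd 285] [6] (.rel 46), .node 3509 4, .derive 7454 [.bwd 0, .bwd 1954, .bwd 1952] [6] (.rel 46), .node 3509 7, .node 3510 4, .derive 7456 [.bwd 0, .bwd 1063, .fwd 1064] [6] (.rel 46), .node 3510 7,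
  .derive 7457 [.bwd 0, .bwd 1065, .fwd 1064, .fwd 1082, .edge 7] [6] (.rel 55), .node 3511 7, .node 3512 7, .derive 7459 [.bwd 0, .edge 5, .fwd 1] [5] (.rel 53), .node 3513 7, .derive 7460 [.bwd 0, .edge 4, .fwd 2] [4] (.rel 49), .node 3515 7, .node 3516 2,
  .derive 7462 [.bwd 0, .edge 4, .edge 2] [4] (.rel 28), .derive 7462 [.bwd 1, .edge 6, .edge 2] [6] (.rel 32), .node 3516 7, .derive 7463 [.bwd 0, .edge 1, .fwd 4] [1] (.rel 25), .node 3521 4, .derive 7464 [.bwd 0, .edge 5, .edge 4] [5] (.rel 44), .derive 7464 [.bwd 1, .edge 6, .fwd 848] [6] (.rel 46), .node 3526 2,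
  .node 3528 4, .derive 7466 [.bwd 0, .edge 5, .edge 4] [5] (.rel 44), .derive 7466 [.bwd 1, .edge 6, .fwd 854] [6] (.rel 46), .node 3530 3]
def ph9_p4_3 : List Aux := [
  .node 3530 7, .node 3531 7, .derive 7469 [.bwd 0, .edge 4, .fwd 1] [4] (.rel 49), .node 3532 7, .derive 7470 [.bwd 0, .edge 1, .fwd 27] [1] (.rel 25), .derive 7470 [.bwd 1, .edge 5, .fwd 3] [5] (.rel 53), .node 3533 3, .derive 7471 [.bwd 0, .edge 5, .fwd 7] [5] (.rel 38),
  .node 3533 7, .derive 7472 [.bwd 0, .bwd 1648, .edge 7, .edge 6, .edge 7] [6] (.rel 55), .node 3535 7, .derive 7473 [.bwd 0, .edge 6, .edge 7, .edge 6, .edge 7] [6] (.rel 55), .node 3536 0, .derive 7474 [.bwd 0, .edge 5, .edge 0] [5] (.rel 8), .node 3536 4, .derive 7475 [.bwd 0, .fwd 1204, .bwd 1114] [6] (.rel 46),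
  .node 3536 7, .derive 7476 [.bwd 0, .edge 1, .fwd 6] [1] (.rel 25), .node 3537 4, .derive 7477 [.bwd 0, .edge 5, .fwd 4] [5] (.rel 44), .node 3537 7, .node 3538 4, .derive 7479 [.bwd 0, .edge 1, .fwd 3] [1] (.rel 19), .node 3538 7,
  .derive 7480 [.bwd 0, .edge 1, .fwd 3] [1] (.rel 25), .node 3541 2, .node 3542 2, .derive 7482 [.bwd 0, .edge 6, .fwd 1] [6] (.rel 32), .node 3542 5, .derive 7483 [.bwd 0, .edge 1, .edge 5, .edge 1, .fwd 79] [1] (.rel 21), .node 3542 7, .node 3543 2,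
  .derive 7485 [.bwd 0, .edge 4, .fwd 5] [4] (.rel 28), .node 3543 7, .derive 7486 [.bwd 0, .edge 4, .fwd 3] [4] (.rel 49), .node 3544 2, .derive 7487 [.bwd 0, .edge 1, .edge 2, .fwd 1209, .bwd 1195] [1] (.rel 15), .derive 7487 [.bwd 1, .edge 6, .fwd 5] [6] (.rel 32), .node 3555 7, .node 3557 4,
  .derive 7489 [.bwd 0, .edge 6, .fwd 1000] [6] (.rel 46), .node 3558 4, .derive 7490 [.bwd 0, .edge 1, .edge 4] [1] (.rel 19), .node 3559 4, .derive 7491 [.bwd 0, .edge 6, .fwd 1011] [6] (.rel 46), .node 3564 2, .derive 7492 [.bwd 0, .edge 6, .fwd 822] [6] (.rel 32), .node 3564 7,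
  .node 3566 4, .derive 7494 [.bwd 0, .edge 5, .fwd 9] [5] (.rel 44), .derive 7494 [.bwd 1, .edge 6, .fwd 1015] [6] (.rel 46), .node 3568 4, .derive 7495 [.bwd 0, .edge 1, .bwd 1190] [1] (.rel 19), .derive 7495 [.bwd 1, .edge 6, .bwd 1194] [6] (.rel 46), .node 3568 7, .derive 7496 [.bwd 0, .edge 1, .fwd 16] [1] (.rel 25),
  .node 3570 5, .node 3571 4, .derive 7498 [.bwd 0, .edge 0, .edge 4] [0] (.rel 7), .node 3571 5, .node 3572 4, .derive 7500 [.bwd 0, .edge 1, .fwd 1021] [1] (.rel 19), .derive 7500 [.bwd 1, .edge 6, .fwd 4] [6] (.rel 46), .node 3573 4,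
  .node 3575 0, .derive 7502 [.bwd 0, .edge 5, .edge 0] [5] (.rel 8), .node 3576 0, .derive 7503 [.bwd 0, .edge 5, .edge 0] [5] (.rel 8), .node 3576 2, .node 3576 4, .node 3576 7, .derive 7506 [.bwd 0, .edge 1, .fwd 977] [1] (.rel 25),
  .derive 7506 [.bwd 1, .edge 5, .edge 7] [5] (.rel 53), .node 3577 2, .derive 7507 [.bwd 0, .edge 5, .fwd 5] [5] (.rel 30), .node 3577 4, .derive 7508 [.bwd 0, .edge 5, .fwd 6] [5] (.rel 44), .node 3579 5, .derive 7509 [.bwd 0, .bwd 1754, .edge 5] [2] (.rel 31), .derive 7509 [.bwd 1, .edge 4, .fwd 22] [4] (.rel 45),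
  .node 3580 4, .derive 7510 [.bwd 0, .edge 6, .fwd 5] [6] (.rel 46), .node 3580 5, .derive 7511 [.bwd 0, .edge 3, .fwd 5] [3] (.rel 39), .node 3580 7, .node 3581 3, .derive 7513 [.bwd 0, .fwd 1730, .edge 3, .edge 4, .fwd 86] [4] (.rel 36), .node 3586 2,
  .derive 7514 [.bwd 0, .edge 5, .edge 2] [5] (.rel 30), .node 3587 7, .node 3588 7, .node 3592 7, .derive 7517 [.bwd 0, .edge 1, .fwd 1] [1] (.rel 25), .node 3593 7, .derive 7518 [.bwd 0, .edge 4, .fwd 2] [4] (.rel 49), .node 3596 3,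
  .derive 7519 [.bwd 0, .edge 1, .fwd 10] [1] (.rel 17), .node 3596 7, .node 3603 5, .derive 7521 [.bwd 0, .edge 7, .edge 5] [7] (.rel 52)]
def ph9_p4_4 : List Aux := [
  .node 3611 2, .derive 7522 [.bwd 0, .edge 3, .fwd 1675, .edge 3, .edge 2] [3] (.rel 26), .node 3612 0, .node 3612 2, .derive 7524 [.bwd 0, .edge 6, .fwd 3] [6] (.rel 32), .node 3613 2, .derive 7525 [.bwd 0, .edge 5, .fwd 2] [5] (.rel 30), .node 3616 0,
  .derive 7526 [.bwd 0, .edge 6, .edge 0] [6] (.rel 10), .node 3616 5, .node 3617 5, .derive 7528 [.bwd 0, .edge 3, .fwd 1] [3] (.rel 39), .node 3618 4, .derive 7529 [.bwd 0, .edge 6, .edge 4] [6] (.rel 46), .node 3619 0, .derive 7530 [.bwd 0, .edge 4, .fwd 7] [4] (.rel 6),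
  .derive 7530 [.bwd 1, .edge 6, .edge 0] [6] (.rel 10), .node 3620 2, .node 3620 4, .derive 7532 [.bwd 0, .edge 3, .edge 4, .edge 3, .edge 4] [3] (.rel 37), .node 3620 5, .node 3621 2, .derive 7534 [.bwd 0, .edge 3, .edge 2, .bwd 1705, .edge 2] [3] (.rel 26), .derive 7534 [.bwd 1, .edge 6, .fwd 5] [6] (.rel 32),
  .node 3621 4, .derive 7535 [.bwd 0, .edge 6, .fwd 6] [6] (.rel 46), .node 3622 0, .node 3622 2, .derive 7537 [.bwd 0, .edge 3, .bwd 1696, .edge 3, .edge 2] [3] (.rel 26), .node 3622 4, .derive 7538 [.bwd 0, .edge 5, .fwd 5] [5] (.rel 44), .node 3623 0,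
  .derive 7539 [.bwd 0, .edge 6, .fwd 5] [6] (.rel 10), .node 3623 2, .derive 7540 [.bwd 0, .edge 6, .fwd 6] [6] (.rel 32), .node 3623 4, .derive 7541 [.bwd 0, .edge 1, .fwd 175] [1] (.rel 19), .derive 7541 [.bwd 1, .edge 6, .fwd 7] [6] (.rel 46), .node 3623 5, .derive 7542 [.bwd 0, .edge 6, .edge 5, .edge 6, .fwd 18] [6] (.rel 50),
  .node 3624 0, .derive 7543 [.bwd 0, .edge 3, .fwd 9] [3] (.rel 4), .node 3624 7, .derive 7544 [.bwd 0, .edge 6, .edge 7, .edge 6, .edge 7] [6] (.rel 55), .node 3625 0, .derive 7545 [.bwd 0, .edge 5, .edge 0] [5] (.rel 8), .derive 7545 [.bwd 1, .edge 6, .fwd 5] [6] (.rel 10), .derive 7545 [.bwd 2, .edge 7, .edge 0] [7] (.rel 12),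
  .node 3633 7, .derive 7546 [.bwd 0, .edge 6, .edge 7, .edge 6, .fwd 987] [6] (.rel 55), .node 3636 4, .derive 7547 [.bwd 0, .bwd 1281, .bwd 292] [5] (.rel 44), .node 3638 4, .derive 7548 [.bwd 0, .edge 1, .fwd 2] [1] (.rel 19), .node 3638 5, .node 3638 7,
  .derive 7550 [.bwd 0, .edge 1, .fwd 1385] [1] (.rel 25), .node 3640 2, .node 3641 0, .node 3641 7, .node 3642 0, .derive 7554 [.bwd 0, .edge 2, .fwd 2] [2] (.rel 2), .node 3642 5, .node 3642 7,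
  .derive 7556 [.bwd 0, .edge 2, .fwd 4] [2] (.rel 35), .node 3645 0, .node 3646 0, .derive 7558 [.bwd 0, .edge 4, .fwd 1] [4] (.rel 6), .node 3647 0, .derive 7559 [.bwd 0, .edge 3, .fwd 8] [3] (.rel 4), .node 3647 2, .derive 7560 [.bwd 0, .edge 3, .edge 2, .edge 3, .fwd 13] [3] (.rel 26),
  .node 3647 5, .derive 7561 [.bwd 0, .edge 3, .fwd 10] [3] (.rel 39), .node 3648 0, .derive 7562 [.bwd 0, .edge 7, .fwd 6] [7] (.rel 12), .node 3648 2, .derive 7563 [.bwd 0, .edge 6, .bwd 1379] [6] (.rel 32), .derive 7563 [.bwd 1, .edge 7, .fwd 7] [7] (.rel 34), .node 3648 5,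
  .derive 7564 [.bwd 0, .edge 7, .fwd 7] [7] (.rel 52), .node 3664 0, .derive 7565 [.bwd 0, .edge 3, .fwd 16] [3] (.rel 4), .node 3664 4, .derive 7566 [.bwd 0, .edge 3, .edge 4, .edge 3, .edge 4] [3] (.rel 37), .node 3672 7, .derive 7567 [.bwd 0, .edge 2, .fwd 611] [2] (.rel 35), .derive 7567 [.bwd 1, .edge 4, .edge 7] [4] (.rel 49),
  .node 3673 0, .derive 7568 [.bwd 0, .edge 6, .fwd 7] [6] (.rel 10), .node 3673 2, .derive 7569 [.bwd 0, .edge 1, .edge 2, .edge 1, .fwd 629] [1] (.rel 15), .node 3673 4, .derive 7570 [.bwd 0, .edge 1, .edge 4] [1] (.rel 19), .derive 7570 [.bwd 1, .edge 6, .fwd 10] [6] (.rel 46), .node 3673 7,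
  .derive 7571 [.bwd 0, .edge 1, .fwd 10] [1] (.rel 25), .node 3674 0, .derive 7572 [.bwd 0, .bwd 1719, .fwd 335] [2] (.rel 2), .derive 7572 [.bwd 1, .edge 3, .fwd 10] [3] (.rel 4)]
def ph9_p4 : List Aux :=
  ((ph9_p4_0 ++ ph9_p4_1) ++ (ph9_p4_2 ++ (ph9_p4_3 ++ ph9_p4_4)))

theorem ph9_p4_ok : stHas (runList (auxStep' P) ph9_p4 (mkSt 7310 mask10 ph9_eq4)) 7573 mask10 ph9_eq5 = true := by decide +kernel

def ph9_p5_0 : List Aux := [
  .node 3674 5, .node 3675 0, .derive 7574 [.bwd 0, .edge 6, .fwd 27] [6] (.rel 10), .derive 7574 [.bwd 1, .edge 7, .fwd 5] [7] (.rel 12), .node 3676 0, .derive 7575 [.bwd 0, .fwd 1718, .fwd 344] [2] (.rel 2), .derive 7575 [.bwd 1, .edge 3, .edge 0] [3] (.rel 4), .derive 7575 [.bwd 2, .edge 4, .fwd 9] [4] (.rel 6),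
  .derive 7575 [.bwd 3, .edge 6, .fwd 41] [6] (.rel 10), .node 3676 5, .derive 7576 [.bwd 0, .edge 4, .fwd 9] [4] (.rel 45), .node 3682 5, .derive 7577 [.bwd 0, .edge 3, .edge 5] [3] (.rel 39), .node 3689 0, .derive 7578 [.bwd 0, .edge 1, .edge 0, .edge 1, .edge 0] [1] (.rel 0), .node 3689 2,
  .derive 7579 [.bwd 0, .edge 1, .edge 2, .edge 1, .fwd 115] [1] (.rel 15), .node 3689 4, .node 3690 0, .derive 7581 [.bwd 0, .edge 3, .edge 0] [3] (.rel 4), .derive 7581 [.bwd 1, .edge 6, .fwd 6] [6] (.rel 10), .node 3690 2, .derive 7582 [.bwd 0, .edge 6, .fwd 6] [6] (.rel 32), .node 3690 4,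
  .derive 7583 [.bwd 0, .edge 3, .edge 4, .edge 3, .edge 4] [3] (.rel 37), .derive 7583 [.bwd 1, .edge 6, .fwd 7] [6] (.rel 46), .node 3703 7, .derive 7584 [.bwd 0, .edge 1, .edge 7] [1] (.rel 25), .node 3704 7, .derive 7585 [.bwd 0, .edge 1, .edge 7] [1] (.rel 25), .node 3705 7, .derive 7586 [.bwd 0, .edge 2, .fwd 2] [2] (.rel 35),
  .node 3706 4, .node 3706 7, .node 3707 4, .derive 7589 [.bwd 0, .edge 3, .edge 4, .edge 3, .fwd 544] [3] (.rel 37), .derive 7589 [.bwd 1, .edge 6, .fwd 3] [6] (.rel 46), .node 3708 4, .derive 7590 [.bwd 0, .edge 2, .fwd 3] [2] (.rel 29), .node 3709 4,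
  .derive 7591 [.bwd 0, .edge 1, .edge 4] [1] (.rel 19), .derive 7591 [.bwd 1, .edge 2, .fwd 8] [2] (.rel 29), .node 3710 7, .derive 7592 [.bwd 0, .edge 2, .fwd 16] [2] (.rel 35), .node 3711 2, .node 3712 2, .derive 7594 [.bwd 0, .edge 6, .fwd 1] [6] (.rel 32), .node 3721 0,
  .node 3728 0, .derive 7596 [.bwd 0, .edge 3, .edge 0] [3] (.rel 4), .derive 7596 [.bwd 1, .edge 4, .fwd 2] [4] (.rel 6), .node 3735 2, .derive 7597 [.bwd 0, .edge 1, .edge 2, .edge 1, .edge 2] [1] (.rel 15), .derive 7597 [.bwd 1, .edge 6, .edge 2] [6] (.rel 32), .node 3741 0, .derive 7598 [.bwd 0, .edge 1, .edge 0, .edge 1, .edge 0] [1] (.rel 0),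
  .derive 7598 [.bwd 1, .edge 6, .edge 0] [6] (.rel 10), .node 3741 2, .derive 7599 [.bwd 0, .edge 6, .edge 2] [6] (.rel 32), .node 3741 4, .derive 7600 [.bwd 0, .edge 1, .fwd 22] [1] (.rel 19), .derive 7600 [.bwd 1, .edge 6, .edge 4] [6] (.rel 46), .node 3741 5, .derive 7601 [.bwd 0, .edge 3, .fwd 1873] [3] (.rel 39),
  .node 3741 7, .node 3744 0, .derive 7603 [.bwd 0, .edge 6, .fwd 1798] [6] (.rel 10), .node 3744 5, .node 3744 7, .derive 7605 [.bwd 0, .edge 6, .edge 7, .edge 6, .edge 7] [6] (.rel 55), .node 3745 0, .derive 7606 [.bwd 0, .edge 3, .fwd 5] [3] (.rel 4),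
  .node 3745 4, .derive 7607 [.bwd 0, .edge 3, .edge 4, .edge 3, .edge 4] [3] (.rel 37), .node 3746 0, .derive 7608 [.bwd 0, .edge 1, .edge 0, .edge 1, .edge 0] [1] (.rel 0), .derive 7608 [.bwd 1, .edge 6, .fwd 5] [6] (.rel 10), .node 3746 4, .derive 7609 [.bwd 0, .edge 1, .edge 4] [1] (.rel 19), .derive 7609 [.bwd 1, .edge 3, .edge 4, .edge 3, .edge 4] [3] (.rel 37),
  .derive 7609 [.bwd 2, .edge 6, .fwd 7] [6] (.rel 46), .node 3746 5, .derive 7610 [.bwd 0, .edge 1, .edge 5, .edge 1, .edge 5] [1] (.rel 21), .derive 7610 [.bwd 1, .edge 3, .bwd 1813] [3] (.rel 39), .node 3746 7, .derive 7611 [.bwd 0, .edge 1, .edge 7] [1] (.rel 25), .derive 7611 [.bwd 1, .edge 3, .edge 7, .edge 3, .fwd 21] [3] (.rel 43), .node 3747 0,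
  .derive 7612 [.bwd 0, .edge 6, .bwd 1819] [6] (.rel 10), .node 3747 5, .node 3747 7, .derive 7614 [.bwd 0, .edge 6, .edge 7, .edge 6, .edge 7] [6] (.rel 55), .node 3748 2, .derive 7615 [.bwd 0, .edge 3, .bwd 1860, .edge 3, .fwd 159] [3] (.rel 26), .derive 7615 [.bwd 1, .edge 6, .edge 2] [6] (.rel 32), .node 3748 5,
  .node 3748 7, .node 3752 7, .derive 7618 [.bwd 0, .edge 3, .edge 7, .edge 3, .fwd 643] [3] (.rel 43), .node 3757 7]
def ph9_p5_1 : List Aux := [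
  .derive 7619 [.bwd 0, .edge 3, .edge 7, .edge 3, .fwd 664] [3] (.rel 43), .node 3773 5, .node 3773 7, .node 3774 4, .node 3774 5, .derive 7623 [.bwd 0, .edge 3, .fwd 3] [3] (.rel 39), .node 3774 7, .derive 7624 [.bwd 0, .edge 1, .fwd 369] [1] (.rel 25),
  .node 3775 4, .derive 7625 [.bwd 0, .edge 1, .fwd 619] [1] (.rel 19), .derive 7625 [.bwd 1, .edge 6, .fwd 6] [6] (.rel 46), .node 3776 5, .node 3776 7, .node 3777 0, .node 3777 2, .derive 7629 [.bwd 0, .edge 1, .edge 2, .edge 1, .fwd 70] [1] (.rel 15),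
  .node 3777 4, .node 3777 7, .derive 7631 [.bwd 0, .edge 1, .fwd 87] [1] (.rel 25), .node 3778 0, .derive 7632 [.bwd 0, .edge 6, .fwd 6] [6] (.rel 10), .node 3778 2, .derive 7633 [.bwd 0, .edge 1, .edge 2, .edge 1, .fwd 76] [1] (.rel 15), .derive 7633 [.bwd 1, .edge 6, .fwd 8] [6] (.rel 32),
  .node 3778 4, .derive 7634 [.bwd 0, .edge 3, .edge 4, .edge 3, .fwd 16] [3] (.rel 37), .derive 7634 [.bwd 1, .edge 6, .fwd 9] [6] (.rel 46), .node 3778 7, .derive 7635 [.bwd 0, .edge 1, .fwd 85] [1] (.rel 25), .node 3783 0, .node 3783 5, .derive 7637 [.bwd 0, .bwd 1872, .fwd 119] [2] (.rel 31),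
  .node 3784 0, .derive 7638 [.bwd 0, .edge 3, .fwd 3] [3] (.rel 4), .node 3784 2, .node 3784 4, .node 3784 5, .derive 7641 [.bwd 0, .edge 3, .fwd 6] [3] (.rel 39), .node 3784 7, .derive 7642 [.bwd 0, .edge 1, .fwd 402] [1] (.rel 25),
  .node 3785 0, .derive 7643 [.bwd 0, .edge 6, .fwd 8] [6] (.rel 10), .node 3785 2, .derive 7644 [.bwd 0, .edge 6, .fwd 8] [6] (.rel 32), .node 3785 4, .derive 7645 [.bwd 0, .edge 1, .fwd 654] [1] (.rel 19), .derive 7645 [.bwd 1, .edge 6, .fwd 10] [6] (.rel 46), .node 3786 0,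
  .derive 7646 [.bwd 0, .edge 4, .fwd 18] [4] (.rel 6), .node 3786 5, .node 3787 0, .derive 7648 [.bwd 0, .edge 1, .edge 0, .edge 1, .fwd 37] [1] (.rel 0), .derive 7648 [.bwd 1, .edge 3, .fwd 4] [3] (.rel 4), .node 3787 2, .derive 7649 [.bwd 0, .edge 3, .fwd 1907, .edge 3, .fwd 138] [3] (.rel 26), .node 3787 4,
  .derive 7650 [.bwd 0, .edge 1, .fwd 123] [1] (.rel 19), .derive 7650 [.bwd 1, .edge 3, .edge 4, .edge 3, .fwd 21] [3] (.rel 37), .node 3787 5, .derive 7651 [.bwd 0, .edge 3, .fwd 9] [3] (.rel 39), .node 3787 7, .derive 7652 [.bwd 0, .edge 1, .fwd 127] [1] (.rel 25), .node 3788 0, .derive 7653 [.bwd 0, .edge 1, .edge 0, .edge 1, .fwd 43] [1] (.rel 0),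
  .derive 7653 [.bwd 1, .edge 3, .edge 0] [3] (.rel 4), .derive 7653 [.bwd 2, .edge 6, .fwd 14] [6] (.rel 10), .node 3788 2, .derive 7654 [.bwd 0, .edge 1, .edge 2, .edge 1, .fwd 109] [1] (.rel 15), .derive 7654 [.bwd 1, .edge 3, .bwd 1919, .edge 3, .fwd 146] [3] (.rel 26), .derive 7654 [.bwd 2, .edge 6, .fwd 15] [6] (.rel 32), .node 3788 4, .derive 7655 [.bwd 0, .edge 6, .fwd 15] [6] (.rel 46),
  .node 3788 5, .derive 7656 [.bwd 0, .edge 3, .edge 5] [3] (.rel 39), .node 3788 7, .derive 7657 [.bwd 0, .edge 3, .edge 7, .edge 3, .edge 7] [3] (.rel 43), .node 3789 7, .derive 7658 [.bwd 0, .edge 6, .edge 7, .edge 6, .fwd 462] [6] (.rel 55), .node 3792 2, .derive 7659 [.bwd 0, .edge 4, .bwd 410] [4] (.rel 28),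
  .derive 7659 [.bwd 1, .edge 6, .bwd 732] [6] (.rel 32), .node 3792 7, .derive 7660 [.bwd 0, .edge 6, .edge 7, .edge 6, .fwd 79] [6] (.rel 55), .node 3793 7, .derive 7661 [.bwd 0, .edge 6, .edge 7, .edge 6, .fwd 71] [6] (.rel 55), .node 3816 7, .node 3817 7, .derive 7663 [.bwd 0, .edge 5, .fwd 1] [5] (.rel 53),
  .node 3819 4, .node 3823 7, .node 3824 7, .node 3825 7, .derive 7667 [.bwd 0, .edge 5, .fwd 1] [5] (.rel 53), .node 3826 7, .derive 7668 [.bwd 0, .bwd 2078, .fwd 838] [1] (.rel 25), .node 3831 7,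
  .derive 7669 [.bwd 0, .edge 5, .fwd 2] [5] (.rel 53), .derive 7669 [.bwd 1, .edge 6, .edge 7, .edge 6, .fwd 675] [6] (.rel 55), .node 3832 7, .derive 7670 [.bwd 0, .edge 5, .fwd 9] [5] (.rel 53)]
def ph9_p5_2 : List Aux := [
  .node 3833 5, .derive 7671 [.bwd 0, .edge 6, .edge 5, .edge 6, .fwd 344] [6] (.rel 50), .node 3833 7, .derive 7672 [.bwd 0, .edge 1, .fwd 4] [1] (.rel 25), .node 3834 0, .derive 7673 [.bwd 0, .fwd 2087, .fwd 828] [2] (.rel 2), .derive 7673 [.bwd 1, .edge 4, .edge 0] [4] (.rel 6), .derive 7673 [.bwd 2, .edge 6, .fwd 342] [6] (.rel 10),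
  .node 3834 5, .derive 7674 [.bwd 0, .fwd 2091, .edge 5] [2] (.rel 31), .derive 7674 [.bwd 1, .edge 6, .edge 5, .edge 6, .fwd 332] [6] (.rel 50), .node 3835 0, .derive 7675 [.bwd 0, .edge 3, .fwd 7] [3] (.rel 4), .derive 7675 [.bwd 1, .edge 6, .fwd 346] [6] (.rel 10), .node 3835 2, .derive 7676 [.bwd 0, .edge 3, .fwd 2097, .edge 3, .edge 2] [3] (.rel 26),
  .derive 7676 [.bwd 1, .edge 6, .fwd 347] [6] (.rel 32), .node 3835 4, .derive 7677 [.bwd 0, .edge 6, .fwd 348] [6] (.rel 46), .node 3835 5, .derive 7678 [.bwd 0, .edge 3, .fwd 11] [3] (.rel 39), .derive 7678 [.bwd 1, .edge 6, .edge 5, .edge 6, .fwd 338] [6] (.rel 50), .node 3836 2, .derive 7679 [.bwd 0, .edge 3, .bwd 2108, .edge 3, .edge 2] [3] (.rel 26),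
  .derive 7679 [.bwd 1, .edge 6, .edge 2] [6] (.rel 32), .node 3836 4, .derive 7680 [.bwd 0, .edge 3, .edge 4, .edge 3, .fwd 8] [3] (.rel 37), .derive 7680 [.bwd 1, .edge 6, .fwd 363] [6] (.rel 46), .node 3836 5, .derive 7681 [.bwd 0, .edge 3, .fwd 28] [3] (.rel 39), .derive 7681 [.bwd 1, .edge 6, .edge 5, .edge 6, .fwd 370] [6] (.rel 50), .node 3837 4,
  .derive 7682 [.bwd 0, .edge 1, .bwd 1493] [1] (.rel 19), .derive 7682 [.bwd 1, .edge 6, .bwd 1497] [6] (.rel 46), .node 3851 7, .node 3878 1, .derive 7684 [.bwd 0, .edge 3, .bwd 2055] [3] (.rel 16), .node 3879 1, .derive 7685 [.bwd 0, .edge 3, .fwd 2055] [3] (.rel 16), .node 3880 1,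
  .node 3881 1, .derive 7687 [.bwd 0, .edge 3, .fwd 1] [3] (.rel 16), .derive 7687 [.bwd 1, .edge 6, .fwd 1964] [6] (.rel 22), .node 3883 1, .derive 7688 [.bwd 0, .edge 6, .fwd 4] [6] (.rel 22), .node 3885 7, .derive 7689 [.bwd 0, .edge 0, .edge 7] [0] (.rel 13), .node 3886 4,
  .derive 7690 [.bwd 0, .edge 7, .fwd 1423] [7] (.rel 48), .node 3887 4, .derive 7691 [.bwd 0, .edge 7, .fwd 1360] [7] (.rel 48), .node 3891 4, .derive 7692 [.bwd 0, .edge 7, .fwd 1404] [7] (.rel 48), .node 3891 6, .node 3895 4, .derive 7694 [.bwd 0, .edge 7, .fwd 1405] [7] (.rel 48),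
  .node 3896 4, .derive 7695 [.bwd 0, .edge 7, .fwd 1410] [7] (.rel 48), .node 3897 4, .derive 7696 [.bwd 0, .edge 7, .fwd 1421] [7] (.rel 48), .node 3898 4, .derive 7697 [.bwd 0, .edge 5, .fwd 2] [5] (.rel 44), .derive 7697 [.bwd 1, .edge 7, .fwd 1422] [7] (.rel 48), .node 3903 4,
  .derive 7698 [.bwd 0, .edge 7, .fwd 1436] [7] (.rel 48), .node 3905 0, .derive 7699 [.bwd 0, .edge 7, .edge 0] [7] (.rel 12), .node 3905 4, .derive 7700 [.bwd 0, .edge 7, .fwd 407] [7] (.rel 48), .node 3905 6, .node 3906 0, .derive 7702 [.bwd 0, .edge 5, .fwd 5] [5] (.rel 8),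
  .derive 7702 [.bwd 1, .edge 7, .edge 0] [7] (.rel 12), .node 3906 4, .derive 7703 [.bwd 0, .edge 1, .fwd 22] [1] (.rel 19), .derive 7703 [.bwd 1, .edge 7, .fwd 411] [7] (.rel 48), .node 3906 6, .derive 7704 [.bwd 0, .edge 1, .fwd 23] [1] (.rel 23), .node 3907 6, .node 3911 7,
  .derive 7706 [.bwd 0, .bwd 1401, .fwd 1399] [5] (.rel 53), .node 3912 5, .derive 7707 [.bwd 0, .edge 6, .bwd 1403, .fwd 1402, .fwd 1405] [6] (.rel 50), .node 3912 7, .node 3915 7, .derive 7709 [.bwd 0, .edge 0, .edge 7] [0] (.rel 13), .derive 7709 [.bwd 1, .edge 4, .fwd 40] [4] (.rel 49), .node 3919 2,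
  .derive 7710 [.bwd 0, .edge 4, .fwd 492] [4] (.rel 28), .node 3919 5, .derive 7711 [.bwd 0, .edge 6, .bwd 1423, .bwd 1420, .bwd 1418] [6] (.rel 50), .node 3919 7, .derive 7712 [.bwd 0, .edge 0, .fwd 8] [0] (.rel 13), .node 3920 2, .derive 7713 [.bwd 0, .edge 6, .fwd 6] [6] (.rel 32), .node 3921 2,
  .derive 7714 [.bwd 0, .edge 7, .fwd 2] [7] (.rel 34), .node 3921 3, .node 3922 2, .derive 7716 [.bwd 0, .edge 5, .fwd 3] [5] (.rel 30)]
def ph9_p5_3 : List Aux := [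
  .node 3922 3, .derive 7717 [.bwd 0, .edge 5, .fwd 3] [5] (.rel 38), .node 3924 0, .derive 7718 [.bwd 0, .edge 5, .edge 0] [5] (.rel 8), .derive 7718 [.bwd 1, .bwd 1441, .fwd 1442] [7] (.rel 12), .node 3925 6, .derive 7719 [.bwd 0, .edge 4, .fwd 27] [4] (.rel 47), .node 3928 2,
  .derive 7720 [.bwd 0, .edge 0, .fwd 9] [0] (.rel 3), .node 3928 3, .derive 7721 [.bwd 0, .edge 0, .fwd 9] [0] (.rel 5), .node 3931 7, .derive 7722 [.bwd 0, .edge 4, .fwd 1277] [4] (.rel 49), .node 3935 4, .derive 7723 [.bwd 0, .edge 7, .fwd 1412] [7] (.rel 48), .node 3935 6,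
  .node 3937 3, .derive 7725 [.bwd 0, .edge 7, .edge 3, .edge 7, .fwd 19] [7] (.rel 42), .node 3937 5, .derive 7726 [.bwd 0, .edge 7, .bwd 1381] [7] (.rel 52), .node 3940 1, .derive 7727 [.bwd 0, .edge 7, .fwd 85] [7] (.rel 24), .node 3941 6, .node 3943 4,
  .derive 7729 [.bwd 0, .edge 7, .fwd 1403] [7] (.rel 48), .node 3944 4, .derive 7730 [.bwd 0, .edge 7, .fwd 1226] [7] (.rel 48), .node 3946 4, .derive 7731 [.bwd 0, .edge 2, .fwd 14] [2] (.rel 29), .derive 7731 [.bwd 1, .edge 5, .fwd 5] [5] (.rel 44), .derive 7731 [.bwd 2, .edge 7, .fwd 1422] [7] (.rel 48), .node 3946 6,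
  .derive 7732 [.bwd 0, .edge 2, .fwd 16] [2] (.rel 33), .node 3947 4, .derive 7733 [.bwd 0, .edge 7, .fwd 1425] [7] (.rel 48), .node 3947 6, .node 3948 2, .derive 7735 [.bwd 0, .edge 7, .fwd 955] [7] (.rel 34), .node 3948 4, .derive 7736 [.bwd 0, .edge 1, .fwd 5] [1] (.rel 19),
  .derive 7736 [.bwd 1, .edge 7, .fwd 956] [7] (.rel 48), .node 3948 6, .node 3949 6, .derive 7738 [.bwd 0, .edge 3, .fwd 1] [3] (.rel 41), .node 3950 6, .derive 7739 [.bwd 0, .edge 0, .fwd 22] [0] (.rel 11), .derive 7739 [.bwd 1, .edge 3, .fwd 10] [3] (.rel 41), .node 3951 6,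
  .node 3952 0, .derive 7741 [.bwd 0, .edge 5, .bwd 102] [5] (.rel 8), .derive 7741 [.bwd 1, .edge 7, .bwd 1420] [7] (.rel 12), .node 3952 6, .derive 7742 [.bwd 0, .edge 3, .fwd 4] [3] (.rel 41), .node 3953 0, .derive 7743 [.bwd 0, .edge 5, .bwd 68] [5] (.rel 8), .node 3953 6,
  .derive 7744 [.bwd 0, .edge 4, .fwd 4] [4] (.rel 47), .node 3954 6, .node 3955 4, .derive 7746 [.bwd 0, .edge 1, .fwd 31] [1] (.rel 19), .node 3955 6, .derive 7747 [.bwd 0, .edge 3, .fwd 3] [3] (.rel 41), .node 3956 0, .derive 7748 [.bwd 0, .edge 7, .edge 0] [7] (.rel 12),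
  .node 3956 2, .derive 7749 [.bwd 0, .edge 7, .fwd 491] [7] (.rel 34), .node 3956 4, .derive 7750 [.bwd 0, .edge 7, .fwd 491] [7] (.rel 48), .node 3962 7, .derive 7751 [.bwd 0, .edge 0, .bwd 1412] [0] (.rel 13), .node 3963 7, .derive 7752 [.bwd 0, .edge 2, .edge 7] [2] (.rel 35),
  .derive 7752 [.bwd 1, .edge 4, .edge 7] [4] (.rel 49), .derive 7752 [.bwd 2, .edge 5, .fwd 4] [5] (.rel 53), .node 3975 2, .derive 7753 [.bwd 0, .edge 0, .edge 2] [0] (.rel 3), .derive 7753 [.bwd 1, .edge 6, .edge 2] [6] (.rel 32), .node 3975 4, .derive 7754 [.bwd 0, .edge 6, .bwd 5] [6] (.rel 46), .node 4006 0,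
  .derive 7755 [.bwd 0, .edge 2, .fwd 1365] [2] (.rel 2), .derive 7755 [.bwd 1, .edge 5, .edge 0] [5] (.rel 8), .node 4006 3, .node 4007 3, .derive 7757 [.bwd 0, .edge 1, .fwd 2186] [1] (.rel 17), .derive 7757 [.bwd 1, .edge 5, .fwd 2] [5] (.rel 38), .node 4012 3, .derive 7758 [.bwd 0, .edge 5, .bwd 150] [5] (.rel 38),
  .node 4014 3, .derive 7759 [.bwd 0, .edge 6, .fwd 2205] [6] (.rel 40), .node 4015 3, .derive 7760 [.bwd 0, .edge 5, .fwd 2] [5] (.rel 38), .derive 7760 [.bwd 1, .edge 6, .bwd 2205] [6] (.rel 40), .node 4021 0, .derive 7761 [.bwd 0, .edge 6, .edge 0] [6] (.rel 10), .node 4021 3,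
  .derive 7762 [.bwd 0, .edge 1, .edge 3] [1] (.rel 17), .derive 7762 [.bwd 1, .edge 6, .bwd 313] [6] (.rel 40), .node 4021 5, .derive 7763 [.bwd 0, .edge 6, .fwd 2129, .edge 6, .fwd 331] [6] (.rel 50)]
def ph9_p5_4 : List Aux := [
  .node 4022 0, .derive 7764 [.bwd 0, .edge 4, .fwd 7] [4] (.rel 6), .derive 7764 [.bwd 1, .edge 6, .edge 0] [6] (.rel 10), .node 4022 5, .derive 7765 [.bwd 0, .edge 6, .bwd 2218, .edge 6, .fwd 314] [6] (.rel 50), .node 4039 5, .node 4040 3, .derive 7767 [.bwd 0, .edge 1, .fwd 18] [1] (.rel 17),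
  .derive 7767 [.bwd 1, .edge 6, .fwd 21] [6] (.rel 40), .node 4044 7, .derive 7768 [.bwd 0, .fwd 2278, .fwd 512] [0] (.rel 13), .derive 7768 [.bwd 1, .edge 6, .edge 7, .edge 6, .fwd 610] [6] (.rel 55), .node 4045 4, .node 4046 0, .derive 7770 [.bwd 0, .edge 3, .edge 0] [3] (.rel 4), .derive 7770 [.bwd 1, .edge 5, .bwd 39] [5] (.rel 8),
  .node 4046 4, .derive 7771 [.bwd 0, .edge 6, .fwd 4] [6] (.rel 46), .node 4046 7, .derive 7772 [.bwd 0, .edge 2, .fwd 1451] [2] (.rel 35), .node 4047 4, .derive 7773 [.bwd 0, .edge 5, .fwd 4] [5] (.rel 44), .node 4047 7, .node 4048 4,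
  .derive 7775 [.bwd 0, .edge 6, .fwd 3] [6] (.rel 46), .derive 7775 [.bwd 1, .edge 7, .edge 4] [7] (.rel 48), .node 4050 7, .derive 7776 [.bwd 0, .edge 6, .edge 7, .edge 6, .fwd 4] [6] (.rel 55), .node 4051 7, .derive 7777 [.bwd 0, .edge 2, .fwd 194] [2] (.rel 35), .node 4057 4, .derive 7778 [.bwd 0, .edge 7, .edge 4] [7] (.rel 48),
  .node 4058 4, .derive 7779 [.bwd 0, .edge 5, .fwd 20] [5] (.rel 44), .derive 7779 [.bwd 1, .edge 6, .fwd 3] [6] (.rel 46), .node 4060 3, .node 4061 3, .derive 7781 [.bwd 0, .edge 5, .fwd 1] [5] (.rel 38), .node 4061 6, .derive 7782 [.bwd 0, .bwd 67, .bwd 60] [2] (.rel 33),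
  .node 4084 4, .derive 7783 [.bwd 0, .edge 1, .bwd 234] [1] (.rel 19), .derive 7783 [.bwd 1, .edge 6, .bwd 1453] [6] (.rel 46), .node 4084 7, .node 4085 4, .node 4086 2, .derive 7786 [.bwd 0, .edge 3, .fwd 2329, .edge 3, .edge 2] [3] (.rel 26), .node 4086 4,
  .node 4086 7, .derive 7788 [.bwd 0, .edge 1, .edge 7] [1] (.rel 25), .node 4087 2, .derive 7789 [.bwd 0, .edge 0, .edge 2] [0] (.rel 3), .derive 7789 [.bwd 1, .edge 6, .fwd 6] [6] (.rel 32), .node 4087 4, .derive 7790 [.bwd 0, .edge 5, .edge 4] [5] (.rel 44), .derive 7790 [.bwd 1, .edge 6, .fwd 7] [6] (.rel 46),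
  .node 4091 5, .derive 7791 [.bwd 0, .fwd 2334, .edge 5] [2] (.rel 31), .node 4093 2, .node 4094 2, .derive 7793 [.bwd 0, .edge 0, .fwd 1436] [0] (.rel 3), .node 4094 7, .node 4095 7, .derive 7795 [.bwd 0, .edge 0, .fwd 615] [0] (.rel 13),
  .node 4100 4, .derive 7796 [.bwd 0, .edge 5, .edge 4] [5] (.rel 44), .node 4101 4, .node 4101 7, .node 4102 4, .derive 7799 [.bwd 0, .edge 5, .fwd 2] [5] (.rel 44), .derive 7799 [.bwd 1, .edge 6, .fwd 25] [6] (.rel 46), .node 4102 7,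
  .derive 7800 [.bwd 0, .edge 5, .fwd 4] [5] (.rel 53), .node 4104 7, .derive 7801 [.bwd 0, .edge 0, .fwd 1445] [0] (.rel 13), .node 4108 2, .derive 7802 [.bwd 0, .edge 6, .bwd 1464] [6] (.rel 32), .node 4108 5, .derive 7803 [.bwd 0, .edge 0, .fwd 72] [0] (.rel 9), .node 4109 2,
  .derive 7804 [.bwd 0, .edge 0, .bwd 1458] [0] (.rel 3), .derive 7804 [.bwd 1, .edge 4, .fwd 5] [4] (.rel 28), .derive 7804 [.bwd 2, .edge 6, .bwd 1463] [6] (.rel 32), .node 4119 7, .derive 7805 [.bwd 0, .edge 0, .fwd 281] [0] (.rel 13), .derive 7805 [.bwd 1, .edge 1, .fwd 41] [1] (.rel 25), .node 4120 2, .derive 7806 [.bwd 0, .edge 3, .fwd 2364, .edge 3, .edge 2] [3] (.rel 26),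
  .derive 7806 [.bwd 1, .edge 6, .fwd 29] [6] (.rel 32), .node 4120 5, .derive 7807 [.bwd 0, .edge 3, .fwd 33] [3] (.rel 39), .node 4120 7, .derive 7808 [.bwd 0, .edge 0, .fwd 607] [0] (.rel 13), .node 4121 4, .node 4121 7, .node 4122 4,
  .derive 7811 [.bwd 0, .edge 5, .fwd 2] [5] (.rel 44), .node 4122 7, .derive 7812 [.bwd 0, .edge 5, .fwd 3] [5] (.rel 53), .node 4123 4]
def ph9_p5 : List Aux :=
  ((ph9_p5_0 ++ ph9_p5_1) ++ (ph9_p5_2 ++ (ph9_p5_3 ++ ph9_p5_4)))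

theorem ph9_p5_ok : stHas (runList (auxStep' P) ph9_p5 (mkSt 7573 mask10 ph9_eq5)) 7814 mask10 ph9_eq6 = true := by decide +kernel

end Cfsg.Agent.CosetData.ChainU62
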