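import Cfsg.Agent.Lib.Compute.CosetData.ChainU62Aux

/-! Coset enumeration certificate data (S2091 chain). -/

set_option autoImplicit false
set_option maxRecDepth 100000
set_option Elab.async false

namespace Cfsg.Agent.CosetData.ChainU62

open Cfsg.Agent.CosetCert

def ph9_p6_0 : List Aux := [
  .derive 7813 [.bwd 0, .edge 2, .fwd 311] [2] (.rel 29), .derive 7813 [.bwd 1, .edge 6, .fwd 5] [6] (.rel 46), .node 4124 4, .node 4125 4, .derive 7815 [.bwd 0, .edge 6, .fwd 1] [6] (.rel 46), .node 4125 7, .node 4126 4, .derive 7817 [.bwd 0, .edge 5, .fwd 3] [5] (.rel 44),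
  .node 4126 7, .derive 7818 [.bwd 0, .edge 5, .fwd 3] [5] (.rel 53), .node 4127 2, .derive 7819 [.bwd 0, .edge 4, .fwd 1487] [4] (.rel 28), .node 4127 7, .derive 7820 [.bwd 0, .edge 4, .fwd 1488] [4] (.rel 49), .node 4128 1, .derive 7821 [.bwd 0, .edge 3, .bwd 672] [3] (.rel 16),
  .derive 7821 [.bwd 1, .edge 6, .bwd 1600] [6] (.rel 22), .node 4128 2, .derive 7822 [.bwd 0, .edge 4, .fwd 672] [4] (.rel 28), .derive 7822 [.bwd 1, .edge 6, .fwd 8] [6] (.rel 32), .node 4129 7, .derive 7823 [.bwd 0, .edge 4, .edge 7] [4] (.rel 49), .node 4131 7, .derive 7824 [.bwd 0, .edge 4, .fwd 49] [4] (.rel 49),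
  .node 4132 2, .derive 7825 [.bwd 0, .edge 4, .fwd 65] [4] (.rel 28), .node 4132 7, .derive 7826 [.bwd 0, .edge 4, .fwd 65] [4] (.rel 49), .node 4133 2, .derive 7827 [.bwd 0, .edge 4, .fwd 70] [4] (.rel 28), .node 4133 5, .derive 7828 [.bwd 0, .edge 4, .bwd 663] [4] (.rel 45),
  .node 4133 7, .derive 7829 [.bwd 0, .edge 4, .bwd 169] [4] (.rel 49), .node 4134 2, .derive 7830 [.bwd 0, .edge 6, .fwd 6] [6] (.rel 32), .node 4134 5, .derive 7831 [.bwd 0, .edge 4, .fwd 47] [4] (.rel 45), .node 4134 7, .node 4135 2,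
  .node 4136 2, .derive 7834 [.bwd 0, .edge 4, .edge 2] [4] (.rel 28), .derive 7834 [.bwd 1, .edge 6, .fwd 2] [6] (.rel 32), .node 4136 7, .derive 7835 [.bwd 0, .edge 4, .bwd 277] [4] (.rel 49), .node 4137 7, .derive 7836 [.bwd 0, .edge 1, .fwd 7] [1] (.rel 25), .node 4138 7,
  .derive 7837 [.bwd 0, .edge 4, .fwd 1519] [4] (.rel 49), .node 4139 7, .node 4142 1, .node 4143 1, .derive 7840 [.bwd 0, .edge 6, .fwd 1] [6] (.rel 22), .node 4143 7, .node 4144 1, .node 4144 7,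
  .node 4145 7, .derive 7844 [.bwd 0, .edge 5, .fwd 1] [5] (.rel 53), .node 4146 7, .derive 7845 [.bwd 0, .edge 5, .fwd 5] [5] (.rel 53), .node 4147 7, .derive 7846 [.bwd 0, .edge 5, .fwd 11] [5] (.rel 53), .node 4150 1, .derive 7847 [.bwd 0, .edge 4, .fwd 12] [4] (.rel 18),
  .derive 7847 [.bwd 1, .edge 6, .fwd 9] [6] (.rel 22), .node 4151 3, .node 4151 7, .node 4152 3, .derive 7850 [.bwd 0, .edge 2, .edge 3, .edge 2, .bwd 329] [2] (.rel 27), .derive 7850 [.bwd 1, .edge 6, .fwd 3] [6] (.rel 40), .node 4154 5, .derive 7851 [.bwd 0, .edge 4, .bwd 1534] [4] (.rel 45),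
  .node 4154 7, .derive 7852 [.bwd 0, .edge 4, .fwd 6] [4] (.rel 49), .node 4155 1, .node 4155 3, .derive 7854 [.bwd 0, .edge 2, .edge 3, .edge 2, .fwd 193] [2] (.rel 27), .node 4155 7, .node 4156 1, .derive 7856 [.bwd 0, .edge 4, .fwd 4] [4] (.rel 18),
  .node 4156 7, .derive 7857 [.bwd 0, .edge 4, .fwd 3] [4] (.rel 49), .node 4157 1, .derive 7858 [.bwd 0, .edge 6, .fwd 4] [6] (.rel 22), .node 4157 7, .node 4186 6, .node 4189 6, .derive 7861 [.bwd 0, .edge 1, .fwd 1] [1] (.rel 23),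
  .node 4192 6, .node 4195 4, .derive 7863 [.bwd 0, .edge 7, .fwd 1413] [7] (.rel 48), .node 4195 6, .node 4196 4, .derive 7865 [.bwd 0, .edge 1, .fwd 3] [1] (.rel 19), .derive 7865 [.bwd 1, .edge 7, .fwd 1422] [7] (.rel 48), .node 4196 6,
  .node 4197 6, .node 4198 4, .derive 7868 [.bwd 0, .edge 5, .bwd 1456] [5] (.rel 44), .derive 7868 [.bwd 1, .edge 7, .bwd 1460] [7] (.rel 48)]
def ph9_p6_1 : List Aux := [
  .node 4198 6, .node 4199 4, .derive 7870 [.bwd 0, .edge 7, .bwd 1487] [7] (.rel 48), .node 4199 6, .derive 7871 [.bwd 0, .edge 1, .fwd 3] [1] (.rel 23), .node 4201 4, .derive 7872 [.bwd 0, .edge 7, .bwd 927] [7] (.rel 48), .node 4201 6,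
  .node 4204 4, .derive 7874 [.bwd 0, .edge 7, .fwd 921] [7] (.rel 48), .node 4205 4, .derive 7875 [.bwd 0, .edge 7, .fwd 1420] [7] (.rel 48), .node 4206 4, .derive 7876 [.bwd 0, .edge 7, .fwd 1421] [7] (.rel 48), .node 4207 4, .derive 7877 [.bwd 0, .edge 1, .fwd 2] [1] (.rel 19),
  .derive 7877 [.bwd 1, .edge 7, .fwd 1421] [7] (.rel 48), .node 4208 4, .derive 7878 [.bwd 0, .edge 5, .fwd 3] [5] (.rel 44), .derive 7878 [.bwd 1, .edge 7, .fwd 1420] [7] (.rel 48), .node 4208 6, .node 4209 6, .derive 7880 [.bwd 0, .edge 3, .fwd 1] [3] (.rel 41), .node 4211 4,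
  .derive 7881 [.bwd 0, .edge 7, .fwd 1462] [7] (.rel 48), .node 4211 6, .node 4213 3, .derive 7883 [.bwd 0, .edge 7, .bwd 2023, .fwd 2022, .bwd 1295] [7] (.rel 42), .node 4214 2, .node 4214 6, .derive 7885 [.bwd 0, .edge 3, .fwd 22] [3] (.rel 41), .node 4215 4,
  .node 4216 4, .derive 7887 [.bwd 0, .edge 0, .fwd 1] [0] (.rel 7), .node 4216 6, .derive 7888 [.bwd 0, .edge 3, .fwd 31] [3] (.rel 41), .node 4217 4, .node 4217 6, .node 4219 4, .derive 7891 [.bwd 0, .edge 5, .bwd 1507] [5] (.rel 44),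
  .node 4219 6, .node 4219 7, .derive 7893 [.bwd 0, .edge 5, .bwd 1517] [5] (.rel 53), .node 4220 6, .derive 7894 [.bwd 0, .edge 3, .fwd 3] [3] (.rel 41), .node 4221 2, .derive 7895 [.bwd 0, .edge 4, .edge 2] [4] (.rel 28), .derive 7895 [.bwd 1, .edge 7, .edge 2] [7] (.rel 34),
  .node 4221 6, .node 4224 4, .node 4224 6, .node 4225 4, .derive 7899 [.bwd 0, .edge 5, .fwd 2] [5] (.rel 44), .node 4230 2, .node 4230 7, .node 4231 2,
  .derive 7902 [.bwd 0, .edge 6, .fwd 2] [6] (.rel 32), .node 4232 2, .derive 7903 [.bwd 0, .edge 5, .fwd 2] [5] (.rel 30), .node 4232 4, .derive 7904 [.bwd 0, .edge 5, .bwd 992] [5] (.rel 44), .node 4232 6, .node 4232 7, .derive 7906 [.bwd 0, .edge 5, .bwd 982] [5] (.rel 53),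
  .node 4233 6, .derive 7907 [.bwd 0, .edge 1, .fwd 21] [1] (.rel 23), .node 4234 2, .derive 7908 [.bwd 0, .edge 5, .edge 2] [5] (.rel 30), .derive 7908 [.bwd 1, .edge 7, .edge 2] [7] (.rel 34), .node 4234 6, .node 4236 3, .derive 7910 [.bwd 0, .bwd 996, .fwd 997, .fwd 1009, .bwd 978] [7] (.rel 42),
  .node 4237 3, .derive 7911 [.bwd 0, .edge 5, .fwd 2] [5] (.rel 38), .node 4237 6, .node 4238 3, .derive 7913 [.bwd 0, .fwd 1000, .fwd 1002] [5] (.rel 38), .node 4240 3, .derive 7914 [.bwd 0, .edge 1, .fwd 5] [1] (.rel 17), .node 4240 6,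
  .node 4241 3, .derive 7916 [.bwd 0, .edge 5, .fwd 3] [5] (.rel 38), .node 4241 6, .node 4242 2, .node 4242 4, .derive 7919 [.bwd 0, .edge 0, .fwd 76] [0] (.rel 7), .node 4244 6, .derive 7920 [.bwd 0, .edge 1, .fwd 4] [1] (.rel 23),
  .node 4245 6, .derive 7921 [.bwd 0, .edge 3, .fwd 38] [3] (.rel 41), .node 4250 2, .derive 7922 [.bwd 0, .edge 0, .fwd 62] [0] (.rel 3), .derive 7922 [.bwd 1, .edge 5, .fwd 8] [5] (.rel 30), .node 4250 4, .derive 7923 [.bwd 0, .edge 5, .fwd 9] [5] (.rel 44), .node 4250 6,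
  .derive 7924 [.bwd 0, .edge 3, .fwd 26] [3] (.rel 41), .node 4250 7, .node 4251 2, .derive 7926 [.bwd 0, .edge 5, .edge 2] [5] (.rel 30)]
def ph9_p6_2 : List Aux := [
  .derive 4341 [.edge 5, .edge 7, .bwd 0] [7] (.rel 52), .node 4251 4, .derive 7927 [.bwd 0, .edge 1, .fwd 8] [1] (.rel 19), .node 4251 6, .derive 7928 [.bwd 0, .edge 3, .fwd 55] [3] (.rel 41), .node 4251 7, .derive 7929 [.bwd 0, .edge 1, .fwd 8] [1] (.rel 25), .derive 7929 [.bwd 1, .edge 5, .bwd 1536] [5] (.rel 53),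
  .node 4255 3, .derive 7930 [.bwd 0, .edge 6, .edge 3] [6] (.rel 40), .node 4257 3, .node 4258 3, .derive 7932 [.bwd 0, .edge 6, .fwd 1] [6] (.rel 40), .node 4260 6, .derive 7933 [.bwd 0, .edge 2, .fwd 127] [2] (.rel 33), .node 4261 6,
  .node 4261 7, .derive 7935 [.bwd 0, .edge 5, .edge 7] [5] (.rel 53), .node 4263 3, .derive 7936 [.bwd 0, .edge 0, .fwd 10] [0] (.rel 5), .derive 7936 [.bwd 1, .edge 6, .edge 3] [6] (.rel 40), .node 4264 5, .derive 7937 [.bwd 0, .edge 0, .edge 5] [0] (.rel 9), .node 4265 5,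
  .derive 7938 [.bwd 0, .edge 0, .edge 5] [0] (.rel 9), .node 4266 5, .derive 7939 [.bwd 0, .edge 7, .edge 5] [7] (.rel 52), .node 4268 6, .derive 7940 [.bwd 0, .edge 4, .fwd 12] [4] (.rel 47), .node 4270 3, .derive 7941 [.bwd 0, .edge 5, .fwd 18] [5] (.rel 38), .node 4270 6,
  .node 4271 3, .derive 7943 [.bwd 0, .edge 5, .fwd 24] [5] (.rel 38), .node 4271 6, .node 4273 3, .node 4273 6, .derive 7946 [.bwd 0, .edge 2, .fwd 140] [2] (.rel 33), .node 4274 3, .derive 7947 [.bwd 0, .edge 5, .fwd 3] [5] (.rel 38),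
  .node 4274 6, .node 4278 1, .node 4278 6, .derive 7950 [.bwd 0, .edge 2, .fwd 63] [2] (.rel 33), .node 4280 3, .node 4281 6, .derive 7952 [.bwd 0, .edge 4, .fwd 9] [4] (.rel 47), .node 4284 6,
  .derive 7953 [.bwd 0, .edge 0, .fwd 5] [0] (.rel 11), .derive 7953 [.bwd 1, .edge 4, .fwd 8] [4] (.rel 47), .node 4307 0, .derive 7954 [.bwd 0, .edge 2, .bwd 26] [2] (.rel 2), .derive 7954 [.bwd 1, .edge 5, .fwd 1596] [5] (.rel 8), .node 4307 6, .node 4308 6, .derive 7956 [.bwd 0, .edge 4, .fwd 1] [4] (.rel 47),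
  .node 4309 0, .derive 7957 [.bwd 0, .edge 2, .edge 0] [2] (.rel 2), .derive 7957 [.bwd 1, .edge 5, .fwd 1592] [5] (.rel 8), .node 4310 6, .derive 7958 [.bwd 0, .edge 5, .edge 6, .edge 5, .fwd 25] [5] (.rel 51), .node 4311 3, .derive 7959 [.bwd 0, .edge 5, .fwd 51] [5] (.rel 38), .node 4311 6,
  .derive 7960 [.bwd 0, .edge 5, .edge 6, .edge 5, .fwd 32] [5] (.rel 51), .node 4312 6, .derive 7961 [.bwd 0, .edge 3, .fwd 12] [3] (.rel 41), .node 4313 4, .node 4314 4, .derive 7963 [.bwd 0, .edge 7, .fwd 1] [7] (.rel 48), .node 4314 6, .node 4315 4,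
  .derive 7965 [.bwd 0, .edge 0, .fwd 3] [0] (.rel 7), .node 4315 6, .derive 7966 [.bwd 0, .edge 0, .fwd 3] [0] (.rel 11), .node 4316 4, .derive 7967 [.bwd 0, .edge 7, .fwd 4] [7] (.rel 48), .node 4317 4, .derive 7968 [.bwd 0, .edge 6, .fwd 2] [6] (.rel 46), .node 4318 4,
  .derive 7969 [.bwd 0, .edge 0, .fwd 2] [0] (.rel 7), .derive 7969 [.bwd 1, .edge 6, .fwd 13] [6] (.rel 46), .node 4319 4, .derive 7970 [.bwd 0, .edge 2, .fwd 1604] [2] (.rel 29), .derive 7970 [.bwd 1, .edge 5, .fwd 8] [5] (.rel 44), .node 4321 4, .node 4322 4, .derive 7972 [.bwd 0, .edge 5, .fwd 19] [5] (.rel 44),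
  .derive 7972 [.bwd 1, .edge 7, .fwd 2] [7] (.rel 48), .node 4323 4, .derive 7973 [.bwd 0, .edge 7, .fwd 1627] [7] (.rel 48), .node 4323 6, .derive 7974 [.bwd 0, .edge 7, .edge 6, .edge 7, .fwd 166] [7] (.rel 54), .node 4324 4, .derive 7975 [.bwd 0, .edge 7, .fwd 1629] [7] (.rel 48), .node 4324 6,
  .derive 7976 [.bwd 0, .edge 0, .fwd 4] [0] (.rel 11), .derive 7976 [.bwd 1, .edge 7, .edge 6, .edge 7, .fwd 205] [7] (.rel 54), .node 4326 4, .derive 7977 [.bwd 0, .edge 1, .fwd 5] [1] (.rel 19)]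
def ph9_p6_3 : List Aux := [
  .derive 7977 [.bwd 1, .edge 7, .fwd 1632] [7] (.rel 48), .node 4328 4, .node 4331 4, .derive 7979 [.bwd 0, .edge 5, .fwd 1] [5] (.rel 44), .node 4331 6, .node 4332 3, .derive 7981 [.bwd 0, .edge 6, .edge 3] [6] (.rel 40), .node 4332 4,
  .derive 7982 [.bwd 0, .edge 2, .fwd 1636] [2] (.rel 29), .derive 7982 [.bwd 1, .edge 6, .fwd 7] [6] (.rel 46), .node 4333 3, .node 4333 4, .derive 7984 [.bwd 0, .edge 7, .fwd 4] [7] (.rel 48), .node 4333 6, .derive 7985 [.bwd 0, .edge 2, .fwd 218] [2] (.rel 33), .node 4334 3,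
  .derive 7986 [.bwd 0, .edge 2, .edge 3, .edge 2, .fwd 77] [2] (.rel 27), .derive 7986 [.bwd 1, .edge 5, .fwd 6] [5] (.rel 38), .node 4334 4, .derive 7987 [.bwd 0, .edge 2, .fwd 182] [2] (.rel 29), .derive 7987 [.bwd 1, .edge 5, .fwd 8] [5] (.rel 44), .node 4334 6, .derive 7988 [.bwd 0, .edge 2, .fwd 184] [2] (.rel 33), .node 4335 3,
  .derive 7989 [.bwd 0, .bwd 1650, .fwd 1649, .fwd 1697, .fwd 91] [2] (.rel 27), .node 4335 4, .derive 7990 [.bwd 0, .edge 7, .fwd 7] [7] (.rel 48), .node 4335 6, .derive 7991 [.bwd 0, .edge 5, .edge 6, .edge 5, .fwd 23] [5] (.rel 51), .node 4336 3, .derive 7992 [.bwd 0, .edge 0, .fwd 19] [0] (.rel 5), .derive 7992 [.bwd 1, .edge 2, .edge 3, .edge 2, .fwd 86] [2] (.rel 27),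
  .node 4336 4, .node 4337 3, .derive 7994 [.bwd 0, .edge 6, .edge 3] [6] (.rel 40), .node 4337 4, .derive 7995 [.bwd 0, .edge 7, .fwd 3] [7] (.rel 48), .node 4338 4, .derive 7996 [.bwd 0, .edge 6, .fwd 2] [6] (.rel 46), .node 4340 4,
  .derive 7997 [.bwd 0, .edge 0, .fwd 37] [0] (.rel 7), .derive 7997 [.bwd 1, .edge 5, .fwd 3] [5] (.rel 44), .node 4340 6, .node 4341 3, .derive 7999 [.bwd 0, .edge 0, .fwd 20] [0] (.rel 5), .derive 7999 [.bwd 1, .edge 5, .fwd 11] [5] (.rel 38), .node 4341 6, .derive 8000 [.bwd 0, .edge 0, .fwd 19] [0] (.rel 11),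
  .node 4342 3, .node 4342 4, .derive 8002 [.bwd 0, .edge 2, .fwd 1632] [2] (.rel 29), .node 4343 3, .derive 8003 [.bwd 0, .edge 2, .edge 3, .edge 2, .fwd 90] [2] (.rel 27), .derive 8003 [.bwd 1, .edge 5, .fwd 4] [5] (.rel 38), .node 4343 4, .derive 8004 [.bwd 0, .edge 5, .fwd 5] [5] (.rel 44),
  .node 4343 6, .derive 8005 [.bwd 0, .edge 2, .fwd 91] [2] (.rel 33), .node 4381 2, .derive 8006 [.bwd 0, .bwd 1574, .bwd 1525] [4] (.rel 28), .derive 8006 [.bwd 1, .edge 7, .fwd 1583] [7] (.rel 34), .derive 7876 [.bwd 248, .bwd 1739, .fwd 1738, .bwd 1526, .bwd 1] [3] (.rel 37), .node 4381 5, .derive 8007 [.bwd 0, .edge 7, .fwd 1584] [7] (.rel 52),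
  .node 4454 4, .derive 8008 [.bwd 0, .edge 7, .fwd 1556] [7] (.rel 48), .node 4456 4, .derive 8009 [.bwd 0, .edge 1, .fwd 2] [1] (.rel 19), .derive 8009 [.bwd 1, .edge 7, .fwd 1557] [7] (.rel 48), .node 4741 4, .derive 8010 [.bwd 0, .edge 7, .fwd 1526] [7] (.rel 48), .node 4747 4,
  .derive 8011 [.bwd 0, .edge 7, .fwd 1526] [7] (.rel 48), .node 4795 2, .derive 8012 [.bwd 0, .edge 4, .fwd 1510] [4] (.rel 28), .node 4796 2, .derive 8013 [.bwd 0, .edge 6, .fwd 2] [6] (.rel 32), .node 4806 6, .derive 8014 [.bwd 0, .edge 4, .fwd 535] [4] (.rel 47), .node 4807 2,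
  .derive 8015 [.bwd 0, .edge 6, .edge 2] [6] (.rel 32), .node 4808 2, .derive 8016 [.bwd 0, .edge 6, .edge 2] [6] (.rel 32), .node 4810 6, .node 4811 6, .node 4820 1, .derive 8019 [.bwd 0, .edge 4, .fwd 648] [4] (.rel 18), .node 4821 1,
  .derive 8020 [.bwd 0, .edge 6, .fwd 2] [6] (.rel 22), .node 4822 1, .derive 8021 [.bwd 0, .edge 4, .fwd 569] [4] (.rel 18), .derive 8021 [.bwd 1, .edge 7, .fwd 3] [7] (.rel 24), .node 4823 6, .node 4826 1, .derive 8023 [.bwd 0, .bwd 906, .bwd 897] [4] (.rel 18), .derive 8023 [.bwd 1, .edge 7, .bwd 901] [7] (.rel 24),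
  .node 4826 6, .derive 8024 [.bwd 0, .edge 0, .fwd 4] [0] (.rel 11), .node 4828 1, .derive 8025 [.bwd 0, .edge 4, .fwd 655] [4] (.rel 18)]
def ph9_p6_4 : List Aux := [
  .node 4829 1, .derive 8026 [.bwd 0, .edge 6, .fwd 2] [6] (.rel 22), .node 4834 6, .node 4835 6, .derive 8028 [.bwd 0, .edge 1, .fwd 1] [1] (.rel 23), .derive 8028 [.bwd 1, .edge 4, .fwd 582] [4] (.rel 47), .node 4841 2, .node 4843 6,
  .node 4854 1, .node 4854 2, .node 4855 2, .derive 8033 [.bwd 0, .edge 4, .fwd 1] [4] (.rel 28), .node 4859 6, .derive 8034 [.bwd 0, .edge 5, .edge 6, .edge 5, .fwd 5] [5] (.rel 51), .node 4861 2, .node 4862 2,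
  .derive 8036 [.bwd 0, .edge 7, .fwd 1547] [7] (.rel 34), .node 4862 3, .node 4862 6, .node 4863 1, .derive 8039 [.bwd 0, .edge 7, .fwd 11] [7] (.rel 24), .node 4863 2, .derive 8040 [.bwd 0, .edge 5, .fwd 6] [5] (.rel 30), .derive 8040 [.bwd 1, .edge 7, .fwd 13] [7] (.rel 34),
  .node 4863 3, .derive 8041 [.bwd 0, .edge 5, .fwd 7] [5] (.rel 38), .node 4863 6, .node 4864 1, .derive 8043 [.bwd 0, .edge 4, .fwd 8] [4] (.rel 18), .node 4864 2, .derive 8044 [.bwd 0, .edge 4, .fwd 8] [4] (.rel 28), .derive 8044 [.bwd 1, .edge 7, .fwd 20] [7] (.rel 34),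
  .node 4864 6, .derive 8045 [.bwd 0, .edge 4, .fwd 6] [4] (.rel 47), .node 4867 2, .derive 8046 [.bwd 0, .edge 7, .fwd 1564] [7] (.rel 34), .node 4867 3, .node 4868 3, .derive 8048 [.bwd 0, .edge 1, .fwd 1] [1] (.rel 17), .node 4870 2,
  .derive 8049 [.bwd 0, .edge 5, .fwd 5] [5] (.rel 30), .derive 8049 [.bwd 1, .edge 7, .fwd 26] [7] (.rel 34), .node 4870 3, .derive 8050 [.bwd 0, .edge 5, .fwd 6] [5] (.rel 38), .node 4871 2, .derive 8051 [.bwd 0, .edge 5, .fwd 15] [5] (.rel 30), .derive 8051 [.bwd 1, .edge 7, .fwd 70] [7] (.rel 34), .node 4871 6,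
  .derive 8052 [.bwd 0, .edge 7, .edge 6, .edge 7, .fwd 63] [7] (.rel 54), .node 4872 6, .derive 8053 [.bwd 0, .edge 7, .edge 6, .edge 7, .fwd 66] [7] (.rel 54), .node 4873 6, .derive 8054 [.bwd 0, .edge 1, .fwd 33] [1] (.rel 23), .node 4875 6, .derive 8055 [.bwd 0, .bwd 901, .fwd 900] [1] (.rel 23), .node 4876 1,
  .derive 8056 [.bwd 0, .edge 7, .bwd 903] [7] (.rel 24), .node 4877 1, .derive 8057 [.bwd 0, .edge 4, .fwd 2] [4] (.rel 18), .node 4878 1, .derive 8058 [.bwd 0, .edge 4, .bwd 907] [4] (.rel 18), .derive 8058 [.bwd 1, .edge 7, .fwd 3] [7] (.rel 24), .derive 5819 [.edge 4, .bwd 908, .bwd 1] [6] (.rel 46), .node 4878 6,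
  .derive 8059 [.bwd 0, .fwd 4, .bwd 1] [1] (.rel 23), .node 4882 6, .node 4883 6, .node 4884 6, .derive 8062 [.bwd 0, .edge 4, .fwd 1] [4] (.rel 47), .node 4885 6, .node 4886 6, .node 4887 6,
  .derive 8065 [.bwd 0, .edge 2, .fwd 6] [2] (.rel 33), .derive 8065 [.bwd 1, .edge 4, .fwd 2] [4] (.rel 47), .node 4890 6, .derive 8066 [.bwd 0, .edge 0, .fwd 5] [0] (.rel 11), .node 4891 6, .derive 8067 [.bwd 0, .edge 2, .fwd 10] [2] (.rel 33), .derive 8067 [.bwd 1, .edge 4, .fwd 8] [4] (.rel 47), .node 4893 2,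
  .derive 8068 [.bwd 0, .edge 5, .fwd 73] [5] (.rel 30), .node 4894 2, .derive 8069 [.bwd 0, .edge 4, .fwd 2] [4] (.rel 28), .node 4894 7, .derive 8070 [.bwd 0, .edge 5, .edge 7] [5] (.rel 53), .node 4896 7, .derive 8071 [.bwd 0, .bwd 1897, .bwd 1889] [1] (.rel 25), .derive 8071 [.bwd 1, .edge 4, .bwd 1087] [4] (.rel 49),
  .node 4899 6, .node 4900 6, .derive 8073 [.bwd 0, .edge 1, .fwd 22] [1] (.rel 23), .derive 8073 [.bwd 1, .edge 4, .fwd 2] [4] (.rel 47), .node 4903 4, .derive 8074 [.bwd 0, .edge 5, .fwd 634] [5] (.rel 44), .node 4903 6, .derive 8075 [.bwd 0, .edge 3, .fwd 6] [3] (.rel 41),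
  .node 4903 7, .derive 8076 [.bwd 0, .edge 5, .bwd 2090] [5] (.rel 53), .node 4904 4, .derive 8077 [.bwd 0, .edge 5, .fwd 673] [5] (.rel 44)]
def ph9_p6 : List Aux :=
  ((ph9_p6_0 ++ ph9_p6_1) ++ (ph9_p6_2 ++ (ph9_p6_3 ++ ph9_p6_4)))

theorem ph9_p6_ok : stHas (runList (auxStep' P) ph9_p6 (mkSt 7814 mask10 ph9_eq6)) 8078 mask10 ph9_eq7 = true := by decide +kernel

def ph9_p7_0 : List Aux := [
  .node 4905 7, .derive 8078 [.bwd 0, .edge 5, .edge 7] [5] (.rel 53), .node 4906 7, .node 4907 7, .derive 8080 [.bwd 0, .edge 4, .fwd 1] [4] (.rel 49), .node 4908 7, .derive 8081 [.bwd 0, .edge 1, .fwd 2] [1] (.rel 25), .derive 8081 [.bwd 1, .edge 5, .edge 7] [5] (.rel 53),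
  .node 4910 0, .derive 8082 [.bwd 0, .edge 4, .edge 0] [4] (.rel 6), .derive 8082 [.bwd 1, .edge 5, .fwd 1633] [5] (.rel 8), .derive 8082 [.bwd 2, .edge 6, .edge 0] [6] (.rel 10), .node 4910 1, .node 4910 7, .derive 8084 [.bwd 0, .edge 5, .fwd 1635] [5] (.rel 53), .node 4911 1,
  .derive 8085 [.bwd 0, .edge 6, .fwd 3] [6] (.rel 22), .node 4911 7, .derive 8086 [.bwd 0, .edge 5, .fwd 1128] [5] (.rel 53), .node 4912 1, .derive 8087 [.bwd 0, .edge 4, .fwd 4] [4] (.rel 18), .node 4912 7, .node 4918 1, .node 4919 1,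
  .derive 8090 [.bwd 0, .edge 3, .fwd 11] [3] (.rel 16), .derive 8090 [.bwd 1, .edge 5, .edge 1, .edge 5, .fwd 116] [5] (.rel 20), .derive 8090 [.bwd 2, .edge 7, .fwd 3] [7] (.rel 24), .node 4921 1, .derive 8091 [.bwd 0, .edge 6, .fwd 8] [6] (.rel 22), .node 4921 7, .derive 8092 [.bwd 0, .edge 5, .fwd 1650] [5] (.rel 53), .node 4925 7,
  .node 4926 7, .derive 8094 [.bwd 0, .edge 0, .fwd 11] [0] (.rel 13), .node 4927 7, .derive 8095 [.bwd 0, .edge 0, .fwd 17] [0] (.rel 13), .node 4968 7, .derive 8096 [.bwd 0, .edge 4, .fwd 5] [4] (.rel 49), .derive 8096 [.bwd 1, .edge 5, .fwd 3] [5] (.rel 53), .node 4982 7,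
  .node 4983 1, .derive 8098 [.bwd 0, .edge 2, .edge 1, .edge 2, .fwd 140] [2] (.rel 14), .node 4983 7, .derive 8099 [.bwd 0, .edge 5, .fwd 3] [5] (.rel 53), .node 4984 6, .derive 8100 [.bwd 0, .edge 0, .bwd 164] [0] (.rel 11), .node 4984 7, .node 4985 6,
  .derive 8102 [.bwd 0, .bwd 560, .fwd 559] [3] (.rel 41), .node 4985 7, .derive 8103 [.bwd 0, .edge 4, .fwd 3] [4] (.rel 49), .node 4986 3, .derive 8104 [.bwd 0, .edge 5, .bwd 564] [5] (.rel 38), .node 4986 7, .derive 8105 [.bwd 0, .edge 5, .fwd 4] [5] (.rel 53), .node 4987 3,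
  .derive 8106 [.bwd 0, .edge 6, .fwd 4] [6] (.rel 40), .node 4991 6, .derive 8107 [.bwd 0, .edge 0, .bwd 175] [0] (.rel 11), .node 4993 7, .derive 8108 [.bwd 0, .edge 0, .fwd 20] [0] (.rel 13), .derive 8108 [.bwd 1, .edge 4, .fwd 7] [4] (.rel 49), .node 4997 3, .derive 8109 [.bwd 0, .edge 2, .bwd 1685, .bwd 857, .bwd 850] [2] (.rel 27),
  .derive 8109 [.bwd 1, .edge 5, .fwd 8] [5] (.rel 38), .node 4997 6, .derive 8110 [.bwd 0, .edge 5, .edge 6, .edge 5, .fwd 18] [5] (.rel 51), .node 4998 1, .derive 8111 [.bwd 0, .edge 7, .edge 1] [7] (.rel 24), .node 4998 3, .derive 8112 [.bwd 0, .edge 2, .edge 3, .bwd 860, .bwd 849] [2] (.rel 27), .derive 8112 [.bwd 1, .edge 5, .bwd 855] [5] (.rel 38),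
  .node 4999 3, .derive 8113 [.bwd 0, .edge 2, .edge 3, .bwd 1194, .bwd 1189] [2] (.rel 27), .derive 8113 [.bwd 1, .edge 6, .fwd 4] [6] (.rel 40), .node 4999 7, .derive 8114 [.bwd 0, .edge 4, .fwd 36] [4] (.rel 49), .node 5002 3, .derive 8115 [.bwd 0, .edge 2, .bwd 1719, .fwd 1720, .bwd 1723] [2] (.rel 27), .derive 8115 [.bwd 1, .edge 5, .bwd 1729] [5] (.rel 38),
  .node 5005 1, .derive 8116 [.bwd 0, .edge 6, .edge 1] [6] (.rel 22), .node 5005 3, .node 5006 3, .derive 8118 [.bwd 0, .edge 6, .fwd 1] [6] (.rel 40), .node 5013 1, .derive 8119 [.bwd 0, .edge 7, .edge 1] [7] (.rel 24), .node 5014 1,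
  .derive 8120 [.bwd 0, .edge 6, .fwd 2] [6] (.rel 22), .node 5014 3, .derive 8121 [.bwd 0, .edge 6, .bwd 1772] [6] (.rel 40), .node 5015 3, .derive 8122 [.bwd 0, .edge 5, .fwd 2] [5] (.rel 38), .node 5025 6, .node 5030 5, .derive 8124 [.bwd 0, .edge 3, .bwd 93] [3] (.rel 39),
  .derive 8124 [.bwd 1, .edge 7, .fwd 1682] [7] (.rel 52), .node 5030 6, .node 5031 6, .derive 8126 [.bwd 0, .edge 3, .fwd 1] [3] (.rel 41)]
def ph9_p7_1 : List Aux := [
  .node 5032 6, .derive 8127 [.bwd 0, .edge 4, .fwd 2] [4] (.rel 47), .node 5033 2, .derive 8128 [.bwd 0, .edge 7, .fwd 196] [7] (.rel 34), .node 5034 2, .derive 8129 [.bwd 0, .edge 4, .fwd 2] [4] (.rel 28), .derive 8129 [.bwd 1, .edge 7, .fwd 1719] [7] (.rel 34), .node 5034 6,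
  .node 5035 4, .derive 8131 [.bwd 0, .edge 7, .fwd 1701] [7] (.rel 48), .node 5035 5, .derive 8132 [.bwd 0, .edge 0, .fwd 16] [0] (.rel 9), .derive 8132 [.bwd 1, .edge 7, .fwd 1702] [7] (.rel 52), .node 5035 6, .derive 8133 [.bwd 0, .edge 0, .fwd 16] [0] (.rel 11), .derive 8133 [.bwd 1, .edge 3, .fwd 7] [3] (.rel 41),
  .node 5036 6, .derive 8134 [.bwd 0, .edge 4, .fwd 23] [4] (.rel 47), .node 5054 1, .derive 8135 [.bwd 0, .edge 7, .fwd 31] [7] (.rel 24), .node 5070 1, .derive 8136 [.bwd 0, .edge 4, .fwd 2] [4] (.rel 18), .derive 8136 [.bwd 1, .edge 7, .fwd 41] [7] (.rel 24), .node 5077 1,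
  .node 5077 3, .derive 8138 [.bwd 0, .edge 6, .edge 3] [6] (.rel 40), .node 5078 1, .derive 8139 [.bwd 0, .edge 7, .fwd 3] [7] (.rel 24), .node 5079 1, .derive 8140 [.bwd 0, .edge 4, .fwd 2] [4] (.rel 18), .node 5080 3, .node 5085 3,
  .derive 8142 [.bwd 0, .edge 6, .edge 3] [6] (.rel 40), .node 5086 3, .derive 8143 [.bwd 0, .edge 6, .edge 3] [6] (.rel 40), .node 5091 3, .derive 8144 [.bwd 0, .edge 5, .bwd 912] [5] (.rel 38), .node 5092 3, .derive 8145 [.bwd 0, .edge 0, .fwd 2] [0] (.rel 5), .derive 8145 [.bwd 1, .edge 5, .bwd 692] [5] (.rel 38),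
  .node 5096 1, .derive 8146 [.bwd 0, .edge 6, .edge 1] [6] (.rel 22), .derive 8146 [.bwd 1, .edge 7, .fwd 13] [7] (.rel 24), .node 5099 3, .derive 8147 [.bwd 0, .edge 5, .fwd 10] [5] (.rel 38), .node 5100 3, .derive 8148 [.bwd 0, .edge 5, .fwd 21] [5] (.rel 38), .derive 8148 [.bwd 1, .edge 6, .fwd 3] [6] (.rel 40),
  .node 5101 3, .derive 8149 [.bwd 0, .edge 0, .fwd 3] [0] (.rel 5), .node 5102 3, .derive 8150 [.bwd 0, .edge 5, .fwd 19] [5] (.rel 38), .derive 8150 [.bwd 1, .edge 6, .fwd 3] [6] (.rel 40), .node 5103 3, .derive 8151 [.bwd 0, .edge 6, .edge 3] [6] (.rel 40), .node 5106 3,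
  .derive 8152 [.bwd 0, .edge 5, .fwd 25] [5] (.rel 38), .node 5107 3, .node 5122 1, .node 5123 1, .derive 8155 [.bwd 0, .edge 7, .fwd 1] [7] (.rel 24), .node 5127 1, .derive 8156 [.bwd 0, .edge 6, .edge 1] [6] (.rel 22), .node 5129 7,
  .node 5130 7, .derive 8158 [.bwd 0, .edge 2, .fwd 162] [2] (.rel 35), .derive 8158 [.bwd 1, .edge 4, .fwd 2] [4] (.rel 49), .node 5131 7, .node 5132 1, .node 5132 7, .derive 8161 [.bwd 0, .edge 5, .fwd 2] [5] (.rel 53), .node 5139 1,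
  .derive 8162 [.bwd 0, .edge 4, .fwd 3] [4] (.rel 18), .derive 8162 [.bwd 1, .edge 6, .edge 1] [6] (.rel 22), .node 5140 7, .derive 8163 [.bwd 0, .edge 0, .fwd 11] [0] (.rel 13), .node 5142 1, .derive 8164 [.bwd 0, .edge 4, .fwd 17] [4] (.rel 18), .derive 8164 [.bwd 1, .edge 7, .fwd 16] [7] (.rel 24), .node 5145 1,
  .derive 8165 [.bwd 0, .edge 2, .edge 1, .edge 2, .fwd 94] [2] (.rel 14), .derive 8165 [.bwd 1, .edge 6, .fwd 22] [6] (.rel 22), .node 5149 4, .derive 8166 [.bwd 0, .edge 7, .fwd 1762] [7] (.rel 48), .node 5150 4, .derive 8167 [.bwd 0, .edge 7, .fwd 1752] [7] (.rel 48), .node 5151 1, .derive 8168 [.bwd 0, .edge 7, .fwd 1763] [7] (.rel 24),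
  .node 5169 4, .derive 8169 [.bwd 0, .edge 7, .fwd 1730] [7] (.rel 48), .node 5170 4, .derive 8170 [.bwd 0, .edge 1, .fwd 2] [1] (.rel 19), .derive 8170 [.bwd 1, .edge 7, .fwd 1723] [7] (.rel 48), .node 5171 4, .derive 8171 [.bwd 0, .edge 7, .fwd 1717] [7] (.rel 48), .node 5177 2,
  .derive 8172 [.bwd 0, .edge 1, .edge 2, .edge 1, .fwd 1053] [1] (.rel 15), .derive 8172 [.bwd 1, .edge 3, .fwd 2922, .edge 3, .fwd 1075] [3] (.rel 26), .node 5178 2, .derive 8173 [.bwd 0, .edge 1, .edge 2, .edge 1, .fwd 1064] [1] (.rel 15)]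
def ph9_p7_2 : List Aux := [
  .derive 8173 [.bwd 1, .edge 6, .fwd 4] [6] (.rel 32), .node 5181 4, .derive 8174 [.bwd 0, .edge 7, .fwd 1715] [7] (.rel 48), .node 5186 4, .derive 8175 [.bwd 0, .edge 1, .fwd 2] [1] (.rel 19), .node 5202 4, .derive 8176 [.bwd 0, .edge 7, .fwd 1706] [7] (.rel 48), .node 5208 4,
  .derive 8177 [.bwd 0, .edge 0, .fwd 2] [0] (.rel 7), .derive 8177 [.bwd 1, .edge 7, .fwd 1708] [7] (.rel 48), .node 5263 1, .derive 8178 [.bwd 0, .edge 7, .bwd 1670] [7] (.rel 24), .node 5266 1, .derive 8179 [.bwd 0, .edge 5, .edge 1, .edge 5, .fwd 2] [5] (.rel 20), .derive 8179 [.bwd 1, .edge 7, .bwd 1676] [7] (.rel 24), .node 5280 1,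
  .derive 8180 [.bwd 0, .edge 4, .edge 1] [4] (.rel 18), .node 5281 1, .derive 8181 [.bwd 0, .edge 2, .bwd 1714, .fwd 1713, .bwd 1606] [2] (.rel 14), .derive 8181 [.bwd 1, .edge 6, .fwd 3] [6] (.rel 22), .node 5295 5, .derive 8182 [.bwd 0, .edge 2, .fwd 1616] [2] (.rel 31), .node 5312 2, .derive 8183 [.bwd 0, .edge 4, .fwd 1599] [4] (.rel 28),
  .node 5316 6, .derive 8184 [.bwd 0, .edge 4, .bwd 1593] [4] (.rel 47), .node 5317 6, .derive 8185 [.bwd 0, .edge 0, .bwd 1585] [0] (.rel 11), .derive 8185 [.bwd 1, .edge 4, .bwd 1588] [4] (.rel 47), .node 5327 1, .derive 8186 [.bwd 0, .edge 5, .edge 1, .bwd 2660, .bwd 1273] [5] (.rel 20), .derive 7549 [.bwd 1276, .fwd 1275, .bwd 0] [7] (.rel 52),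
  .node 5327 7, .derive 8187 [.bwd 0, .edge 5, .fwd 1562] [5] (.rel 53), .node 5328 6, .derive 8188 [.bwd 0, .edge 5, .edge 6, .edge 5, .fwd 646] [5] (.rel 51), .node 5328 7, .derive 8189 [.bwd 0, .edge 5, .fwd 1565] [5] (.rel 53), .node 5333 6, .derive 8190 [.bwd 0, .edge 5, .edge 6, .edge 5, .fwd 574] [5] (.rel 51),
  .node 5334 2, .derive 8191 [.bwd 0, .edge 5, .fwd 587] [5] (.rel 30), .node 5334 6, .derive 8192 [.bwd 0, .edge 3, .fwd 4] [3] (.rel 41), .derive 8192 [.bwd 1, .edge 5, .edge 6, .edge 5, .fwd 582] [5] (.rel 51), .node 5334 7, .derive 8193 [.bwd 0, .edge 5, .fwd 591] [5] (.rel 53), .node 5336 3,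
  .node 5338 6, .node 5339 3, .derive 8196 [.bwd 0, .edge 5, .fwd 2] [5] (.rel 38), .node 5340 3, .node 5341 5, .derive 8198 [.bwd 0, .edge 2, .fwd 1577] [2] (.rel 31), .derive 8198 [.bwd 1, .edge 4, .edge 5] [4] (.rel 45), .derive 8198 [.bwd 2, .edge 7, .edge 5] [7] (.rel 52),
  .derive 5692 [.edge 2, .bwd 1249, .fwd 1250, .bwd 1582, .bwd 2] [3] (.rel 26), .node 5342 1, .derive 8199 [.bwd 0, .edge 2, .edge 1, .edge 2, .fwd 516] [2] (.rel 14), .node 5342 6, .derive 8200 [.bwd 0, .edge 2, .fwd 585] [2] (.rel 33), .node 5343 3, .node 5345 3, .derive 8202 [.bwd 0, .edge 5, .fwd 11] [5] (.rel 38),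
  .node 5353 6, .derive 8203 [.bwd 0, .edge 4, .fwd 16] [4] (.rel 47), .node 5358 3, .node 5359 3, .derive 8205 [.bwd 0, .edge 5, .fwd 1] [5] (.rel 38), .node 5363 3, .derive 8206 [.bwd 0, .edge 1, .fwd 2] [1] (.rel 17), .node 5364 3,
  .node 5364 6, .derive 8208 [.bwd 0, .edge 7, .bwd 3546, .bwd 3449, .bwd 1497] [7] (.rel 54), .node 5366 3, .node 5367 3, .derive 8210 [.bwd 0, .edge 5, .fwd 1] [5] (.rel 38), .node 5373 3, .derive 8211 [.bwd 0, .edge 0, .fwd 6] [0] (.rel 5), .node 5373 6,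
  .derive 8212 [.bwd 0, .edge 7, .bwd 2585, .bwd 2571, .bwd 1501] [7] (.rel 54), .node 5377 6, .derive 8213 [.bwd 0, .edge 7, .edge 6, .edge 7, .fwd 1828] [7] (.rel 54), .node 5379 3, .derive 8214 [.bwd 0, .edge 1, .fwd 9] [1] (.rel 17), .node 5380 6, .derive 8215 [.bwd 0, .bwd 1575, .fwd 1574] [4] (.rel 47), .derive 8215 [.bwd 1, .edge 7, .edge 6, .edge 7, .fwd 2630] [7] (.rel 54),
  .node 5381 3, .node 5382 1, .derive 8217 [.bwd 0, .edge 7, .fwd 1574] [7] (.rel 24), .node 5382 3, .derive 8218 [.bwd 0, .edge 5, .fwd 3] [5] (.rel 38), .node 5382 6, .derive 8219 [.bwd 0, .edge 4, .bwd 1482] [4] (.rel 47), .derive 8219 [.bwd 1, .edge 7, .edge 6, .edge 7, .fwd 2593] [7] (.rel 54),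
  .node 5383 1, .derive 8220 [.bwd 0, .bwd 1485, .bwd 1479] [6] (.rel 22), .derive 8220 [.bwd 1, .edge 7, .bwd 2691] [7] (.rel 24), .node 5383 3]
def ph9_p7_3 : List Aux := [
  .derive 8221 [.bwd 0, .edge 7, .edge 3, .edge 7, .fwd 30] [7] (.rel 42), .node 5394 3, .derive 8222 [.bwd 0, .edge 5, .fwd 2] [5] (.rel 38), .derive 8222 [.bwd 1, .edge 7, .edge 3, .edge 7, .fwd 31] [7] (.rel 42), .node 5397 3, .derive 8223 [.bwd 0, .edge 0, .fwd 13] [0] (.rel 5), .derive 8223 [.bwd 1, .fwd 3067, .fwd 39] [1] (.rel 17), .node 5397 6,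
  .derive 8224 [.bwd 0, .edge 7, .edge 6, .edge 7, .fwd 2602] [7] (.rel 54), .node 5398 3, .derive 8225 [.bwd 0, .edge 5, .fwd 5] [5] (.rel 38), .node 5417 3, .derive 8226 [.bwd 0, .edge 5, .bwd 1593] [5] (.rel 38), .derive 7626 [.bwd 1201, .bwd 1595, .bwd 0] [2] (.rel 31), .node 5419 2, .node 5420 2,
  .derive 8228 [.bwd 0, .edge 4, .fwd 120] [4] (.rel 28), .derive 8228 [.bwd 1, .edge 6, .fwd 2] [6] (.rel 32), .node 5427 1, .derive 8229 [.bwd 0, .edge 7, .bwd 1577] [7] (.rel 24), .node 5427 2, .derive 8230 [.bwd 0, .edge 7, .fwd 6] [7] (.rel 34), .node 5427 6, .node 5428 2,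
  .derive 8232 [.bwd 0, .edge 7, .fwd 125] [7] (.rel 34), .node 5428 6, .derive 8233 [.bwd 0, .edge 4, .fwd 3] [4] (.rel 47), .node 5430 1, .derive 8234 [.bwd 0, .edge 4, .bwd 1604] [4] (.rel 18), .derive 8234 [.bwd 1, .edge 7, .bwd 1607] [7] (.rel 24), .node 5431 4, .derive 8235 [.bwd 0, .edge 7, .fwd 1489] [7] (.rel 48),
  .node 5432 4, .derive 8236 [.bwd 0, .edge 5, .fwd 2] [5] (.rel 44), .derive 8236 [.bwd 1, .edge 7, .fwd 1490] [7] (.rel 48), .node 5435 4, .node 5436 3, .derive 8238 [.bwd 0, .edge 7, .fwd 3033, .edge 7, .fwd 181] [7] (.rel 42), .node 5436 4, .derive 8239 [.bwd 0, .edge 2, .fwd 1071] [2] (.rel 29),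
  .derive 8239 [.bwd 1, .edge 7, .fwd 4] [7] (.rel 48), .node 5436 6, .derive 8240 [.bwd 0, .edge 2, .fwd 1072] [2] (.rel 33), .node 5437 0, .derive 8241 [.bwd 0, .edge 5, .edge 0] [5] (.rel 8), .derive 8241 [.bwd 1, .edge 7, .bwd 893] [7] (.rel 12), .node 5437 3, .derive 8242 [.bwd 0, .edge 7, .bwd 3042, .edge 7, .fwd 216] [7] (.rel 42),
  .node 5437 4, .node 5438 4, .derive 8244 [.bwd 0, .edge 5, .fwd 14] [5] (.rel 44), .derive 8244 [.bwd 1, .edge 7, .fwd 2] [7] (.rel 48), .node 5439 1, .derive 8245 [.bwd 0, .edge 2, .edge 1, .edge 2, .fwd 798] [2] (.rel 14), .node 5440 1, .derive 8246 [.bwd 0, .edge 7, .fwd 2] [7] (.rel 24),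
  .node 5440 3, .derive 8247 [.bwd 0, .edge 0, .fwd 20] [0] (.rel 5), .derive 8247 [.bwd 1, .edge 7, .bwd 3237, .edge 7, .fwd 200] [7] (.rel 42), .node 5459 1, .derive 8248 [.bwd 0, .edge 0, .edge 1, .edge 0, .fwd 1643] [0] (.rel 1), .derive 8248 [.bwd 1, .edge 3, .edge 1] [3] (.rel 16), .node 5460 1, .derive 8249 [.bwd 0, .edge 7, .fwd 3] [7] (.rel 24),
  .node 5460 6, .derive 8250 [.bwd 0, .edge 7, .edge 6, .bwd 1417, .fwd 1418] [7] (.rel 54), .node 5461 2, .node 5462 2, .derive 8252 [.bwd 0, .edge 4, .fwd 1] [4] (.rel 28), .node 5472 3, .derive 8253 [.bwd 0, .edge 0, .fwd 58] [0] (.rel 5), .derive 8253 [.bwd 1, .edge 5, .bwd 9] [5] (.rel 38),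
  .node 5473 7, .derive 8254 [.bwd 0, .edge 5, .edge 7] [5] (.rel 53), .node 5474 7, .node 5475 7, .derive 8256 [.bwd 0, .edge 4, .fwd 1] [4] (.rel 49), .node 5483 6, .derive 8257 [.bwd 0, .edge 7, .edge 6, .edge 7, .bwd 1289] [7] (.rel 54), .node 5517 2,
  .derive 8258 [.bwd 0, .edge 6, .edge 2] [6] (.rel 32), .node 5517 7, .derive 8259 [.bwd 0, .edge 4, .fwd 1285] [4] (.rel 49), .node 5533 3, .node 5538 1, .derive 8261 [.bwd 0, .edge 3, .edge 1] [3] (.rel 16), .node 5545 2, .derive 8262 [.bwd 0, .edge 0, .fwd 7] [0] (.rel 3),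
  .derive 8262 [.bwd 1, .edge 6, .edge 2] [6] (.rel 32), .node 5545 3, .derive 8263 [.bwd 0, .edge 0, .bwd 1316] [0] (.rel 5), .derive 8263 [.bwd 1, .edge 6, .bwd 5] [6] (.rel 40), .node 5545 5, .node 5545 7, .node 5548 2, .derive 8266 [.bwd 0, .edge 0, .fwd 1302] [0] (.rel 3),
  .derive 8266 [.bwd 1, .edge 6, .edge 2] [6] (.rel 32), .node 5548 5, .derive 8267 [.bwd 0, .edge 0, .fwd 1302] [0] (.rel 9), .derive 8267 [.bwd 1, .edge 4, .fwd 6] [4] (.rel 45)]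
def ph9_p7_4 : List Aux := [
  .node 5548 7, .derive 8268 [.bwd 0, .edge 4, .fwd 7] [4] (.rel 49), .node 5559 7, .derive 8269 [.bwd 0, .edge 5, .edge 7] [5] (.rel 53), .node 5563 7, .derive 8270 [.bwd 0, .edge 5, .edge 7] [5] (.rel 53), .node 5566 7, .derive 8271 [.bwd 0, .edge 2, .edge 7] [2] (.rel 35),
  .node 5569 7, .derive 8272 [.bwd 0, .edge 2, .edge 7] [2] (.rel 35), .node 5570 6, .node 5571 6, .node 5575 6, .node 5576 6, .node 5578 6, .derive 8277 [.bwd 0, .edge 7, .edge 6, .edge 7, .fwd 4] [7] (.rel 54),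
  .node 5579 6, .node 5580 3, .node 5580 6, .derive 8280 [.bwd 0, .edge 4, .fwd 2] [4] (.rel 47), .node 5581 3, .node 5581 6, .node 5582 3, .derive 8283 [.bwd 0, .edge 0, .fwd 2] [0] (.rel 5),
  .node 5582 6, .node 5583 6, .derive 8285 [.bwd 0, .edge 4, .fwd 1] [4] (.rel 47), .node 5584 3, .derive 8286 [.bwd 0, .edge 7, .edge 3, .edge 7, .fwd 44] [7] (.rel 42), .node 5584 6, .node 5585 3, .derive 8288 [.bwd 0, .edge 1, .edge 3] [1] (.rel 17),
  .derive 8288 [.bwd 1, .edge 7, .edge 3, .edge 7, .bwd 1412] [7] (.rel 42), .node 5585 6, .derive 8289 [.bwd 0, .edge 7, .edge 6, .edge 7, .fwd 21] [7] (.rel 54), .node 5586 3, .node 5586 6, .derive 8291 [.bwd 0, .edge 7, .edge 6, .edge 7, .fwd 23] [7] (.rel 54), .node 5588 3, .node 5592 2,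
  .node 5593 2, .derive 8294 [.bwd 0, .edge 7, .fwd 1] [7] (.rel 34), .node 5594 2, .derive 8295 [.bwd 0, .fwd 3222, .edge 2, .edge 3, .fwd 76] [3] (.rel 26), .derive 8295 [.bwd 1, .edge 6, .fwd 3] [6] (.rel 32), .node 5594 4, .derive 8296 [.bwd 0, .fwd 3225, .edge 4, .bwd 3173, .edge 4] [3] (.rel 37), .derive 8296 [.bwd 1, .bwd 3267, .fwd 1] [5] (.rel 44),
  .derive 8296 [.bwd 2, .edge 6, .edge 4] [6] (.rel 46), .derive 8252 [.bwd 81, .edge 1, .edge 0, .edge 6, .edge 5, .edge 4, .edge 3, .fwd 3174, .edge 1, .edge 0, .edge 6, .bwd 1715, .fwd 1716, .edge 3, .edge 2, .edge 1, .edge 0, .edge 6, .edge 5, .edge 4, .edge 3, .fwd 3271, .bwd 2008, .fwd 2009, .bwd 1702, .bwd 1700, .bwd 1701, .edge 3, .edge 2, .bwd 3222, .edge 0, .edge 6, .edge 5, .edge 4, .edge 3, .edge 2, .edge 1, .edge 0, .edge 6, .edge 5, .edge 4, .edge 3, .edge 2, .edge 1, .edge 0, .edge 6, .edge 5, .fwd 1956, .fwd 1955, .fwd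 2003, .fwd 2005, .edge 0, .bwd 0, .fwd 1, .bwd 3, .fwd 3228, .edge 2, .fwd 89, .fwd 88, .fwd 1729, .edge 5, .edge 4, .edge 3] [] (.rel 67), .derive 8252 [.fwd 0] [] (.free), .derive 5173 [.bwd 0, .fwd 82] [4] (.free), .derive 5422 [.edge 4, .fwd 0] [] (.free), .derive 8251 [.bwd 0] [] (.free), .derive 5422 [.bwd 0, .bwd 10] [3] (.free), .derive 5420 [.edge 3, .fwd 0] [] (.free),
  .derive 8295 [.bwd 0] [] (.free), .derive 5420 [.bwd 0, .fwd 12] [6] (.free), .derive 5419 [.edge 6, .fwd 0] [] (.free), .derive 8294 [.bwd 0] [] (.free), .derive 5419 [.bwd 0, .fwd 18] [7] (.free), .derive 5427 [.edge 7, .fwd 0] [] (.free), .derive 8293 [.bwd 0] [] (.free), .derive 5427 [.bwd 0, .bwd 23] [2] (.free),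
  .derive 8230 [.bwd 143, .fwd 0] [] (.free), .derive 8230 [.fwd 0] [] (.free), .derive 5592 [.bwd 0, .fwd 144] [7] (.free), .derive 5593 [.edge 7, .fwd 0] [] (.free), .derive 8227 [.bwd 0] [] (.free), .derive 5593 [.bwd 0, .bwd 151] [6] (.free), .derive 5594 [.edge 6, .fwd 0] [] (.free), .derive 8228 [.bwd 0] [] (.free),
  .derive 5594 [.bwd 0, .fwd 155] [4] (.free), .derive 8296 [.bwd 27, .fwd 0] [] (.free), .derive 8296 [.fwd 0] [] (.free), .derive 8172 [.bwd 0, .fwd 28] [3] (.free), .derive 7633 [.bwd 278, .fwd 0] [] (.free), .derive 8172 [.bwd 2, .fwd 28] [6] (.free), .derive 8173 [.fwd 277, .fwd 0] [] (.free), .derive 8173 [.fwd 0] [] (.free),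
  .derive 5858 [.bwd 0, .fwd 280] [1] (.free), .derive 5858 [.bwd 1, .bwd 156] [7] (.free), .derive 5859 [.edge 7, .fwd 0] [] (.free), .derive 8232 [.bwd 0] [] (.free), .derive 7633 [.fwd 7] [] (.free), .derive 5717 [.bwd 0, .fwd 1362] [1] (.free), .derive 5716 [.edge 1, .fwd 0] [] (.free), .derive 7594 [.bwd 0] [] (.free),
  .derive 5716 [.bwd 0, .fwd 1441] [6] (.free), .derive 5715 [.edge 6, .fwd 0] [] (.free), .derive 7593 [.bwd 0] [] (.free), .derive 5715 [.bwd 0, .bwd 1375] [1] (.free), .derive 7578 [.fwd 1477, .bwd 20, .fwd 175, .fwd 295] [4] (.rel 18), .derive 7645 [.bwd 1348, .fwd 1350, .bwd 0] [2] (.rel 29), .derive 7639 [.bwd 1350, .bwd 1, .bwd 1473] [4] (.rel 47), .derive 7581 [.bwd 0, .bwd 1360, .fwd 1359] [2] (.rel 29),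
  .derive 7650 [.fwd 1338, .bwd 0, .fwd 1476, .bwd 3230, .bwd 1331] [2] (.rel 27), .derive 7632 [.bwd 1333, .bwd 0, .fwd 1340, .bwd 1455, .fwd 1456, .edge 2] [] (.rel 14), .derive 7632 [.fwd 0] [] (.free), .derive 5836 [.bwd 0, .bwd 1335] [1] (.free)]
def ph9_p7 : List Aux :=
  ((ph9_p7_0 ++ ph9_p7_1) ++ (ph9_p7_2 ++ (ph9_p7_3 ++ ph9_p7_4)))

theorem ph9_p7_ok : stHas (runList (auxStep' P) ph9_p7 (mkSt 8078 mask10 ph9_eq7)) 8297 mask10 ph9_eq8 = true := by decide +kernel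

end Cfsg.Agent.CosetData.ChainU62
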