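import Cfsg.Agent.Lib.Compute.CosetData.ChainU62Aux

/-! Coset enumeration certificate data (S2091 chain). -/

set_option autoImplicit false
set_option maxRecDepth 100000
set_option Elab.async false

namespace Cfsg.Agent.CosetData.ChainU62

open Cfsg.Agent.CosetCert

def ph9_p8_0 : List Aux := [
  .derive 5836 [.bwd 1, .fwd 1379] [6] (.free), .derive 7648 [.bwd 1335, .bwd 4, .bwd 1329] [2] (.rel 33), .derive 7654 [.bwd 1335, .fwd 1331, .bwd 0] [4] (.rel 28), .derive 7628 [.bwd 1351, .bwd 0, .fwd 1335] [4] (.rel 18), .derive 7638 [.fwd 1370, .bwd 1355, .bwd 1351, .bwd 1, .fwd 1335] [4] (.rel 36), .derive 7579 [.bwd 1482, .bwd 0, .bwd 1363] [4] (.rel 47), .derive 7645 [.bwd 1361, .fwd 1365, .bwd 0] [0] (.rel 7), .derive 7643 [.bwd 1, .bwd 1491, .fwd 1489] [2] (.rel 29),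
  .derive 7522 [.bwd 1491, .bwd 1, .fwd 1362, .fwd 2016, .bwd 1398] [0] (.rel 1), .derive 7634 [.fwd 1383, .bwd 0, .fwd 1607, .edge 0] [] (.rel 5), .derive 7634 [.fwd 0] [] (.free), .derive 5835 [.bwd 0, .bwd 1386] [4] (.free), .derive 5835 [.bwd 1, .fwd 1385] [6] (.free), .derive 7622 [.bwd 1402, .bwd 4, .bwd 1608] [0] (.rel 11), .derive 7523 [.bwd 1611, .fwd 1610, .bwd 0] [2] (.rel 2), .derive 7635 [.bwd 1387, .bwd 3, .edge 7, .edge 4] [] (.rel 49),
  .derive 7635 [.fwd 0] [] (.free), .derive 5833 [.bwd 0, .fwd 1388] [1] (.free), .derive 5621 [.bwd 1490, .bwd 1474, .bwd 0, .edge 2, .edge 1] [2] (.rel 14), .derive 5729 [.edge 5, .bwd 0, .edge 5] [2] (.rel 31), .derive 5712 [.edge 4, .bwd 0, .edge 4] [2] (.rel 29), .derive 5727 [.edge 0, .bwd 0, .edge 0] [2] (.rel 2), .derive 5724 [.edge 7, .bwd 1, .edge 7] [2] (.rel 35), .derive 5714 [.edge 0, .bwd 0, .edge 0] [2] (.rel 2),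
  .derive 5719 [.edge 5, .bwd 2, .edge 5] [2] (.rel 31), .node 5596 3, .node 5596 6, .derive 8298 [.bwd 0, .edge 4, .fwd 97] [4] (.rel 47), .node 5597 3, .derive 8299 [.bwd 0, .edge 0, .fwd 93] [0] (.rel 5), .node 5597 6, .derive 8300 [.bwd 0, .edge 7, .edge 6, .edge 7, .fwd 119] [7] (.rel 54),
  .node 5598 6, .derive 8301 [.bwd 0, .edge 4, .fwd 111] [4] (.rel 47), .node 5604 3, .node 5605 3, .derive 8303 [.bwd 0, .edge 2, .edge 3, .bwd 3374, .fwd 1729] [2] (.rel 27), .derive 8303 [.bwd 1, .edge 6, .fwd 2] [6] (.rel 40), .node 5615 3, .derive 8304 [.bwd 0, .edge 7, .edge 3, .edge 7, .fwd 10] [7] (.rel 42),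
  .node 5616 1, .derive 8305 [.bwd 0, .edge 7, .fwd 156] [7] (.rel 24), .node 5616 3, .derive 8306 [.bwd 0, .edge 7, .edge 3, .edge 7, .fwd 107] [7] (.rel 42), .node 5617 3, .derive 8307 [.bwd 0, .edge 5, .fwd 2] [5] (.rel 38), .derive 8307 [.bwd 1, .edge 7, .edge 3, .edge 7, .fwd 20] [7] (.rel 42), .node 5620 1,
  .derive 8308 [.bwd 0, .edge 7, .bwd 1492] [7] (.rel 24), .node 5623 1, .derive 8309 [.bwd 0, .edge 3, .fwd 2] [3] (.rel 16), .derive 8309 [.bwd 1, .edge 4, .fwd 10] [4] (.rel 18), .derive 8309 [.bwd 2, .edge 7, .bwd 1476] [7] (.rel 24), .node 5624 3, .derive 8310 [.bwd 0, .edge 5, .fwd 15] [5] (.rel 38), .derive 8310 [.bwd 1, .edge 7, .edge 3, .edge 7, .fwd 137] [7] (.rel 42),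
  .node 5634 1, .derive 8311 [.bwd 0, .edge 4, .bwd 1471] [4] (.rel 18), .derive 8311 [.bwd 1, .edge 7, .bwd 1479] [7] (.rel 24), .node 5663 3, .derive 8312 [.bwd 0, .edge 0, .bwd 1575] [0] (.rel 5), .node 5664 3, .derive 8313 [.bwd 0, .edge 4, .bwd 1555, .fwd 1554, .fwd 1562] [4] (.rel 36), .derive 8313 [.bwd 1, .edge 6, .fwd 3] [6] (.rel 40),
  .node 5684 3, .derive 8314 [.bwd 0, .edge 4, .bwd 3277, .edge 4, .fwd 317] [4] (.rel 36), .node 5685 1, .node 5685 3, .derive 8316 [.bwd 0, .edge 0, .fwd 3] [0] (.rel 5), .derive 8316 [.bwd 1, .edge 4, .fwd 312, .fwd 314, .fwd 306] [4] (.rel 36), .node 5700 1, .derive 8317 [.bwd 0, .edge 2, .edge 1, .edge 2, .edge 1] [2] (.rel 14),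
  .derive 8317 [.bwd 1, .edge 7, .fwd 5] [7] (.rel 24), .node 5700 5, .node 5701 3, .derive 8319 [.bwd 0, .edge 7, .fwd 318, .fwd 319, .fwd 313] [7] (.rel 42), .node 5701 5, .derive 8320 [.bwd 0, .edge 4, .fwd 3] [4] (.rel 45), .node 5713 3, .derive 8321 [.bwd 0, .edge 4, .edge 3, .edge 4, .fwd 34] [4] (.rel 36),
  .node 5714 3, .derive 8322 [.bwd 0, .fwd 57, .bwd 1568, .bwd 1449, .bwd 1443] [2] (.rel 27), .derive 8322 [.bwd 1, .edge 4, .edge 3, .edge 4, .fwd 198] [4] (.rel 36), .node 5719 1, .derive 8323 [.bwd 0, .fwd 59, .bwd 1554, .bwd 1552, .bwd 1465] [2] (.rel 14), .derive 8323 [.bwd 1, .edge 7, .fwd 93] [7] (.rel 24), .node 5719 3, .derive 8324 [.bwd 0, .edge 5, .fwd 8] [5] (.rel 38),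
  .node 5720 3, .derive 8325 [.bwd 0, .edge 5, .bwd 1564] [5] (.rel 38), .node 5739 1, .derive 8326 [.bwd 0, .edge 7, .bwd 1206] [7] (.rel 24), .node 5740 1, .derive 8327 [.bwd 0, .edge 4, .fwd 2] [4] (.rel 18), .node 5747 7, .node 5748 1,
  .derive 8329 [.bwd 0, .edge 5, .edge 1, .edge 5, .fwd 708] [5] (.rel 20), .node 5748 6, .node 5748 7, .derive 8331 [.bwd 0, .edge 4, .fwd 4] [4] (.rel 49)]
def ph9_p8_1 : List Aux := [
  .node 5749 1, .derive 8332 [.bwd 0, .edge 3, .fwd 5] [3] (.rel 16), .derive 8332 [.bwd 1, .edge 7, .fwd 9] [7] (.rel 24), .node 5749 6, .derive 8333 [.bwd 0, .edge 3, .fwd 6] [3] (.rel 41), .node 5754 3, .node 5754 6, .node 5755 3,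
  .derive 8336 [.bwd 0, .edge 5, .fwd 2] [5] (.rel 38), .node 5756 3, .derive 8337 [.bwd 0, .edge 6, .fwd 2] [6] (.rel 40), .node 5757 3, .node 5765 3, .derive 8339 [.bwd 0, .edge 0, .fwd 7] [0] (.rel 5), .node 5765 6, .node 5766 3,
  .derive 8341 [.bwd 0, .edge 5, .fwd 3] [5] (.rel 38), .node 5767 3, .derive 8342 [.bwd 0, .edge 6, .fwd 2] [6] (.rel 40), .node 5775 1, .derive 8343 [.bwd 0, .edge 5, .edge 1, .edge 5, .bwd 1534] [5] (.rel 20), .derive 8343 [.bwd 1, .edge 7, .bwd 1538] [7] (.rel 24), .node 5776 1, .derive 8344 [.bwd 0, .edge 5, .edge 1, .edge 5, .fwd 66] [5] (.rel 20),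
  .node 5776 6, .node 5777 3, .derive 8346 [.bwd 0, .edge 5, .fwd 14] [5] (.rel 38), .node 5777 6, .derive 8347 [.bwd 0, .edge 2, .fwd 3] [2] (.rel 33), .node 5778 3, .derive 8348 [.bwd 0, .edge 5, .fwd 20] [5] (.rel 38), .node 5778 6,
  .derive 8349 [.bwd 0, .edge 5, .edge 6, .edge 5, .fwd 25] [5] (.rel 51), .node 5792 3, .derive 8350 [.bwd 0, .edge 1, .edge 3] [1] (.rel 17), .derive 8350 [.bwd 1, .edge 5, .fwd 196] [5] (.rel 38), .node 5795 6, .derive 8351 [.bwd 0, .edge 0, .bwd 3361] [0] (.rel 11), .node 5801 3, .derive 8352 [.bwd 0, .edge 4, .fwd 3422, .edge 4, .bwd 1555] [4] (.rel 36),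
  .derive 8352 [.bwd 1, .edge 5, .bwd 1560] [5] (.rel 38), .derive 8344 [.fwd 17, .fwd 82, .bwd 0] [7] (.rel 52), .node 5801 6, .derive 8353 [.bwd 0, .edge 4, .bwd 3367] [4] (.rel 47), .node 5802 6, .derive 8354 [.bwd 0, .edge 1, .fwd 2] [1] (.rel 23), .node 5803 6, .derive 8355 [.bwd 0, .edge 2, .fwd 15] [2] (.rel 33),
  .derive 8355 [.bwd 1, .edge 3, .fwd 3] [3] (.rel 41), .derive 8355 [.bwd 2, .edge 5, .edge 6, .edge 5, .fwd 45] [5] (.rel 51), .node 5812 3, .derive 8356 [.bwd 0, .edge 4, .fwd 3447, .edge 4, .fwd 1214] [4] (.rel 36), .derive 8356 [.bwd 1, .edge 5, .fwd 34] [5] (.rel 38), .node 5812 6, .derive 8357 [.bwd 0, .edge 4, .bwd 3452] [4] (.rel 47), .derive 8357 [.bwd 1, .edge 5, .edge 6, .edge 5, .fwd 40] [5] (.rel 51),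
  .node 5813 6, .derive 8358 [.bwd 0, .edge 4, .fwd 29] [4] (.rel 47), .node 5818 1, .derive 8359 [.bwd 0, .edge 7, .edge 1] [7] (.rel 24), .node 5818 3, .derive 8360 [.bwd 0, .edge 2, .edge 3, .edge 2, .fwd 31] [2] (.rel 27), .node 5818 6, .node 5819 3,
  .derive 8362 [.bwd 0, .edge 5, .fwd 3] [5] (.rel 38), .node 5828 1, .derive 8363 [.bwd 0, .edge 4, .fwd 7] [4] (.rel 18), .derive 8363 [.bwd 1, .edge 7, .edge 1] [7] (.rel 24), .node 5828 6, .derive 8364 [.bwd 0, .edge 4, .fwd 6] [4] (.rel 47), .node 5832 1, .derive 8365 [.bwd 0, .edge 7, .fwd 171] [7] (.rel 24),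
  .derive 5910 [.edge 7, .edge 3, .edge 7, .bwd 1507, .bwd 0] [3] (.rel 43), .node 5838 6, .node 5839 1, .derive 8367 [.bwd 0, .edge 2, .edge 1, .edge 2, .edge 1] [2] (.rel 14), .node 5840 1, .derive 8368 [.bwd 0, .edge 2, .edge 1, .edge 2, .edge 1] [2] (.rel 14), .node 5841 1, .derive 8369 [.bwd 0, .edge 7, .fwd 2] [7] (.rel 24),
  .node 5841 6, .node 5844 6, .node 5847 3, .node 5847 6, .derive 8373 [.bwd 0, .edge 2, .fwd 47] [2] (.rel 33), .node 5848 3, .derive 8374 [.bwd 0, .edge 0, .bwd 1757] [0] (.rel 5), .derive 8374 [.bwd 1, .edge 5, .fwd 4] [5] (.rel 38),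
  .node 5849 6, .derive 8375 [.bwd 0, .edge 4, .fwd 7] [4] (.rel 47), .node 5850 6, .derive 8376 [.bwd 0, .edge 4, .fwd 7] [4] (.rel 47), .node 5851 1, .derive 8377 [.bwd 0, .edge 2, .edge 1, .edge 2, .fwd 27] [2] (.rel 14), .derive 8377 [.bwd 1, .edge 4, .fwd 15] [4] (.rel 18), .derive 8377 [.bwd 2, .edge 7, .fwd 20] [7] (.rel 24),
  .node 5851 6, .derive 8378 [.bwd 0, .edge 2, .bwd 3421] [2] (.rel 33), .derive 8378 [.bwd 1, .edge 4, .fwd 17] [4] (.rel 47), .node 5852 6]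
def ph9_p8_2 : List Aux := [
  .derive 8379 [.bwd 0, .edge 4, .fwd 26] [4] (.rel 47), .node 5854 3, .derive 8380 [.bwd 0, .edge 4, .edge 3, .edge 4, .fwd 263] [4] (.rel 36), .node 5855 3, .derive 8381 [.bwd 0, .edge 5, .fwd 2] [5] (.rel 38), .node 5859 1, .derive 8382 [.bwd 0, .edge 4, .bwd 274] [4] (.rel 18), .derive 8382 [.bwd 1, .edge 7, .fwd 226] [7] (.rel 24),
  .node 5860 3, .derive 8383 [.bwd 0, .edge 4, .bwd 3490, .edge 4, .bwd 1645] [4] (.rel 36), .node 5876 3, .node 5900 3, .derive 8385 [.bwd 0, .edge 5, .bwd 1536] [5] (.rel 38), .derive 8385 [.bwd 1, .edge 7, .edge 3, .edge 7, .bwd 1539] [7] (.rel 42), .node 5911 3, .derive 8386 [.bwd 0, .edge 5, .fwd 42] [5] (.rel 38),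
  .derive 8386 [.bwd 1, .edge 7, .edge 3, .edge 7, .fwd 5] [7] (.rel 42), .node 5915 4, .derive 8387 [.bwd 0, .edge 7, .fwd 1529] [7] (.rel 48), .node 5916 4, .derive 8388 [.bwd 0, .edge 7, .fwd 1275] [7] (.rel 48), .node 5917 4, .derive 8389 [.bwd 0, .edge 2, .fwd 2] [2] (.rel 29), .derive 8389 [.bwd 1, .edge 7, .fwd 1220] [7] (.rel 48),
  .node 5926 5, .derive 8390 [.bwd 0, .fwd 3449, .edge 5, .edge 6, .fwd 1629] [6] (.rel 50), .node 5926 7, .node 5927 7, .node 5928 7, .derive 8393 [.bwd 0, .edge 5, .fwd 1] [5] (.rel 53), .node 5929 7, .derive 8394 [.bwd 0, .edge 2, .fwd 2] [2] (.rel 35),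
  .node 5966 4, .node 5967 0, .derive 8396 [.bwd 0, .edge 3, .bwd 1011] [3] (.rel 4), .node 5968 4, .node 5968 6, .derive 8398 [.bwd 0, .edge 3, .fwd 932] [3] (.rel 41), .node 5968 7, .derive 8399 [.bwd 0, .edge 2, .edge 7] [2] (.rel 35),
  .node 5969 4, .derive 8400 [.bwd 0, .edge 0, .fwd 5] [0] (.rel 7), .node 5969 6, .derive 8401 [.bwd 0, .edge 3, .fwd 900] [3] (.rel 41), .node 5969 7, .derive 8402 [.bwd 0, .edge 0, .fwd 6] [0] (.rel 13), .node 5970 4, .derive 8403 [.bwd 0, .edge 5, .fwd 6] [5] (.rel 44),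
  .node 5971 4, .derive 8404 [.bwd 0, .edge 5, .fwd 13] [5] (.rel 44), .node 5972 4, .derive 8405 [.bwd 0, .edge 0, .fwd 18] [0] (.rel 7), .node 6072 5, .node 6073 5, .derive 8407 [.bwd 0, .edge 4, .fwd 1] [4] (.rel 45), .node 6074 3,
  .derive 8408 [.bwd 0, .edge 1, .edge 3] [1] (.rel 17), .node 6074 5, .derive 8409 [.bwd 0, .edge 7, .fwd 4] [7] (.rel 52), .node 6080 4, .node 6080 7, .node 6081 4, .derive 8412 [.bwd 0, .edge 5, .fwd 2] [5] (.rel 44), .node 6081 6,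
  .derive 8413 [.bwd 0, .edge 3, .bwd 881] [3] (.rel 41), .node 6082 4, .node 6083 4, .derive 8415 [.bwd 0, .edge 2, .fwd 7] [2] (.rel 29), .derive 8415 [.bwd 1, .edge 5, .fwd 2] [5] (.rel 44), .node 6083 7, .derive 8416 [.bwd 0, .edge 2, .fwd 9] [2] (.rel 35), .node 6084 4,
  .node 6085 4, .derive 8418 [.bwd 0, .edge 5, .fwd 1] [5] (.rel 44), .node 6086 6, .derive 8419 [.bwd 0, .edge 3, .fwd 717] [3] (.rel 41), .node 6087 4, .derive 8420 [.bwd 0, .edge 0, .fwd 17] [0] (.rel 7), .derive 8420 [.bwd 1, .edge 2, .fwd 6] [2] (.rel 29), .node 6095 3,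
  .derive 8421 [.bwd 0, .edge 1, .fwd 696] [1] (.rel 17), .node 6095 5, .node 6097 2, .derive 8423 [.bwd 0, .bwd 696, .bwd 602] [7] (.rel 34), .node 6098 5, .derive 8424 [.bwd 0, .edge 2, .fwd 3] [2] (.rel 31), .node 6147 3, .derive 8425 [.bwd 0, .edge 1, .fwd 261] [1] (.rel 17),
  .node 6174 3, .derive 8426 [.bwd 0, .edge 6, .fwd 214] [6] (.rel 40), .node 6184 3, .derive 8427 [.bwd 0, .edge 6, .fwd 179] [6] (.rel 40), .node 6190 2, .node 6191 2, .derive 8429 [.bwd 0, .edge 7, .fwd 1] [7] (.rel 34), .node 6192 2,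
  .node 6201 1, .derive 8431 [.bwd 0, .edge 7, .bwd 162] [7] (.rel 24), .node 6201 2, .derive 8432 [.bwd 0, .edge 5, .fwd 6] [5] (.rel 30)]
def ph9_p8_3 : List Aux := [
  .derive 8432 [.bwd 1, .edge 7, .fwd 4] [7] (.rel 34), .node 6212 0, .node 6213 5, .derive 8434 [.bwd 0, .edge 3, .edge 5] [3] (.rel 39), .node 6214 5, .derive 8435 [.bwd 0, .edge 7, .fwd 2] [7] (.rel 52), .node 6216 0, .derive 8436 [.bwd 0, .edge 4, .fwd 5] [4] (.rel 6),
  .node 6242 7, .derive 8437 [.bwd 0, .edge 0, .edge 7] [0] (.rel 13), .node 6243 0, .derive 8438 [.bwd 0, .edge 3, .fwd 9] [3] (.rel 4), .node 6243 2, .node 6243 7, .derive 8440 [.bwd 0, .edge 1, .fwd 5] [1] (.rel 25), .derive 8438 [.fwd 3, .bwd 7, .bwd 8, .edge 1, .edge 6, .edge 7, .edge 2, .bwd 1765, .fwd 1764, .bwd 1767, .edge 1, .edge 6, .edge 7, .edge 2, .bwd 4091, .fwd 4090, .bwd 4097, .edge 1, .edge 6, .edge 7, .edge 2, .edge 3, .edge 4, .edge 0, .edge 1, .edge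 6, .edge 7, .edge 2, .edge 3, .edge 4, .edge 0, .edge 1, .edge 6, .edge 7, .edge 2, .edge 3, .edge 4, .edge 0, .edge 1, .edge 6, .edge 7, .edge 2, .edge 3, .fwd 4081, .bwd 4069, .fwd 4068, .edge 6, .edge 7, .edge 2, .edge 3, .edge 4, .edge 0, .edge 1, .edge 6, .edge 7, .edge 2, .edge 3, .fwd 3618, .edge 0, .edge 1, .edge 6, .fwd 1] [2] (.rel 104),
  .derive 8439 [.bwd 3, .fwd 2, .bwd 0] [7] (.rel 34), .node 6258 7, .derive 8441 [.bwd 0, .edge 6, .edge 7, .bwd 3542, .fwd 91] [6] (.rel 55), .node 6259 7, .node 6260 7, .derive 8443 [.bwd 0, .edge 1, .fwd 1] [1] (.rel 25), .node 6261 7, .node 6262 7,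
  .derive 8445 [.bwd 0, .edge 4, .fwd 1] [4] (.rel 49), .node 6263 7, .node 6264 7, .node 6265 7, .node 6266 7, .derive 8449 [.bwd 0, .edge 1, .fwd 1] [1] (.rel 25), .node 6267 7, .derive 8450 [.bwd 0, .edge 0, .fwd 2] [0] (.rel 13),
  .node 6272 3, .derive 8451 [.bwd 0, .edge 6, .fwd 129] [6] (.rel 40), .node 6274 7, .derive 8452 [.bwd 0, .edge 4, .fwd 9] [4] (.rel 49), .node 6275 7, .derive 8453 [.bwd 0, .edge 0, .fwd 10] [0] (.rel 13), .node 6277 7, .node 6278 7,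
  .derive 8455 [.bwd 0, .edge 4, .fwd 1] [4] (.rel 49), .node 6280 2, .node 6281 2, .derive 8457 [.bwd 0, .edge 6, .fwd 1] [6] (.rel 32), .node 6281 7, .node 6284 7, .derive 8459 [.bwd 0, .edge 0, .fwd 1] [0] (.rel 13), .node 6287 2,
  .derive 8460 [.bwd 0, .edge 3, .edge 2, .edge 3, .fwd 54] [3] (.rel 26), .derive 8460 [.bwd 1, .edge 5, .fwd 7] [5] (.rel 30), .node 6289 0, .node 6292 0, .derive 8462 [.bwd 0, .edge 3, .fwd 1] [3] (.rel 4), .node 6294 0, .derive 8463 [.bwd 0, .bwd 114, .bwd 108] [2] (.rel 2), .derive 8463 [.bwd 1, .edge 7, .fwd 121] [7] (.rel 12),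
  .node 6334 3, .derive 8464 [.bwd 0, .edge 7, .edge 3, .edge 7, .fwd 66] [7] (.rel 42), .node 6496 6, .derive 8465 [.bwd 0, .bwd 4357, .fwd 0] [2] (.rel 33), .derive 8465 [.bwd 1, .bwd 4359, .edge 6, .edge 5, .fwd 4347] [5] (.rel 51), .node 6497 6, .derive 8466 [.bwd 0, .bwd 4359, .edge 6, .edge 5, .fwd 4335] [5] (.rel 51), .node 6498 5,
  .node 6499 6, .derive 8468 [.bwd 0, .bwd 4359, .edge 6, .edge 5, .fwd 4339] [5] (.rel 51), .node 6500 6, .node 6501 5, .node 6502 6, .derive 8471 [.bwd 0, .bwd 4359, .edge 6, .edge 5, .fwd 4345] [5] (.rel 51), .node 6503 6, .derive 8472 [.bwd 0, .fwd 4359, .fwd 4] [4] (.rel 47),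
  .node 6504 7, .derive 8473 [.bwd 0, .fwd 4359, .bwd 4309] [1] (.rel 25), .derive 8473 [.bwd 1, .bwd 4361, .edge 7, .edge 6, .bwd 4314] [6] (.rel 55), .node 6505 6, .derive 8474 [.bwd 0, .bwd 4361, .fwd 4359] [1] (.rel 23), .node 6506 7, .derive 8475 [.bwd 0, .bwd 4361, .edge 7, .edge 6, .fwd 4279] [6] (.rel 55), .node 6507 6,
  .node 6508 7, .derive 8477 [.bwd 0, .bwd 4361, .edge 7, .edge 6, .fwd 4286] [6] (.rel 55), .node 6509 6, .derive 8478 [.bwd 0, .fwd 4361, .fwd 3] [3] (.rel 41), .node 6510 7, .derive 8479 [.bwd 0, .bwd 4361, .edge 7, .edge 6, .fwd 4258] [6] (.rel 55), .node 6511 7, .derive 8480 [.bwd 0, .bwd 4361, .edge 7, .edge 6, .fwd 4263] [6] (.rel 55),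
  .node 6512 7, .derive 8481 [.bwd 0, .bwd 4362, .edge 7, .edge 6, .bwd 4323] [6] (.rel 55), .node 6513 5, .derive 8482 [.bwd 0, .fwd 4362, .fwd 27] [7] (.rel 52), .node 6514 6, .node 6516 5, .derive 8484 [.bwd 0, .fwd 4360, .fwd 26] [7] (.rel 52), .node 6517 6,
  .derive 8485 [.bwd 0, .fwd 4360, .fwd 3] [0] (.rel 11), .node 6519 6, .derive 8486 [.bwd 0, .bwd 4358, .fwd 4356] [1] (.rel 23), .node 6520 5]
def ph9_p8_4 : List Aux := [
  .derive 8487 [.bwd 0, .fwd 4357, .bwd 30] [2] (.rel 31), .derive 8487 [.bwd 1, .bwd 4359, .edge 5, .bwd 4392, .fwd 33] [6] (.rel 50), .node 6520 7, .derive 8488 [.bwd 0, .bwd 4361, .edge 7, .edge 6, .fwd 4277] [6] (.rel 55), .node 6521 5, .derive 8489 [.bwd 0, .bwd 4361, .edge 5, .bwd 4400, .fwd 41] [6] (.rel 50), .node 6521 7, .derive 8490 [.bwd 0, .bwd 4363, .edge 7, .edge 6, .fwd 4282] [6] (.rel 55),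
  .node 6522 4, .derive 8491 [.bwd 0, .bwd 4364, .edge 4, .edge 3, .fwd 4267] [3] (.rel 37), .node 6522 7, .derive 8492 [.bwd 0, .fwd 4365, .bwd 4349] [1] (.rel 25), .node 6523 5, .derive 8493 [.bwd 0, .fwd 4365, .fwd 4301] [7] (.rel 52), .node 6525 5, .derive 8494 [.bwd 0, .bwd 4364, .edge 5, .edge 1, .fwd 4254] [1] (.rel 21),
  .derive 8494 [.bwd 1, .fwd 4363, .fwd 4306] [7] (.rel 52), .node 6530 4, .derive 8495 [.bwd 0, .fwd 4356, .fwd 4270] [7] (.rel 48), .node 6530 6, .derive 8496 [.bwd 0, .bwd 4359, .fwd 4357] [3] (.rel 41), .derive 8496 [.bwd 1, .fwd 4359, .edge 6, .bwd 4359, .fwd 1] [7] (.rel 54), .node 6533 2, .derive 8497 [.bwd 0, .bwd 4356, .edge 2, .edge 3, .fwd 4195] [3] (.rel 26),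
  .derive 8497 [.bwd 1, .fwd 4356, .fwd 4151] [5] (.rel 30), .derive 6887 [.bwd 3246, .bwd 4196, .bwd 1] [6] (.rel 40), .node 6533 4, .derive 8498 [.bwd 0, .fwd 4359, .fwd 4153] [5] (.rel 44), .node 6535 0, .derive 8499 [.bwd 0, .bwd 4338, .bwd 4336] [7] (.rel 12), .node 6535 6, .derive 8500 [.bwd 0, .bwd 4340, .fwd 4341, .bwd 4376, .bwd 4330] [7] (.rel 54),
  .node 6536 2, .derive 8501 [.bwd 0, .bwd 4361, .edge 2, .edge 3, .fwd 4203] [3] (.rel 26), .derive 8501 [.bwd 1, .fwd 4361, .fwd 4167] [5] (.rel 30), .derive 6886 [.bwd 3257, .bwd 4204, .bwd 1] [6] (.rel 40), .node 6536 6, .derive 8502 [.bwd 0, .bwd 4365, .fwd 4363] [3] (.rel 41), .node 6538 0, .derive 8503 [.bwd 0, .fwd 4362, .fwd 10] [4] (.rel 6),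
  .derive 8503 [.bwd 1, .bwd 4353, .bwd 4343] [7] (.rel 12), .node 6538 3, .derive 8504 [.bwd 0, .bwd 4355, .fwd 4357, .bwd 4389, .bwd 4297] [7] (.rel 42), .node 6538 6, .derive 8505 [.bwd 0, .bwd 4357, .fwd 4358, .bwd 4394, .bwd 4340] [7] (.rel 54), .node 6539 4, .derive 8506 [.bwd 0, .fwd 4367, .fwd 28] [0] (.rel 7), .derive 8506 [.bwd 1, .fwd 4366, .fwd 4301] [7] (.rel 48),
  .node 6539 6, .derive 8507 [.bwd 0, .fwd 4370, .fwd 29] [0] (.rel 11), .derive 8507 [.bwd 1, .bwd 4372, .fwd 4368] [3] (.rel 41), .derive 6583 [.fwd 4285, .fwd 4284, .bwd 3512, .bwd 3513, .edge 5, .edge 7, .edge 1, .edge 3, .edge 7, .edge 0, .edge 6, .edge 5, .edge 0, .edge 3, .edge 0, .edge 1, .edge 5, .edge 2, .edge 5, .edge 7, .edge 1, .edge 3, .edge 7, .edge 0, .edge 6, .edge 5, .edge 0, .edge 3, .edge 0, .edge 1, .edge 5, .edge 2, .edge 5, .edge 7, .edge 1, .edge 3, .edge 7, .edge 0, .edge 6, .edge 5, .edge 0, .edge 3, .edge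 0, .bwd 4437, .bwd 90, .fwd 91, .fwd 90, .fwd 78, .fwd 77, .bwd 30, .fwd 29, .bwd 1, .bwd 2, .fwd 4371, .edge 0, .edge 3, .edge 0, .edge 1, .fwd 4173, .bwd 4172, .bwd 4173, .edge 7, .edge 1, .edge 3, .edge 7, .edge 0, .edge 6, .edge 5, .edge 0, .edge 3, .edge 0, .edge 1, .edge 5, .edge 2, .edge 5, .edge 7, .edge 1, .edge 3, .edge 7, .edge 0, .edge 6, .edge 5, .edge 0, .edge 3, .edge 0, .edge 1, .edge 5, .edge 2, .edge 5, .edge 7, .edge 1, .edge 3, .edge 7, .edge 0, .edge 6, .edge 5, .edge 0, .edge 3] [] (.rel 133), .derive 6583 [.fwd 0] [] (.free), .derive 1337 [.bwd 0, .bwd 4284] [6] (.free), .derive 6772 [.bwd 3514, .fwd 0] [] (.free), .derive 6772 [.fwd 0] [] (.free),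
  .derive 8504 [.fwd 13, .fwd 4311, .fwd 4404, .bwd 4405, .edge 2, .edge 3, .edge 7, .edge 6, .edge 5, .edge 6, .edge 7, .edge 3, .edge 2, .edge 1, .fwd 4176, .fwd 4175, .fwd 4174, .bwd 0, .bwd 3516, .edge 5, .edge 6, .edge 7, .edge 3, .edge 2, .edge 1, .edge 2, .edge 3, .edge 7, .edge 6, .edge 5, .edge 6] [] (.rel 77), .derive 8504 [.fwd 0] [] (.free), .derive 167 [.bwd 0, .fwd 15] [7] (.free), .derive 166 [.edge 7, .fwd 0] [] (.free), .derive 6572 [.bwd 0] [] (.free), .derive 166 [.bwd 0, .fwd 4316] [3] (.free), .derive 529 [.edge 3, .fwd 0] [] (.free), .derive 6525 [.bwd 0] [] (.free),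
  .derive 529 [.bwd 0, .fwd 4411] [7] (.free), .derive 6539 [.fwd 4384, .fwd 0] [] (.free), .derive 6539 [.fwd 0] [] (.free), .derive 420 [.bwd 0, .fwd 18] [6] (.free), .derive 413 [.edge 6, .fwd 0] [] (.free), .derive 8507 [.bwd 0] [] (.free), .derive 413 [.bwd 0, .fwd 19] [3] (.free), .derive 414 [.edge 3, .fwd 0] [] (.free),
  .derive 6540 [.bwd 0] [] (.free), .derive 414 [.bwd 0, .fwd 4390] [7] (.free), .derive 6524 [.fwd 4424, .fwd 0] [] (.free), .derive 6524 [.fwd 0] [] (.free), .derive 394 [.bwd 0, .bwd 4372] [6] (.free), .derive 164 [.edge 6, .fwd 0] [] (.free), .derive 6549 [.bwd 0] [] (.free), .derive 164 [.bwd 0, .bwd 34] [7] (.free),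
  .derive 163 [.edge 7, .fwd 0] [] (.free), .derive 8505 [.bwd 0] [] (.free), .derive 163 [.bwd 0, .bwd 38] [6] (.free), .derive 350 [.edge 6, .fwd 0] [] (.free), .derive 6538 [.bwd 0] [] (.free), .derive 350 [.bwd 0, .bwd 4398] [7] (.free), .derive 349 [.edge 7, .fwd 0] [] (.free), .derive 6541 [.bwd 0] [] (.free),
  .derive 349 [.bwd 0, .bwd 4399] [4] (.free), .derive 348 [.edge 4, .fwd 0] [] (.free), .derive 6542 [.bwd 0] [] (.free), .derive 348 [.bwd 0, .fwd 4400] [7] (.free), .derive 353 [.edge 7, .fwd 0] [] (.free), .derive 6535 [.bwd 0] [] (.free), .derive 353 [.bwd 0, .fwd 63] [6] (.free), .derive 183 [.edge 6, .fwd 0] [] (.free),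
  .derive 8500 [.bwd 0] [] (.free), .derive 183 [.bwd 0, .fwd 65] [7] (.free), .derive 174 [.edge 7, .fwd 0] [] (.free), .derive 6547 [.bwd 0] [] (.free)]
def ph9_p8 : List Aux :=
  ((ph9_p8_0 ++ ph9_p8_1) ++ (ph9_p8_2 ++ (ph9_p8_3 ++ ph9_p8_4)))

theorem ph9_p8_ok : stHas (runList (auxStep' P) ph9_p8 (mkSt 8297 mask10 ph9_eq8)) 8508 mask10 ph9_eq9 = true := by decide +kernel

def ph9_p9_0 : List Aux := [
  .derive 174 [.bwd 0, .fwd 4399] [6] (.free), .derive 389 [.edge 6, .fwd 0] [] (.free), .derive 6526 [.bwd 0] [] (.free), .derive 389 [.bwd 0, .fwd 4448] [7] (.free), .derive 6537 [.fwd 4429, .fwd 0] [] (.free), .derive 6537 [.fwd 0] [] (.free), .derive 415 [.bwd 0, .bwd 68] [3] (.free), .derive 416 [.edge 3, .fwd 0] [] (.free),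
  .derive 8502 [.bwd 0] [] (.free), .derive 416 [.bwd 0, .bwd 72] [6] (.free), .derive 405 [.edge 6, .fwd 0] [] (.free), .derive 6536 [.bwd 0] [] (.free), .derive 405 [.bwd 0, .bwd 4195] [7] (.free), .derive 880 [.edge 7, .fwd 0] [] (.free), .derive 6657 [.bwd 0] [] (.free), .derive 880 [.bwd 0, .bwd 4196] [6] (.free),
  .derive 881 [.edge 6, .fwd 0] [] (.free), .derive 6658 [.bwd 0] [] (.free), .derive 881 [.bwd 0, .bwd 4101] [5] (.free), .derive 1073 [.edge 5, .fwd 0] [] (.free), .derive 6708 [.bwd 0] [] (.free), .derive 1073 [.bwd 0, .bwd 4097] [7] (.free), .derive 1074 [.edge 7, .fwd 0] [] (.free), .derive 6711 [.bwd 0] [] (.free),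
  .derive 1074 [.bwd 0, .bwd 4101] [3] (.free), .derive 6562 [.fwd 4396, .fwd 0] [] (.free), .derive 6562 [.fwd 0] [] (.free), .derive 1045 [.bwd 0, .bwd 4399] [5] (.free), .derive 6556 [.fwd 4407, .fwd 0] [] (.free), .derive 6556 [.fwd 0] [] (.free), .derive 482 [.bwd 0, .bwd 4410] [7] (.free), .derive 6563 [.bwd 4401, .fwd 0] [] (.free),
  .derive 6563 [.fwd 0] [] (.free), .derive 463 [.bwd 0, .bwd 4401] [0] (.free), .derive 466 [.edge 0, .fwd 0] [] (.free), .derive 6564 [.bwd 0] [] (.free), .derive 466 [.bwd 0, .bwd 4405] [7] (.free), .derive 6557 [.bwd 4415, .fwd 0] [] (.free), .derive 6557 [.fwd 0] [] (.free), .derive 483 [.bwd 0, .fwd 4416] [6] (.free),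
  .derive 419 [.edge 6, .fwd 0] [] (.free), .derive 6548 [.bwd 0] [] (.free), .derive 419 [.bwd 0, .bwd 4440] [7] (.free), .derive 6509 [.fwd 4520, .fwd 0] [] (.free), .derive 6509 [.fwd 0] [] (.free), .derive 393 [.bwd 0, .fwd 162] [6] (.free), .derive 97 [.edge 6, .fwd 0] [] (.free), .derive 8478 [.bwd 0] [] (.free),
  .derive 97 [.bwd 0, .fwd 164] [3] (.free), .derive 86 [.edge 3, .fwd 0] [] (.free), .derive 8476 [.bwd 0] [] (.free), .derive 86 [.bwd 0, .bwd 171] [6] (.free), .derive 384 [.edge 6, .fwd 0] [] (.free), .derive 6507 [.bwd 0] [] (.free), .derive 384 [.bwd 0, .fwd 4535] [7] (.free), .derive 6534 [.fwd 4485, .fwd 0] [] (.free),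
  .derive 6534 [.fwd 0] [] (.free), .derive 398 [.bwd 0, .bwd 4488] [6] (.free), .derive 6543 [.fwd 4464, .fwd 0] [] (.free), .derive 6543 [.fwd 0] [] (.free), .derive 343 [.bwd 0, .bwd 130] [7] (.free), .derive 344 [.edge 7, .fwd 0] [] (.free), .derive 8499 [.bwd 0] [] (.free), .derive 344 [.bwd 0, .bwd 123] [4] (.free),
  .derive 354 [.edge 4, .fwd 0] [] (.free), .derive 8503 [.bwd 0] [] (.free), .derive 354 [.bwd 0, .fwd 125] [7] (.free), .derive 342 [.edge 7, .fwd 0] [] (.free), .derive 6545 [.bwd 0] [] (.free), .derive 342 [.bwd 0, .fwd 4471] [6] (.free), .derive 6531 [.bwd 4507, .fwd 0] [] (.free), .derive 6531 [.fwd 0] [] (.free),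
  .derive 397 [.bwd 0, .fwd 4508] [7] (.free), .derive 6505 [.fwd 4557, .fwd 0] [] (.free), .derive 6505 [.fwd 0] [] (.free), .derive 385 [.bwd 0, .fwd 199] [6] (.free), .derive 87 [.edge 6, .fwd 0] [] (.free), .derive 8474 [.bwd 0] [] (.free), .derive 87 [.bwd 0, .fwd 201] [1] (.free), .derive 80 [.edge 1, .fwd 0] [] (.free),
  .derive 6506 [.bwd 0] [] (.free), .derive 80 [.bwd 0, .fwd 203] [7] (.free), .derive 81 [.edge 7, .fwd 0] [] (.free), .derive 8475 [.bwd 0] [] (.free), .derive 81 [.bwd 0, .fwd 205] [6] (.free), .derive 356 [.edge 6, .fwd 0] [] (.free), .derive 6546 [.bwd 0] [] (.free), .derive 356 [.bwd 0, .bwd 4488] [7] (.free),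
  .derive 6529 [.fwd 4528, .fwd 0] [] (.free), .derive 6529 [.fwd 0] [] (.free), .derive 365 [.bwd 0, .bwd 215] [6] (.free), .derive 92 [.edge 6, .fwd 0] [] (.free), .derive 8473 [.bwd 0] [] (.free), .derive 92 [.bwd 0, .bwd 220] [7] (.free), .derive 93 [.edge 7, .fwd 0] [] (.free), .derive 6504 [.bwd 0] [] (.free),
  .derive 93 [.bwd 0, .bwd 235] [5] (.free), .derive 71 [.edge 5, .fwd 0] [] (.free), .derive 8465 [.bwd 0] [] (.free), .derive 71 [.bwd 0, .bwd 240] [6] (.free)]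
def ph9_p9_1 : List Aux := [
  .derive 70 [.edge 6, .fwd 0] [] (.free), .derive 6496 [.bwd 0] [] (.free), .derive 70 [.bwd 0, .bwd 4601] [5] (.free), .derive 6500 [.bwd 4596, .fwd 0] [] (.free), .derive 6500 [.fwd 0] [] (.free), .derive 24 [.bwd 0, .fwd 238] [6] (.free), .derive 25 [.edge 6, .fwd 0] [] (.free), .derive 8469 [.bwd 0] [] (.free),
  .derive 25 [.bwd 0, .bwd 236] [4] (.free), .derive 28 [.edge 4, .fwd 0] [] (.free), .derive 8472 [.bwd 0] [] (.free), .derive 28 [.bwd 0, .bwd 240] [6] (.free), .derive 29 [.edge 6, .fwd 0] [] (.free), .derive 6503 [.bwd 0] [] (.free), .derive 29 [.bwd 0, .bwd 4603] [5] (.free), .derive 6497 [.bwd 4612, .fwd 0] [] (.free),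
  .derive 6497 [.fwd 0] [] (.free), .derive 78 [.bwd 0, .fwd 255] [6] (.free), .derive 75 [.edge 6, .fwd 0] [] (.free), .derive 8466 [.bwd 0] [] (.free), .derive 75 [.bwd 0, .fwd 257] [5] (.free), .derive 94 [.edge 5, .fwd 0] [] (.free), .derive 6512 [.bwd 0] [] (.free), .derive 94 [.bwd 0, .fwd 234] [7] (.free),
  .derive 99 [.edge 7, .fwd 0] [] (.free), .derive 8481 [.bwd 0] [] (.free), .derive 99 [.bwd 0, .fwd 236] [6] (.free), .derive 364 [.edge 6, .fwd 0] [] (.free), .derive 6532 [.bwd 0] [] (.free), .derive 364 [.bwd 0, .fwd 4563] [7] (.free), .derive 6544 [.bwd 4535, .fwd 0] [] (.free), .derive 6544 [.fwd 0] [] (.free),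
  .derive 357 [.bwd 0, .bwd 250] [6] (.free), .derive 82 [.edge 6, .fwd 0] [] (.free), .derive 8477 [.bwd 0] [] (.free), .derive 82 [.bwd 0, .bwd 254] [7] (.free), .derive 98 [.edge 7, .fwd 0] [] (.free), .derive 6508 [.bwd 0] [] (.free), .derive 98 [.bwd 0, .bwd 4613] [3] (.free), .derive 96 [.edge 3, .fwd 0] [] (.free),
  .derive 6510 [.bwd 0] [] (.free), .derive 96 [.bwd 0, .fwd 256] [7] (.free), .derive 107 [.edge 7, .fwd 0] [] (.free), .derive 8479 [.bwd 0] [] (.free), .derive 107 [.bwd 0, .fwd 258] [6] (.free), .derive 467 [.edge 6, .fwd 0] [] (.free), .derive 6561 [.bwd 0] [] (.free), .derive 467 [.bwd 0, .bwd 4520] [7] (.free),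
  .derive 6558 [.bwd 4524, .fwd 0] [] (.free), .derive 6558 [.fwd 0] [] (.free), .derive 470 [.bwd 0, .bwd 262] [6] (.free), .derive 112 [.edge 6, .fwd 0] [] (.free), .derive 8480 [.bwd 0] [] (.free), .derive 112 [.bwd 0, .bwd 266] [7] (.free), .derive 95 [.edge 7, .fwd 0] [] (.free), .derive 6511 [.bwd 0] [] (.free),
  .derive 95 [.bwd 0, .bwd 290] [5] (.free), .derive 76 [.edge 5, .fwd 0] [] (.free), .derive 8468 [.bwd 0] [] (.free), .derive 76 [.bwd 0, .bwd 294] [6] (.free), .derive 77 [.edge 6, .fwd 0] [] (.free), .derive 6499 [.bwd 0] [] (.free), .derive 77 [.bwd 0, .bwd 4631] [7] (.free), .derive 119 [.edge 7, .fwd 0] [] (.free),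
  .derive 6514 [.bwd 0] [] (.free), .derive 119 [.bwd 0, .fwd 272] [6] (.free), .derive 6518 [.bwd 4628, .fwd 0] [] (.free), .derive 8483 [.bwd 0] [] (.free), .derive 6518 [.bwd 0, .bwd 271] [0] (.free), .derive 6515 [.bwd 4630, .fwd 0] [] (.free), .derive 8485 [.bwd 0] [] (.free), .derive 6515 [.bwd 0, .bwd 275] [6] (.free),
  .derive 118 [.fwd 4640, .fwd 0] [] (.free), .derive 6517 [.bwd 0] [] (.free), .derive 118 [.bwd 0, .fwd 4637] [7] (.free), .derive 32 [.edge 7, .fwd 0] [] (.free), .derive 6502 [.bwd 0] [] (.free), .derive 32 [.bwd 0, .fwd 308] [6] (.free), .derive 33 [.edge 6, .fwd 0] [] (.free), .derive 8471 [.bwd 0] [] (.free),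
  .derive 33 [.bwd 0, .bwd 279] [2] (.free), .derive 120 [.edge 2, .fwd 0] [] (.free), .derive 8487 [.bwd 0] [] (.free), .derive 120 [.bwd 0, .fwd 281] [6] (.free), .derive 6498 [.fwd 4679, .fwd 0] [] (.free), .derive 8470 [.bwd 0] [] (.free), .derive 6498 [.bwd 0, .bwd 291] [7] (.free), .derive 6513 [.fwd 4658, .fwd 0] [] (.free),
  .derive 8484 [.bwd 0] [] (.free), .derive 6513 [.bwd 0, .bwd 295] [5] (.free), .derive 8482 [.bwd 299, .fwd 0] [] (.free), .derive 8482 [.fwd 0] [] (.free), .derive 6516 [.bwd 0, .fwd 300] [7] (.free), .derive 6501 [.bwd 4659, .fwd 0] [] (.free), .derive 8467 [.bwd 0] [] (.free), .derive 6501 [.bwd 0, .bwd 289] [6] (.free),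
  .derive 125 [.bwd 4687, .fwd 0] [] (.free), .derive 8489 [.bwd 0] [] (.free), .derive 125 [.bwd 0, .bwd 293] [5] (.free), .derive 124 [.edge 5, .fwd 0] [] (.free)]
def ph9_p9_2 : List Aux := [
  .derive 6521 [.bwd 0] [] (.free), .derive 124 [.bwd 0, .fwd 294] [7] (.free), .derive 123 [.edge 7, .fwd 0] [] (.free), .derive 8490 [.bwd 0] [] (.free), .derive 123 [.bwd 0, .fwd 296] [6] (.free), .derive 469 [.edge 6, .fwd 0] [] (.free), .derive 6559 [.bwd 0] [] (.free), .derive 469 [.bwd 0, .bwd 4582] [7] (.free),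
  .derive 6560 [.bwd 4582, .fwd 0] [] (.free), .derive 6560 [.fwd 0] [] (.free), .derive 468 [.bwd 0, .bwd 306] [6] (.free), .derive 122 [.edge 6, .fwd 0] [] (.free), .derive 8488 [.bwd 0] [] (.free), .derive 122 [.bwd 0, .bwd 310] [7] (.free), .derive 127 [.edge 7, .fwd 0] [] (.free), .derive 6520 [.bwd 0] [] (.free),
  .derive 127 [.bwd 0, .bwd 317] [1] (.free), .derive 496 [.edge 1, .fwd 0] [] (.free), .derive 8486 [.bwd 0] [] (.free), .derive 496 [.bwd 0, .bwd 321] [6] (.free), .derive 499 [.edge 6, .fwd 0] [] (.free), .derive 6519 [.bwd 0] [] (.free), .derive 499 [.bwd 0, .fwd 4681] [7] (.free), .derive 6565 [.bwd 4590, .fwd 0] [] (.free),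
  .derive 6565 [.fwd 0] [] (.free), .derive 505 [.bwd 0, .bwd 4589] [6] (.free), .derive 506 [.edge 6, .fwd 0] [] (.free), .derive 6566 [.bwd 0] [] (.free), .derive 506 [.bwd 0, .bwd 4594] [7] (.free), .derive 6567 [.bwd 4592, .fwd 0] [] (.free), .derive 6567 [.fwd 0] [] (.free), .derive 502 [.bwd 0, .bwd 3885] [0] (.free),
  .derive 1103 [.edge 0, .fwd 0] [] (.free), .derive 6726 [.bwd 0] [] (.free), .derive 1103 [.bwd 0, .bwd 3889] [7] (.free), .derive 6722 [.fwd 3895, .fwd 0] [] (.free), .derive 6722 [.fwd 0] [] (.free), .derive 1108 [.bwd 0, .fwd 3898] [6] (.free), .derive 1107 [.edge 6, .fwd 0] [] (.free), .derive 6721 [.bwd 0] [] (.free),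
  .derive 1107 [.bwd 0, .fwd 3903] [5] (.free), .derive 6725 [.bwd 3898, .fwd 0] [] (.free), .derive 6725 [.fwd 0] [] (.free), .derive 1117 [.bwd 0, .fwd 3899] [3] (.free), .derive 1650 [.bwd 3927, .fwd 0] [] (.free), .derive 6724 [.bwd 0] [] (.free), .derive 1650 [.bwd 0, .bwd 3904] [5] (.free), .derive 6810 [.bwd 3730, .fwd 0] [] (.free),
  .derive 6810 [.fwd 0] [] (.free), .derive 1106 [.bwd 0, .fwd 3731] [4] (.free), .derive 1134 [.edge 4, .fwd 0] [] (.free), .derive 6809 [.bwd 0] [] (.free), .derive 1134 [.bwd 0, .bwd 3736] [5] (.free), .derive 6729 [.bwd 3902, .fwd 0] [] (.free), .derive 6729 [.fwd 0] [] (.free), .derive 1649 [.bwd 0, .bwd 3889] [2] (.free),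
  .derive 1648 [.edge 2, .fwd 0] [] (.free), .derive 6738 [.bwd 0] [] (.free), .derive 1648 [.bwd 0, .bwd 3893] [5] (.free), .derive 6808 [.bwd 3745, .fwd 0] [] (.free), .derive 6808 [.fwd 0] [] (.free), .derive 1207 [.bwd 0, .fwd 3746] [4] (.free), .derive 1208 [.edge 4, .fwd 0] [] (.free), .derive 6807 [.bwd 0] [] (.free),
  .derive 1208 [.bwd 0, .bwd 3751] [5] (.free), .derive 6740 [.bwd 3897, .fwd 0] [] (.free), .derive 6740 [.fwd 0] [] (.free), .derive 1647 [.bwd 0, .bwd 3882] [0] (.free), .derive 606 [.edge 0, .fwd 0] [] (.free), .derive 6748 [.bwd 0] [] (.free), .derive 606 [.bwd 0, .bwd 3886] [5] (.free), .derive 6592 [.bwd 4587, .fwd 0] [] (.free),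
  .derive 6592 [.fwd 0] [] (.free), .derive 1219 [.bwd 0, .fwd 4588] [3] (.free), .derive 6747 [.bwd 3892, .fwd 0] [] (.free), .derive 6747 [.fwd 0] [] (.free), .derive 2282 [.bwd 0, .fwd 3893] [6] (.free), .derive 6901 [.bwd 3560, .fwd 0] [] (.free), .derive 6901 [.fwd 0] [] (.free), .derive 6735 [.bwd 0, .bwd 3557] [0] (.free),
  .derive 6741 [.fwd 3910, .fwd 0] [] (.free), .derive 6904 [.bwd 0] [] (.free), .derive 6741 [.bwd 0, .fwd 3559] [5] (.free), .derive 6743 [.fwd 3908, .fwd 0] [] (.free), .derive 6741 [.bwd 2, .bwd 3563] [6] (.free), .derive 6739 [.bwd 3913, .fwd 0] [] (.free), .derive 6739 [.fwd 0] [] (.free), .derive 2287 [.bwd 0, .bwd 3177] [1] (.free),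
  .derive 6903 [.bwd 3568, .fwd 0] [] (.free), .derive 7104 [.bwd 0] [] (.free), .derive 6903 [.bwd 0, .bwd 3181] [6] (.free), .derive 6819 [.bwd 7] [] (.free), .derive 6743 [.bwd 0, .fwd 3758] [3] (.free), .derive 1217 [.fwd 3919, .fwd 0] [] (.free), .derive 6818 [.bwd 0] [] (.free), .derive 1217 [.bwd 0, .bwd 3763] [6] (.free),
  .derive 6744 [.bwd 3920, .fwd 0] [] (.free), .derive 6744 [.fwd 0] [] (.free), .derive 1682 [.bwd 0, .fwd 3921] [4] (.free), .derive 1681 [.edge 4, .fwd 0] [] (.free)]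
def ph9_p9_3 : List Aux := [
  .derive 6742 [.bwd 0] [] (.free), .derive 1681 [.bwd 0, .bwd 3928] [6] (.free), .derive 6817 [.bwd 3771, .fwd 0] [] (.free), .derive 6817 [.fwd 0] [] (.free), .derive 1213 [.bwd 0, .bwd 3764] [3] (.free), .derive 2750 [.edge 3, .fwd 0] [] (.free), .derive 6822 [.bwd 0] [] (.free), .derive 2750 [.bwd 0, .bwd 3768] [6] (.free),
  .derive 7183 [.bwd 3041, .fwd 0] [] (.free), .derive 7183 [.fwd 0] [] (.free), .derive 1699 [.bwd 0, .fwd 3042] [0] (.free), .derive 1698 [.edge 0, .fwd 0] [] (.free), .derive 7171 [.bwd 0] [] (.free), .derive 1698 [.bwd 0, .bwd 3068] [6] (.free), .derive 6821 [.bwd 3777, .fwd 0] [] (.free), .derive 6821 [.fwd 0] [] (.free),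
  .derive 2735 [.bwd 0, .fwd 3778] [3] (.free), .derive 1204 [.edge 3, .fwd 0] [] (.free), .derive 6814 [.bwd 0] [] (.free), .derive 1204 [.bwd 0, .bwd 3793] [6] (.free), .derive 6737 [.bwd 3956, .fwd 0] [] (.free), .derive 6737 [.fwd 0] [] (.free), .derive 1671 [.bwd 0, .bwd 3941] [4] (.free), .derive 1670 [.edge 4, .fwd 0] [] (.free),
  .derive 6746 [.bwd 0] [] (.free), .derive 1670 [.bwd 0, .bwd 3945] [6] (.free), .derive 6813 [.bwd 3802, .fwd 0] [] (.free), .derive 6813 [.fwd 0] [] (.free), .derive 1218 [.bwd 0, .bwd 3799] [1] (.free), .derive 6745 [.bwd 3951, .fwd 0] [] (.free), .derive 1218 [.bwd 2, .fwd 3805] [2] (.free), .derive 1192 [.edge 2, .fwd 0] [] (.free),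
  .derive 6727 [.bwd 0] [] (.free), .derive 1192 [.bwd 0, .bwd 3977] [7] (.free), .derive 1193 [.edge 7, .fwd 0] [] (.free), .derive 6731 [.bwd 0] [] (.free), .derive 1193 [.bwd 0, .bwd 3185] [6] (.free), .derive 6734 [.bwd 3977, .fwd 0] [] (.free), .derive 7123 [.bwd 0] [] (.free), .derive 6734 [.bwd 0, .bwd 2832] [2] (.free),
  .derive 2728 [.bwd 3979, .fwd 0] [] (.free), .derive 7312 [.bwd 0] [] (.free), .derive 2728 [.bwd 0, .bwd 2836] [7] (.free), .derive 7167 [.bwd 3105, .fwd 0] [] (.free), .derive 7167 [.fwd 0] [] (.free), .derive 3200 [.bwd 0, .bwd 3105] [4] (.free), .derive 3201 [.edge 4, .fwd 0] [] (.free), .derive 7168 [.bwd 0] [] (.free),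
  .derive 3201 [.bwd 0, .bwd 3109] [7] (.free), .derive 7313 [.bwd 2841, .fwd 0] [] (.free), .derive 7313 [.fwd 0] [] (.free), .derive 2729 [.bwd 0, .bwd 2841] [0] (.free), .derive 2730 [.edge 0, .fwd 0] [] (.free), .derive 7314 [.bwd 0] [] (.free), .derive 2730 [.bwd 0, .bwd 2845] [7] (.free), .derive 7169 [.bwd 3114, .fwd 0] [] (.free),
  .derive 7169 [.fwd 0] [] (.free), .derive 3202 [.bwd 0, .fwd 3115] [4] (.free), .derive 3205 [.edge 4, .fwd 0] [] (.free), .derive 7166 [.bwd 0] [] (.free), .derive 3205 [.bwd 0, .bwd 3123] [7] (.free), .derive 7315 [.bwd 2850, .fwd 0] [] (.free), .derive 7315 [.fwd 0] [] (.free), .derive 2727 [.bwd 0, .bwd 2850] [3] (.free),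
  .derive 2753 [.edge 3, .fwd 0] [] (.free), .derive 7154 [.bwd 0] [] (.free), .derive 2753 [.bwd 0, .fwd 3152] [6] (.free), .derive 2752 [.edge 6, .fwd 0] [] (.free), .derive 7152 [.bwd 0] [] (.free), .derive 2752 [.bwd 0, .fwd 3159] [5] (.free), .derive 2751 [.edge 5, .fwd 0] [] (.free), .derive 7150 [.bwd 0] [] (.free),
  .derive 2751 [.bwd 0, .bwd 3165] [2] (.free), .derive 7184 [.bwd 3104, .fwd 0] [] (.free), .derive 7184 [.fwd 0] [] (.free), .derive 2717 [.bwd 0, .bwd 3104] [5] (.free), .derive 2718 [.edge 5, .fwd 0] [] (.free), .derive 7185 [.bwd 0] [] (.free), .derive 2718 [.bwd 0, .bwd 3105] [6] (.free), .derive 2719 [.edge 6, .fwd 0] [] (.free),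
  .derive 7186 [.bwd 0] [] (.free), .derive 2719 [.bwd 0, .bwd 3105] [0] (.free), .derive 2722 [.edge 0, .fwd 0] [] (.free), .derive 7188 [.bwd 0] [] (.free), .derive 2722 [.bwd 0, .bwd 3109] [2] (.free), .derive 7161 [.bwd 3158, .fwd 0] [] (.free), .derive 7161 [.fwd 0] [] (.free), .derive 2754 [.bwd 0, .bwd 3104] [1] (.free),
  .derive 7187 [.bwd 3114, .fwd 0] [] (.free), .derive 7191 [.bwd 0] [] (.free), .derive 7187 [.bwd 0, .fwd 3108] [4] (.free), .derive 6816 [.bwd 61] [] (.free), .derive 6745 [.bwd 0, .fwd 3862] [4] (.free), .derive 6736 [.bwd 4014, .fwd 0] [] (.free), .derive 6815 [.bwd 0] [] (.free), .derive 6736 [.bwd 0, .bwd 3859] [3] (.free),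
  .derive 7170 [.fwd 3152, .fwd 0] [] (.free), .derive 7170 [.fwd 0] [] (.free), .derive 6820 [.bwd 0, .bwd 3143] [5] (.free), .derive 6840 [.fwd 3817, .fwd 0] [] (.free)]
def ph9_p9_4 : List Aux := [
  .derive 7176 [.bwd 0] [] (.free), .derive 6840 [.bwd 0, .bwd 3147] [1] (.free), .derive 7195 [.fwd 3112, .fwd 0] [] (.free), .derive 7195 [.fwd 0] [] (.free), .derive 2744 [.bwd 0, .bwd 3115] [7] (.free), .derive 7177 [.bwd 3149, .fwd 0] [] (.free), .derive 7177 [.fwd 0] [] (.free), .derive 2824 [.bwd 0, .fwd 3150] [5] (.free),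
  .derive 7194 [.bwd 3120, .fwd 0] [] (.free), .derive 7194 [.fwd 0] [] (.free), .derive 7172 [.bwd 0, .bwd 3118] [0] (.free), .derive 7173 [.fwd 3163, .fwd 0] [] (.free), .derive 7196 [.bwd 0] [] (.free), .derive 7173 [.bwd 0, .bwd 3122] [5] (.free), .derive 7175 [.fwd 3161, .fwd 0] [] (.free), .derive 7175 [.fwd 0] [] (.free),
  .derive 2825 [.bwd 0, .bwd 3164] [7] (.free), .derive 7197 [.bwd 3124, .fwd 0] [] (.free), .derive 7197 [.fwd 0] [] (.free), .derive 2743 [.bwd 0, .fwd 3125] [3] (.free), .derive 7174 [.bwd 3171, .fwd 0] [] (.free), .derive 7174 [.fwd 0] [] (.free), .derive 6784 [.bwd 0, .bwd 3171] [4] (.free), .derive 6778 [.bwd 3954, .fwd 0] [] (.free),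
  .derive 7010 [.bwd 0] [] (.free), .derive 6778 [.bwd 0, .fwd 3500] [2] (.free), .derive 6780 [.fwd 3965, .fwd 0] [] (.free), .derive 6925 [.bwd 0] [] (.free), .derive 6780 [.bwd 0, .fwd 3664] [1] (.free), .derive 7088 [.fwd 3348, .fwd 0] [] (.free), .derive 7088 [.fwd 0] [] (.free), .derive 6790 [.bwd 0, .bwd 3088] [3] (.free),
  .derive 1535 [.fwd 3950, .fwd 0] [] (.free), .derive 7222 [.bwd 0] [] (.free), .derive 1535 [.bwd 0, .bwd 3092] [6] (.free), .derive 6791 [.bwd 3952, .fwd 0] [] (.free), .derive 6791 [.fwd 0] [] (.free), .derive 2923 [.bwd 0, .bwd 3670] [1] (.free), .derive 6779 [.fwd 3979, .fwd 0] [] (.free), .derive 2923 [.bwd 2, .fwd 3955] [4] (.free),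
  .derive 7221 [.bwd 3101, .fwd 0] [] (.free), .derive 7221 [.fwd 0] [] (.free), .derive 3015 [.bwd 0, .fwd 3102] [0] (.free), .derive 6793 [.fwd 3956, .fwd 0] [] (.free), .derive 3015 [.bwd 2, .fwd 3103] [3] (.free), .derive 3016 [.edge 3, .fwd 0] [] (.free), .derive 7165 [.bwd 0] [] (.free), .derive 3016 [.bwd 0, .bwd 3212] [4] (.free),
  .derive 7227 [.bwd 3096, .fwd 0] [] (.free), .derive 3016 [.bwd 2, .fwd 3213] [7] (.free), .derive 7229 [.bwd 3094, .fwd 0] [] (.free), .derive 7229 [.fwd 0] [] (.free), .derive 7163 [.bwd 0, .bwd 2257] [1] (.free), .derive 7151 [.bwd 3222, .fwd 0] [] (.free), .derive 7668 [.bwd 0] [] (.free), .derive 7151 [.bwd 0, .bwd 2258] [5] (.free),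
  .derive 7153 [.fwd 3244, .fwd 0] [] (.free), .derive 7669 [.bwd 0] [] (.free), .derive 7153 [.bwd 0, .fwd 2260] [6] (.free), .derive 7155 [.fwd 3243, .fwd 0] [] (.free), .derive 7153 [.bwd 2, .bwd 2264] [7] (.free), .derive 7321 [.bwd 1] [] (.free), .derive 7155 [.bwd 0, .bwd 2938] [4] (.free), .derive 2719 [.fwd 3248, .fwd 0] [] (.free),
  .derive 7322 [.bwd 0] [] (.free), .derive 2719 [.bwd 0, .bwd 2942] [7] (.free), .derive 7156 [.bwd 3249, .fwd 0] [] (.free), .derive 7156 [.fwd 0] [] (.free), .derive 3262 [.bwd 0, .bwd 3239] [0] (.free), .derive 3257 [.edge 0, .fwd 0] [] (.free), .derive 7162 [.bwd 0] [] (.free), .derive 3257 [.bwd 0, .bwd 3243] [7] (.free),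
  .derive 7319 [.bwd 2953, .fwd 0] [] (.free), .derive 7319 [.fwd 0] [] (.free), .derive 2722 [.bwd 0, .fwd 2954] [1] (.free), .derive 7160 [.bwd 3251, .fwd 0] [] (.free), .derive 2722 [.bwd 2, .bwd 2950] [2] (.free), .derive 7161 [.bwd 3250, .fwd 0] [] (.free), .derive 7323 [.bwd 0, .fwd 91] [] (.free), .derive 2754 [.bwd 0, .bwd 2891] [1] (.free),
  .derive 7187 [.bwd 3206, .fwd 0] [] (.free), .derive 7357 [.bwd 0] [] (.free), .derive 7187 [.bwd 0, .fwd 2893] [4] (.free), .derive 7190 [.bwd 92, .fwd 0] [] (.free), .derive 7356 [.bwd 0] [] (.free), .derive 7190 [.bwd 0, .fwd 2899] [2] (.free), .derive 7215 [.fwd 3157, .fwd 0] [] (.free), .derive 7190 [.bwd 2, .bwd 2902] [7] (.free),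
  .derive 8007 [.fwd 1624, .fwd 0] [] (.free), .derive 8007 [.fwd 0] [] (.free), .derive 3314 [.bwd 0, .bwd 1627] [5] (.free), .derive 7355 [.bwd 2908, .fwd 0] [] (.free), .derive 7355 [.fwd 0] [] (.free), .derive 4381 [.bwd 0, .fwd 2909] [2] (.free), .derive 8006 [.bwd 1635, .fwd 0] [] (.free), .derive 8006 [.fwd 0] [] (.free),
  .derive 7351 [.bwd 0, .bwd 1634] [3] (.free), .derive 7353 [.fwd 2917, .fwd 0] [] (.free), .derive 7351 [.bwd 2, .fwd 1637] [7] (.free), .derive 7876 [.bwd 1] [] (.free)]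
def ph9_p9 : List Aux :=
  ((ph9_p9_0 ++ ph9_p9_1) ++ (ph9_p9_2 ++ (ph9_p9_3 ++ ph9_p9_4)))

theorem ph9_p9_ok : stHas (runList (auxStep' P) ph9_p9 (mkSt 8508 mask10 ph9_eq9)) 8508 mask10 ph9_eq10 = true := by decide +kernel

end Cfsg.Agent.CosetData.ChainU62
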