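import Cfsg.Agent.Lib.Compute.CosetData.ChainU62Aux

/-! Coset enumeration certificate data (S2091 chain). -/

set_option autoImplicit false
set_option maxRecDepth 100000
set_option Elab.async false

namespace Cfsg.Agent.CosetData.ChainU62

open Cfsg.Agent.CosetCert

def ph9_p10_0 : List Aux := [
  .derive 7353 [.bwd 0, .bwd 1884] [1] (.free), .derive 7387 [.fwd 2857, .fwd 0] [] (.free), .derive 7353 [.bwd 2, .bwd 1889] [4] (.free), .derive 7877 [.bwd 1] [] (.free), .derive 7387 [.bwd 0, .bwd 1885] [5] (.free), .derive 3336 [.fwd 2862, .fwd 0] [] (.free), .derive 7387 [.bwd 2, .fwd 1889] [7] (.free), .derive 7878 [.bwd 1] [] (.free),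
  .derive 3336 [.bwd 0, .fwd 1888] [7] (.free), .derive 7388 [.bwd 2864, .fwd 0] [] (.free), .derive 7388 [.fwd 0] [] (.free), .derive 7147 [.bwd 0, .fwd 2865] [1] (.free), .derive 7128 [.bwd 3312, .fwd 0] [] (.free), .derive 7328 [.bwd 0] [] (.free), .derive 7128 [.bwd 0, .bwd 2981] [7] (.free), .derive 7881 [.fwd 1890, .fwd 0] [] (.free),
  .derive 7881 [.fwd 0] [] (.free), .derive 3270 [.bwd 0, .bwd 1893] [4] (.free), .derive 7327 [.bwd 2987, .fwd 0] [] (.free), .derive 7327 [.fwd 0] [] (.free), .derive 4211 [.bwd 0, .fwd 2988] [6] (.free), .derive 7882 [.bwd 1895, .fwd 0] [] (.free), .derive 7882 [.fwd 0] [] (.free), .derive 7309 [.bwd 0, .bwd 1730] [7] (.free),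
  .derive 8176 [.fwd 1317, .fwd 0] [] (.free), .derive 8176 [.fwd 0] [] (.free), .derive 7974 [.bwd 0, .bwd 1317] [0] (.free), .derive 7976 [.fwd 1730, .fwd 0] [] (.free), .derive 8177 [.bwd 0] [] (.free), .derive 7976 [.bwd 0, .fwd 1319] [7] (.free), .derive 7864 [.bwd 1732, .fwd 0] [] (.free), .derive 7864 [.fwd 0] [] (.free),
  .derive 7310 [.bwd 0, .bwd 1940] [6] (.free), .derive 7335 [.fwd 2987, .fwd 0] [] (.free), .derive 7335 [.fwd 0] [] (.free), .derive 4195 [.bwd 0, .bwd 2967] [5] (.free), .derive 7138 [.fwd 3353, .fwd 0] [] (.free), .derive 7347 [.bwd 0] [] (.free), .derive 7138 [.bwd 0, .fwd 2971] [2] (.free), .derive 4320 [.bwd 3357, .fwd 0] [] (.free),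
  .derive 7331 [.bwd 0] [] (.free), .derive 4320 [.bwd 0, .bwd 1326] [7] (.free), .derive 4319 [.edge 7, .fwd 0] [] (.free), .derive 8179 [.bwd 0] [] (.free), .derive 4319 [.bwd 0, .fwd 1330] [5] (.free), .derive 4316 [.edge 5, .fwd 0] [] (.free), .derive 8178 [.bwd 0] [] (.free), .derive 4316 [.bwd 0, .fwd 1335] [7] (.free),
  .derive 4315 [.edge 7, .fwd 0] [] (.free), .derive 7333 [.bwd 0] [] (.free), .derive 4315 [.bwd 0, .fwd 3008] [6] (.free), .derive 7966 [.bwd 1777, .fwd 0] [] (.free), .derive 7966 [.fwd 0] [] (.free), .derive 7311 [.bwd 0, .fwd 1778] [0] (.free), .derive 7308 [.bwd 3051, .fwd 0] [] (.free), .derive 7964 [.bwd 0] [] (.free),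
  .derive 7308 [.bwd 0, .bwd 1785] [6] (.free), .derive 7329 [.fwd 3022, .fwd 0] [] (.free), .derive 7329 [.fwd 0] [] (.free), .derive 4314 [.bwd 0, .bwd 2985] [5] (.free), .derive 4321 [.edge 5, .fwd 0] [] (.free), .derive 7349 [.bwd 0] [] (.free), .derive 4321 [.bwd 0, .bwd 2989] [4] (.free), .derive 7971 [.bwd 1777, .fwd 0] [] (.free),
  .derive 7971 [.fwd 0] [] (.free), .derive 3293 [.bwd 0, .bwd 1776] [7] (.free), .derive 7350 [.bwd 2991, .fwd 0] [] (.free), .derive 7972 [.bwd 0] [] (.free), .derive 7350 [.bwd 0, .bwd 1781] [4] (.free), .derive 7350 [.bwd 1, .fwd 1781] [5] (.free), .derive 7330 [.bwd 2994, .fwd 0] [] (.free), .derive 7962 [.bwd 0] [] (.free),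
  .derive 7330 [.bwd 0, .bwd 1802] [7] (.free), .derive 3271 [.fwd 3037, .fwd 0] [] (.free), .derive 7963 [.bwd 0] [] (.free), .derive 3271 [.bwd 0, .bwd 1802] [0] (.free), .derive 3276 [.edge 0, .fwd 0] [] (.free), .derive 7965 [.bwd 0] [] (.free), .derive 3276 [.bwd 0, .bwd 1801] [7] (.free), .derive 7334 [.bwd 3036, .fwd 0] [] (.free),
  .derive 7967 [.bwd 0] [] (.free), .derive 7334 [.bwd 0, .bwd 1796] [5] (.free), .derive 7332 [.bwd 3038, .fwd 0] [] (.free), .derive 7334 [.bwd 2, .bwd 1804] [6] (.free), .derive 7970 [.bwd 1] [] (.free), .derive 7332 [.bwd 0, .fwd 1801] [2] (.free), .derive 7348 [.fwd 3015, .fwd 0] [] (.free), .derive 7348 [.fwd 0] [] (.free),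
  .derive 7137 [.bwd 0, .fwd 3018] [0] (.free), .derive 7149 [.fwd 3384, .fwd 0] [] (.free), .derive 7137 [.bwd 2, .fwd 3018] [5] (.free), .derive 7136 [.bwd 3411, .fwd 0] [] (.free), .derive 7336 [.bwd 0] [] (.free), .derive 7136 [.bwd 0, .bwd 3046] [7] (.free), .derive 7863 [.fwd 2003, .fwd 0] [] (.free), .derive 7863 [.fwd 0] [] (.free),
  .derive 3277 [.bwd 0, .bwd 2002] [1] (.free), .derive 3325 [.edge 1, .fwd 0] [] (.free), .derive 7865 [.bwd 0] [] (.free), .derive 3325 [.bwd 0, .fwd 2004] [7] (.free)]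
def ph9_p10_1 : List Aux := [
  .derive 7369 [.bwd 2994, .fwd 0] [] (.free), .derive 7369 [.fwd 0] [] (.free), .derive 7134 [.bwd 0, .fwd 2995] [2] (.free), .derive 7982 [.fwd 1794, .fwd 0] [] (.free), .derive 7982 [.fwd 0] [] (.free), .derive 5296 [.bwd 0, .bwd 1792] [7] (.free), .derive 5295 [.edge 7, .fwd 0] [] (.free), .derive 7984 [.bwd 0] [] (.free),
  .derive 5295 [.bwd 0, .bwd 1796] [4] (.free), .derive 8180 [.fwd 1392, .fwd 0] [] (.free), .derive 5295 [.bwd 2, .bwd 1789] [5] (.free), .derive 8182 [.bwd 1390, .fwd 0] [] (.free), .derive 8182 [.fwd 0] [] (.free), .derive 7987 [.bwd 0, .fwd 1391] [2] (.free), .derive 7889 [.bwd 1794, .fwd 0] [] (.free), .derive 7889 [.fwd 0] [] (.free),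
  .derive 7368 [.bwd 0, .bwd 1979] [4] (.free), .derive 8180 [.fwd 7] [] (.free), .derive 4333 [.bwd 0, .bwd 1398] [6] (.free), .derive 7985 [.bwd 1805, .fwd 0] [] (.free), .derive 8181 [.bwd 0] [] (.free), .derive 7985 [.bwd 0, .fwd 1402] [2] (.free), .derive 7866 [.bwd 1807, .fwd 0] [] (.free), .derive 7866 [.fwd 0] [] (.free),
  .derive 7371 [.bwd 0, .bwd 2028] [6] (.free), .derive 7367 [.bwd 3012, .fwd 0] [] (.free), .derive 7367 [.fwd 0] [] (.free), .derive 4196 [.bwd 0, .bwd 3008] [3] (.free), .derive 4197 [.edge 3, .fwd 0] [] (.free), .derive 7374 [.bwd 0] [] (.free), .derive 4197 [.bwd 0, .fwd 3010] [6] (.free), .derive 7867 [.bwd 2034, .fwd 0] [] (.free),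
  .derive 7867 [.fwd 0] [] (.free), .derive 5312 [.bwd 0, .bwd 1895] [2] (.free), .derive 8183 [.bwd 1411, .fwd 0] [] (.free), .derive 8183 [.fwd 0] [] (.free), .derive 7946 [.bwd 0, .fwd 1412] [4] (.free), .derive 7952 [.fwd 1890, .fwd 0] [] (.free), .derive 7952 [.fwd 0] [] (.free), .derive 7377 [.bwd 0, .bwd 1893] [6] (.free),
  .derive 7373 [.bwd 3015, .fwd 0] [] (.free), .derive 7373 [.fwd 0] [] (.free), .derive 4281 [.bwd 0, .bwd 3025] [2] (.free), .derive 7119 [.fwd 3502, .fwd 0] [] (.free), .derive 7119 [.fwd 0] [] (.free), .derive 3328 [.bwd 0, .bwd 2046] [5] (.free), .derive 7375 [.bwd 3025, .fwd 0] [] (.free), .derive 3328 [.bwd 2, .bwd 3507] [7] (.free),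
  .derive 7376 [.bwd 3026, .fwd 0] [] (.free), .derive 7376 [.fwd 0] [] (.free), .derive 2667 [.bwd 0, .fwd 3027] [1] (.free), .derive 2644 [.edge 1, .fwd 0] [] (.free), .derive 7359 [.bwd 0] [] (.free), .derive 2644 [.bwd 0, .bwd 3062] [7] (.free), .derive 7105 [.bwd 3543, .fwd 0] [] (.free), .derive 7105 [.fwd 0] [] (.free),
  .derive 3319 [.bwd 0, .bwd 3543] [5] (.free), .derive 7358 [.bwd 3067, .fwd 0] [] (.free), .derive 7358 [.fwd 0] [] (.free), .derive 7106 [.bwd 0, .bwd 3066] [0] (.free), .derive 7110 [.fwd 3541, .fwd 0] [] (.free), .derive 7360 [.bwd 0] [] (.free), .derive 7110 [.bwd 0, .bwd 3070] [5] (.free), .derive 7109 [.bwd 3543, .fwd 0] [] (.free),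
  .derive 7109 [.fwd 0] [] (.free), .derive 3320 [.bwd 0, .bwd 3548] [7] (.free), .derive 7361 [.bwd 3072, .fwd 0] [] (.free), .derive 7361 [.fwd 0] [] (.free), .derive 2657 [.bwd 0, .bwd 3030] [1] (.free), .derive 2676 [.edge 1, .fwd 0] [] (.free), .derive 7384 [.bwd 0] [] (.free), .derive 2676 [.bwd 0, .bwd 3034] [7] (.free),
  .derive 7122 [.bwd 3525, .fwd 0] [] (.free), .derive 7122 [.fwd 0] [] (.free), .derive 3333 [.bwd 0, .fwd 3526] [4] (.free), .derive 7382 [.bwd 3042, .fwd 0] [] (.free), .derive 3333 [.bwd 2, .fwd 3527] [5] (.free), .derive 7383 [.bwd 3042, .fwd 0] [] (.free), .derive 7383 [.fwd 0] [] (.free), .derive 4213 [.bwd 0, .fwd 3043] [3] (.free),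
  .derive 7883 [.bwd 2053, .fwd 0] [] (.free), .derive 7883 [.fwd 0] [] (.free), .derive 7379 [.bwd 0, .fwd 2054] [7] (.free), .derive 7382 [.fwd 7] [] (.free), .derive 4209 [.bwd 0, .fwd 3050] [6] (.free), .derive 7880 [.bwd 2063, .fwd 0] [] (.free), .derive 7880 [.fwd 0] [] (.free), .derive 5321 [.bwd 0, .fwd 2064] [3] (.free),
  .derive 5320 [.edge 3, .fwd 0] [] (.free), .derive 7879 [.bwd 0] [] (.free), .derive 5320 [.bwd 0, .bwd 2069] [6] (.free), .derive 7386 [.fwd 3049, .fwd 0] [] (.free), .derive 7386 [.fwd 0] [] (.free), .derive 4208 [.bwd 0, .bwd 1465] [0] (.free), .derive 4224 [.edge 0, .fwd 0] [] (.free), .derive 8185 [.bwd 0] [] (.free),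
  .derive 4224 [.bwd 0, .fwd 1467] [4] (.free), .derive 7897 [.bwd 2047, .fwd 0] [] (.free), .derive 4224 [.bwd 2, .bwd 1471] [6] (.free), .derive 7898 [.bwd 2048, .fwd 0] [] (.free)]
def ph9_p10_2 : List Aux := [
  .derive 7898 [.fwd 0] [] (.free), .derive 5317 [.bwd 0, .bwd 2011] [3] (.free), .derive 5316 [.edge 3, .fwd 0] [] (.free), .derive 7921 [.bwd 0] [] (.free), .derive 5316 [.bwd 0, .bwd 2015] [6] (.free), .derive 8184 [.bwd 1480, .fwd 0] [] (.free), .derive 8184 [.fwd 0] [] (.free), .derive 4245 [.bwd 0, .fwd 1481] [4] (.free),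
  .derive 4244 [.edge 4, .fwd 0] [] (.free), .derive 7381 [.bwd 0] [] (.free), .derive 4244 [.bwd 0, .fwd 3078] [6] (.free), .derive 7920 [.bwd 2024, .fwd 0] [] (.free), .derive 7920 [.fwd 0] [] (.free), .derive 5303 [.bwd 0, .fwd 2025] [1] (.free), .derive 5304 [.edge 1, .fwd 0] [] (.free), .derive 7917 [.bwd 0] [] (.free),
  .derive 5304 [.bwd 0, .bwd 2033] [6] (.free), .derive 7372 [.fwd 3101, .fwd 0] [] (.free), .derive 7372 [.fwd 0] [] (.free), .derive 4241 [.bwd 0, .fwd 3104] [3] (.free), .derive 7916 [.bwd 2039, .fwd 0] [] (.free), .derive 7916 [.fwd 0] [] (.free), .derive 7897 [.fwd 24] [] (.free), .derive 7385 [.bwd 0, .bwd 2070] [5] (.free),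
  .derive 7868 [.bwd 77] [] (.free), .derive 7326 [.bwd 135] [] (.free), .derive 7149 [.bwd 0, .bwd 3144] [1] (.free), .derive 7148 [.bwd 3521, .fwd 0] [] (.free), .derive 7354 [.bwd 0] [] (.free), .derive 7352 [.bwd 242] [] (.free), .derive 7215 [.bwd 0, .bwd 3152] [7] (.free), .derive 7318 [.bwd 255] [] (.free),
  .derive 7160 [.bwd 0, .fwd 3214] [5] (.free), .derive 7227 [.fwd 284] [] (.free), .derive 7219 [.bwd 290] [] (.free), .derive 6793 [.bwd 0, .bwd 3398] [4] (.free), .derive 6794 [.fwd 4246, .fwd 0] [] (.free), .derive 6794 [.fwd 0] [] (.free), .derive 2922 [.bwd 0, .fwd 4249] [2] (.free), .derive 7218 [.bwd 3403, .fwd 0] [] (.free),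
  .derive 7218 [.fwd 0] [] (.free), .derive 3019 [.bwd 0, .bwd 3353] [3] (.free), .derive 3024 [.edge 3, .fwd 0] [] (.free), .derive 7246 [.bwd 0] [] (.free), .derive 3024 [.bwd 0, .bwd 1637] [7] (.free), .derive 4867 [.edge 7, .fwd 0] [] (.free), .derive 8129 [.bwd 0] [] (.free), .derive 4867 [.bwd 0, .fwd 1641] [4] (.free),
  .derive 4866 [.edge 4, .fwd 0] [] (.free), .derive 8128 [.bwd 0] [] (.free), .derive 4866 [.bwd 0, .fwd 1646] [7] (.free), .derive 4846 [.edge 7, .fwd 0] [] (.free), .derive 8029 [.bwd 0] [] (.free), .derive 4846 [.bwd 0, .bwd 1772] [5] (.free), .derive 4860 [.edge 5, .fwd 0] [] (.free), .derive 8068 [.bwd 0] [] (.free),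
  .derive 4860 [.bwd 0, .bwd 1773] [4] (.free), .derive 4861 [.edge 4, .fwd 0] [] (.free), .derive 8069 [.bwd 0] [] (.free), .derive 4861 [.bwd 0, .bwd 1777] [2] (.free), .derive 8035 [.bwd 1845, .fwd 0] [] (.free), .derive 8035 [.fwd 0] [] (.free), .derive 4894 [.bwd 0, .bwd 1820] [7] (.free), .derive 8070 [.bwd 1779, .fwd 0] [] (.free),
  .derive 8070 [.fwd 0] [] (.free), .derive 8049 [.bwd 0, .fwd 1780] [5] (.free), .derive 8046 [.bwd 1825, .fwd 0] [] (.free), .derive 8046 [.fwd 0] [] (.free), .derive 5034 [.bwd 0, .fwd 1832] [7] (.free), .derive 3054 [.edge 7, .fwd 0] [] (.free), .derive 7237 [.bwd 0] [] (.free), .derive 3054 [.bwd 0, .bwd 3397] [6] (.free),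
  .derive 7247 [.bwd 3383, .fwd 0] [] (.free), .derive 7247 [.fwd 0] [] (.free), .derive 7238 [.bwd 0, .bwd 3383] [0] (.free), .derive 7234 [.bwd 3402, .fwd 0] [] (.free), .derive 7248 [.bwd 0] [] (.free), .derive 7234 [.bwd 0, .bwd 3387] [6] (.free), .derive 7236 [.fwd 3408, .fwd 0] [] (.free), .derive 7236 [.fwd 0] [] (.free),
  .derive 3055 [.bwd 0, .bwd 1863] [7] (.free), .derive 5031 [.edge 7, .fwd 0] [] (.free), .derive 8036 [.bwd 0] [] (.free), .derive 5031 [.bwd 0, .bwd 1860] [5] (.free), .derive 8078 [.fwd 1782, .fwd 0] [] (.free), .derive 8078 [.fwd 0] [] (.free), .derive 8040 [.bwd 0, .bwd 1785] [7] (.free), .derive 8032 [.bwd 1863, .fwd 0] [] (.free),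
  .derive 8032 [.fwd 0] [] (.free), .derive 4905 [.bwd 0, .bwd 1877] [4] (.free), .derive 4908 [.edge 4, .fwd 0] [] (.free), .derive 8033 [.bwd 0] [] (.free), .derive 4908 [.bwd 0, .bwd 1860] [7] (.free), .derive 8081 [.bwd 1787, .fwd 0] [] (.free), .derive 8081 [.fwd 0] [] (.free), .derive 8044 [.bwd 0, .fwd 1788] [1] (.free),
  .derive 8044 [.bwd 1, .fwd 1788] [5] (.free), .derive 8051 [.fwd 1851, .fwd 0] [] (.free), .derive 8051 [.fwd 0] [] (.free), .derive 5032 [.bwd 0, .fwd 1852] [7] (.free)]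
def ph9_p10_3 : List Aux := [
  .derive 4842 [.edge 7, .fwd 0] [] (.free), .derive 8013 [.bwd 0] [] (.free), .derive 6926 [.bwd 363] [] (.free), .derive 6779 [.bwd 0, .fwd 4037] [0] (.free), .derive 6781 [.fwd 4341, .fwd 0] [] (.free), .derive 6779 [.bwd 2, .fwd 4037] [5] (.free), .derive 6785 [.fwd 4334, .fwd 0] [] (.free), .derive 6913 [.bwd 0] [] (.free),
  .derive 6785 [.bwd 0, .fwd 4066] [4] (.free), .derive 6917 [.bwd 4] [] (.free), .derive 6781 [.bwd 0, .bwd 4054] [2] (.free), .derive 7160 [.bwd 3585, .fwd 0] [] (.free), .derive 7160 [.fwd 0] [] (.free), .derive 6921 [.bwd 0, .fwd 80] [5] (.free), .derive 6910 [.bwd 4057, .fwd 0] [] (.free), .derive 7317 [.bwd 0] [] (.free),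
  .derive 6910 [.bwd 0, .fwd 3300] [4] (.free), .derive 3816 [.bwd 4083, .fwd 0] [] (.free), .derive 7316 [.bwd 0] [] (.free), .derive 3816 [.bwd 0, .bwd 3305] [7] (.free), .derive 7662 [.bwd 2634, .fwd 0] [] (.free), .derive 7662 [.fwd 0] [] (.free), .derive 3254 [.bwd 0, .bwd 2634] [5] (.free), .derive 3267 [.edge 5, .fwd 0] [] (.free),
  .derive 7663 [.bwd 0] [] (.free), .derive 3267 [.bwd 0, .bwd 2638] [7] (.free), .derive 7324 [.bwd 3299, .fwd 0] [] (.free), .derive 7324 [.fwd 0] [] (.free), .derive 3817 [.bwd 0, .bwd 3299] [2] (.free), .derive 6931 [.fwd 4051, .fwd 0] [] (.free), .derive 7325 [.bwd 0] [] (.free), .derive 6931 [.bwd 0, .bwd 3270] [5] (.free),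
  .derive 6914 [.bwd 4053, .fwd 0] [] (.free), .derive 6931 [.bwd 2, .bwd 3305] [7] (.free), .derive 7344 [.bwd 1] [] (.free), .derive 6914 [.bwd 0, .fwd 3275] [4] (.free), .derive 6909 [.bwd 4091, .fwd 0] [] (.free), .derive 7343 [.bwd 0] [] (.free), .derive 6909 [.bwd 0, .fwd 3280] [0] (.free), .derive 6913 [.fwd 4098, .fwd 0] [] (.free),
  .derive 6909 [.bwd 2, .bwd 3211] [1] (.free), .derive 6908 [.bwd 4109, .fwd 0] [] (.free), .derive 7380 [.bwd 0] [] (.free), .derive 6908 [.bwd 0, .fwd 3213] [4] (.free), .derive 6907 [.bwd 4114, .fwd 0] [] (.free), .derive 6908 [.bwd 2, .bwd 3217] [7] (.free), .derive 7378 [.bwd 1] [] (.free), .derive 7342 [.bwd 7, .fwd 39] [] (.free),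
  .derive 6785 [.bwd 0, .fwd 3292] [4] (.free), .derive 3824 [.bwd 40, .fwd 0] [] (.free), .derive 7337 [.bwd 0] [] (.free), .derive 3824 [.bwd 0, .bwd 3303] [7] (.free), .derive 7666 [.bwd 2661, .fwd 0] [] (.free), .derive 7666 [.fwd 0] [] (.free), .derive 3278 [.bwd 0, .bwd 2661] [5] (.free), .derive 3279 [.edge 5, .fwd 0] [] (.free),
  .derive 7667 [.bwd 0] [] (.free), .derive 3279 [.bwd 0, .bwd 2665] [7] (.free), .derive 7338 [.bwd 3309, .fwd 0] [] (.free), .derive 7338 [.fwd 0] [] (.free), .derive 3825 [.bwd 0, .bwd 3307] [2] (.free), .derive 3832 [.edge 2, .fwd 0] [] (.free), .derive 7340 [.bwd 0] [] (.free), .derive 3832 [.bwd 0, .bwd 3311] [7] (.free),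
  .derive 7670 [.bwd 2665, .fwd 0] [] (.free), .derive 7670 [.fwd 0] [] (.free), .derive 3280 [.bwd 0, .bwd 2662] [1] (.free), .derive 7339 [.bwd 3317, .fwd 0] [] (.free), .derive 3280 [.bwd 2, .fwd 2668] [5] (.free), .derive 3288 [.edge 5, .fwd 0] [] (.free), .derive 7665 [.bwd 0] [] (.free), .derive 3288 [.bwd 0, .bwd 2681] [7] (.free),
  .derive 7346 [.bwd 3308, .fwd 0] [] (.free), .derive 7346 [.fwd 0] [] (.free), .derive 3823 [.bwd 0, .fwd 3309] [4] (.free), .derive 6912 [.fwd 4136, .fwd 0] [] (.free), .derive 7341 [.bwd 0] [] (.free), .derive 6912 [.bwd 0, .bwd 3314] [1] (.free), .derive 7682 [.fwd 2645, .fwd 0] [] (.free), .derive 7682 [.fwd 0] [] (.free),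
  .derive 7345 [.bwd 0, .fwd 2646] [6] (.free), .derive 7672 [.bwd 13] [] (.free), .derive 7339 [.bwd 0, .bwd 2397] [0] (.free), .derive 7320 [.bwd 3332, .fwd 0] [] (.free), .derive 7805 [.bwd 0] [] (.free), .derive 7320 [.bwd 0, .fwd 2399] [1] (.free), .derive 3261 [.fwd 3365, .fwd 0] [] (.free), .derive 7784 [.bwd 0] [] (.free),
  .derive 3261 [.bwd 0, .bwd 2444] [7] (.free), .derive 7321 [.bwd 3367, .fwd 0] [] (.free), .derive 7155 [.bwd 428, .fwd 0] [] (.free), .derive 4084 [.bwd 0, .fwd 3675] [6] (.free), .derive 4083 [.edge 6, .fwd 0] [] (.free), .derive 7153 [.bwd 0] [] (.free), .derive 4083 [.bwd 0, .fwd 433] [7] (.free), .derive 7042 [.fwd 3903, .fwd 0] [] (.free),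
  .derive 7042 [.fwd 0] [] (.free), .derive 3831 [.bwd 0, .bwd 3903] [5] (.free), .derive 3826 [.edge 5, .fwd 0] [] (.free), .derive 7043 [.bwd 0] [] (.free)]
def ph9_p10_4 : List Aux := [
  .derive 3826 [.bwd 0, .fwd 3905] [7] (.free), .derive 7668 [.bwd 2707, .fwd 0] [] (.free), .derive 7151 [.bwd 447, .fwd 0] [] (.free), .derive 4103 [.bwd 0, .bwd 3695] [4] (.free), .derive 7040 [.fwd 3917, .fwd 0] [] (.free), .derive 7040 [.fwd 0] [] (.free), .derive 2717 [.bwd 0, .bwd 3916] [5] (.free), .derive 2718 [.edge 5, .fwd 0] [] (.free),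
  .derive 7041 [.bwd 0] [] (.free), .derive 2718 [.bwd 0, .bwd 2466] [6] (.free), .derive 2719 [.edge 6, .fwd 0] [] (.free), .derive 7783 [.bwd 0] [] (.free), .derive 2719 [.bwd 0, .fwd 2470] [1] (.free), .derive 2720 [.edge 1, .fwd 0] [] (.free), .derive 7673 [.bwd 0] [] (.free), .derive 2720 [.bwd 0, .fwd 2707] [6] (.free),
  .derive 2721 [.edge 6, .fwd 0] [] (.free), .derive 7502 [.bwd 0] [] (.free), .derive 2721 [.bwd 0, .fwd 3052] [5] (.free), .derive 7159 [.bwd 3697, .fwd 0] [] (.free), .derive 7159 [.fwd 0] [] (.free), .derive 4092 [.bwd 0, .fwd 3698] [3] (.free), .derive 4093 [.edge 3, .fwd 0] [] (.free), .derive 7115 [.bwd 0] [] (.free),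
  .derive 4093 [.bwd 0, .bwd 3788] [7] (.free), .derive 7748 [.fwd 2561, .fwd 0] [] (.free), .derive 7748 [.fwd 0] [] (.free), .derive 7117 [.bwd 0, .bwd 2393] [4] (.free), .derive 4189 [.bwd 3793, .fwd 0] [] (.free), .derive 7829 [.bwd 0] [] (.free), .derive 4189 [.bwd 0, .bwd 2397] [7] (.free), .derive 7113 [.fwd 3803, .fwd 0] [] (.free),
  .derive 7113 [.fwd 0] [] (.free), .derive 4133 [.bwd 0, .bwd 3807] [5] (.free), .derive 7828 [.bwd 2403, .fwd 0] [] (.free), .derive 7828 [.fwd 0] [] (.free), .derive 2663 [.bwd 0, .fwd 2404] [4] (.free), .derive 2664 [.edge 4, .fwd 0] [] (.free), .derive 7503 [.bwd 0] [] (.free), .derive 2664 [.bwd 0, .bwd 2725] [6] (.free),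
  .derive 2687 [.edge 6, .fwd 0] [] (.free), .derive 7675 [.bwd 0] [] (.free), .derive 2687 [.bwd 0, .bwd 1878] [2] (.free), .derive 4257 [.edge 2, .fwd 0] [] (.free), .derive 8109 [.bwd 0] [] (.free), .derive 4257 [.bwd 0, .fwd 1880] [5] (.free), .derive 4311 [.edge 5, .fwd 0] [] (.free), .derive 8106 [.bwd 0] [] (.free),
  .derive 4311 [.bwd 0, .fwd 1891] [6] (.free), .derive 7960 [.bwd 2185, .fwd 0] [] (.free), .derive 8104 [.bwd 0] [] (.free), .derive 7960 [.bwd 0, .fwd 1898] [5] (.free), .derive 7942 [.bwd 2187, .fwd 0] [] (.free), .derive 7942 [.fwd 0] [] (.free), .derive 7806 [.bwd 0, .bwd 2222] [6] (.free), .derive 7792 [.bwd 2466, .fwd 0] [] (.free),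
  .derive 7792 [.fwd 0] [] (.free), .derive 4270 [.bwd 0, .bwd 1908] [3] (.free), .derive 7941 [.bwd 2228, .fwd 0] [] (.free), .derive 4270 [.bwd 2, .bwd 2429] [4] (.free), .derive 4271 [.edge 4, .fwd 0] [] (.free), .derive 7827 [.bwd 0] [] (.free), .derive 4271 [.bwd 0, .bwd 2426] [6] (.free), .derive 7944 [.bwd 2228, .fwd 0] [] (.free),
  .derive 7944 [.fwd 0] [] (.free), .derive 7830 [.bwd 0, .bwd 2204] [5] (.free), .derive 8102 [.bwd 7] [] (.free), .derive 7941 [.bwd 0, .bwd 1900] [5] (.free), .derive 7932 [.bwd 2237, .fwd 0] [] (.free), .derive 7941 [.bwd 2, .bwd 1921] [6] (.free), .derive 8110 [.bwd 1] [] (.free), .derive 7932 [.bwd 0, .bwd 1905] [6] (.free),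
  .derive 7931 [.bwd 2259, .fwd 0] [] (.free), .derive 7931 [.fwd 0] [] (.free), .derive 4997 [.bwd 0, .bwd 2211] [5] (.free), .derive 4987 [.edge 5, .fwd 0] [] (.free), .derive 7959 [.bwd 0] [] (.free), .derive 4987 [.bwd 0, .bwd 2124] [2] (.free), .derive 4929 [.edge 2, .fwd 0] [] (.free), .derive 8003 [.bwd 0] [] (.free),
  .derive 4929 [.bwd 0, .fwd 2126] [5] (.free), .derive 4974 [.edge 5, .fwd 0] [] (.free), .derive 8001 [.bwd 0] [] (.free), .derive 4974 [.bwd 0, .bwd 2134] [3] (.free), .derive 7240 [.fwd 3606, .fwd 0] [] (.free), .derive 7240 [.fwd 0] [] (.free), .derive 4342 [.bwd 0, .bwd 1975] [5] (.free), .derive 4343 [.edge 5, .fwd 0] [] (.free),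
  .derive 8082 [.bwd 0] [] (.free), .derive 4343 [.bwd 0, .fwd 1979] [4] (.free), .derive 8004 [.bwd 2135, .fwd 0] [] (.free), .derive 4343 [.bwd 2, .fwd 1979] [6] (.free), .derive 8005 [.bwd 2135, .fwd 0] [] (.free), .derive 8005 [.fwd 0] [] (.free), .derive 4927 [.bwd 0, .fwd 2136] [2] (.free), .derive 7791 [.fwd 2537, .fwd 0] [] (.free),
  .derive 7961 [.bwd 0] [] (.free), .derive 7791 [.bwd 0, .fwd 2230] [3] (.free), .derive 7807 [.fwd 2507, .fwd 0] [] (.free), .derive 7955 [.bwd 0] [] (.free)]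
def ph9_p10 : List Aux :=
  ((ph9_p10_0 ++ ph9_p10_1) ++ (ph9_p10_2 ++ (ph9_p10_3 ++ ph9_p10_4)))

theorem ph9_p10_ok : stHas (runList (auxStep' P) ph9_p10 (mkSt 8508 mask10 ph9_eq10)) 8508 mask10 ph9_eq11 = true := by decide +kernel

def ph9_p11_0 : List Aux := [
  .derive 7807 [.bwd 0, .bwd 2244] [4] (.free), .derive 7831 [.fwd 2463, .fwd 0] [] (.free), .derive 7807 [.bwd 2, .bwd 2248] [6] (.free), .derive 7956 [.bwd 1] [] (.free), .derive 8004 [.fwd 13] [] (.free), .derive 4975 [.bwd 0, .fwd 2149] [5] (.free), .derive 4922 [.edge 5, .fwd 0] [] (.free), .derive 8002 [.bwd 0] [] (.free),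
  .derive 4922 [.bwd 0, .fwd 2157] [2] (.free), .derive 4119 [.fwd 4892, .fwd 0] [] (.free), .derive 7157 [.bwd 0] [] (.free), .derive 4119 [.bwd 0, .bwd 3790] [6] (.free), .derive 4118 [.edge 6, .fwd 0] [] (.free), .derive 7158 [.bwd 0] [] (.free), .derive 4118 [.bwd 0, .fwd 3794] [3] (.free), .derive 4087 [.edge 3, .fwd 0] [] (.free),
  .derive 7134 [.bwd 0] [] (.free), .derive 4087 [.bwd 0, .bwd 2422, .fwd 418] [7] (.free), .derive 7702 [.fwd 2745, .fwd 0] [] (.free), .derive 7702 [.fwd 0] [] (.free), .derive 3325 [.bwd 0, .fwd 2748] [5] (.free), .derive 7368 [.bwd 3416, .fwd 0] [] (.free), .derive 7699 [.bwd 0] [] (.free), .derive 7368 [.bwd 0, .bwd 2478] [4] (.free),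
  .derive 4217 [.bwd 407, .fwd 0] [] (.free), .derive 7368 [.bwd 2, .fwd 2758] [7] (.free), .derive 7835 [.bwd 1] [] (.free), .derive 4217 [.bwd 0, .bwd 2483] [7] (.free), .derive 7135 [.fwd 3852, .fwd 0] [] (.free), .derive 7135 [.fwd 0] [] (.free), .derive 4136 [.bwd 0, .bwd 3857] [5] (.free), .derive 7790 [.fwd 2576, .fwd 0] [] (.free),
  .derive 7790 [.fwd 0] [] (.free), .derive 2705 [.bwd 0, .fwd 2577] [6] (.free), .derive 2704 [.edge 6, .fwd 0] [] (.free), .derive 7787 [.bwd 0] [] (.free), .derive 2704 [.bwd 0, .bwd 2588] [4] (.free), .derive 7132 [.bwd 3869, .fwd 0] [] (.free), .derive 7132 [.fwd 0] [] (.free), .derive 4086 [.bwd 0, .bwd 2238] [7] (.free),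
  .derive 7788 [.bwd 2591, .fwd 0] [] (.free), .derive 7977 [.bwd 0] [] (.free), .derive 7788 [.bwd 0, .fwd 2242] [1] (.free), .derive 5916 [.bwd 2593, .fwd 0] [] (.free), .derive 7975 [.bwd 0] [] (.free), .derive 5916 [.bwd 0, .fwd 2250] [7] (.free), .derive 4085 [.edge 7, .fwd 0] [] (.free), .derive 7130 [.bwd 0] [] (.free),
  .derive 4085 [.bwd 0, .bwd 3870] [6] (.free), .derive 4102 [.edge 6, .fwd 0] [] (.free), .derive 7136 [.bwd 0] [] (.free), .derive 4102 [.bwd 0, .bwd 2460, .fwd 455] [7] (.free), .derive 7800 [.bwd 2580, .fwd 0] [] (.free), .derive 7800 [.fwd 0] [] (.free), .derive 3277 [.bwd 0, .fwd 2581] [5] (.free), .derive 3292 [.edge 5, .fwd 0] [] (.free),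
  .derive 7798 [.bwd 0] [] (.free), .derive 3292 [.bwd 0, .bwd 2589] [7] (.free), .derive 7348 [.bwd 3489, .fwd 0] [] (.free), .derive 7137 [.bwd 471, .fwd 0] [] (.free), .derive 4101 [.bwd 0, .bwd 3881] [4] (.free), .derive 7797 [.bwd 2594, .fwd 0] [] (.free), .derive 7797 [.fwd 0] [] (.free), .derive 2707 [.bwd 0, .bwd 2593] [5] (.free),
  .derive 2706 [.edge 5, .fwd 0] [] (.free), .derive 7799 [.bwd 0] [] (.free), .derive 2706 [.bwd 0, .fwd 2595] [6] (.free), .derive 2703 [.edge 6, .fwd 0] [] (.free), .derive 7785 [.bwd 0] [] (.free), .derive 2703 [.bwd 0, .bwd 1348] [7] (.free), .derive 4324 [.edge 7, .fwd 0] [] (.free), .derive 8388 [.bwd 0] [] (.free),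
  .derive 4324 [.bwd 0, .bwd 1349] [2] (.free), .derive 4325 [.edge 2, .fwd 0] [] (.free), .derive 8389 [.bwd 0] [] (.free), .derive 4325 [.bwd 0, .fwd 1351] [7] (.free), .derive 4317 [.edge 7, .fwd 0] [] (.free), .derive 7814 [.bwd 0] [] (.free), .derive 4317 [.bwd 0, .bwd 2573] [6] (.free), .derive 4316 [.edge 6, .fwd 0] [] (.free),
  .derive 7815 [.bwd 0] [] (.free), .derive 4316 [.bwd 0, .bwd 2573] [5] (.free), .derive 4319 [.edge 5, .fwd 0] [] (.free), .derive 7817 [.bwd 0] [] (.free), .derive 4319 [.bwd 0, .bwd 2577] [4] (.free), .derive 7970 [.bwd 2302, .fwd 0] [] (.free), .derive 7332 [.bwd 501, .fwd 0] [] (.free), .derive 4126 [.bwd 0, .bwd 3548] [7] (.free),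
  .derive 7818 [.bwd 2579, .fwd 0] [] (.free), .derive 7818 [.fwd 0] [] (.free), .derive 3275 [.bwd 0, .fwd 2580] [5] (.free), .derive 3276 [.edge 5, .fwd 0] [] (.free), .derive 7816 [.bwd 0] [] (.free), .derive 3276 [.bwd 0, .bwd 2587] [7] (.free), .derive 7334 [.bwd 3551, .fwd 0] [] (.free), .derive 7334 [.fwd 0] [] (.free),
  .derive 4125 [.bwd 0, .fwd 512] [6] (.free), .derive 4124 [.edge 6, .fwd 0] [] (.free), .derive 7968 [.bwd 0] [] (.free), .derive 4124 [.bwd 0, .bwd 2318] [0] (.free)]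
def ph9_p11_1 : List Aux := [
  .derive 4123 [.edge 0, .fwd 0] [] (.free), .derive 7969 [.bwd 0] [] (.free), .derive 4123 [.bwd 0, .fwd 2320, .fwd 530] [6] (.free), .derive 4122 [.edge 6, .fwd 0] [] (.free), .derive 7330 [.bwd 0] [] (.free), .derive 4122 [.bwd 0, .bwd 3569] [7] (.free), .derive 7812 [.bwd 2608, .fwd 0] [] (.free), .derive 7812 [.fwd 0] [] (.free),
  .derive 3271 [.bwd 0, .fwd 2609] [5] (.free), .derive 3293 [.edge 5, .fwd 0] [] (.free), .derive 7810 [.bwd 0] [] (.free), .derive 3293 [.bwd 0, .bwd 2616] [7] (.free), .derive 7350 [.bwd 3537, .fwd 0] [] (.free), .derive 7350 [.fwd 0] [] (.free), .derive 4121 [.bwd 0, .fwd 545] [4] (.free), .derive 7809 [.bwd 2621, .fwd 0] [] (.free),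
  .derive 7809 [.fwd 0] [] (.free), .derive 4322 [.bwd 0, .bwd 2620] [5] (.free), .derive 4313 [.edge 5, .fwd 0] [] (.free), .derive 7811 [.bwd 0] [] (.free), .derive 4313 [.bwd 0, .bwd 2618] [6] (.free), .derive 4318 [.edge 6, .fwd 0] [] (.free), .derive 7813 [.bwd 0] [] (.free), .derive 4318 [.bwd 0, .fwd 2622] [2] (.free),
  .derive 2702 [.edge 2, .fwd 0] [] (.free), .derive 7664 [.bwd 0] [] (.free), .derive 2702 [.bwd 0, .bwd 1407] [7] (.free), .derive 4323 [.edge 7, .fwd 0] [] (.free), .derive 8387 [.bwd 0] [] (.free), .derive 4323 [.bwd 0, .bwd 1411] [4] (.free), .derive 7973 [.bwd 2340, .fwd 0] [] (.free), .derive 7973 [.fwd 0] [] (.free),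
  .derive 5915 [.bwd 0, .fwd 2341] [7] (.free), .derive 3819 [.edge 7, .fwd 0] [] (.free), .derive 7129 [.bwd 0] [] (.free), .derive 3819 [.bwd 0, .fwd 3971] [6] (.free), .derive 2563 [.edge 6, .fwd 0] [] (.free), .derive 7128 [.bwd 0] [] (.free), .derive 2563 [.bwd 0, .bwd 2513, .fwd 621] [7] (.free), .derive 7052 [.bwd 4130, .fwd 0] [] (.free),
  .derive 7052 [.fwd 0] [] (.free), .derive 3270 [.bwd 0, .fwd 4131] [5] (.free), .derive 3269 [.edge 5, .fwd 0] [] (.free), .derive 7050 [.bwd 0] [] (.free), .derive 3269 [.bwd 0, .bwd 4139] [7] (.free), .derive 7326 [.bwd 3615, .fwd 0] [] (.free), .derive 7149 [.bwd 420, .fwd 0] [] (.free), .derive 2562 [.bwd 0, .bwd 3943] [4] (.free),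
  .derive 7049 [.bwd 4144, .fwd 0] [] (.free), .derive 7049 [.fwd 0] [] (.free), .derive 2716 [.bwd 0, .bwd 4142] [5] (.free), .derive 2701 [.edge 5, .fwd 0] [] (.free), .derive 7051 [.bwd 0] [] (.free), .derive 2701 [.bwd 0, .fwd 4146] [1] (.free), .derive 2714 [.edge 1, .fwd 0] [] (.free), .derive 6971 [.bwd 0] [] (.free),
  .derive 2714 [.bwd 0, .fwd 4304] [5] (.free), .derive 2713 [.edge 5, .fwd 0] [] (.free), .derive 6970 [.bwd 0] [] (.free), .derive 2713 [.bwd 0, .bwd 2903] [7] (.free), .derive 4207 [.edge 7, .fwd 0] [] (.free), .derive 7694 [.bwd 0] [] (.free), .derive 4207 [.bwd 0, .bwd 2907] [4] (.free), .derive 7877 [.bwd 2548, .fwd 0] [] (.free),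
  .derive 7387 [.bwd 660, .fwd 0] [] (.free), .derive 3895 [.bwd 0, .fwd 658] [7] (.free), .derive 2434 [.edge 7, .fwd 0] [] (.free), .derive 7145 [.bwd 0] [] (.free), .derive 2434 [.bwd 0, .bwd 3967] [5] (.free), .derive 2435 [.edge 5, .fwd 0] [] (.free), .derive 7147 [.bwd 0] [] (.free), .derive 2435 [.bwd 0, .bwd 2551, .fwd 663] [7] (.free),
  .derive 6972 [.bwd 4319, .fwd 0] [] (.free), .derive 6972 [.fwd 0] [] (.free), .derive 3336 [.bwd 0, .bwd 4314] [3] (.free), .derive 3331 [.edge 3, .fwd 0] [] (.free), .derive 6976 [.bwd 0] [] (.free), .derive 3331 [.bwd 0, .bwd 4318] [7] (.free), .derive 7378 [.bwd 3552, .fwd 0] [] (.free), .derive 6907 [.bwd 332, .fwd 0] [] (.free),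
  .derive 2437 [.bwd 0, .bwd 4452] [6] (.free), .derive 6975 [.bwd 4324, .fwd 0] [] (.free), .derive 6975 [.fwd 0] [] (.free), .derive 2291 [.bwd 0, .fwd 4325] [3] (.free), .derive 6630 [.fwd 5423, .fwd 0] [] (.free), .derive 6920 [.bwd 0] [] (.free), .derive 6630 [.bwd 0, .bwd 4404] [4] (.free), .derive 6826 [.fwd 4639, .fwd 0] [] (.free),
  .derive 6932 [.bwd 0] [] (.free), .derive 6826 [.bwd 0, .fwd 4408] [2] (.free), .derive 6828 [.fwd 4639, .fwd 0] [] (.free), .derive 6918 [.bwd 0] [] (.free), .derive 6828 [.bwd 0, .bwd 4439] [4] (.free), .derive 6827 [.bwd 4641, .fwd 0] [] (.free), .derive 6919 [.bwd 0] [] (.free), .derive 6827 [.bwd 0, .bwd 4433] [0] (.free),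
  .derive 6830 [.fwd 4640, .fwd 0] [] (.free), .derive 6924 [.bwd 0] [] (.free), .derive 6830 [.bwd 0, .bwd 4427] [4] (.free), .derive 6829 [.bwd 4642, .fwd 0] [] (.free)]
def ph9_p11_2 : List Aux := [
  .derive 6927 [.bwd 0] [] (.free), .derive 6829 [.bwd 0, .fwd 4431] [2] (.free), .derive 6825 [.bwd 4648, .fwd 0] [] (.free), .derive 6922 [.bwd 0] [] (.free), .derive 6825 [.bwd 0, .bwd 4444] [4] (.free), .derive 6811 [.bwd 4659, .fwd 0] [] (.free), .derive 6923 [.bwd 0] [] (.free), .derive 6811 [.bwd 0, .bwd 4342] [3] (.free),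
  .derive 2316 [.bwd 4688, .fwd 0] [] (.free), .derive 6978 [.bwd 0] [] (.free), .derive 2316 [.bwd 0, .bwd 4346] [6] (.free), .derive 6916 [.bwd 4463, .fwd 0] [] (.free), .derive 6916 [.fwd 0] [] (.free), .derive 2438 [.bwd 0, .fwd 4464] [4] (.free), .derive 6977 [.bwd 4353, .fwd 0] [] (.free), .derive 6977 [.fwd 0] [] (.free),
  .derive 6915 [.bwd 0, .fwd 4354] [0] (.free), .derive 6908 [.bwd 4470, .fwd 0] [] (.free), .derive 6974 [.bwd 0] [] (.free), .derive 6908 [.bwd 0, .bwd 2914] [7] (.free), .derive 3332 [.bwd 374, .fwd 0] [] (.free), .derive 7718 [.bwd 0] [] (.free), .derive 3332 [.bwd 0, .fwd 2918] [5] (.free), .derive 7379 [.bwd 3596, .fwd 0] [] (.free),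
  .derive 7379 [.fwd 0] [] (.free), .derive 3927 [.bwd 0, .fwd 542] [7] (.free), .derive 6973 [.fwd 4371, .fwd 0] [] (.free), .derive 7216 [.bwd 0] [] (.free), .derive 6973 [.bwd 0, .bwd 3897] [1] (.free), .derive 6990 [.fwd 4338, .fwd 0] [] (.free), .derive 6990 [.fwd 0] [] (.free), .derive 2919 [.bwd 0, .bwd 2980] [7] (.free),
  .derive 7217 [.bwd 3899, .fwd 0] [] (.free), .derive 7691 [.bwd 0] [] (.free), .derive 7217 [.bwd 0, .bwd 2984] [4] (.free), .derive 8006 [.fwd 2375, .fwd 0] [] (.free), .derive 7351 [.bwd 740, .fwd 0] [] (.free), .derive 3887 [.bwd 0, .fwd 738] [7] (.free), .derive 2451 [.edge 7, .fwd 0] [] (.free), .derive 7189 [.bwd 0] [] (.free),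
  .derive 2451 [.bwd 0, .bwd 3910] [5] (.free), .derive 2450 [.edge 5, .fwd 0] [] (.free), .derive 7215 [.bwd 0] [] (.free), .derive 2450 [.bwd 0, .fwd 512] [7] (.free), .derive 6989 [.bwd 4356, .fwd 0] [] (.free), .derive 6989 [.fwd 0] [] (.free), .derive 3311 [.bwd 0, .fwd 4357] [3] (.free), .derive 3312 [.edge 3, .fwd 0] [] (.free),
  .derive 6956 [.bwd 0] [] (.free), .derive 3312 [.bwd 0, .bwd 4422] [7] (.free), .derive 7354 [.bwd 3669, .fwd 0] [] (.free), .derive 7148 [.bwd 522, .fwd 0] [] (.free), .derive 2408 [.bwd 0, .fwd 4049] [5] (.free), .derive 2407 [.edge 5, .fwd 0] [] (.free), .derive 7143 [.bwd 0] [] (.free), .derive 2407 [.bwd 0, .bwd 2641, .fwd 755] [7] (.free),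
  .derive 3886 [.edge 7, .fwd 0] [] (.free), .derive 7353 [.bwd 0] [] (.free), .derive 3886 [.bwd 0, .fwd 755] [4] (.free), .derive 7690 [.bwd 3011, .fwd 0] [] (.free), .derive 7690 [.fwd 0] [] (.free), .derive 4206 [.bwd 0, .fwd 3012] [7] (.free), .derive 2712 [.edge 7, .fwd 0] [] (.free), .derive 6955 [.bwd 0] [] (.free),
  .derive 2712 [.bwd 0, .fwd 4438] [6] (.free), .derive 3346 [.edge 6, .fwd 0] [] (.free), .derive 6954 [.bwd 0] [] (.free), .derive 3346 [.bwd 0, .bwd 4443] [4] (.free), .derive 7389 [.bwd 3621, .fwd 0] [] (.free), .derive 7389 [.fwd 0] [] (.free), .derive 2406 [.bwd 0, .bwd 3619] [0] (.free), .derive 2411 [.edge 0, .fwd 0] [] (.free),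
  .derive 7391 [.bwd 0] [] (.free), .derive 2411 [.bwd 0, .fwd 3621] [6] (.free), .derive 2410 [.edge 6, .fwd 0] [] (.free), .derive 7142 [.bwd 0] [] (.free), .derive 2410 [.bwd 0, .bwd 2664] [7] (.free), .derive 3903 [.edge 7, .fwd 0] [] (.free), .derive 7875 [.bwd 0] [] (.free), .derive 3903 [.bwd 0, .bwd 2668] [4] (.free),
  .derive 7698 [.bwd 3016, .fwd 0] [] (.free), .derive 7698 [.fwd 0] [] (.free), .derive 4205 [.bwd 0, .fwd 3017] [7] (.free), .derive 2711 [.edge 7, .fwd 0] [] (.free), .derive 6957 [.bwd 0] [] (.free), .derive 2711 [.bwd 0, .bwd 4454] [6] (.free), .derive 3347 [.edge 6, .fwd 0] [] (.free), .derive 6958 [.bwd 0] [] (.free),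
  .derive 3347 [.bwd 0, .fwd 4458] [3] (.free), .derive 3348 [.edge 3, .fwd 0] [] (.free), .derive 6952 [.bwd 0] [] (.free), .derive 3348 [.bwd 0, .bwd 4470] [4] (.free), .derive 6845 [.fwd 4701, .fwd 0] [] (.free), .derive 6845 [.fwd 0] [] (.free), .derive 2405 [.bwd 0, .fwd 4619] [7] (.free), .derive 6953 [.bwd 4473, .fwd 0] [] (.free),
  .derive 6953 [.fwd 0] [] (.free), .derive 6884 [.bwd 0, .fwd 4474] [0] (.free), .derive 6888 [.fwd 4616, .fwd 0] [] (.free), .derive 6951 [.bwd 0] [] (.free)]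
def ph9_p11_3 : List Aux := [
  .derive 6888 [.bwd 0, .bwd 4480] [7] (.free), .derive 6847 [.fwd 4617, .fwd 0] [] (.free), .derive 6847 [.fwd 0] [] (.free), .derive 2404 [.bwd 0, .bwd 4708] [6] (.free), .derive 6672 [.fwd 5456, .fwd 0] [] (.free), .derive 6672 [.fwd 0] [] (.free), .derive 1951 [.bwd 0, .bwd 4979] [5] (.free), .derive 1174 [.edge 5, .fwd 0] [] (.free),
  .derive 6716 [.bwd 0] [] (.free), .derive 1174 [.bwd 0, .bwd 4983] [3] (.free), .derive 6732 [.bwd 4953, .fwd 0] [] (.free), .derive 6732 [.fwd 0] [] (.free), .derive 1068 [.bwd 0, .bwd 4847] [7] (.free), .derive 1067 [.edge 7, .fwd 0] [] (.free), .derive 6782 [.bwd 0] [] (.free), .derive 1067 [.bwd 0, .bwd 4730] [5] (.free),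
  .derive 904 [.edge 5, .fwd 0] [] (.free), .derive 6841 [.bwd 0] [] (.free), .derive 904 [.bwd 0, .bwd 4724] [7] (.free), .derive 903 [.edge 7, .fwd 0] [] (.free), .derive 6846 [.bwd 0] [] (.free), .derive 903 [.bwd 0, .fwd 4728] [0] (.free), .derive 940 [.edge 0, .fwd 0] [] (.free), .derive 6844 [.bwd 0] [] (.free),
  .derive 940 [.bwd 0, .bwd 4722] [7] (.free), .derive 941 [.edge 7, .fwd 0] [] (.free), .derive 6849 [.bwd 0] [] (.free), .derive 941 [.bwd 0, .fwd 4726] [5] (.free), .derive 1072 [.edge 5, .fwd 0] [] (.free), .derive 6837 [.bwd 0] [] (.free), .derive 1072 [.bwd 0, .bwd 4750] [7] (.free), .derive 1077 [.edge 7, .fwd 0] [] (.free),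
  .derive 6839 [.bwd 0] [] (.free), .derive 1077 [.bwd 0, .bwd 4754] [3] (.free), .derive 6719 [.bwd 5003, .fwd 0] [] (.free), .derive 6719 [.fwd 0] [] (.free), .derive 1913 [.bwd 0, .fwd 5004] [5] (.free), .derive 1939 [.edge 5, .fwd 0] [] (.free), .derive 6676 [.bwd 0] [] (.free), .derive 1939 [.bwd 0, .fwd 5483] [1] (.free),
  .derive 6843 [.bwd 4753, .fwd 0] [] (.free), .derive 6843 [.fwd 0] [] (.free), .derive 2473 [.bwd 0, .fwd 4754] [7] (.free), .derive 7005 [.bwd 4429, .fwd 0] [] (.free), .derive 7005 [.fwd 0] [] (.free), .derive 3367 [.bwd 0, .bwd 4425] [5] (.free), .derive 7400 [.bwd 3677, .fwd 0] [] (.free), .derive 7400 [.fwd 0] [] (.free),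
  .derive 7007 [.bwd 0, .fwd 3678] [3] (.free), .derive 7014 [.fwd 4415, .fwd 0] [] (.free), .derive 7398 [.bwd 0] [] (.free), .derive 7014 [.bwd 0, .bwd 3687] [5] (.free), .derive 7013 [.bwd 4417, .fwd 0] [] (.free), .derive 7013 [.fwd 0] [] (.free), .derive 3366 [.bwd 0, .bwd 4422] [7] (.free), .derive 6848 [.fwd 4756, .fwd 0] [] (.free),
  .derive 6848 [.fwd 0] [] (.free), .derive 2481 [.bwd 0, .bwd 3379] [6] (.free), .derive 2480 [.edge 6, .fwd 0] [] (.free), .derive 7563 [.bwd 0] [] (.free), .derive 2480 [.bwd 0, .fwd 3381] [7] (.free), .derive 7011 [.bwd 4434, .fwd 0] [] (.free), .derive 7560 [.bwd 0] [] (.free), .derive 7011 [.bwd 0, .fwd 3391] [3] (.free),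
  .derive 6991 [.bwd 4436, .fwd 0] [] (.free), .derive 7551 [.bwd 0] [] (.free), .derive 6991 [.bwd 0, .bwd 3408] [2] (.free), .derive 7306 [.fwd 3871, .fwd 0] [] (.free), .derive 7306 [.fwd 0] [] (.free), .derive 3640 [.bwd 0, .bwd 3874] [7] (.free), .derive 6891 [.fwd 4679, .fwd 0] [] (.free), .derive 6891 [.fwd 0] [] (.free),
  .derive 3165 [.bwd 0, .fwd 4682] [6] (.free), .derive 3166 [.edge 6, .fwd 0] [] (.free), .derive 6890 [.bwd 0] [] (.free), .derive 3166 [.bwd 0, .fwd 4687] [7] (.free), .derive 7307 [.bwd 3879, .fwd 0] [] (.free), .derive 7307 [.fwd 0] [] (.free), .derive 6889 [.bwd 0, .fwd 3880] [2] (.free), .derive 6883 [.bwd 4693, .fwd 0] [] (.free),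
  .derive 6992 [.bwd 0] [] (.free), .derive 6883 [.bwd 0, .bwd 4488] [7] (.free), .derive 6885 [.fwd 4705, .fwd 0] [] (.free), .derive 6885 [.fwd 0] [] (.free), .derive 2461 [.bwd 0, .bwd 4708] [1] (.free), .derive 6675 [.fwd 5532, .fwd 0] [] (.free), .derive 6675 [.fwd 0] [] (.free), .derive 2143 [.bwd 0, .fwd 5533] [6] (.free),
  .derive 6617 [.fwd 5657, .fwd 0] [] (.free), .derive 6674 [.bwd 0] [] (.free), .derive 6617 [.bwd 0, .bwd 5528] [5] (.free), .derive 6618 [.fwd 5658, .fwd 0] [] (.free), .derive 6679 [.bwd 0] [] (.free), .derive 6618 [.bwd 0, .bwd 5532] [3] (.free), .derive 6633 [.fwd 5626, .fwd 0] [] (.free), .derive 6633 [.fwd 0] [] (.free),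
  .derive 953 [.bwd 0, .bwd 1461] [5] (.free), .derive 923 [.edge 5, .fwd 0] [] (.free), .derive 8501 [.bwd 0] [] (.free), .derive 923 [.bwd 0, .bwd 1463] [6] (.free)]
def ph9_p11_4 : List Aux := [
  .derive 938 [.edge 6, .fwd 0] [] (.free), .derive 6886 [.bwd 0] [] (.free), .derive 938 [.bwd 0, .bwd 4722] [0] (.free), .derive 901 [.edge 0, .fwd 0] [] (.free), .derive 6887 [.bwd 0] [] (.free), .derive 901 [.bwd 0, .fwd 1479] [6] (.free), .derive 922 [.edge 6, .fwd 0] [] (.free), .derive 8497 [.bwd 0] [] (.free),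
  .derive 922 [.bwd 0, .fwd 1483] [5] (.free), .derive 6673 [.bwd 5560, .fwd 0] [] (.free), .derive 6673 [.fwd 0] [] (.free), .derive 6636 [.bwd 0, .fwd 5561] [2] (.free), .derive 808 [.fwd 5639, .fwd 0] [] (.free), .derive 6551 [.bwd 0] [] (.free), .derive 808 [.bwd 0, .fwd 5805] [7] (.free), .derive 6638 [.bwd 5639, .fwd 0] [] (.free),
  .derive 6638 [.fwd 0] [] (.free), .derive 958 [.bwd 0, .bwd 5602] [6] (.free), .derive 6681 [.bwd 5553, .fwd 0] [] (.free), .derive 6681 [.fwd 0] [] (.free), .derive 6656 [.bwd 0, .bwd 5095] [5] (.free), .derive 6684 [.fwd 5551, .fwd 0] [] (.free), .derive 6715 [.bwd 0] [] (.free), .derive 6684 [.bwd 0, .bwd 5099] [6] (.free),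
  .derive 6683 [.bwd 5553, .fwd 0] [] (.free), .derive 6683 [.fwd 0] [] (.free), .derive 1066 [.bwd 0, .fwd 5558] [5] (.free), .derive 864 [.edge 5, .fwd 0] [] (.free), .derive 6664 [.bwd 0] [] (.free), .derive 864 [.bwd 0, .bwd 5597] [6] (.free), .derive 879 [.edge 6, .fwd 0] [] (.free), .derive 6665 [.bwd 0] [] (.free),
  .derive 879 [.bwd 0, .fwd 5599] [7] (.free), .derive 406 [.edge 7, .fwd 0] [] (.free), .derive 6533 [.bwd 0] [] (.free), .derive 406 [.bwd 0, .fwd 1508] [4] (.free), .derive 407 [.edge 4, .fwd 0] [] (.free), .derive 8498 [.bwd 0] [] (.free), .derive 407 [.bwd 0, .fwd 1510] [5] (.free), .derive 959 [.edge 5, .fwd 0] [] (.free),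
  .derive 6637 [.bwd 0] [] (.free), .derive 959 [.bwd 0, .bwd 5029] [7] (.free), .derive 957 [.edge 7, .fwd 0] [] (.free), .derive 6760 [.bwd 0] [] (.free), .derive 957 [.bwd 0, .bwd 5033] [3] (.free), .derive 6680 [.bwd 5582, .fwd 0] [] (.free), .derive 6680 [.fwd 0] [] (.free), .derive 1268 [.bwd 0, .fwd 5583] [7] (.free),
  .derive 1267 [.edge 7, .fwd 0] [] (.free), .derive 6577 [.bwd 0] [] (.free), .derive 1267 [.bwd 0, .bwd 5796] [5] (.free), .derive 6568 [.fwd 5812, .fwd 0] [] (.free), .derive 6568 [.fwd 0] [] (.free), .derive 532 [.bwd 0, .bwd 5059] [7] (.free), .derive 1243 [.edge 7, .fwd 0] [] (.free), .derive 6751 [.bwd 0] [] (.free),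
  .derive 1243 [.bwd 0, .bwd 4647] [6] (.free), .derive 2364 [.edge 6, .fwd 0] [] (.free), .derive 6945 [.bwd 0] [] (.free), .derive 2364 [.bwd 0, .fwd 4651] [5] (.free), .derive 2365 [.edge 5, .fwd 0] [] (.free), .derive 6944 [.bwd 0] [] (.free), .derive 2365 [.bwd 0, .fwd 4656] [6] (.free), .derive 2545 [.edge 6, .fwd 0] [] (.free),
  .derive 6943 [.bwd 0] [] (.free), .derive 2545 [.bwd 0, .fwd 4661] [7] (.free), .derive 7035 [.bwd 4489, .fwd 0] [] (.free), .derive 7035 [.fwd 0] [] (.free), .derive 3854 [.bwd 0, .bwd 4483] [5] (.free), .derive 2799 [.edge 5, .fwd 0] [] (.free), .derive 7039 [.bwd 0] [] (.free), .derive 2799 [.bwd 0, .bwd 4487] [7] (.free),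
  .derive 6761 [.fwd 5057, .fwd 0] [] (.free), .derive 6761 [.fwd 0] [] (.free), .derive 2547 [.bwd 0, .fwd 5060] [4] (.free), .derive 7038 [.bwd 4493, .fwd 0] [] (.free), .derive 7038 [.fwd 0] [] (.free), .derive 2378 [.bwd 0, .fwd 4494] [5] (.free), .derive 2381 [.edge 5, .fwd 0] [] (.free), .derive 7034 [.bwd 0] [] (.free),
  .derive 2381 [.bwd 0, .fwd 4504] [6] (.free), .derive 2382 [.edge 6, .fwd 0] [] (.free), .derive 6938 [.bwd 0] [] (.free), .derive 2382 [.bwd 0, .fwd 4689] [5] (.free), .derive 2383 [.edge 5, .fwd 0] [] (.free), .derive 6937 [.bwd 0] [] (.free), .derive 2383 [.bwd 0, .fwd 4694] [6] (.free), .derive 1230 [.edge 6, .fwd 0] [] (.free),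
  .derive 6753 [.bwd 0] [] (.free), .derive 1230 [.bwd 0, .fwd 5091] [7] (.free), .derive 509 [.edge 7, .fwd 0] [] (.free), .derive 6576 [.bwd 0] [] (.free), .derive 509 [.bwd 0, .fwd 5839] [1] (.free), .derive 523 [.edge 1, .fwd 0] [] (.free), .derive 6571 [.bwd 0] [] (.free), .derive 523 [.bwd 0, .bwd 5095] [7] (.free),
  .derive 1245 [.edge 7, .fwd 0] [] (.free), .derive 6754 [.bwd 0] [] (.free), .derive 1245 [.bwd 0, .bwd 4708] [6] (.free), .derive 2360 [.edge 6, .fwd 0] [] (.free)]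
def ph9_p11 : List Aux :=
  ((ph9_p11_0 ++ ph9_p11_1) ++ (ph9_p11_2 ++ (ph9_p11_3 ++ ph9_p11_4)))

theorem ph9_p11_ok : stHas (runList (auxStep' P) ph9_p11 (mkSt 8508 mask10 ph9_eq11)) 8508 mask10 ph9_eq12 = true := by decide +kernel

end Cfsg.Agent.CosetData.ChainU62
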