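import Cfsg.Agent.Lib.Compute.CosetData.ChainU62Aux

/-! Coset enumeration certificate data (S2091 chain). -/

set_option autoImplicit false
set_option maxRecDepth 100000
set_option Elab.async false

namespace Cfsg.Agent.CosetData.ChainU62

open Cfsg.Agent.CosetCert

def ph9_p12_0 : List Aux := [
  .derive 6936 [.bwd 0] [] (.free), .derive 2360 [.bwd 0, .fwd 4712] [5] (.free), .derive 2361 [.edge 5, .fwd 0] [] (.free), .derive 6935 [.bwd 0] [] (.free), .derive 2361 [.bwd 0, .bwd 4717] [4] (.free), .derive 6934 [.bwd 4720, .fwd 0] [] (.free), .derive 6934 [.fwd 0] [] (.free), .derive 2362 [.bwd 0, .fwd 4721] [5] (.free),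
  .derive 2363 [.edge 5, .fwd 0] [] (.free), .derive 6933 [.bwd 0] [] (.free), .derive 2363 [.bwd 0, .fwd 4726] [6] (.free), .derive 1244 [.edge 6, .fwd 0] [] (.free), .derive 6755 [.bwd 0] [] (.free), .derive 1244 [.bwd 0, .fwd 5111] [7] (.free), .derive 524 [.edge 7, .fwd 0] [] (.free), .derive 6570 [.bwd 0] [] (.free),
  .derive 524 [.bwd 0, .bwd 1606] [3] (.free), .derive 151 [.edge 3, .fwd 0] [] (.free), .derive 8491 [.bwd 0] [] (.free), .derive 151 [.bwd 0, .bwd 1610] [4] (.free), .derive 155 [.edge 4, .fwd 0] [] (.free), .derive 6522 [.bwd 0] [] (.free), .derive 155 [.bwd 0, .fwd 1611] [7] (.free), .derive 154 [.edge 7, .fwd 0] [] (.free),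
  .derive 8492 [.bwd 0] [] (.free), .derive 154 [.bwd 0, .fwd 1613] [1] (.free), .derive 421 [.edge 1, .fwd 0] [] (.free), .derive 6530 [.bwd 0] [] (.free), .derive 421 [.bwd 0, .fwd 5966] [7] (.free), .derive 6523 [.fwd 5981, .fwd 0] [] (.free), .derive 6523 [.fwd 0] [] (.free), .derive 530 [.bwd 0, .fwd 1618] [5] (.free),
  .derive 525 [.edge 5, .fwd 0] [] (.free), .derive 8493 [.bwd 0] [] (.free), .derive 525 [.bwd 0, .fwd 1620] [7] (.free), .derive 805 [.edge 7, .fwd 0] [] (.free), .derive 6553 [.bwd 0] [] (.free), .derive 805 [.bwd 0, .fwd 5924] [4] (.free), .derive 6631 [.bwd 5775, .fwd 0] [] (.free), .derive 6631 [.fwd 0] [] (.free),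
  .derive 960 [.bwd 0, .fwd 5776] [7] (.free), .derive 6575 [.fwd 5890, .fwd 0] [] (.free), .derive 6575 [.fwd 0] [] (.free), .derive 1300 [.bwd 0, .bwd 5893] [5] (.free), .derive 6574 [.fwd 5895, .fwd 0] [] (.free), .derive 6574 [.fwd 0] [] (.free), .derive 531 [.bwd 0, .bwd 1627] [7] (.free), .derive 410 [.edge 7, .fwd 0] [] (.free),
  .derive 8495 [.bwd 0] [] (.free), .derive 410 [.bwd 0, .bwd 1602] [0] (.free), .derive 411 [.edge 0, .fwd 0] [] (.free), .derive 8506 [.bwd 0] [] (.free), .derive 411 [.bwd 0, .fwd 1604] [7] (.free), .derive 534 [.edge 7, .fwd 0] [] (.free), .derive 6573 [.bwd 0] [] (.free), .derive 534 [.bwd 0, .fwd 5908] [5] (.free),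
  .derive 6579 [.bwd 5899, .fwd 0] [] (.free), .derive 6579 [.fwd 0] [] (.free), .derive 1281 [.bwd 0, .fwd 5899] [7] (.free), .derive 6632 [.fwd 5793, .fwd 0] [] (.free), .derive 6632 [.fwd 0] [] (.free), .derive 961 [.bwd 0, .bwd 5796] [4] (.free), .derive 6552 [.fwd 5951, .fwd 0] [] (.free), .derive 6552 [.fwd 0] [] (.free),
  .derive 806 [.bwd 0, .bwd 1647] [7] (.free), .derive 528 [.edge 7, .fwd 0] [] (.free), .derive 8494 [.bwd 0] [] (.free), .derive 528 [.bwd 0, .fwd 1651] [1] (.free), .derive 544 [.edge 1, .fwd 0] [] (.free), .derive 6581 [.bwd 0] [] (.free), .derive 544 [.bwd 0, .fwd 5908] [7] (.free), .derive 811 [.edge 7, .fwd 0] [] (.free),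
  .derive 6580 [.bwd 0] [] (.free), .derive 811 [.bwd 0, .bwd 5913] [5] (.free), .derive 6642 [.bwd 5789, .fwd 0] [] (.free), .derive 6642 [.fwd 0] [] (.free), .derive 535 [.bwd 0, .fwd 5790] [7] (.free), .derive 536 [.edge 7, .fwd 0] [] (.free), .derive 6585 [.bwd 0] [] (.free), .derive 536 [.bwd 0, .bwd 5152] [4] (.free),
  .derive 541 [.edge 4, .fwd 0] [] (.free), .derive 6766 [.bwd 0] [] (.free), .derive 541 [.bwd 0, .bwd 5156] [5] (.free), .derive 6582 [.bwd 5920, .fwd 0] [] (.free), .derive 6582 [.fwd 0] [] (.free), .derive 1304 [.bwd 0, .fwd 5921] [7] (.free), .derive 6641 [.fwd 5802, .fwd 0] [] (.free), .derive 6641 [.fwd 0] [] (.free),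
  .derive 966 [.bwd 0, .bwd 5800] [3] (.free), .derive 965 [.edge 3, .fwd 0] [] (.free), .derive 6643 [.bwd 0] [] (.free), .derive 965 [.bwd 0, .bwd 5166] [7] (.free), .derive 964 [.edge 7, .fwd 0] [] (.free), .derive 6765 [.bwd 0] [] (.free), .derive 964 [.bwd 0, .bwd 4783] [6] (.free), .derive 2488 [.edge 6, .fwd 0] [] (.free),
  .derive 6946 [.bwd 0] [] (.free), .derive 2488 [.bwd 0, .bwd 4782] [5] (.free), .derive 2489 [.edge 5, .fwd 0] [] (.free), .derive 6948 [.bwd 0] [] (.free)]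
def ph9_p12_1 : List Aux := [
  .derive 2489 [.bwd 0, .bwd 4786] [4] (.free), .derive 6881 [.fwd 4933, .fwd 0] [] (.free), .derive 6881 [.fwd 0] [] (.free), .derive 2399 [.bwd 0, .bwd 4937] [6] (.free), .derive 6949 [.bwd 4788, .fwd 0] [] (.free), .derive 6949 [.fwd 0] [] (.free), .derive 2116 [.bwd 0, .bwd 4636] [1] (.free), .derive 2543 [.edge 1, .fwd 0] [] (.free),
  .derive 7031 [.bwd 0] [] (.free), .derive 2543 [.bwd 0, .fwd 4638] [6] (.free), .derive 2542 [.edge 6, .fwd 0] [] (.free), .derive 6947 [.bwd 0] [] (.free), .derive 2542 [.bwd 0, .bwd 4664] [5] (.free), .derive 2540 [.edge 5, .fwd 0] [] (.free), .derive 7020 [.bwd 0] [] (.free), .derive 2540 [.bwd 0, .bwd 4665] [6] (.free),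
  .derive 2521 [.edge 6, .fwd 0] [] (.free), .derive 7021 [.bwd 0] [] (.free), .derive 2521 [.bwd 0, .bwd 4665] [5] (.free), .derive 2520 [.edge 5, .fwd 0] [] (.free), .derive 7022 [.bwd 0] [] (.free), .derive 2520 [.bwd 0, .fwd 4669] [1] (.free), .derive 1037 [.edge 1, .fwd 0] [] (.free), .derive 6718 [.bwd 0] [] (.free),
  .derive 1037 [.bwd 0, .fwd 5294] [5] (.free), .derive 836 [.edge 5, .fwd 0] [] (.free), .derive 6663 [.bwd 0] [] (.free), .derive 836 [.bwd 0, .fwd 5798] [6] (.free), .derive 835 [.edge 6, .fwd 0] [] (.free), .derive 6662 [.bwd 0] [] (.free), .derive 835 [.bwd 0, .bwd 5770] [5] (.free), .derive 834 [.edge 5, .fwd 0] [] (.free),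
  .derive 6678 [.bwd 0] [] (.free), .derive 834 [.bwd 0, .bwd 5774] [3] (.free), .derive 6635 [.fwd 5862, .fwd 0] [] (.free), .derive 6635 [.fwd 0] [] (.free), .derive 951 [.bwd 0, .bwd 5865] [7] (.free), .derive 6550 [.fwd 6030, .fwd 0] [] (.free), .derive 6550 [.fwd 0] [] (.free), .derive 807 [.bwd 0, .fwd 6033] [4] (.free),
  .derive 6634 [.bwd 5871, .fwd 0] [] (.free), .derive 6634 [.fwd 0] [] (.free), .derive 949 [.bwd 0, .bwd 5223] [7] (.free), .derive 950 [.edge 7, .fwd 0] [] (.free), .derive 6763 [.bwd 0] [] (.free), .derive 950 [.bwd 0, .bwd 5227] [3] (.free), .derive 6677 [.bwd 5789, .fwd 0] [] (.free), .derive 6677 [.fwd 0] [] (.free),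
  .derive 1275 [.bwd 0, .fwd 5790] [7] (.free), .derive 1282 [.edge 7, .fwd 0] [] (.free), .derive 6578 [.bwd 0] [] (.free), .derive 1282 [.bwd 0, .bwd 5995] [5] (.free), .derive 6569 [.fwd 6011, .fwd 0] [] (.free), .derive 6569 [.fwd 0] [] (.free), .derive 533 [.bwd 0, .bwd 5258] [7] (.free), .derive 1242 [.edge 7, .fwd 0] [] (.free),
  .derive 6752 [.bwd 0] [] (.free), .derive 1242 [.bwd 0, .bwd 4860] [6] (.free), .derive 2367 [.edge 6, .fwd 0] [] (.free), .derive 6940 [.bwd 0] [] (.free), .derive 2367 [.bwd 0, .bwd 4861] [5] (.free), .derive 2366 [.edge 5, .fwd 0] [] (.free), .derive 6941 [.bwd 0] [] (.free), .derive 2366 [.bwd 0, .bwd 4862] [6] (.free),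
  .derive 2544 [.edge 6, .fwd 0] [] (.free), .derive 6942 [.bwd 0] [] (.free), .derive 2544 [.bwd 0, .fwd 4864] [7] (.free), .derive 7033 [.bwd 4693, .fwd 0] [] (.free), .derive 7033 [.fwd 0] [] (.free), .derive 3848 [.bwd 0, .bwd 4688] [5] (.free), .derive 2806 [.edge 5, .fwd 0] [] (.free), .derive 7037 [.bwd 0] [] (.free),
  .derive 2806 [.bwd 0, .bwd 4692] [7] (.free), .derive 6764 [.fwd 5251, .fwd 0] [] (.free), .derive 6764 [.fwd 0] [] (.free), .derive 2546 [.bwd 0, .fwd 5254] [4] (.free), .derive 7036 [.bwd 4698, .fwd 0] [] (.free), .derive 7036 [.fwd 0] [] (.free), .derive 2377 [.bwd 0, .fwd 4699] [5] (.free), .derive 2370 [.edge 5, .fwd 0] [] (.free),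
  .derive 7032 [.bwd 0] [] (.free), .derive 2370 [.bwd 0, .fwd 4708] [6] (.free), .derive 2369 [.edge 6, .fwd 0] [] (.free), .derive 6939 [.bwd 0] [] (.free), .derive 2369 [.bwd 0, .bwd 4729] [1] (.free), .derive 2526 [.edge 1, .fwd 0] [] (.free), .derive 7023 [.bwd 0] [] (.free), .derive 2526 [.bwd 0, .bwd 4720] [6] (.free),
  .derive 2527 [.edge 6, .fwd 0] [] (.free), .derive 7029 [.bwd 0] [] (.free), .derive 2527 [.bwd 0, .fwd 4724] [5] (.free), .derive 2536 [.edge 5, .fwd 0] [] (.free), .derive 7026 [.bwd 0] [] (.free), .derive 2536 [.bwd 0, .fwd 4732] [6] (.free), .derive 2537 [.edge 6, .fwd 0] [] (.free), .derive 7025 [.bwd 0] [] (.free),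
  .derive 2537 [.bwd 0, .fwd 4737] [7] (.free), .derive 7027 [.bwd 4735, .fwd 0] [] (.free), .derive 7027 [.fwd 0] [] (.free), .derive 3850 [.bwd 0, .bwd 3749] [6] (.free)]
def ph9_p12_2 : List Aux := [
  .derive 3851 [.edge 6, .fwd 0] [] (.free), .derive 7546 [.bwd 0] [] (.free), .derive 3851 [.bwd 0, .bwd 3753] [7] (.free), .derive 7683 [.bwd 3468, .fwd 0] [] (.free), .derive 7683 [.fwd 0] [] (.free), .derive 3633 [.bwd 0, .bwd 3275] [2] (.free), .derive 4050 [.edge 2, .fwd 0] [] (.free), .derive 7777 [.bwd 0] [] (.free),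
  .derive 4050 [.bwd 0, .bwd 3279] [7] (.free), .derive 7776 [.bwd 3282, .fwd 0] [] (.free), .derive 7776 [.fwd 0] [] (.free), .derive 4051 [.bwd 0, .fwd 3283] [6] (.free), .derive 4068 [.edge 6, .fwd 0] [] (.free), .derive 7774 [.bwd 0] [] (.free), .derive 4068 [.bwd 0, .bwd 3291] [7] (.free), .derive 7775 [.fwd 3289, .fwd 0] [] (.free),
  .derive 7775 [.fwd 0] [] (.free), .derive 4047 [.bwd 0, .fwd 3292] [6] (.free), .derive 4048 [.edge 6, .fwd 0] [] (.free), .derive 7773 [.bwd 0] [] (.free), .derive 4048 [.bwd 0, .fwd 3298] [5] (.free), .derive 4057 [.edge 5, .fwd 0] [] (.free), .derive 7771 [.bwd 0] [] (.free), .derive 4057 [.bwd 0, .fwd 3305] [6] (.free),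
  .derive 4058 [.edge 6, .fwd 0] [] (.free), .derive 7769 [.bwd 0] [] (.free), .derive 4058 [.bwd 0, .bwd 3292] [5] (.free), .derive 4045 [.edge 5, .fwd 0] [] (.free), .derive 7779 [.bwd 0] [] (.free), .derive 4045 [.bwd 0, .fwd 3294] [6] (.free), .derive 4046 [.edge 6, .fwd 0] [] (.free), .derive 7778 [.bwd 0] [] (.free),
  .derive 4046 [.bwd 0, .fwd 3300] [7] (.free), .derive 7772 [.bwd 3314, .fwd 0] [] (.free), .derive 7772 [.fwd 0] [] (.free), .derive 4067 [.bwd 0, .fwd 3315] [2] (.free), .derive 3849 [.edge 2, .fwd 0] [] (.free), .derive 7030 [.bwd 0] [] (.free), .derive 3849 [.bwd 0, .bwd 4770] [7] (.free), .derive 7024 [.fwd 4782, .fwd 0] [] (.free),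
  .derive 7024 [.fwd 0] [] (.free), .derive 2538 [.bwd 0, .bwd 3371] [0] (.free), .derive 7028 [.bwd 4779, .fwd 0] [] (.free), .derive 7751 [.bwd 0] [] (.free), .derive 7028 [.bwd 0, .bwd 3370] [5] (.free), .derive 3975 [.bwd 4781, .fwd 0] [] (.free), .derive 7752 [.bwd 0] [] (.free), .derive 3975 [.bwd 0, .bwd 3368] [6] (.free),
  .derive 3976 [.edge 6, .fwd 0] [] (.free), .derive 7754 [.bwd 0] [] (.free), .derive 3976 [.bwd 0, .bwd 3310] [2] (.free), .derive 4062 [.edge 2, .fwd 0] [] (.free), .derive 7782 [.bwd 0] [] (.free), .derive 4062 [.bwd 0, .bwd 3314] [6] (.free), .derive 7753 [.fwd 3377, .fwd 0] [] (.free), .derive 7753 [.fwd 0] [] (.free),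
  .derive 4061 [.bwd 0, .bwd 3340] [5] (.free), .derive 4060 [.edge 5, .fwd 0] [] (.free), .derive 7770 [.bwd 0] [] (.free), .derive 4060 [.bwd 0, .fwd 3344] [3] (.free), .derive 7780 [.bwd 3324, .fwd 0] [] (.free), .derive 7780 [.fwd 0] [] (.free), .derive 5934 [.bwd 0, .bwd 3324] [5] (.free), .derive 5933 [.edge 5, .fwd 0] [] (.free),
  .derive 7781 [.bwd 0] [] (.free), .derive 5933 [.bwd 0, .bwd 2113] [4] (.free), .derive 8357 [.fwd 2111, .fwd 0] [] (.free), .derive 8357 [.fwd 0] [] (.free), .derive 8356 [.bwd 0, .fwd 2112] [5] (.free), .derive 8342 [.bwd 2116, .fwd 0] [] (.free), .derive 8342 [.fwd 0] [] (.free), .derive 8340 [.bwd 0, .fwd 2152] [6] (.free),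
  .derive 5765 [.fwd 2157, .fwd 0] [] (.free), .derive 8341 [.bwd 0] [] (.free), .derive 5765 [.bwd 0, .fwd 2157] [5] (.free), .derive 5766 [.edge 5, .fwd 0] [] (.free), .derive 8339 [.bwd 0] [] (.free), .derive 5766 [.bwd 0, .fwd 2163] [0] (.free), .derive 5755 [.edge 0, .fwd 0] [] (.free), .derive 8334 [.bwd 0] [] (.free),
  .derive 5755 [.bwd 0, .bwd 2171] [5] (.free), .derive 5754 [.edge 5, .fwd 0] [] (.free), .derive 8336 [.bwd 0] [] (.free), .derive 5754 [.bwd 0, .bwd 2172] [6] (.free), .derive 8335 [.bwd 2177, .fwd 0] [] (.free), .derive 8337 [.bwd 0] [] (.free), .derive 8335 [.bwd 0, .bwd 2155] [5] (.free), .derive 8349 [.fwd 2154, .fwd 0] [] (.free),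
  .derive 8349 [.fwd 0] [] (.free), .derive 8348 [.bwd 0, .bwd 2141] [2] (.free), .derive 8360 [.fwd 2128, .fwd 0] [] (.free), .derive 8360 [.fwd 0] [] (.free), .derive 8355 [.bwd 0, .bwd 2127] [5] (.free), .derive 8333 [.bwd 2143, .fwd 0] [] (.free), .derive 8362 [.bwd 0] [] (.free), .derive 8333 [.bwd 0, .bwd 2131] [3] (.free),
  .derive 8330 [.bwd 2191, .fwd 0] [] (.free), .derive 8330 [.fwd 0] [] (.free), .derive 5819 [.bwd 0, .bwd 2200] [6] (.free), .derive 8058 [.bwd 2836, .fwd 0] [] (.free)]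
def ph9_p12_3 : List Aux := [
  .derive 8058 [.fwd 0] [] (.free), .derive 5748 [.bwd 0, .fwd 2839] [7] (.free), .derive 8331 [.bwd 2203, .fwd 0] [] (.free), .derive 8331 [.fwd 0] [] (.free), .derive 8057 [.bwd 0, .fwd 2204] [4] (.free), .derive 8056 [.bwd 2846, .fwd 0] [] (.free), .derive 8328 [.bwd 0] [] (.free), .derive 8056 [.bwd 0, .bwd 2212] [7] (.free),
  .derive 7597 [.bwd 2851, .fwd 0] [] (.free), .derive 7597 [.fwd 0] [] (.free), .derive 5747 [.bwd 0, .fwd 3756] [6] (.free), .derive 7759 [.fwd 3421, .fwd 0] [] (.free), .derive 7759 [.fwd 0] [] (.free), .derive 5814 [.bwd 0, .bwd 3405] [1] (.free), .derive 8055 [.fwd 2859, .fwd 0] [] (.free), .derive 5814 [.bwd 2, .bwd 3423] [5] (.free),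
  .derive 5828 [.edge 5, .fwd 0] [] (.free), .derive 7760 [.bwd 0] [] (.free), .derive 5828 [.bwd 0, .fwd 3425] [6] (.free), .derive 8364 [.bwd 2150, .fwd 0] [] (.free), .derive 8364 [.fwd 0] [] (.free), .derive 5789 [.bwd 0, .fwd 2151] [4] (.free), .derive 5802 [.edge 4, .fwd 0] [] (.free), .derive 8361 [.bwd 0] [] (.free),
  .derive 5802 [.bwd 0, .bwd 2161] [6] (.free), .derive 8354 [.bwd 2180, .fwd 0] [] (.free), .derive 8354 [.fwd 0] [] (.free), .derive 5818 [.bwd 0, .fwd 2181] [1] (.free), .derive 8359 [.bwd 2169, .fwd 0] [] (.free), .derive 8359 [.fwd 0] [] (.free), .derive 8353 [.bwd 0, .bwd 2163] [4] (.free), .derive 5926 [.bwd 2187, .fwd 0] [] (.free),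
  .derive 8353 [.bwd 2, .fwd 2172] [7] (.free), .derive 8363 [.bwd 1] [] (.free), .derive 5926 [.bwd 0, .bwd 2140] [2] (.free), .derive 8378 [.fwd 2137, .fwd 0] [] (.free), .derive 5926 [.bwd 2, .fwd 2168] [7] (.free), .derive 8391 [.bwd 2110, .fwd 0] [] (.free), .derive 8391 [.fwd 0] [] (.free), .derive 6276 [.bwd 0, .bwd 2020] [6] (.free),
  .derive 6277 [.edge 6, .fwd 0] [] (.free), .derive 8441 [.bwd 0] [] (.free), .derive 6277 [.bwd 0, .bwd 2024] [7] (.free), .derive 8454 [.bwd 2004, .fwd 0] [] (.free), .derive 8454 [.fwd 0] [] (.free), .derive 6258 [.bwd 0, .bwd 2004] [4] (.free), .derive 6259 [.edge 4, .fwd 0] [] (.free), .derive 8455 [.bwd 0] [] (.free),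
  .derive 6259 [.bwd 0, .bwd 2008] [7] (.free), .derive 8442 [.bwd 2029, .fwd 0] [] (.free), .derive 8442 [.fwd 0] [] (.free), .derive 6278 [.bwd 0, .bwd 2029] [1] (.free), .derive 6261 [.edge 1, .fwd 0] [] (.free), .derive 8443 [.bwd 0] [] (.free), .derive 6261 [.bwd 0, .bwd 2033] [7] (.free), .derive 8444 [.bwd 2032, .fwd 0] [] (.free),
  .derive 8444 [.fwd 0] [] (.free), .derive 6260 [.bwd 0, .bwd 2032] [4] (.free), .derive 6275 [.edge 4, .fwd 0] [] (.free), .derive 8445 [.bwd 0] [] (.free), .derive 6275 [.bwd 0, .bwd 2036] [7] (.free), .derive 8453 [.bwd 2024, .fwd 0] [] (.free), .derive 8453 [.fwd 0] [] (.free), .derive 6262 [.bwd 0, .fwd 2025] [0] (.free),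
  .derive 6263 [.edge 0, .fwd 0] [] (.free), .derive 8447 [.bwd 0] [] (.free), .derive 6263 [.bwd 0, .bwd 2039] [7] (.free), .derive 8446 [.bwd 2041, .fwd 0] [] (.free), .derive 8446 [.fwd 0] [] (.free), .derive 6264 [.bwd 0, .bwd 2033] [4] (.free), .derive 6265 [.edge 4, .fwd 0] [] (.free), .derive 8452 [.bwd 0] [] (.free),
  .derive 6265 [.bwd 0, .bwd 2037] [7] (.free), .derive 8448 [.bwd 2045, .fwd 0] [] (.free), .derive 8448 [.fwd 0] [] (.free), .derive 6274 [.bwd 0, .bwd 2045] [1] (.free), .derive 6289 [.edge 1, .fwd 0] [] (.free), .derive 8449 [.bwd 0] [] (.free), .derive 6289 [.bwd 0, .bwd 2046] [0] (.free), .derive 8461 [.bwd 2028, .fwd 0] [] (.free),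
  .derive 8461 [.fwd 0] [] (.free), .derive 8378 [.fwd 45] [] (.free), .derive 8377 [.bwd 0, .fwd 2183] [4] (.free), .derive 8369 [.bwd 2188, .fwd 0] [] (.free), .derive 8377 [.bwd 2, .bwd 2187] [6] (.free), .derive 8370 [.bwd 1] [] (.free), .derive 8369 [.bwd 0, .bwd 2205] [6] (.free), .derive 8055 [.fwd 72] [] (.free),
  .derive 7767 [.bwd 0, .bwd 2934] [6] (.free), .derive 7758 [.bwd 3480, .fwd 0] [] (.free), .derive 7758 [.fwd 0] [] (.free), .derive 4875 [.bwd 0, .fwd 3503] [5] (.free), .derive 4887 [.edge 5, .fwd 0] [] (.free), .derive 7684 [.bwd 0] [] (.free), .derive 4887 [.bwd 0, .bwd 3572] [7] (.free), .derive 4891 [.edge 7, .fwd 0] [] (.free),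
  .derive 7727 [.bwd 0] [] (.free), .derive 4891 [.bwd 0, .bwd 3006] [4] (.free), .derive 4885 [.edge 4, .fwd 0] [] (.free), .derive 8021 [.bwd 0] [] (.free)]
def ph9_p12_4 : List Aux := [
  .derive 4885 [.bwd 0, .fwd 3008] [7] (.free), .derive 4886 [.edge 7, .fwd 0] [] (.free), .derive 8020 [.bwd 0] [] (.free), .derive 4886 [.bwd 0, .fwd 3014] [6] (.free), .derive 8064 [.bwd 2933, .fwd 0] [] (.free), .derive 8064 [.fwd 0] [] (.free), .derive 8019 [.bwd 0, .bwd 2932] [4] (.free), .derive 7685 [.bwd 3020, .fwd 0] [] (.free),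
  .derive 8065 [.bwd 0] [] (.free), .derive 7685 [.bwd 0, .fwd 2936] [2] (.free), .derive 7850 [.fwd 3341, .fwd 0] [] (.free), .derive 8060 [.bwd 0] [] (.free), .derive 7850 [.bwd 0, .bwd 2946] [6] (.free), .derive 7848 [.bwd 3343, .fwd 0] [] (.free), .derive 7848 [.fwd 0] [] (.free), .derive 4882 [.bwd 0, .bwd 3349] [3] (.free),
  .derive 7091 [.fwd 4830, .fwd 0] [] (.free), .derive 7091 [.fwd 0] [] (.free), .derive 4151 [.bwd 0, .fwd 4831] [7] (.free), .derive 7849 [.bwd 3352, .fwd 0] [] (.free), .derive 7849 [.fwd 0] [] (.free), .derive 7089 [.bwd 0, .bwd 3347] [4] (.free), .derive 7096 [.fwd 4826, .fwd 0] [] (.free), .derive 7852 [.bwd 0] [] (.free),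
  .derive 7096 [.bwd 0, .bwd 3351] [7] (.free), .derive 7092 [.bwd 4828, .fwd 0] [] (.free), .derive 7092 [.fwd 0] [] (.free), .derive 4154 [.bwd 0, .bwd 4839] [5] (.free), .derive 7851 [.bwd 3357, .fwd 0] [] (.free), .derive 7851 [.fwd 0] [] (.free), .derive 2630 [.bwd 0, .fwd 3358] [4] (.free), .derive 2629 [.edge 4, .fwd 0] [] (.free),
  .derive 7067 [.bwd 0] [] (.free), .derive 2629 [.bwd 0, .bwd 4897] [2] (.free), .derive 6836 [.fwd 5361, .fwd 0] [] (.free), .derive 6836 [.fwd 0] [] (.free), .derive 2577 [.bwd 0, .fwd 5362] [7] (.free), .derive 7069 [.bwd 4897, .fwd 0] [] (.free), .derive 7069 [.fwd 0] [] (.free), .derive 2633 [.bwd 0, .fwd 4898] [5] (.free),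
  .derive 7095 [.bwd 4847, .fwd 0] [] (.free), .derive 7095 [.fwd 0] [] (.free), .derive 7066 [.bwd 0, .fwd 4848] [4] (.free), .derive 7722 [.fwd 3630, .fwd 0] [] (.free), .derive 7722 [.fwd 0] [] (.free), .derive 7094 [.bwd 0, .bwd 3633] [7] (.free), .derive 7093 [.bwd 4854, .fwd 0] [] (.free), .derive 7093 [.fwd 0] [] (.free),
  .derive 3931 [.bwd 0, .bwd 4858] [5] (.free), .derive 7068 [.fwd 4910, .fwd 0] [] (.free), .derive 7068 [.fwd 0] [] (.free), .derive 2631 [.bwd 0, .bwd 4903] [3] (.free), .derive 2922 [.edge 3, .fwd 0] [] (.free), .derive 7072 [.bwd 0] [] (.free), .derive 2922 [.bwd 0, .fwd 4905] [5] (.free), .derive 7220 [.bwd 4617, .fwd 0] [] (.free),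
  .derive 7220 [.fwd 0] [] (.free), .derive 3934 [.bwd 0, .bwd 4262] [1] (.free), .derive 3911 [.edge 1, .fwd 0] [] (.free), .derive 7411 [.bwd 0] [] (.free), .derive 3911 [.bwd 0, .bwd 4266] [5] (.free), .derive 6985 [.fwd 5082, .fwd 0] [] (.free), .derive 6985 [.fwd 0] [] (.free), .derive 3379 [.bwd 0, .fwd 5082] [7] (.free),
  .derive 7412 [.bwd 4268, .fwd 0] [] (.free), .derive 7412 [.fwd 0] [] (.free), .derive 3928 [.bwd 0, .fwd 4269] [3] (.free), .derive 7721 [.bwd 3657, .fwd 0] [] (.free), .derive 7721 [.fwd 0] [] (.free), .derive 4203 [.bwd 0, .fwd 3658] [0] (.free), .derive 4236 [.edge 0, .fwd 0] [] (.free), .derive 7717 [.bwd 0] [] (.free),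
  .derive 4236 [.bwd 0, .fwd 3670] [5] (.free), .derive 4237 [.edge 5, .fwd 0] [] (.free), .derive 7715 [.bwd 0] [] (.free), .derive 4237 [.bwd 0, .bwd 3657] [7] (.free), .derive 4238 [.edge 7, .fwd 0] [] (.free), .derive 7725 [.bwd 0] [] (.free), .derive 4238 [.bwd 0, .bwd 3661] [3] (.free), .derive 7913 [.bwd 3303, .fwd 0] [] (.free),
  .derive 7913 [.fwd 0] [] (.free), .derive 3937 [.bwd 0, .fwd 3304] [5] (.free), .derive 7726 [.bwd 3663, .fwd 0] [] (.free), .derive 7726 [.fwd 0] [] (.free), .derive 7396 [.bwd 0, .fwd 3664] [7] (.free), .derive 7395 [.bwd 4323, .fwd 0] [] (.free), .derive 7395 [.fwd 0] [] (.free), .derive 7015 [.bwd 0, .bwd 4294] [3] (.free),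
  .derive 6979 [.bwd 5051, .fwd 0] [] (.free), .derive 7410 [.bwd 0] [] (.free), .derive 6979 [.bwd 0, .bwd 3318] [7] (.free), .derive 3922 [.bwd 5123, .fwd 0] [] (.free), .derive 7910 [.bwd 0] [] (.free), .derive 3922 [.bwd 0, .bwd 3319] [5] (.free), .derive 3921 [.edge 5, .fwd 0] [] (.free), .derive 7911 [.bwd 0] [] (.free),
  .derive 3921 [.bwd 0, .bwd 3317] [1] (.free), .derive 3926 [.edge 1, .fwd 0] [] (.free), .derive 7914 [.bwd 0] [] (.free), .derive 3926 [.bwd 0, .bwd 3317, .fwd 1277] [5] (.free)]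
def ph9_p12 : List Aux :=
  ((ph9_p12_0 ++ ph9_p12_1) ++ (ph9_p12_2 ++ (ph9_p12_3 ++ ph9_p12_4)))

theorem ph9_p12_ok : stHas (runList (auxStep' P) ph9_p12 (mkSt 8508 mask10 ph9_eq12)) 8508 mask10 ph9_eq13 = true := by decide +kernel

def ph9_p13_0 : List Aux := [
  .derive 3925 [.edge 5, .fwd 0] [] (.free), .derive 7362 [.bwd 0] [] (.free), .derive 3925 [.bwd 0, .fwd 4406] [6] (.free), .derive 7719 [.bwd 3697, .fwd 0] [] (.free), .derive 7719 [.fwd 0] [] (.free), .derive 5297 [.bwd 0, .fwd 3698] [4] (.free), .derive 5298 [.edge 4, .fwd 0] [] (.free), .derive 7705 [.bwd 0] [] (.free),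
  .derive 5298 [.bwd 0, .bwd 3729] [6] (.free), .derive 7364 [.fwd 4410, .fwd 0] [] (.free), .derive 7364 [.fwd 0] [] (.free), .derive 3907 [.bwd 0, .bwd 4408] [3] (.free), .derive 3906 [.edge 3, .fwd 0] [] (.free), .derive 7366 [.bwd 0] [] (.free), .derive 3906 [.bwd 0, .bwd 4404] [6] (.free), .derive 7704 [.bwd 3738, .fwd 0] [] (.free),
  .derive 7704 [.fwd 0] [] (.free), .derive 7370 [.bwd 0, .fwd 3739] [1] (.free), .derive 5300 [.bwd 4409, .fwd 0] [] (.free), .derive 7693 [.bwd 0] [] (.free), .derive 5300 [.bwd 0, .bwd 3766] [6] (.free), .derive 7385 [.fwd 4381, .fwd 0] [] (.free), .derive 7385 [.fwd 0] [] (.free), .derive 3891 [.bwd 0, .fwd 1299] [5] (.free),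
  .derive 3896 [.edge 5, .fwd 0] [] (.free), .derive 7899 [.bwd 0] [] (.free), .derive 3896 [.bwd 0, .bwd 3374] [4] (.free), .derive 7695 [.bwd 3770, .fwd 0] [] (.free), .derive 7695 [.fwd 0] [] (.free), .derive 4225 [.bwd 0, .fwd 3771] [7] (.free), .derive 7144 [.fwd 4836, .fwd 0] [] (.free), .derive 7144 [.fwd 0] [] (.free),
  .derive 6968 [.bwd 0, .bwd 4835] [5] (.free), .derive 6969 [.fwd 5184, .fwd 0] [] (.free), .derive 7146 [.bwd 0] [] (.free), .derive 6969 [.bwd 0, .fwd 4837] [7] (.free), .derive 7692 [.fwd 3783, .fwd 0] [] (.free), .derive 7692 [.fwd 0] [] (.free), .derive 4224 [.bwd 0, .bwd 3763] [1] (.free), .derive 4223 [.edge 1, .fwd 0] [] (.free),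
  .derive 7703 [.bwd 0] [] (.free), .derive 4223 [.bwd 0, .fwd 3765] [7] (.free), .derive 7133 [.fwd 4871, .fwd 0] [] (.free), .derive 7501 [.bwd 0] [] (.free), .derive 7133 [.bwd 0, .bwd 3816] [6] (.free), .derive 7131 [.bwd 4875, .fwd 0] [] (.free), .derive 7680 [.bwd 0] [] (.free), .derive 7131 [.bwd 0, .fwd 3820] [3] (.free),
  .derive 7126 [.bwd 4881, .fwd 0] [] (.free), .derive 7677 [.bwd 0] [] (.free), .derive 7126 [.bwd 0, .fwd 3831] [6] (.free), .derive 7112 [.bwd 4892, .fwd 0] [] (.free), .derive 7505 [.bwd 0] [] (.free), .derive 7112 [.bwd 0, .bwd 4176] [5] (.free), .derive 7893 [.fwd 3411, .fwd 0] [] (.free), .derive 7893 [.fwd 0] [] (.free),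
  .derive 7508 [.bwd 0, .bwd 3414] [7] (.free), .derive 7750 [.fwd 3689, .fwd 0] [] (.free), .derive 7750 [.fwd 0] [] (.free), .derive 4219 [.bwd 0, .bwd 3692] [4] (.free), .derive 7891 [.bwd 3421, .fwd 0] [] (.free), .derive 7891 [.fwd 0] [] (.free), .derive 3956 [.bwd 0, .fwd 3422] [5] (.free), .derive 7506 [.fwd 4190, .fwd 0] [] (.free),
  .derive 7506 [.fwd 0] [] (.free), .derive 7116 [.bwd 0, .fwd 4193] [1] (.free), .derive 7121 [.fwd 4921, .fwd 0] [] (.free), .derive 7116 [.bwd 2, .bwd 4196] [7] (.free), .derive 7114 [.bwd 4935, .fwd 0] [] (.free), .derive 7114 [.fwd 0] [] (.free), .derive 3576 [.bwd 0, .bwd 4913] [6] (.free), .derive 3835 [.edge 6, .fwd 0] [] (.free),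
  .derive 7125 [.bwd 0] [] (.free), .derive 3835 [.bwd 0, .bwd 3320] [5] (.free), .derive 7678 [.bwd 3854, .fwd 0] [] (.free), .derive 7954 [.bwd 0] [] (.free), .derive 7678 [.bwd 0, .fwd 3324] [2] (.free), .derive 8112 [.fwd 3006, .fwd 0] [] (.free), .derive 8112 [.fwd 0] [] (.free), .derive 7938 [.bwd 0, .fwd 3007] [5] (.free),
  .derive 4265 [.fwd 3356, .fwd 0] [] (.free), .derive 7676 [.bwd 0] [] (.free), .derive 4265 [.bwd 0, .fwd 3865] [6] (.free), .derive 4266 [.edge 6, .fwd 0] [] (.free), .derive 7504 [.bwd 0] [] (.free), .derive 4266 [.bwd 0, .bwd 4210] [5] (.free), .derive 7939 [.bwd 3360, .fwd 0] [] (.free), .derive 7939 [.fwd 0] [] (.free),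
  .derive 7507 [.bwd 0, .fwd 3361] [7] (.free), .derive 7749 [.fwd 3723, .fwd 0] [] (.free), .derive 7749 [.fwd 0] [] (.free), .derive 7121 [.fwd 24] [] (.free), .derive 6993 [.bwd 0, .fwd 4946] [5] (.free), .derive 6994 [.fwd 5197, .fwd 0] [] (.free), .derive 7120 [.bwd 0] [] (.free), .derive 6994 [.bwd 0, .bwd 4429] [1] (.free),
  .derive 6996 [.fwd 5196, .fwd 0] [] (.free), .derive 7399 [.bwd 0] [] (.free), .derive 6996 [.bwd 0, .fwd 4431] [3] (.free), .derive 7016 [.fwd 5158, .fwd 0] [] (.free)]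
def ph9_p13_1 : List Aux := [
  .derive 6996 [.bwd 2, .bwd 3439] [5] (.free), .derive 3935 [.bwd 5200, .fwd 0] [] (.free), .derive 7904 [.bwd 0] [] (.free), .derive 3935 [.bwd 0, .bwd 3443] [4] (.free), .derive 7723 [.bwd 3790, .fwd 0] [] (.free), .derive 7723 [.fwd 0] [] (.free), .derive 4232 [.bwd 0, .bwd 3777] [2] (.free), .derive 7903 [.bwd 3449, .fwd 0] [] (.free),
  .derive 4232 [.bwd 2, .fwd 3793] [7] (.free), .derive 7906 [.bwd 3446, .fwd 0] [] (.free), .derive 7906 [.fwd 0] [] (.free), .derive 6997 [.bwd 0, .fwd 3447] [5] (.free), .derive 6995 [.bwd 5209, .fwd 0] [] (.free), .derive 7405 [.bwd 0] [] (.free), .derive 6995 [.bwd 0, .bwd 4428] [3] (.free), .derive 6963 [.bwd 5217, .fwd 0] [] (.free),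
  .derive 7407 [.bwd 0] [] (.free), .derive 6963 [.bwd 0, .fwd 4430] [7] (.free), .derive 7696 [.fwd 3858, .fwd 0] [] (.free), .derive 7696 [.fwd 0] [] (.free), .derive 4242 [.bwd 0, .bwd 3858] [5] (.free), .derive 4250 [.edge 5, .fwd 0] [] (.free), .derive 7697 [.bwd 0] [] (.free), .derive 4250 [.bwd 0, .fwd 3860] [7] (.free),
  .derive 7925 [.bwd 3426, .fwd 0] [] (.free), .derive 7925 [.fwd 0] [] (.free), .derive 6964 [.bwd 0, .bwd 3419] [1] (.free), .derive 7500 [.fwd 4265, .fwd 0] [] (.free), .derive 7929 [.bwd 0] [] (.free), .derive 7500 [.bwd 0, .bwd 3423] [7] (.free), .derive 7700 [.fwd 3861, .fwd 0] [] (.free), .derive 7700 [.fwd 0] [] (.free),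
  .derive 4251 [.bwd 0, .bwd 2792] [2] (.free), .derive 7926 [.bwd 3434, .fwd 0] [] (.free), .derive 4251 [.bwd 2, .bwd 3866] [4] (.free), .derive 7927 [.bwd 3433, .fwd 0] [] (.free), .derive 7927 [.fwd 0] [] (.free), .derive 3905 [.bwd 0, .fwd 3434] [1] (.free), .derive 3898 [.edge 1, .fwd 0] [] (.free), .derive 7923 [.bwd 0] [] (.free),
  .derive 3898 [.bwd 0, .fwd 3445] [5] (.free), .derive 3897 [.edge 5, .fwd 0] [] (.free), .derive 7919 [.bwd 0] [] (.free), .derive 3897 [.bwd 0, .fwd 3457] [0] (.free), .derive 3902 [.edge 0, .fwd 0] [] (.free), .derive 7874 [.bwd 0] [] (.free), .derive 3902 [.bwd 0, .fwd 3536] [7] (.free), .derive 2419 [.edge 7, .fwd 0] [] (.free),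
  .derive 7408 [.bwd 0] [] (.free), .derive 2419 [.bwd 0, .bwd 4461] [4] (.free), .derive 6967 [.bwd 5306, .fwd 0] [] (.free), .derive 6967 [.fwd 0] [] (.free), .derive 3378 [.bwd 0, .fwd 5307] [5] (.free), .derive 7409 [.bwd 4464, .fwd 0] [] (.free), .derive 3378 [.bwd 2, .fwd 5308] [6] (.free), .derive 7390 [.fwd 4506, .fwd 0] [] (.free),
  .derive 7390 [.fwd 0] [] (.free), .derive 7409 [.fwd 3] [] (.free), .derive 6965 [.bwd 0, .fwd 4468] [3] (.free), .derive 7006 [.fwd 5242, .fwd 0] [] (.free), .derive 6965 [.bwd 2, .fwd 4469] [7] (.free), .derive 7406 [.bwd 1] [] (.free), .derive 7006 [.bwd 0, .fwd 4479] [1] (.free), .derive 4127 [.bwd 5247, .fwd 0] [] (.free),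
  .derive 7006 [.bwd 2, .bwd 4482] [5] (.free), .derive 7004 [.bwd 5247, .fwd 0] [] (.free), .derive 7006 [.bwd 4, .fwd 4482] [7] (.free), .derive 7004 [.fwd 1] [] (.free), .derive 7085 [.bwd 4] [] (.free), .derive 4127 [.bwd 0, .fwd 5096] [7] (.free), .derive 7820 [.bwd 3657, .fwd 0] [] (.free), .derive 7820 [.fwd 0] [] (.free),
  .derive 4193 [.bwd 0, .fwd 3658] [4] (.free), .derive 7086 [.fwd 5098, .fwd 0] [] (.free), .derive 7086 [.fwd 0] [] (.free), .derive 7060 [.bwd 0, .bwd 5101] [5] (.free), .derive 7062 [.fwd 5148, .fwd 0] [] (.free), .derive 7062 [.fwd 0] [] (.free), .derive 2618 [.bwd 0, .bwd 5151] [7] (.free), .derive 6838 [.fwd 5601, .fwd 0] [] (.free),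
  .derive 6838 [.fwd 0] [] (.free), .derive 2572 [.bwd 0, .fwd 5604] [4] (.free), .derive 7061 [.bwd 5156, .fwd 0] [] (.free), .derive 7061 [.fwd 0] [] (.free), .derive 2616 [.bwd 0, .bwd 5153] [3] (.free), .derive 2709 [.edge 3, .fwd 0] [] (.free), .derive 7064 [.bwd 0] [] (.free), .derive 2709 [.bwd 0, .fwd 5155] [5] (.free),
  .derive 7141 [.bwd 5000, .fwd 0] [] (.free), .derive 7141 [.fwd 0] [] (.free), .derive 4138 [.bwd 0, .bwd 5000] [7] (.free), .derive 7837 [.bwd 3643, .fwd 0] [] (.free), .derive 7837 [.fwd 0] [] (.free), .derive 4215 [.bwd 0, .fwd 3644] [4] (.free), .derive 7886 [.bwd 3562, .fwd 0] [] (.free), .derive 7886 [.fwd 0] [] (.free),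
  .derive 7063 [.bwd 0, .bwd 3562] [0] (.free), .derive 7801 [.fwd 3722, .fwd 0] [] (.free), .derive 7887 [.bwd 0] [] (.free), .derive 7801 [.bwd 0, .bwd 3566] [4] (.free)]
def ph9_p13_2 : List Aux := [
  .derive 7824 [.fwd 3676, .fwd 0] [] (.free), .derive 7824 [.fwd 0] [] (.free), .derive 4216 [.bwd 0, .bwd 3679] [7] (.free), .derive 7140 [.bwd 5016, .fwd 0] [] (.free), .derive 7140 [.fwd 0] [] (.free), .derive 4131 [.bwd 0, .bwd 5020] [5] (.free), .derive 7796 [.fwd 3740, .fwd 0] [] (.free), .derive 7796 [.fwd 0] [] (.free),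
  .derive 2708 [.bwd 0, .bwd 3743] [4] (.free), .derive 7139 [.bwd 5025, .fwd 0] [] (.free), .derive 7139 [.fwd 0] [] (.free), .derive 4100 [.bwd 0, .bwd 4979] [3] (.free), .derive 4099 [.edge 3, .fwd 0] [] (.free), .derive 7163 [.bwd 0] [] (.free), .derive 4099 [.bwd 0, .bwd 4978, .fwd 1767] [7] (.free), .derive 7053 [.fwd 5202, .fwd 0] [] (.free),
  .derive 7053 [.fwd 0] [] (.free), .derive 3016 [.bwd 0, .bwd 3740] [6] (.free), .derive 2916 [.edge 6, .fwd 0] [] (.free), .derive 7802 [.bwd 0] [] (.free), .derive 2916 [.bwd 0, .bwd 3738] [4] (.free), .derive 6928 [.fwd 5448, .fwd 0] [] (.free), .derive 7804 [.bwd 0] [] (.free), .derive 6928 [.bwd 0, .fwd 3742] [0] (.free),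
  .derive 7211 [.fwd 4903, .fwd 0] [] (.free), .derive 6928 [.bwd 2, .fwd 3742] [6] (.free), .derive 7227 [.fwd 4873, .fwd 0] [] (.free), .derive 7057 [.bwd 0, .fwd 1493] [] (.free), .derive 2724 [.bwd 0, .fwd 5208] [7] (.free), .derive 2723 [.edge 7, .fwd 0] [] (.free), .derive 7056 [.bwd 0] [] (.free), .derive 2723 [.bwd 0, .fwd 5214] [5] (.free),
  .derive 7164 [.bwd 4999, .fwd 0] [] (.free), .derive 7164 [.fwd 0] [] (.free), .derive 4116 [.bwd 0, .fwd 5000] [3] (.free), .derive 4094 [.edge 3, .fwd 0] [] (.free), .derive 7075 [.bwd 0] [] (.free), .derive 4094 [.bwd 0, .bwd 5158] [7] (.free), .derive 7794 [.bwd 3776, .fwd 0] [] (.free), .derive 7794 [.fwd 0] [] (.free),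
  .derive 7087 [.bwd 0, .bwd 3712] [4] (.free), .derive 4186 [.bwd 5163, .fwd 0] [] (.free), .derive 7826 [.bwd 0] [] (.free), .derive 4186 [.bwd 0, .bwd 3716] [7] (.free), .derive 7074 [.fwd 5191, .fwd 0] [] (.free), .derive 7074 [.fwd 0] [] (.free), .derive 4132 [.bwd 0, .bwd 5177] [2] (.free), .derive 7825 [.bwd 3722, .fwd 0] [] (.free),
  .derive 7825 [.fwd 0] [] (.free), .derive 7084 [.bwd 0, .fwd 3723] [4] (.free), .derive 7076 [.bwd 5180, .fwd 0] [] (.free), .derive 7793 [.bwd 0] [] (.free), .derive 7076 [.bwd 0, .fwd 3791] [0] (.free), .derive 7082 [.fwd 5191, .fwd 0] [] (.free), .derive 7082 [.fwd 0] [] (.free), .derive 7059 [.bwd 0, .bwd 5190] [4] (.free),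
  .derive 7819 [.fwd 3744, .fwd 0] [] (.free), .derive 7059 [.bwd 2, .fwd 5194] [7] (.free), .derive 7819 [.fwd 1] [] (.free), .derive 7083 [.bwd 0, .bwd 3739] [6] (.free), .derive 7211 [.fwd 35] [] (.free), .derive 7058 [.bwd 0, .bwd 4941] [4] (.free), .derive 7054 [.bwd 5239, .fwd 0] [] (.free), .derive 7054 [.fwd 0] [] (.free),
  .derive 2915 [.bwd 0, .bwd 5250] [6] (.free), .derive 7212 [.bwd 4943, .fwd 0] [] (.free), .derive 7212 [.fwd 0] [] (.free), .derive 2565 [.bwd 0, .fwd 4944] [3] (.free), .derive 2579 [.edge 3, .fwd 0] [] (.free), .derive 6793 [.bwd 0] [] (.free), .derive 2579 [.bwd 0, .bwd 5784] [6] (.free), .derive 7073 [.bwd 5221, .fwd 0] [] (.free),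
  .derive 7073 [.fwd 0] [] (.free), .derive 1537 [.bwd 0, .fwd 5222] [1] (.free), .derive 6792 [.bwd 5789, .fwd 0] [] (.free), .derive 6987 [.bwd 0] [] (.free), .derive 6792 [.bwd 0, .fwd 5391] [3] (.free), .derive 7209 [.fwd 4961, .fwd 0] [] (.free), .derive 7209 [.fwd 0] [] (.free), .derive 6717 [.bwd 0, .fwd 4964] [0] (.free),
  .derive 6720 [.fwd 5946, .fwd 0] [] (.free), .derive 6929 [.bwd 0] [] (.free), .derive 6720 [.bwd 0, .bwd 5506] [3] (.free), .derive 6988 [.fwd 5396, .fwd 0] [] (.free), .derive 6988 [.fwd 0] [] (.free), .derive 6930 [.bwd 0, .bwd 5287] [1] (.free), .derive 2335 [.fwd 5511, .fwd 0] [] (.free), .derive 7045 [.bwd 0] [] (.free),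
  .derive 2335 [.bwd 0, .bwd 5291] [6] (.free), .derive 6931 [.bwd 5512, .fwd 0] [] (.free), .derive 6931 [.fwd 0] [] (.free), .derive 2559 [.bwd 0, .fwd 1457] [7] (.free), .derive 7046 [.bwd 5293, .fwd 0] [] (.free), .derive 7046 [.fwd 0] [] (.free), .derive 3268 [.bwd 0, .bwd 5291] [5] (.free), .derive 3285 [.edge 5, .fwd 0] [] (.free),
  .derive 7048 [.bwd 0] [] (.free), .derive 3285 [.bwd 0, .bwd 5295] [7] (.free), .derive 7344 [.bwd 4739, .fwd 0] [] (.free), .derive 6914 [.bwd 1464, .fwd 0] [] (.free)]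
def ph9_p13_3 : List Aux := [
  .derive 2560 [.bwd 0, .fwd 5556] [0] (.free), .derive 7047 [.bwd 5301, .fwd 0] [] (.free), .derive 7047 [.fwd 0] [] (.free), .derive 3824 [.bwd 0, .fwd 5302] [5] (.free), .derive 3825 [.edge 5, .fwd 0] [] (.free), .derive 7044 [.bwd 0] [] (.free), .derive 3825 [.bwd 0, .bwd 5261] [1] (.free), .derive 3015 [.bwd 6193, .fwd 0] [] (.free),
  .derive 7071 [.bwd 0] [] (.free), .derive 3015 [.bwd 0, .fwd 5263] [5] (.free), .derive 7225 [.bwd 4962, .fwd 0] [] (.free), .derive 7225 [.fwd 0] [] (.free), .derive 7070 [.bwd 0, .bwd 4957] [3] (.free), .derive 7055 [.bwd 5270, .fwd 0] [] (.free), .derive 7228 [.bwd 0] [] (.free), .derive 7055 [.bwd 0, .bwd 3236] [2] (.free),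
  .derive 7755 [.fwd 3935, .fwd 0] [] (.free), .derive 8115 [.bwd 0] [] (.free), .derive 7755 [.bwd 0, .fwd 3238] [5] (.free), .derive 4107 [.bwd 3937, .fwd 0] [] (.free), .derive 7226 [.bwd 0] [] (.free), .derive 4107 [.bwd 0, .fwd 4970] [6] (.free), .derive 4108 [.edge 6, .fwd 0] [] (.free), .derive 7213 [.bwd 0] [] (.free),
  .derive 4108 [.bwd 0, .bwd 4997] [5] (.free), .derive 7803 [.bwd 3847, .fwd 0] [] (.free), .derive 7803 [.fwd 0] [] (.free), .derive 7214 [.bwd 0, .fwd 3848] [0] (.free), .derive 7208 [.bwd 5002, .fwd 0] [] (.free), .derive 7766 [.bwd 0] [] (.free), .derive 7208 [.bwd 0, .bwd 3924] [5] (.free), .derive 7210 [.fwd 5012, .fwd 0] [] (.free),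
  .derive 7210 [.fwd 0] [] (.free), .derive 4039 [.bwd 0, .bwd 3242] [6] (.free), .derive 4007 [.edge 6, .fwd 0] [] (.free), .derive 8121 [.bwd 0] [] (.free), .derive 4007 [.bwd 0, .bwd 3243] [5] (.free), .derive 4006 [.edge 5, .fwd 0] [] (.free), .derive 8122 [.bwd 0] [] (.free), .derive 4006 [.bwd 0, .bwd 3247] [3] (.free),
  .derive 7756 [.bwd 3957, .fwd 0] [] (.free), .derive 7756 [.fwd 0] [] (.free), .derive 5015 [.bwd 0, .bwd 3765] [2] (.free), .derive 4858 [.edge 2, .fwd 0] [] (.free), .derive 5015 [.bwd 2, .bwd 3958] [5] (.free), .derive 5014 [.edge 5, .fwd 0] [] (.free), .derive 7757 [.bwd 0] [] (.free), .derive 5014 [.bwd 0, .bwd 2755] [7] (.free),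
  .derive 5054 [.edge 7, .fwd 0] [] (.free), .derive 8326 [.bwd 0] [] (.free), .derive 5054 [.bwd 0, .bwd 2756] [4] (.free), .derive 5070 [.edge 4, .fwd 0] [] (.free), .derive 8327 [.bwd 0] [] (.free), .derive 5070 [.bwd 0, .bwd 2750] [7] (.free), .derive 5005 [.edge 7, .fwd 0] [] (.free), .derive 8332 [.bwd 0] [] (.free),
  .derive 5005 [.bwd 0, .fwd 2754] [3] (.free), .derive 8117 [.bwd 3274, .fwd 0] [] (.free), .derive 8329 [.bwd 0] [] (.free), .derive 8117 [.bwd 0, .fwd 2762, .fwd 456] [5] (.free), .derive 4878 [.edge 5, .bwd 0] [] (.free), .derive 8117 [.bwd 0] [] (.free), .derive 4878 [.bwd 0, .bwd 3277] [6] (.free), .derive 8059 [.bwd 3399, .fwd 0] [] (.free),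
  .derive 8118 [.bwd 0] [] (.free), .derive 8059 [.bwd 0, .bwd 2584] [1] (.free), .derive 5819 [.bwd 3401, .fwd 0] [] (.free), .derive 8421 [.bwd 0] [] (.free), .derive 5819 [.bwd 0, .bwd 2588] [3] (.free), .derive 8362 [.bwd 2705, .fwd 0] [] (.free), .derive 8333 [.bwd 575, .fwd 0] [] (.free), .derive 6095 [.bwd 0, .bwd 2767] [6] (.free),
  .derive 8116 [.fwd 3290, .fwd 0] [] (.free), .derive 8116 [.fwd 0] [] (.free), .derive 5749 [.bwd 0, .bwd 3251] [7] (.free), .derive 5740 [.edge 7, .fwd 0] [] (.free), .derive 8136 [.bwd 0] [] (.free), .derive 5740 [.bwd 0, .fwd 3255] [4] (.free), .derive 5739 [.edge 4, .fwd 0] [] (.free), .derive 8135 [.bwd 0] [] (.free),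
  .derive 5739 [.bwd 0, .fwd 3260] [7] (.free), .derive 5738 [.edge 7, .fwd 0] [] (.free), .derive 8120 [.bwd 0] [] (.free), .derive 5738 [.bwd 0, .fwd 3294] [6] (.free), .derive 5928 [.bwd 6184, .fwd 0] [] (.free), .derive 8119 [.bwd 0] [] (.free), .derive 5928 [.bwd 0, .fwd 3299] [7] (.free), .derive 8393 [.bwd 2658, .fwd 0] [] (.free),
  .derive 8393 [.fwd 0] [] (.free), .derive 6097 [.bwd 0, .bwd 2657] [2] (.free), .derive 8423 [.bwd 2607, .fwd 0] [] (.free), .derive 8423 [.fwd 0] [] (.free), .derive 8394 [.bwd 0, .fwd 2608] [7] (.free), .derive 5929 [.fwd 2662, .fwd 0] [] (.free), .derive 8165 [.bwd 0] [] (.free), .derive 5929 [.bwd 0, .fwd 3213] [6] (.free),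
  .derive 5772 [.bwd 6197, .fwd 0] [] (.free), .derive 8154 [.bwd 0] [] (.free), .derive 5772 [.bwd 0, .bwd 3237] [7] (.free), .derive 5752 [.edge 7, .fwd 0] [] (.free)]
def ph9_p13_4 : List Aux := [
  .derive 8155 [.bwd 0] [] (.free), .derive 5752 [.bwd 0, .bwd 3223] [4] (.free), .derive 5753 [.edge 4, .fwd 0] [] (.free), .derive 8164 [.bwd 0] [] (.free), .derive 5753 [.bwd 0, .fwd 3225] [7] (.free), .derive 5754 [.edge 7, .fwd 0] [] (.free), .derive 8156 [.bwd 0] [] (.free), .derive 5754 [.bwd 0, .fwd 3244] [6] (.free),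
  .derive 8335 [.bwd 2801, .fwd 0] [] (.free), .derive 8335 [.fwd 0] [] (.free), .derive 6098 [.bwd 0, .bwd 2777, .fwd 621] [5] (.free), .derive 8424 [.bwd 2626, .fwd 0] [] (.free), .derive 8424 [.fwd 0] [] (.free), .derive 8348 [.bwd 0, .fwd 2627] [2] (.free), .derive 8360 [.fwd 2752, .fwd 0] [] (.free), .derive 8422 [.bwd 0, .fwd 623] [] (.free),
  .derive 7854 [.bwd 72] [] (.free), .derive 4858 [.bwd 0, .bwd 3841] [3] (.free), .derive 7231 [.fwd 5057, .fwd 0] [] (.free), .derive 7231 [.fwd 0] [] (.free), .derive 8239 [.bwd 286] [] (.free), .derive 7926 [.bwd 0, .fwd 3080] [7] (.free), .derive 4341 [.fwd 3721, .fwd 0] [] (.free), .derive 8237 [.bwd 0] [] (.free),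
  .derive 4341 [.bwd 0, .bwd 3073] [5] (.free), .derive 4337 [.edge 5, .fwd 0] [] (.free), .derive 8244 [.bwd 0] [] (.free), .derive 4337 [.bwd 0, .fwd 3075] [7] (.free), .derive 4336 [.edge 7, .fwd 0] [] (.free), .derive 8243 [.bwd 0] [] (.free), .derive 4336 [.bwd 0, .bwd 3081] [4] (.free), .derive 7993 [.bwd 3598, .fwd 0] [] (.free),
  .derive 7993 [.fwd 0] [] (.free), .derive 5437 [.bwd 0, .bwd 3596] [7] (.free), .derive 5438 [.edge 7, .fwd 0] [] (.free), .derive 7995 [.bwd 0] [] (.free), .derive 5438 [.bwd 0, .bwd 3597] [6] (.free), .derive 7679 [.fwd 4212, .fwd 0] [] (.free), .derive 7996 [.bwd 0] [] (.free), .derive 7679 [.bwd 0, .bwd 3597] [5] (.free),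
  .derive 8144 [.fwd 3303, .fwd 0] [] (.free), .derive 8144 [.fwd 0] [] (.free), .derive 7997 [.bwd 0, .bwd 3303] [0] (.free), .derive 7979 [.bwd 3602, .fwd 0] [] (.free), .derive 8145 [.bwd 0] [] (.free), .derive 7979 [.bwd 0, .fwd 3305] [5] (.free), .derive 7978 [.bwd 3642, .fwd 0] [] (.free), .derive 7978 [.fwd 0] [] (.free),
  .derive 7786 [.bwd 0, .bwd 3638, .fwd 1843] [6] (.free), .derive 7789 [.fwd 3996, .fwd 0] [] (.free), .derive 7789 [.fwd 0] [] (.free), .derive 5296 [.bwd 0, .bwd 3105] [7] (.free), .derive 5295 [.edge 7, .fwd 0] [] (.free), .derive 8241 [.bwd 0] [] (.free), .derive 5295 [.bwd 0, .fwd 3109] [5] (.free), .derive 8182 [.bwd 3234, .fwd 0] [] (.free),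
  .derive 7987 [.bwd 1843, .fwd 0] [] (.free), .derive 5440 [.bwd 0, .bwd 3630] [7] (.free), .derive 5439 [.edge 7, .fwd 0] [] (.free), .derive 7990 [.bwd 0] [] (.free), .derive 5439 [.bwd 0, .bwd 3634] [4] (.free), .derive 7834 [.fwd 3919, .fwd 0] [] (.free), .derive 7834 [.fwd 0] [] (.free), .derive 4335 [.bwd 0, .fwd 3920] [6] (.free),
  .derive 7991 [.bwd 3636, .fwd 0] [] (.free), .derive 7991 [.fwd 0] [] (.free), .derive 7833 [.bwd 0, .bwd 3618] [0] (.free), .derive 7903 [.fwd 359] [] (.free), .derive 7731 [.bwd 0, .fwd 3809] [5] (.free), .derive 7729 [.bwd 4139, .fwd 0] [] (.free), .derive 7902 [.bwd 0] [] (.free), .derive 7729 [.bwd 0, .fwd 3814] [6] (.free),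
  .derive 7397 [.bwd 372] [] (.free), .derive 7016 [.bwd 0, .bwd 4474] [2] (.free), .derive 3952 [.bwd 5534, .fwd 0] [] (.free), .derive 7572 [.bwd 0] [] (.free), .derive 3952 [.bwd 0, .bwd 4472] [7] (.free), .derive 3753 [.edge 7, .fwd 0] [] (.free), .derive 7574 [.bwd 0] [] (.free), .derive 3753 [.bwd 0, .fwd 4476] [6] (.free),
  .derive 3752 [.edge 6, .fwd 0] [] (.free), .derive 7562 [.bwd 0] [] (.free), .derive 3752 [.bwd 0, .fwd 4506] [7] (.free), .derive 7618 [.bwd 4385, .fwd 0] [] (.free), .derive 7618 [.fwd 0] [] (.free), .derive 7559 [.bwd 0, .fwd 4386] [3] (.free), .derive 7554 [.bwd 4516, .fwd 0] [] (.free), .derive 7554 [.fwd 0] [] (.free),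
  .derive 7283 [.bwd 0, .fwd 4526] [2] (.free), .derive 7276 [.bwd 5033, .fwd 0] [] (.free), .derive 7552 [.bwd 0] [] (.free), .derive 7276 [.bwd 0, .bwd 4532] [0] (.free), .derive 7284 [.fwd 5034, .fwd 0] [] (.free), .derive 7284 [.fwd 0] [] (.free), .derive 3641 [.bwd 0, .bwd 5037] [7] (.free), .derive 7553 [.bwd 4535, .fwd 0] [] (.free),
  .derive 7553 [.fwd 0] [] (.free), .derive 3124 [.bwd 0, .bwd 4532] [2] (.free), .derive 3103 [.edge 2, .fwd 0] [] (.free), .derive 7556 [.bwd 0] [] (.free)]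
def ph9_p13 : List Aux :=
  ((ph9_p13_0 ++ ph9_p13_1) ++ (ph9_p13_2 ++ (ph9_p13_3 ++ ph9_p13_4)))

theorem ph9_p13_ok : stHas (runList (auxStep' P) ph9_p13 (mkSt 8508 mask10 ph9_eq13)) 8508 mask10 ph9_eq14 = true := by decide +kernel

end Cfsg.Agent.CosetData.ChainU62
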