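import Cfsg.Agent.Lib.Compute.CosetData.ChainU62Aux

/-! Coset enumeration certificate data (S2091 chain). -/

set_option autoImplicit false
set_option maxRecDepth 100000
set_option Elab.async false

namespace Cfsg.Agent.CosetData.ChainU62

open Cfsg.Agent.CosetCert

def ph9_p14_0 : List Aux := [
  .derive 3103 [.bwd 0, .bwd 4536] [7] (.free), .derive 7272 [.bwd 5066, .fwd 0] [] (.free), .derive 7272 [.fwd 0] [] (.free), .derive 3642 [.bwd 0, .bwd 5066] [5] (.free), .derive 7555 [.bwd 4541, .fwd 0] [] (.free), .derive 7555 [.fwd 0] [] (.free), .derive 7273 [.bwd 0, .bwd 4532] [3] (.free), .derive 7619 [.fwd 4406, .fwd 0] [] (.free),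
  .derive 7619 [.fwd 0] [] (.free), .derive 7561 [.bwd 0, .bwd 4409] [7] (.free), .derive 7564 [.fwd 4529, .fwd 0] [] (.free), .derive 7564 [.fwd 0] [] (.free), .derive 3757 [.bwd 0, .bwd 4532] [5] (.free), .derive 6896 [.fwd 5808, .fwd 0] [] (.free), .derive 6896 [.fwd 0] [] (.free), .derive 3648 [.bwd 0, .bwd 5584] [6] (.free),
  .derive 3675 [.edge 6, .fwd 0] [] (.free), .derive 7012 [.bwd 0] [] (.free), .derive 3675 [.bwd 0, .bwd 4167] [7] (.free), .derive 3674 [.edge 7, .fwd 0] [] (.free), .derive 7741 [.bwd 0] [] (.free), .derive 3674 [.bwd 0, .fwd 4171] [5] (.free), .derive 7573 [.bwd 4521, .fwd 0] [] (.free), .derive 7689 [.bwd 0] [] (.free),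
  .derive 7573 [.bwd 0, .bwd 4237] [4] (.free), .derive 7576 [.fwd 4514, .fwd 0] [] (.free), .derive 7709 [.bwd 0] [] (.free), .derive 7576 [.bwd 0, .bwd 4172] [5] (.free), .derive 3676 [.fwd 4518, .fwd 0] [] (.free), .derive 7743 [.bwd 0] [] (.free), .derive 3676 [.bwd 0, .bwd 4176] [0] (.free), .derive 7575 [.bwd 4526, .fwd 0] [] (.free),
  .derive 7575 [.fwd 0] [] (.free), .derive 3953 [.bwd 0, .fwd 4524] [6] (.free), .derive 7744 [.bwd 4178, .fwd 0] [] (.free), .derive 7744 [.fwd 0] [] (.free), .derive 7558 [.bwd 0, .fwd 4179] [4] (.free), .derive 7557 [.bwd 4569, .fwd 0] [] (.free), .derive 7742 [.bwd 0] [] (.free), .derive 7557 [.bwd 0, .fwd 4186] [3] (.free),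
  .derive 7565 [.fwd 4557, .fwd 0] [] (.free), .derive 7740 [.bwd 0] [] (.free), .derive 7565 [.bwd 0, .bwd 4194] [6] (.free), .derive 7568 [.fwd 4553, .fwd 0] [] (.free), .derive 7568 [.fwd 0] [] (.free), .derive 3951 [.bwd 0, .bwd 2982] [4] (.free), .derive 4823 [.edge 4, .fwd 0] [] (.free), .derive 8313 [.bwd 0] [] (.free),
  .derive 4823 [.bwd 0, .fwd 2984] [6] (.free), .derive 8022 [.bwd 3656, .fwd 0] [] (.free), .derive 8312 [.bwd 0] [] (.free), .derive 8022 [.bwd 0, .fwd 2990] [0] (.free), .derive 8024 [.fwd 3654, .fwd 0] [] (.free), .derive 8024 [.fwd 0] [] (.free), .derive 7566 [.bwd 0, .bwd 3657] [6] (.free), .derive 7570 [.fwd 4560, .fwd 0] [] (.free),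
  .derive 7570 [.fwd 0] [] (.free), .derive 4826 [.bwd 0, .bwd 3661] [7] (.free), .derive 4827 [.edge 7, .fwd 0] [] (.free), .derive 8023 [.bwd 0] [] (.free), .derive 4827 [.bwd 0, .fwd 3665] [4] (.free), .derive 3672 [.edge 4, .fwd 0] [] (.free), .derive 7571 [.bwd 0] [] (.free), .derive 3672 [.bwd 0, .bwd 4567] [7] (.free),
  .derive 7567 [.bwd 4578, .fwd 0] [] (.free), .derive 7567 [.fwd 0] [] (.free), .derive 3673 [.bwd 0, .fwd 4579] [2] (.free), .derive 7569 [.bwd 4576, .fwd 0] [] (.free), .derive 7569 [.fwd 0] [] (.free), .derive 7239 [.bwd 0, .fwd 4577] [1] (.free), .derive 7233 [.bwd 5194, .fwd 0] [] (.free), .derive 7233 [.fwd 0] [] (.free),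
  .derive 7232 [.bwd 0, .bwd 5204] [5] (.free), .derive 7234 [.fwd 5208, .fwd 0] [] (.free), .derive 7235 [.bwd 0] [] (.free), .derive 7234 [.bwd 0, .fwd 5208] [4] (.free), .derive 8012 [.fwd 3701, .fwd 0] [] (.free), .derive 8012 [.fwd 0] [] (.free), .derive 4811 [.bwd 0, .bwd 3701, .fwd 1776] [6] (.free), .derive 8018 [.bwd 3694, .fwd 0] [] (.free),
  .derive 8018 [.fwd 0] [] (.free), .derive 4842 [.bwd 0, .bwd 3632] [7] (.free), .derive 5032 [.edge 7, .fwd 0] [] (.free), .derive 8052 [.bwd 0] [] (.free), .derive 5032 [.bwd 0, .bwd 3636] [6] (.free), .derive 8127 [.bwd 3484, .fwd 0] [] (.free), .derive 8127 [.fwd 0] [] (.free), .derive 4871 [.bwd 0, .fwd 3485] [4] (.free),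
  .derive 4862 [.edge 4, .fwd 0] [] (.free), .derive 8126 [.bwd 0] [] (.free), .derive 4862 [.bwd 0, .bwd 3491] [6] (.free), .derive 8038 [.bwd 3672, .fwd 0] [] (.free), .derive 8038 [.fwd 0] [] (.free), .derive 5031 [.bwd 0, .bwd 3640] [1] (.free), .derive 5036 [.edge 1, .fwd 0] [] (.free), .derive 8054 [.bwd 0] [] (.free),
  .derive 5036 [.bwd 0, .bwd 3644] [6] (.free), .derive 8134 [.bwd 3480, .fwd 0] [] (.free), .derive 8134 [.fwd 0] [] (.free), .derive 4873 [.bwd 0, .fwd 3481] [4] (.free)]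
def ph9_p14_1 : List Aux := [
  .derive 4872 [.edge 4, .fwd 0] [] (.free), .derive 8123 [.bwd 0] [] (.free), .derive 4872 [.bwd 0, .bwd 3508] [6] (.free), .derive 8053 [.bwd 3653, .fwd 0] [] (.free), .derive 8053 [.fwd 0] [] (.free), .derive 5025 [.bwd 0, .fwd 3654] [7] (.free), .derive 4843 [.edge 7, .fwd 0] [] (.free), .derive 8017 [.bwd 0] [] (.free),
  .derive 4843 [.bwd 0, .bwd 3724] [6] (.free), .derive 8030 [.bwd 3701, .fwd 0] [] (.free), .derive 8030 [.fwd 0] [] (.free), .derive 4810 [.bwd 0, .bwd 3697] [5] (.free), .derive 4806 [.edge 5, .fwd 0] [] (.free), .derive 8034 [.bwd 0] [] (.free), .derive 4806 [.bwd 0, .bwd 3701] [6] (.free), .derive 8014 [.bwd 3737, .fwd 0] [] (.free),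
  .derive 8014 [.fwd 0] [] (.free), .derive 4859 [.bwd 0, .fwd 3738] [4] (.free), .derive 4858 [.edge 4, .fwd 0] [] (.free), .derive 7738 [.bwd 0] [] (.free), .derive 4858 [.bwd 0, .fwd 4276] [3] (.free), .derive 7231 [.fwd 5260, .fwd 0] [] (.free), .derive 7737 [.bwd 0, .fwd 202] [] (.free), .derive 4155 [.bwd 0, .bwd 4281] [6] (.free),
  .derive 7462 [.fwd 4834, .fwd 0] [] (.free), .derive 7462 [.fwd 0] [] (.free), .derive 3948 [.bwd 0, .bwd 4838] [2] (.free), .derive 7735 [.bwd 4290, .fwd 0] [] (.free), .derive 3948 [.bwd 2, .fwd 4839] [4] (.free), .derive 7736 [.bwd 4290, .fwd 0] [] (.free), .derive 7736 [.fwd 0] [] (.free), .derive 4157 [.bwd 0, .fwd 4291] [1] (.free),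
  .derive 7858 [.bwd 4049, .fwd 0] [] (.free), .derive 4157 [.bwd 2, .fwd 4292] [7] (.free), .derive 7859 [.bwd 4049, .fwd 0] [] (.free), .derive 7859 [.fwd 0] [] (.free), .derive 7858 [.fwd 3] [] (.free), .derive 7733 [.bwd 0, .fwd 4053] [6] (.free), .derive 7735 [.fwd 10] [] (.free), .derive 3516 [.bwd 0, .fwd 4301] [7] (.free),
  .derive 7463 [.bwd 4849, .fwd 0] [] (.free), .derive 7463 [.fwd 0] [] (.free), .derive 7243 [.bwd 0, .fwd 4850] [1] (.free), .derive 7059 [.bwd 5260, .fwd 0] [] (.free), .derive 7461 [.bwd 0] [] (.free), .derive 7059 [.bwd 0, .bwd 4858] [7] (.free), .derive 7081 [.bwd 388, .fwd 0] [] (.free), .derive 7081 [.fwd 0] [] (.free),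
  .derive 3515 [.bwd 0, .bwd 5588] [5] (.free), .derive 6983 [.fwd 5774, .fwd 0] [] (.free), .derive 6983 [.fwd 0] [] (.free), .derive 2612 [.bwd 0, .bwd 5777] [6] (.free), .derive 6833 [.fwd 6088, .fwd 0] [] (.free), .derive 6833 [.fwd 0] [] (.free), .derive 2443 [.bwd 0, .fwd 6091] [4] (.free), .derive 6982 [.bwd 5782, .fwd 0] [] (.free),
  .derive 6982 [.fwd 0] [] (.free), .derive 2610 [.bwd 0, .bwd 4374] [6] (.free), .derive 2611 [.edge 6, .fwd 0] [] (.free), .derive 7707 [.bwd 0] [] (.free), .derive 2611 [.bwd 0, .bwd 4378] [5] (.free), .derive 7080 [.bwd 5602, .fwd 0] [] (.free), .derive 7080 [.fwd 0] [] (.free), .derive 3912 [.bwd 0, .bwd 5597] [7] (.free),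
  .derive 7708 [.bwd 4380, .fwd 0] [] (.free), .derive 7708 [.fwd 0] [] (.free), .derive 7083 [.bwd 0, .bwd 4373] [0] (.free), .derive 7084 [.fwd 5599, .fwd 0] [] (.free), .derive 7712 [.bwd 0] [] (.free), .derive 7084 [.bwd 0, .bwd 4377] [7] (.free), .derive 7078 [.bwd 5599, .fwd 0] [] (.free), .derive 7078 [.fwd 0] [] (.free),
  .derive 3919 [.bwd 0, .bwd 5615] [5] (.free), .derive 7711 [.bwd 4383, .fwd 0] [] (.free), .derive 7711 [.fwd 0] [] (.free), .derive 2608 [.bwd 0, .fwd 4384] [6] (.free), .derive 2609 [.edge 6, .fwd 0] [] (.free), .derive 6981 [.bwd 0] [] (.free), .derive 2609 [.bwd 0, .fwd 5806] [5] (.free), .derive 7079 [.bwd 5621, .fwd 0] [] (.free),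
  .derive 7079 [.fwd 0] [] (.free), .derive 6980 [.bwd 0, .bwd 5421] [3] (.free), .derive 7017 [.fwd 5739, .fwd 0] [] (.free), .derive 7179 [.bwd 0] [] (.free), .derive 7017 [.bwd 0, .bwd 5425] [5] (.free), .derive 7018 [.fwd 5740, .fwd 0] [] (.free), .derive 7018 [.fwd 0] [] (.free), .derive 2747 [.bwd 0, .bwd 4888] [6] (.free),
  .derive 2746 [.edge 6, .fwd 0] [] (.free), .derive 7466 [.bwd 0] [] (.free), .derive 2746 [.bwd 0, .fwd 4892] [5] (.free), .derive 7178 [.bwd 5433, .fwd 0] [] (.free), .derive 7178 [.fwd 0] [] (.free), .derive 3918 [.bwd 0, .bwd 5427] [0] (.free), .derive 3913 [.edge 0, .fwd 0] [] (.free), .derive 7182 [.bwd 0] [] (.free),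
  .derive 3913 [.bwd 0, .bwd 5431] [5] (.free), .derive 7464 [.fwd 4903, .fwd 0] [] (.free), .derive 7464 [.fwd 0] [] (.free), .derive 2749 [.bwd 0, .fwd 4904] [6] (.free)]
def ph9_p14_2 : List Aux := [
  .derive 2748 [.edge 6, .fwd 0] [] (.free), .derive 7019 [.bwd 0] [] (.free), .derive 2748 [.bwd 0, .bwd 5756] [4] (.free), .derive 7180 [.bwd 5442, .fwd 0] [] (.free), .derive 7180 [.fwd 0] [] (.free), .derive 2487 [.bwd 0, .bwd 5441] [6] (.free), .derive 3521 [.edge 6, .fwd 0] [] (.free), .derive 7181 [.bwd 0] [] (.free),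
  .derive 3521 [.bwd 0, .fwd 5445] [3] (.free), .derive 3522 [.edge 3, .fwd 0] [] (.free), .derive 7101 [.bwd 0] [] (.free), .derive 3522 [.bwd 0, .bwd 5607] [4] (.free), .derive 6862 [.fwd 6082, .fwd 0] [] (.free), .derive 6862 [.fwd 0] [] (.free), .derive 2638 [.bwd 0, .bwd 6085] [6] (.free), .derive 7102 [.bwd 5610, .fwd 0] [] (.free),
  .derive 7102 [.fwd 0] [] (.free), .derive 2023 [.bwd 0, .fwd 5611] [2] (.free), .derive 2035 [.edge 2, .fwd 0] [] (.free), .derive 7100 [.bwd 0] [] (.free), .derive 2035 [.bwd 0, .bwd 5617] [6] (.free), .derive 6867 [.bwd 6083, .fwd 0] [] (.free), .derive 6867 [.fwd 0] [] (.free), .derive 2637 [.bwd 0, .fwd 6084] [5] (.free),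
  .derive 7099 [.bwd 5623, .fwd 0] [] (.free), .derive 7099 [.fwd 0] [] (.free), .derive 3513 [.bwd 0, .fwd 5624] [7] (.free), .derive 7460 [.bwd 4942, .fwd 0] [] (.free), .derive 7460 [.fwd 0] [] (.free), .derive 4904 [.bwd 0, .fwd 4943] [4] (.free), .derive 8077 [.bwd 3731, .fwd 0] [] (.free), .derive 8077 [.fwd 0] [] (.free),
  .derive 7459 [.bwd 0, .fwd 3732] [5] (.free), .derive 7458 [.bwd 4949, .fwd 0] [] (.free), .derive 7730 [.bwd 0] [] (.free), .derive 7458 [.bwd 0, .fwd 4408] [7] (.free), .derive 3511 [.fwd 4954, .fwd 0] [] (.free), .derive 7098 [.bwd 0] [] (.free), .derive 3511 [.bwd 0, .bwd 5329] [3] (.free), .derive 3535 [.edge 3, .fwd 0] [] (.free),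
  .derive 7258 [.bwd 0] [] (.free), .derive 3535 [.bwd 0, .bwd 3631] [7] (.free), .derive 7473 [.bwd 4931, .fwd 0] [] (.free), .derive 8131 [.bwd 0] [] (.free), .derive 7473 [.bwd 0, .bwd 3635] [4] (.free), .derive 8219 [.fwd 3450, .fwd 0] [] (.free), .derive 8219 [.fwd 0] [] (.free), .derive 5035 [.bwd 0, .fwd 3451] [7] (.free),
  .derive 3069 [.edge 7, .fwd 0] [] (.free), .derive 6895 [.bwd 0] [] (.free), .derive 3069 [.bwd 0, .bwd 6048] [6] (.free), .derive 7260 [.bwd 5339, .fwd 0] [] (.free), .derive 7260 [.fwd 0] [] (.free), .derive 2232 [.bwd 0, .fwd 5340] [3] (.free), .derive 6777 [.fwd 6299, .fwd 0] [] (.free), .derive 7097 [.bwd 0] [] (.free),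
  .derive 6777 [.bwd 0, .fwd 5657] [4] (.free), .derive 6759 [.bwd 6301, .fwd 0] [] (.free), .derive 7090 [.bwd 0] [] (.free), .derive 6759 [.bwd 0, .fwd 5675] [1] (.free), .derive 6758 [.bwd 6350, .fwd 0] [] (.free), .derive 6796 [.bwd 0] [] (.free), .derive 6758 [.bwd 0, .fwd 6268] [7] (.free), .derive 6608 [.bwd 6355, .fwd 0] [] (.free),
  .derive 6795 [.bwd 0] [] (.free), .derive 6608 [.bwd 0, .bwd 6265] [4] (.free), .derive 6776 [.fwd 6315, .fwd 0] [] (.free), .derive 6799 [.bwd 0] [] (.free), .derive 6776 [.bwd 0, .fwd 6267] [7] (.free), .derive 6775 [.bwd 6317, .fwd 0] [] (.free), .derive 6798 [.bwd 0] [] (.free), .derive 6775 [.bwd 0, .bwd 5366] [3] (.free),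
  .derive 6894 [.fwd 6072, .fwd 0] [] (.free), .derive 7256 [.bwd 0] [] (.free), .derive 6894 [.bwd 0, .bwd 5370] [6] (.free), .derive 7475 [.fwd 4959, .fwd 0] [] (.free), .derive 7475 [.fwd 0] [] (.free), .derive 3068 [.bwd 0, .bwd 4957] [5] (.free), .derive 3067 [.edge 5, .fwd 0] [] (.free), .derive 7477 [.bwd 0] [] (.free),
  .derive 3067 [.bwd 0, .bwd 4961] [4] (.free), .derive 7253 [.bwd 5382, .fwd 0] [] (.free), .derive 7253 [.fwd 0] [] (.free), .derive 3537 [.bwd 0, .bwd 5380] [5] (.free), .derive 3536 [.edge 5, .fwd 0] [] (.free), .derive 7255 [.bwd 0] [] (.free), .derive 3536 [.bwd 0, .fwd 5384] [3] (.free), .derive 3502 [.edge 3, .fwd 0] [] (.free),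
  .derive 7008 [.bwd 0] [] (.free), .derive 3502 [.bwd 0, .bwd 4464] [7] (.free), .derive 7444 [.bwd 5035, .fwd 0] [] (.free), .derive 7729 [.bwd 0] [] (.free), .derive 7444 [.bwd 0, .fwd 320] [6] (.free), .derive 7413 [.bwd 5037, .fwd 0] [] (.free), .derive 7900 [.bwd 0] [] (.free), .derive 7413 [.bwd 0, .bwd 3553] [5] (.free),
  .derive 7420 [.fwd 5087, .fwd 0] [] (.free), .derive 8191 [.bwd 0] [] (.free), .derive 7420 [.bwd 0, .bwd 3557] [2] (.free), .derive 7415 [.bwd 5091, .fwd 0] [] (.free)]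
def ph9_p14_3 : List Aux := [
  .derive 7415 [.fwd 0] [] (.free), .derive 5334 [.bwd 0, .bwd 5101] [7] (.free), .derive 8193 [.bwd 3556, .fwd 0] [] (.free), .derive 8193 [.fwd 0] [] (.free), .derive 3384 [.bwd 0, .fwd 3557] [5] (.free), .derive 3383 [.edge 5, .fwd 0] [] (.free), .derive 7901 [.bwd 0] [] (.free), .derive 3383 [.bwd 0, .bwd 4152] [7] (.free),
  .derive 7414 [.bwd 5109, .fwd 0] [] (.free), .derive 7414 [.fwd 0] [] (.free), .derive 4230 [.bwd 0, .bwd 5052] [6] (.free), .derive 4231 [.edge 6, .fwd 0] [] (.free), .derive 7445 [.bwd 0] [] (.free), .derive 4231 [.bwd 0, .bwd 5056] [7] (.free), .derive 7405 [.fwd 5133, .fwd 0] [] (.free), .derive 6995 [.bwd 701, .fwd 0] [] (.free),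
  .derive 3503 [.bwd 0, .bwd 5913] [5] (.free), .derive 3504 [.edge 5, .fwd 0] [] (.free), .derive 6997 [.bwd 0] [] (.free), .derive 3504 [.bwd 0, .bwd 4504, .fwd 713] [7] (.free), .derive 7446 [.bwd 5061, .fwd 0] [] (.free), .derive 7446 [.fwd 0] [] (.free), .derive 4232 [.bwd 0, .fwd 5062] [6] (.free), .derive 7905 [.bwd 4161, .fwd 0] [] (.free),
  .derive 7905 [.fwd 0] [] (.free), .derive 5366 [.bwd 0, .bwd 3580] [5] (.free), .derive 5367 [.edge 5, .fwd 0] [] (.free), .derive 8192 [.bwd 0] [] (.free), .derive 5367 [.bwd 0, .fwd 3584] [3] (.free), .derive 8210 [.bwd 3553, .fwd 0] [] (.free), .derive 8210 [.fwd 0] [] (.free), .derive 8190 [.bwd 0, .fwd 3554] [5] (.free),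
  .derive 7907 [.bwd 3592, .fwd 0] [] (.free), .derive 8209 [.bwd 0] [] (.free), .derive 7907 [.bwd 0, .bwd 3549] [1] (.free), .derive 7894 [.bwd 4169, .fwd 0] [] (.free), .derive 8214 [.bwd 0] [] (.free), .derive 7894 [.bwd 0, .bwd 3553] [3] (.free), .derive 7892 [.bwd 4193, .fwd 0] [] (.free), .derive 7892 [.fwd 0] [] (.free),
  .derive 5379 [.bwd 0, .bwd 4199] [6] (.free), .derive 7544 [.fwd 4897, .fwd 0] [] (.free), .derive 7544 [.fwd 0] [] (.free), .derive 4219 [.bwd 0, .bwd 4900] [7] (.free), .derive 7893 [.bwd 4202, .fwd 0] [] (.free), .derive 7508 [.bwd 789, .fwd 0] [] (.free), .derive 3624 [.bwd 0, .bwd 4964] [6] (.free), .derive 3625 [.edge 6, .fwd 0] [] (.free),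
  .derive 7510 [.bwd 0] [] (.free), .derive 3625 [.bwd 0, .bwd 4968] [4] (.free), .derive 7281 [.fwd 5398, .fwd 0] [] (.free), .derive 7281 [.fwd 0] [] (.free), .derive 3580 [.bwd 0, .fwd 5399] [7] (.free), .derive 7512 [.bwd 4968, .fwd 0] [] (.free), .derive 7512 [.fwd 0] [] (.free), .derive 3626 [.bwd 0, .bwd 4362] [0] (.free),
  .derive 5473 [.edge 0, .fwd 0] [] (.free), .derive 7808 [.bwd 0] [] (.free), .derive 5473 [.bwd 0, .bwd 4366] [7] (.free), .derive 8254 [.bwd 3486, .fwd 0] [] (.free), .derive 8254 [.fwd 0] [] (.free), .derive 4120 [.bwd 0, .fwd 3487] [5] (.free), .derive 7807 [.bwd 4372, .fwd 0] [] (.free), .derive 7807 [.fwd 0] [] (.free),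
  .derive 5489 [.bwd 0, .fwd 1861] [6] (.free), .derive 7526 [.fwd 4956, .fwd 0] [] (.free), .derive 7526 [.fwd 0] [] (.free), .derive 4307 [.bwd 0, .bwd 4951] [4] (.free), .derive 4308 [.edge 4, .fwd 0] [] (.free), .derive 7530 [.bwd 0] [] (.free), .derive 4308 [.bwd 0, .fwd 4953] [6] (.free), .derive 7956 [.bwd 4116, .fwd 0] [] (.free),
  .derive 7831 [.bwd 1868, .fwd 0] [] (.free), .derive 5456 [.bwd 0, .bwd 4336] [5] (.free), .derive 7545 [.fwd 4928, .fwd 0] [] (.free), .derive 7545 [.fwd 0] [] (.free), .derive 4134 [.bwd 0, .fwd 4928] [7] (.free), .derive 7832 [.bwd 4338, .fwd 0] [] (.free), .derive 7832 [.fwd 0] [] (.free), .derive 5458 [.bwd 0, .bwd 4332] [1] (.free),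
  .derive 5475 [.edge 1, .fwd 0] [] (.free), .derive 7836 [.bwd 0] [] (.free), .derive 5475 [.bwd 0, .bwd 4336] [7] (.free), .derive 8256 [.bwd 3507, .fwd 0] [] (.free), .derive 8256 [.fwd 0] [] (.free), .derive 4137 [.bwd 0, .fwd 3508] [4] (.free), .derive 4095 [.edge 4, .fwd 0] [] (.free), .derive 8255 [.bwd 0] [] (.free),
  .derive 4095 [.bwd 0, .bwd 3513] [7] (.free), .derive 7795 [.bwd 4426, .fwd 0] [] (.free), .derive 7795 [.fwd 0] [] (.free), .derive 5474 [.bwd 0, .fwd 4427] [0] (.free), .derive 5175 [.edge 0, .fwd 0] [] (.free), .derive 7493 [.bwd 0] [] (.free), .derive 5175 [.bwd 0, .bwd 5046] [7] (.free), .derive 7279 [.fwd 5446, .fwd 0] [] (.free),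
  .derive 7279 [.fwd 0] [] (.free), .derive 3564 [.bwd 0, .bwd 4716] [6] (.free), .derive 2571 [.edge 6, .fwd 0] [] (.free), .derive 7659 [.bwd 0] [] (.free)]
def ph9_p14_4 : List Aux := [
  .derive 2571 [.bwd 0, .fwd 4720] [4] (.free), .derive 4127 [.edge 4, .fwd 0] [] (.free), .derive 7451 [.bwd 0] [] (.free), .derive 4127 [.bwd 0, .fwd 5133] [6] (.free), .derive 4128 [.edge 6, .fwd 0] [] (.free), .derive 7280 [.bwd 0] [] (.free), .derive 4128 [.bwd 0, .bwd 5421] [3] (.free), .derive 4129 [.edge 3, .fwd 0] [] (.free),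
  .derive 7300 [.bwd 0] [] (.free), .derive 4129 [.bwd 0, .fwd 5423] [7] (.free), .derive 7823 [.bwd 4389, .fwd 0] [] (.free), .derive 7823 [.fwd 0] [] (.free), .derive 5186 [.bwd 0, .fwd 4390] [4] (.free), .derive 8175 [.bwd 3709, .fwd 0] [] (.free), .derive 8175 [.fwd 0] [] (.free), .derive 5433 [.bwd 0, .fwd 3710] [1] (.free),
  .derive 5431 [.edge 1, .fwd 0] [] (.free), .derive 8174 [.bwd 0] [] (.free), .derive 5431 [.bwd 0, .fwd 3715] [7] (.free), .derive 3558 [.edge 7, .fwd 0] [] (.free), .derive 7301 [.bwd 0] [] (.free), .derive 3558 [.bwd 0, .bwd 5156] [6] (.free), .derive 2418 [.edge 6, .fwd 0] [] (.free), .derive 7449 [.bwd 0] [] (.free),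
  .derive 2418 [.bwd 0, .bwd 5160] [4] (.free), .derive 6965 [.bwd 6084, .fwd 0] [] (.free), .derive 6965 [.fwd 0] [] (.free), .derive 3506 [.bwd 0, .fwd 766] [7] (.free), .derive 7450 [.bwd 5162, .fwd 0] [] (.free), .derive 7450 [.fwd 0] [] (.free), .derive 4214 [.bwd 0, .fwd 5163] [0] (.free), .derive 4250 [.edge 0, .fwd 0] [] (.free),
  .derive 7448 [.bwd 0] [] (.free), .derive 4250 [.bwd 0, .bwd 5170] [7] (.free), .derive 7925 [.bwd 4236, .fwd 0] [] (.free), .derive 6964 [.bwd 809, .fwd 0] [] (.free), .derive 3505 [.bwd 0, .bwd 5095] [6] (.free), .derive 3137 [.edge 6, .fwd 0] [] (.free), .derive 7489 [.bwd 0] [] (.free), .derive 3137 [.bwd 0, .bwd 5089] [5] (.free),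
  .derive 3136 [.edge 5, .fwd 0] [] (.free), .derive 7494 [.bwd 0] [] (.free), .derive 3136 [.bwd 0, .fwd 5091] [6] (.free), .derive 3135 [.edge 6, .fwd 0] [] (.free), .derive 6961 [.bwd 0] [] (.free), .derive 3135 [.bwd 0, .bwd 6108] [5] (.free), .derive 3142 [.edge 5, .fwd 0] [] (.free), .derive 6962 [.bwd 0] [] (.free),
  .derive 3142 [.bwd 0, .bwd 6109] [6] (.free), .derive 3508 [.edge 6, .fwd 0] [] (.free), .derive 6963 [.bwd 0] [] (.free), .derive 3508 [.bwd 0, .bwd 6113] [4] (.free), .derive 7453 [.bwd 5179, .fwd 0] [] (.free), .derive 7453 [.fwd 0] [] (.free), .derive 2416 [.bwd 0, .fwd 5180] [6] (.free), .derive 2415 [.edge 6, .fwd 0] [] (.free),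
  .derive 7302 [.bwd 0] [] (.free), .derive 2415 [.bwd 0, .fwd 5468] [5] (.free), .derive 2414 [.edge 5, .fwd 0] [] (.free), .derive 7297 [.bwd 0] [] (.free), .derive 2414 [.bwd 0, .bwd 5479] [6] (.free), .derive 3566 [.edge 6, .fwd 0] [] (.free), .derive 7298 [.bwd 0] [] (.free), .derive 3566 [.bwd 0, .bwd 5480] [5] (.free),
  .derive 3557 [.edge 5, .fwd 0] [] (.free), .derive 7299 [.bwd 0] [] (.free), .derive 3557 [.bwd 0, .bwd 5204] [6] (.free), .derive 2417 [.edge 6, .fwd 0] [] (.free), .derive 7447 [.bwd 0] [] (.free), .derive 2417 [.bwd 0, .bwd 5032] [1] (.free), .derive 3572 [.edge 1, .fwd 0] [] (.free), .derive 7541 [.bwd 0] [] (.free),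
  .derive 3572 [.bwd 0, .fwd 5034] [6] (.free), .derive 3571 [.edge 6, .fwd 0] [] (.free), .derive 7538 [.bwd 0] [] (.free), .derive 3571 [.bwd 0, .fwd 5044] [5] (.free), .derive 7499 [.bwd 5116, .fwd 0] [] (.free), .derive 7535 [.bwd 0] [] (.free), .derive 7499 [.bwd 0, .fwd 5052] [6] (.free), .derive 7681 [.fwd 4748, .fwd 0] [] (.free),
  .derive 7681 [.fwd 0] [] (.free), .derive 7532 [.bwd 0, .fwd 4751] [3] (.free), .derive 5180 [.bwd 5062, .fwd 0] [] (.free), .derive 7671 [.bwd 0] [] (.free), .derive 5180 [.bwd 0, .fwd 4782] [6] (.free), .derive 7529 [.fwd 5071, .fwd 0] [] (.free), .derive 7529 [.fwd 0] [] (.free), .derive 7497 [.bwd 0, .bwd 5074] [4] (.free),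
  .derive 7509 [.fwd 5108, .fwd 0] [] (.free), .derive 7509 [.fwd 0] [] (.free), .derive 3618 [.bwd 0, .bwd 4779] [6] (.free), .derive 3617 [.edge 6, .fwd 0] [] (.free), .derive 7674 [.bwd 0] [] (.free), .derive 3617 [.bwd 0, .bwd 4784] [5] (.free), .derive 7528 [.bwd 5083, .fwd 0] [] (.free), .derive 7528 [.fwd 0] [] (.free),
  .derive 3834 [.bwd 0, .fwd 5084] [3] (.free), .derive 3835 [.edge 3, .fwd 0] [] (.free), .derive 7527 [.bwd 0] [] (.free), .derive 3835 [.bwd 0, .bwd 5089] [5] (.free)]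
def ph9_p14 : List Aux :=
  ((ph9_p14_0 ++ ph9_p14_1) ++ (ph9_p14_2 ++ (ph9_p14_3 ++ ph9_p14_4)))

theorem ph9_p14_ok : stHas (runList (auxStep' P) ph9_p14 (mkSt 8508 mask10 ph9_eq14)) 8508 mask10 ph9_eq15 = true := by decide +kernel

def ph9_p15_0 : List Aux := [
  .derive 7678 [.bwd 4780, .fwd 0] [] (.free), .derive 7678 [.fwd 0] [] (.free), .derive 3616 [.bwd 0, .fwd 4780] [6] (.free), .derive 3615 [.edge 6, .fwd 0] [] (.free), .derive 7511 [.bwd 0] [] (.free), .derive 3615 [.bwd 0, .bwd 3931] [2] (.free), .derive 4020 [.edge 2, .fwd 0] [] (.free), .derive 8113 [.bwd 0] [] (.free),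
  .derive 4020 [.bwd 0, .fwd 3933, .fwd 929] [6] (.free), .derive 4021 [.edge 6, .fwd 0] [] (.free), .derive 7938 [.bwd 0] [] (.free), .derive 4021 [.bwd 0, .bwd 4287] [5] (.free), .derive 7763 [.bwd 4613, .fwd 0] [] (.free), .derive 7763 [.fwd 0] [] (.free), .derive 4265 [.bwd 0, .fwd 4614] [6] (.free), .derive 4266 [.edge 6, .fwd 0] [] (.free),
  .derive 7604 [.bwd 0] [] (.free), .derive 4266 [.bwd 0, .bwd 4949] [5] (.free), .derive 7939 [.bwd 4292, .fwd 0] [] (.free), .derive 7507 [.bwd 931, .fwd 0] [] (.free), .derive 3744 [.bwd 0, .bwd 4654, .fwd 929] [7] (.free), .derive 7605 [.bwd 4952, .fwd 0] [] (.free), .derive 7605 [.fwd 0] [] (.free), .derive 4268 [.bwd 0, .fwd 4953] [6] (.free),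
  .derive 7940 [.bwd 4296, .fwd 0] [] (.free), .derive 7940 [.fwd 0] [] (.free), .derive 5400 [.bwd 0, .fwd 4297] [4] (.free), .derive 5399 [.edge 4, .fwd 0] [] (.free), .derive 7934 [.bwd 0] [] (.free), .derive 5399 [.bwd 0, .bwd 4313] [6] (.free), .derive 7614 [.fwd 4938, .fwd 0] [] (.free), .derive 7614 [.fwd 0] [] (.free),
  .derive 4261 [.bwd 0, .bwd 4941] [7] (.free), .derive 7935 [.bwd 4316, .fwd 0] [] (.free), .derive 7935 [.fwd 0] [] (.free), .derive 3747 [.bwd 0, .fwd 4317] [5] (.free), .derive 7613 [.bwd 4946, .fwd 0] [] (.free), .derive 7613 [.fwd 0] [] (.free), .derive 4263 [.bwd 0, .bwd 4633] [6] (.free), .derive 4264 [.edge 6, .fwd 0] [] (.free),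
  .derive 7765 [.bwd 0] [] (.free), .derive 4264 [.bwd 0, .bwd 4637] [5] (.free), .derive 7937 [.bwd 4320, .fwd 0] [] (.free), .derive 7937 [.fwd 0] [] (.free), .derive 4022 [.bwd 0, .bwd 3309] [3] (.free), .derive 5926 [.edge 3, .fwd 0] [] (.free), .derive 8396 [.bwd 0] [] (.free), .derive 5926 [.bwd 0, .bwd 3191] [7] (.free),
  .derive 8391 [.bwd 3321, .fwd 0] [] (.free), .derive 8463 [.bwd 0, .fwd 1210] [] (.free), .derive 6276 [.bwd 0, .fwd 3195] [2] (.free), .derive 8367 [.fwd 3375, .fwd 0] [] (.free), .derive 8402 [.bwd 0] [] (.free), .derive 8367 [.bwd 0, .bwd 3308] [7] (.free), .derive 8377 [.fwd 3358, .fwd 0] [] (.free), .derive 8377 [.fwd 0] [] (.free),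
  .derive 5969 [.bwd 0, .fwd 1171] [6] (.free), .derive 8401 [.bwd 3314, .fwd 0] [] (.free), .derive 8378 [.fwd 1176, .fwd 2] [] (.free), .derive 8401 [.fwd 1] [] (.free), .derive 5851 [.bwd 0, .fwd 3316] [3] (.free), .derive 7534 [.fwd 5138, .fwd 0] [] (.free), .derive 7998 [.bwd 0] [] (.free), .derive 7534 [.bwd 0, .bwd 4220] [6] (.free),
  .derive 7531 [.bwd 5140, .fwd 0] [] (.free), .derive 7531 [.fwd 0] [] (.free), .derive 4340 [.bwd 0, .bwd 5148] [2] (.free), .derive 7957 [.fwd 4309, .fwd 0] [] (.free), .derive 7957 [.fwd 0] [] (.free), .derive 3620 [.bwd 0, .fwd 4310] [5] (.free), .derive 7533 [.bwd 5149, .fwd 0] [] (.free), .derive 7533 [.fwd 0] [] (.free),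
  .derive 7131 [.bwd 0, .bwd 5132] [6] (.free), .derive 7133 [.fwd 5903, .fwd 0] [] (.free), .derive 7542 [.bwd 0] [] (.free), .derive 7133 [.bwd 0, .bwd 5136] [5] (.free), .derive 7929 [.fwd 4368, .fwd 0] [] (.free), .derive 7500 [.bwd 948, .fwd 0] [] (.free), .derive 3623 [.bwd 0, .fwd 5215] [6] (.free), .derive 3622 [.edge 6, .fwd 0] [] (.free),
  .derive 7498 [.bwd 0] [] (.free), .derive 3622 [.bwd 0, .fwd 5222] [0] (.free), .derive 7536 [.bwd 5155, .fwd 0] [] (.free), .derive 7536 [.fwd 0] [] (.free), .derive 4135 [.bwd 0, .bwd 5151] [6] (.free), .derive 4136 [.edge 6, .fwd 0] [] (.free), .derive 7539 [.bwd 0] [] (.free), .derive 4136 [.bwd 0, .bwd 5145] [3] (.free),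
  .derive 4133 [.edge 3, .fwd 0] [] (.free), .derive 7543 [.bwd 0] [] (.free), .derive 4133 [.bwd 0, .bwd 3724] [7] (.free), .derive 7829 [.bwd 4558, .fwd 0] [] (.free), .derive 8250 [.bwd 0, .fwd 2162] [] (.free), .derive 4189 [.bwd 0, .bwd 3728] [6] (.free), .derive 7861 [.bwd 4507, .fwd 0] [] (.free), .derive 7861 [.fwd 0] [] (.free),
  .derive 5460 [.bwd 0, .bwd 4381] [2] (.free), .derive 5483 [.edge 2, .fwd 0] [] (.free), .derive 7933 [.bwd 0] [] (.free), .derive 5483 [.bwd 0, .bwd 4385] [6] (.free)]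
def ph9_p15_1 : List Aux := [
  .derive 8257 [.bwd 3722, .fwd 0] [] (.free), .derive 8257 [.fwd 0] [] (.free), .derive 4260 [.bwd 0, .fwd 3723] [7] (.free), .derive 4271 [.edge 7, .fwd 0] [] (.free), .derive 7612 [.bwd 0] [] (.free), .derive 4271 [.bwd 0, .fwd 5016] [6] (.free), .derive 7944 [.bwd 4371, .fwd 0] [] (.free), .derive 7830 [.bwd 2142, .fwd 0] [] (.free),
  .derive 5484 [.bwd 0, .fwd 2142] [5] (.free), .derive 5479 [.edge 5, .fwd 0] [] (.free), .derive 7958 [.bwd 0] [] (.free), .derive 5479 [.bwd 0, .bwd 4351] [6] (.free), .derive 7764 [.fwd 4709, .fwd 0] [] (.free), .derive 7764 [.fwd 0] [] (.free), .derive 4310 [.bwd 0, .fwd 4712] [4] (.free), .derive 4311 [.edge 4, .fwd 0] [] (.free),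
  .derive 7761 [.bwd 0] [] (.free), .derive 4311 [.bwd 0, .fwd 4722] [6] (.free), .derive 7960 [.bwd 4354, .fwd 0] [] (.free), .derive 7960 [.fwd 0] [] (.free), .derive 5478 [.bwd 0, .fwd 4355, .fwd 2166] [5] (.free), .derive 5485 [.edge 5, .fwd 0] [] (.free), .derive 7806 [.bwd 0] [] (.free), .derive 5485 [.bwd 0, .fwd 4634, .fwd 2166] [6] (.free),
  .derive 7603 [.fwd 5057, .fwd 0] [] (.free), .derive 7603 [.fwd 0] [] (.free), .derive 4270 [.bwd 0, .bwd 5054] [3] (.free), .derive 7941 [.bwd 4397, .fwd 0] [] (.free), .derive 7941 [.fwd 0] [] (.free), .derive 7606 [.bwd 0, .fwd 2159] [6] (.free), .derive 7608 [.fwd 5053, .fwd 0] [] (.free), .derive 7608 [.fwd 0] [] (.free),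
  .derive 4985 [.bwd 0, .bwd 3579] [7] (.free), .derive 8103 [.bwd 4083, .fwd 0] [] (.free), .derive 8309 [.bwd 0] [] (.free), .derive 8103 [.bwd 0, .fwd 3583] [4] (.free), .derive 8101 [.bwd 4085, .fwd 0] [] (.free), .derive 8305 [.bwd 0] [] (.free), .derive 8101 [.bwd 0, .fwd 3596] [7] (.free), .derive 4984 [.fwd 4092, .fwd 0] [] (.free),
  .derive 8261 [.bwd 0] [] (.free), .derive 4984 [.bwd 0, .bwd 3749] [6] (.free), .derive 8100 [.bwd 4097, .fwd 0] [] (.free), .derive 8263 [.bwd 0] [] (.free), .derive 8100 [.bwd 0, .fwd 3753] [0] (.free), .derive 8015 [.bwd 4099, .fwd 0] [] (.free), .derive 8015 [.fwd 0] [] (.free), .derive 7607 [.bwd 0, .fwd 4266] [6] (.free),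
  .derive 7609 [.fwd 5067, .fwd 0] [] (.free), .derive 7609 [.fwd 0] [] (.free), .derive 4983 [.bwd 0, .fwd 5071] [1] (.free), .derive 8098 [.bwd 4110, .fwd 0] [] (.free), .derive 4983 [.bwd 2, .bwd 3593] [7] (.free), .derive 8099 [.bwd 4110, .fwd 0] [] (.free), .derive 8311 [.bwd 0] [] (.free), .derive 8099 [.bwd 0, .bwd 3531] [5] (.free),
  .derive 8097 [.bwd 4112, .fwd 0] [] (.free), .derive 8344 [.bwd 0] [] (.free), .derive 8097 [.bwd 0, .fwd 3516] [7] (.free), .derive 4982 [.fwd 4119, .fwd 0] [] (.free), .derive 8352 [.bwd 0] [] (.free), .derive 4982 [.bwd 0, .fwd 3521] [4] (.free), .derive 4999 [.edge 4, .fwd 0] [] (.free), .derive 7610 [.bwd 0] [] (.free),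
  .derive 4999 [.bwd 0, .bwd 5082] [5] (.free), .derive 7514 [.fwd 5276, .fwd 0] [] (.free), .derive 4999 [.bwd 2, .bwd 4768] [6] (.free), .derive 4998 [.edge 6, .fwd 0] [] (.free), .derive 4999 [.bwd 4, .bwd 3546] [7] (.free), .derive 8114 [.bwd 4093, .fwd 0] [] (.free), .derive 8343 [.bwd 0] [] (.free), .derive 8114 [.bwd 0, .fwd 3550] [5] (.free),
  .derive 7762 [.bwd 4] [] (.free), .derive 4998 [.bwd 0, .fwd 4776] [1] (.free), .derive 8111 [.bwd 4106, .fwd 0] [] (.free), .derive 8111 [.fwd 0] [] (.free), .derive 5927 [.bwd 0, .fwd 4107] [7] (.free), .derive 8392 [.bwd 3449, .fwd 0] [] (.free), .derive 8392 [.fwd 0] [] (.free), .derive 6072 [.bwd 0, .bwd 3449, .fwd 790] [5] (.free),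
  .derive 8406 [.bwd 3427, .fwd 0] [] (.free), .derive 8406 [.fwd 0] [] (.free), .derive 6097 [.bwd 0, .bwd 3427] [4] (.free), .derive 6096 [.edge 4, .fwd 0] [] (.free), .derive 8407 [.bwd 0] [] (.free), .derive 6096 [.bwd 0, .bwd 3426] [7] (.free), .derive 6095 [.edge 7, .fwd 0] [] (.free), .derive 8409 [.bwd 0] [] (.free),
  .derive 6095 [.bwd 0, .bwd 3430] [5] (.free), .derive 8422 [.bwd 3407, .fwd 0] [] (.free), .derive 8355 [.bwd 774, .fwd 0] [] (.free), .derive 6074 [.bwd 0, .fwd 3542, .fwd 1364] [3] (.free), .derive 8408 [.bwd 3436, .fwd 0] [] (.free), .derive 8408 [.fwd 0] [] (.free), .derive 5818 [.bwd 0, .fwd 3437] [1] (.free), .derive 8359 [.bwd 3536, .fwd 0] [] (.free),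
  .derive 8353 [.bwd 1366, .fwd 0] [] (.free), .derive 6080 [.bwd 0, .fwd 1364] [7] (.free), .derive 8411 [.bwd 3437, .fwd 0] [] (.free), .derive 8411 [.fwd 0] [] (.free)]
def ph9_p15_2 : List Aux := [
  .derive 6279 [.bwd 0, .bwd 3429] [2] (.free), .derive 8368 [.fwd 3523, .fwd 0] [] (.free), .derive 8416 [.bwd 0] [] (.free), .derive 8368 [.bwd 0, .bwd 3433] [7] (.free), .derive 8369 [.fwd 3524, .fwd 0] [] (.free), .derive 8369 [.fwd 0] [] (.free), .derive 6083 [.bwd 0, .fwd 1319] [6] (.free), .derive 8142 [.fwd 4074, .fwd 0] [] (.free),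
  .derive 8142 [.fwd 0] [] (.free), .derive 5841 [.bwd 0, .bwd 4057] [5] (.free), .derive 5842 [.edge 5, .fwd 0] [] (.free), .derive 8150 [.bwd 0] [] (.free), .derive 5842 [.bwd 0, .fwd 4059] [6] (.free), .derive 8258 [.fwd 3832, .fwd 0] [] (.free), .derive 8258 [.fwd 0] [] (.free), .derive 8149 [.bwd 0, .bwd 3827] [0] (.free),
  .derive 8148 [.bwd 4066, .fwd 0] [] (.free), .derive 8262 [.bwd 0] [] (.free), .derive 8148 [.bwd 0, .fwd 3829] [6] (.free), .derive 8147 [.bwd 4071, .fwd 0] [] (.free), .derive 8147 [.fwd 0] [] (.free), .derive 5843 [.bwd 0, .fwd 4076] [5] (.free), .derive 5850 [.edge 5, .fwd 0] [] (.free), .derive 8143 [.bwd 0] [] (.free),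
  .derive 5850 [.bwd 0, .fwd 4089] [6] (.free), .derive 8376 [.bwd 3534, .fwd 0] [] (.free), .derive 8376 [.fwd 0] [] (.free), .derive 6084 [.bwd 0, .fwd 3535] [4] (.free), .derive 8417 [.bwd 3456, .fwd 0] [] (.free), .derive 8417 [.fwd 0] [] (.free), .derive 8373 [.bwd 0, .bwd 3451] [2] (.free), .derive 8351 [.bwd 3546, .fwd 0] [] (.free),
  .derive 8420 [.bwd 0] [] (.free), .derive 8351 [.bwd 0, .fwd 3455] [0] (.free), .derive 5926 [.bwd 3596, .fwd 0] [] (.free), .derive 8410 [.bwd 0] [] (.free), .derive 5926 [.bwd 0, .bwd 3468] [2] (.free), .derive 8378 [.fwd 3539, .fwd 0] [] (.free), .derive 5926 [.bwd 2, .bwd 3475] [5] (.free), .derive 8390 [.bwd 3514, .fwd 0] [] (.free),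
  .derive 8412 [.bwd 0] [] (.free), .derive 8390 [.bwd 0, .bwd 3479] [4] (.free), .derive 8415 [.bwd 4, .fwd 183] [] (.free), .derive 5969 [.bwd 0, .fwd 3474] [5] (.free), .derive 5970 [.edge 5, .fwd 0] [] (.free), .derive 8414 [.bwd 0] [] (.free), .derive 5970 [.bwd 0, .bwd 3480] [4] (.free), .derive 8403 [.bwd 3500, .fwd 0] [] (.free),
  .derive 8403 [.fwd 0] [] (.free), .derive 6082 [.bwd 0, .fwd 3501] [5] (.free), .derive 6083 [.edge 5, .fwd 0] [] (.free), .derive 8400 [.bwd 0] [] (.free), .derive 6083 [.bwd 0, .fwd 3510] [0] (.free), .derive 6084 [.edge 0, .fwd 0] [] (.free), .derive 8397 [.bwd 0] [] (.free), .derive 6084 [.bwd 0, .bwd 3505] [5] (.free),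
  .derive 6085 [.edge 5, .fwd 0] [] (.free), .derive 8404 [.bwd 0] [] (.free), .derive 6085 [.bwd 0, .bwd 3509] [4] (.free), .derive 8418 [.bwd 3486, .fwd 0] [] (.free), .derive 8418 [.fwd 0] [] (.free), .derive 5971 [.bwd 0, .fwd 3487, .fwd 31] [5] (.free), .derive 5968 [.edge 5, .fwd 0] [] (.free), .derive 8373 [.bwd 0] [] (.free),
  .derive 5968 [.bwd 0, .bwd 3580] [6] (.free), .derive 8398 [.bwd 3528, .fwd 0] [] (.free), .derive 8398 [.fwd 0] [] (.free), .derive 5847 [.bwd 0, .fwd 3529] [3] (.free), .derive 8372 [.bwd 3585, .fwd 0] [] (.free), .derive 8372 [.fwd 0] [] (.free), .derive 7980 [.bwd 0, .bwd 3582] [5] (.free), .derive 7991 [.fwd 4442, .fwd 0] [] (.free),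
  .derive 8374 [.bwd 0, .fwd 806] [] (.free), .derive 7833 [.bwd 0, .fwd 3586] [0] (.free), .derive 8000 [.bwd 807, .fwd 0] [] (.free), .derive 8000 [.fwd 0] [] (.free), .derive 7537 [.bwd 0, .bwd 4429] [6] (.free), .derive 7540 [.fwd 5342, .fwd 0] [] (.free), .derive 7540 [.fwd 0] [] (.free), .derive 4341 [.bwd 0, .bwd 5185] [3] (.free),
  .derive 7999 [.bwd 4436, .fwd 0] [] (.free), .derive 7999 [.fwd 0] [] (.free), .derive 7615 [.bwd 0, .fwd 4437] [0] (.free), .derive 8266 [.fwd 3887, .fwd 0] [] (.free), .derive 7615 [.bwd 2, .fwd 4438] [5] (.free), .derive 8266 [.fwd 1] [] (.free), .derive 7989 [.bwd 0, .bwd 3891] [2] (.free), .derive 7943 [.bwd 4462, .fwd 0] [] (.free),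
  .derive 7943 [.fwd 0] [] (.free), .derive 5548 [.bwd 0, .fwd 4555] [5] (.free), .derive 8267 [.bwd 3892, .fwd 0] [] (.free), .derive 8267 [.fwd 0] [] (.free), .derive 7930 [.bwd 0, .fwd 3893] [0] (.free), .derive 7936 [.fwd 4573, .fwd 0] [] (.free), .derive 7936 [.fwd 0] [] (.free), .derive 7616 [.bwd 0, .fwd 4574] [6] (.free),
  .derive 8390 [.fwd 3570, .fwd 0] [] (.free), .derive 8390 [.fwd 0] [] (.free), .derive 5972 [.bwd 0, .fwd 56] [4] (.free), .derive 8405 [.bwd 3548, .fwd 0] [] (.free)]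
def ph9_p15_3 : List Aux := [
  .derive 8412 [.fwd 59, .fwd 2] [] (.free), .derive 8405 [.fwd 1] [] (.free), .derive 6081 [.bwd 0, .fwd 3550] [0] (.free), .derive 6086 [.edge 0, .fwd 0] [] (.free), .derive 8395 [.bwd 0] [] (.free), .derive 7514 [.fwd 139] [] (.free), .derive 8098 [.fwd 154] [] (.free), .derive 5508 [.bwd 0, .fwd 4265] [2] (.free),
  .derive 5603 [.edge 2, .fwd 0] [] (.free), .derive 8026 [.bwd 0] [] (.free), .derive 5603 [.bwd 0, .fwd 4408] [6] (.free), .derive 5602 [.edge 6, .fwd 0] [] (.free), .derive 8025 [.bwd 0] [] (.free), .derive 5602 [.bwd 0, .fwd 4413] [4] (.free), .derive 5605 [.edge 4, .fwd 0] [] (.free), .derive 7688 [.bwd 0] [] (.free),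
  .derive 5605 [.bwd 0, .fwd 5071] [6] (.free), .derive 5604 [.edge 6, .fwd 0] [] (.free), .derive 7686 [.bwd 0] [] (.free), .derive 5604 [.bwd 0, .bwd 5077] [3] (.free), .derive 8302 [.bwd 3785, .fwd 0] [] (.free), .derive 8302 [.fwd 0] [] (.free), .derive 7687 [.bwd 0, .bwd 3784] [6] (.free), .derive 5446 [.bwd 5080, .fwd 0] [] (.free),
  .derive 8303 [.bwd 0] [] (.free), .derive 5446 [.bwd 0, .fwd 3788] [2] (.free), .derive 3603 [.edge 2, .fwd 0] [] (.free), .derive 7471 [.bwd 0] [] (.free), .derive 3603 [.bwd 0, .fwd 5520] [5] (.free), .derive 7521 [.bwd 5430, .fwd 0] [] (.free), .derive 7521 [.fwd 0] [] (.free), .derive 7467 [.bwd 0, .bwd 4343] [4] (.free),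
  .derive 7513 [.fwd 5445, .fwd 0] [] (.free), .derive 8071 [.bwd 0] [] (.free), .derive 7513 [.bwd 0, .fwd 4347] [1] (.free), .derive 7519 [.fwd 5438, .fwd 0] [] (.free), .derive 7519 [.fwd 0] [] (.free), .derive 7096 [.bwd 0, .bwd 5441] [3] (.free), .derive 7259 [.fwd 5927, .fwd 0] [] (.free), .derive 7259 [.fwd 0] [] (.free),
  .derive 3596 [.bwd 0, .bwd 4227] [7] (.free), .derive 7520 [.bwd 5443, .fwd 0] [] (.free), .derive 8132 [.bwd 0] [] (.free), .derive 7520 [.bwd 0, .fwd 4231] [0] (.free), .derive 7768 [.fwd 4933, .fwd 0] [] (.free), .derive 8124 [.bwd 0] [] (.free), .derive 7768 [.bwd 0, .fwd 4250, .fwd 2560] [3] (.free), .derive 7768 [.bwd 1, .fwd 4250] [7] (.free),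
  .derive 4044 [.fwd 4938, .fwd 0] [] (.free), .derive 7261 [.bwd 0] [] (.free), .derive 4044 [.bwd 0, .bwd 5936] [5] (.free), .derive 6897 [.fwd 6644, .fwd 0] [] (.free), .derive 6897 [.fwd 0] [] (.free), .derive 3070 [.bwd 0, .bwd 4044] [7] (.free), .derive 5030 [.edge 7, .fwd 0] [] (.free), .derive 8224 [.bwd 0] [] (.free),
  .derive 5030 [.bwd 0, .bwd 4048] [6] (.free), .derive 8125 [.bwd 4259, .fwd 0] [] (.free), .derive 8125 [.fwd 0] [] (.free), .derive 5397 [.bwd 0, .bwd 4259, .fwd 769] [3] (.free), .derive 8037 [.bwd 4442, .bwd 0] [] (.free), .derive 8037 [.fwd 0] [] (.free), .derive 5397 [.bwd 0, .bwd 4436] [5] (.free), .derive 5398 [.edge 5, .fwd 0] [] (.free),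
  .derive 8041 [.bwd 0] [] (.free), .derive 5398 [.bwd 0, .bwd 4440] [3] (.free), .derive 8225 [.bwd 4056, .fwd 0] [] (.free), .derive 8225 [.fwd 0] [] (.free), .derive 4863 [.bwd 0, .fwd 4057] [5] (.free), .derive 4862 [.edge 5, .fwd 0] [] (.free), .derive 8223 [.bwd 0] [] (.free), .derive 4862 [.bwd 0, .fwd 4064] [1] (.free),
  .derive 4873 [.edge 1, .fwd 0] [] (.free), .derive 8204 [.bwd 0] [] (.free), .derive 4873 [.bwd 0, .bwd 4105] [5] (.free), .derive 4918 [.edge 5, .fwd 0] [] (.free), .derive 8205 [.bwd 0] [] (.free), .derive 4918 [.bwd 0, .bwd 4106] [1] (.free), .derive 8089 [.bwd 4355, .fwd 0] [] (.free), .derive 8206 [.bwd 0] [] (.free),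
  .derive 8089 [.bwd 0, .bwd 4079] [7] (.free), .derive 8090 [.fwd 4354, .fwd 0] [] (.free), .derive 8221 [.bwd 0] [] (.free), .derive 8090 [.bwd 0, .bwd 4083] [3] (.free), .derive 8083 [.bwd 4359, .fwd 0] [] (.free), .derive 8090 [.bwd 2, .bwd 4082] [5] (.free), .derive 8031 [.bwd 4360, .fwd 0] [] (.free), .derive 8222 [.bwd 0] [] (.free),
  .derive 8031 [.bwd 0, .fwd 4084] [7] (.free), .derive 8039 [.fwd 4468, .fwd 0] [] (.free), .derive 8207 [.bwd 0] [] (.free), .derive 8083 [.fwd 6] [] (.free), .derive 5383 [.bwd 0, .bwd 4375] [6] (.free), .derive 7473 [.fwd 5581, .fwd 0] [] (.free), .derive 8085 [.bwd 0] [] (.free), .derive 7473 [.bwd 0, .bwd 4374] [4] (.free),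
  .derive 8219 [.fwd 4101, .fwd 0] [] (.free), .derive 8087 [.bwd 0, .fwd 650] [] (.free), .derive 5035 [.bwd 0, .bwd 4369] [6] (.free), .derive 8133 [.bwd 4285, .fwd 0] [] (.free)]
def ph9_p15_4 : List Aux := [
  .derive 8133 [.fwd 0] [] (.free), .derive 8091 [.bwd 0, .fwd 4286, .fwd 42] [0] (.free), .derive 5382 [.edge 0, .bwd 0] [] (.free), .derive 8091 [.bwd 2, .fwd 4287] [3] (.free), .derive 8091 [.bwd 1] [] (.free), .derive 5382 [.bwd 0, .bwd 4377] [1] (.free), .derive 8217 [.bwd 4116, .fwd 0] [] (.free), .derive 5382 [.bwd 2, .fwd 3] [3] (.free),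
  .derive 8218 [.bwd 4116, .fwd 0] [] (.free), .derive 8218 [.fwd 0] [] (.free), .derive 8130 [.bwd 0, .bwd 4104, .fwd 39] [0] (.free), .derive 4867 [.edge 0, .bwd 0] [] (.free), .derive 8130 [.bwd 2, .fwd 4119] [5] (.free), .derive 8130 [.bwd 1] [] (.free), .derive 4867 [.bwd 0, .fwd 1] [5] (.free), .derive 4870 [.edge 5, .fwd 0] [] (.free),
  .derive 8216 [.bwd 0] [] (.free), .derive 4870 [.bwd 0, .bwd 4128] [3] (.free), .derive 8050 [.bwd 4475, .fwd 0] [] (.free), .derive 8050 [.fwd 0] [] (.free), .derive 5381 [.bwd 0, .fwd 4476] [5] (.free), .derive 5382 [.edge 5, .fwd 0] [] (.free), .derive 8047 [.bwd 0] [] (.free), .derive 5382 [.bwd 0, .bwd 4484] [1] (.free),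
  .derive 8217 [.bwd 4134, .fwd 0] [] (.free), .derive 8217 [.fwd 0] [] (.free), .derive 8048 [.bwd 0, .fwd 4135] [7] (.free), .derive 8048 [.bwd 1, .fwd 20] [] (.free), .derive 4921 [.bwd 0, .fwd 1] [7] (.free), .derive 8092 [.bwd 4399, .fwd 0] [] (.free), .derive 8092 [.fwd 0] [] (.free), .derive 7424 [.bwd 0, .fwd 4400] [5] (.free),
  .derive 7430 [.fwd 5704, .fwd 0] [] (.free), .derive 7430 [.fwd 0] [] (.free), .derive 7242 [.bwd 0, .bwd 5704] [4] (.free), .derive 7241 [.bwd 6054, .fwd 0] [] (.free), .derive 7431 [.bwd 0] [] (.free), .derive 7241 [.bwd 0, .fwd 5706] [5] (.free), .derive 8084 [.fwd 4423, .fwd 0] [] (.free), .derive 8084 [.fwd 0] [] (.free),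
  .derive 6851 [.bwd 0, .bwd 4426] [7] (.free), .derive 8220 [.fwd 4142, .fwd 0] [] (.free), .derive 8220 [.fwd 0] [] (.free), .derive 4910 [.bwd 0, .fwd 4145] [6] (.free), .derive 4911 [.edge 6, .fwd 0] [] (.free), .derive 7476 [.bwd 0] [] (.free), .derive 4911 [.bwd 0, .bwd 5629] [7] (.free), .derive 8086 [.bwd 4429, .fwd 0] [] (.free),
  .derive 8086 [.fwd 0] [] (.free), .derive 3536 [.bwd 0, .fwd 4430] [5] (.free), .derive 3537 [.edge 5, .fwd 0] [] (.free), .derive 7515 [.bwd 0] [] (.free), .derive 3537 [.bwd 0, .bwd 5562] [7] (.free), .derive 7478 [.bwd 5632, .fwd 0] [] (.free), .derive 7478 [.fwd 0] [] (.free), .derive 3587 [.bwd 0, .bwd 5630] [1] (.free),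
  .derive 3593 [.edge 1, .fwd 0] [] (.free), .derive 7480 [.bwd 0] [] (.free), .derive 3593 [.bwd 0, .bwd 5634] [7] (.free), .derive 7518 [.bwd 5565, .fwd 0] [] (.free), .derive 7518 [.fwd 0] [] (.free), .derive 3538 [.bwd 0, .fwd 5566] [4] (.free), .derive 7479 [.bwd 5640, .fwd 0] [] (.free), .derive 7517 [.bwd 0] [] (.free),
  .derive 7479 [.bwd 0, .fwd 5571] [1] (.free), .derive 7477 [.bwd 5642, .fwd 0] [] (.free), .derive 7516 [.bwd 0, .fwd 686] [] (.free), .derive 3067 [.bwd 0, .bwd 5576] [7] (.free), .derive 7254 [.bwd 6068, .fwd 0] [] (.free), .derive 7254 [.fwd 0] [] (.free), .derive 3588 [.bwd 0, .bwd 6063] [5] (.free), .derive 4912 [.edge 5, .fwd 0] [] (.free),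
  .derive 7257 [.bwd 0] [] (.free), .derive 4912 [.bwd 0, .bwd 6067] [7] (.free), .derive 8088 [.bwd 4452, .fwd 0] [] (.free), .derive 8088 [.fwd 0] [] (.free), .derive 3068 [.bwd 0, .bwd 4442] [0] (.free), .derive 3063 [.edge 0, .fwd 0] [] (.free), .derive 8094 [.bwd 0] [] (.free), .derive 3063 [.bwd 0, .bwd 4446] [7] (.free),
  .derive 7250 [.bwd 6087, .fwd 0] [] (.free), .derive 7250 [.fwd 0] [] (.free), .derive 4926 [.bwd 0, .bwd 6084] [5] (.free), .derive 4925 [.edge 5, .fwd 0] [] (.free), .derive 7252 [.bwd 0] [] (.free), .derive 4925 [.bwd 0, .bwd 6088] [7] (.free), .derive 8093 [.bwd 4454, .fwd 0] [] (.free), .derive 8093 [.fwd 0] [] (.free),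
  .derive 3064 [.bwd 0, .bwd 4450] [4] (.free), .derive 7251 [.bwd 6095, .fwd 0] [] (.free), .derive 8096 [.bwd 0] [] (.free), .derive 7251 [.bwd 0, .fwd 4452] [5] (.free), .derive 7249 [.bwd 6096, .fwd 0] [] (.free), .derive 8095 [.bwd 0] [] (.free), .derive 7249 [.bwd 0, .fwd 4458, .fwd 45] [0] (.free), .derive 7474 [.bwd 5682, .bwd 0] [] (.free),
  .derive 7474 [.fwd 0] [] (.free), .derive 7249 [.bwd 0, .fwd 5683] [5] (.free), .derive 7251 [.fwd 6102, .fwd 0] [] (.free), .derive 7251 [.fwd 0] [] (.free)]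
def ph9_p15 : List Aux :=
  ((ph9_p15_0 ++ ph9_p15_1) ++ (ph9_p15_2 ++ (ph9_p15_3 ++ ph9_p15_4)))

theorem ph9_p15_ok : stHas (runList (auxStep' P) ph9_p15 (mkSt 8508 mask10 ph9_eq15)) 8508 mask10 ph9_eq16 = true := by decide +kernel

end Cfsg.Agent.CosetData.ChainU62
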