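import Cfsg.Agent.Lib.Compute.CosetData.ChainU62Aux

/-! Coset enumeration certificate data (S2091 chain). -/

set_option autoImplicit false
set_option maxRecDepth 100000
set_option Elab.async false

namespace Cfsg.Agent.CosetData.ChainU62

open Cfsg.Agent.CosetCert

def ph9_p16_0 : List Aux := [
  .derive 3540 [.bwd 0, .fwd 6105] [3] (.free), .derive 3510 [.edge 3, .fwd 0] [] (.free), .derive 7001 [.bwd 0] [] (.free), .derive 3510 [.bwd 0, .bwd 5168] [7] (.free), .derive 7457 [.bwd 5724, .fwd 0] [] (.free), .derive 7733 [.bwd 0] [] (.free), .derive 7457 [.bwd 0, .fwd 868] [6] (.free), .derive 5372 [.bwd 5726, .fwd 0] [] (.free),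
  .derive 7856 [.bwd 0] [] (.free), .derive 5372 [.bwd 0, .fwd 4929] [4] (.free), .derive 5373 [.edge 4, .fwd 0] [] (.free), .derive 7853 [.bwd 0] [] (.free), .derive 5373 [.bwd 0, .bwd 4937] [1] (.free), .derive 7422 [.fwd 5799, .fwd 0] [] (.free), .derive 7422 [.fwd 0] [] (.free), .derive 4155 [.bwd 0, .bwd 5802] [7] (.free),
  .derive 7855 [.bwd 4938, .fwd 0] [] (.free), .derive 7855 [.fwd 0] [] (.free), .derive 3427 [.bwd 0, .bwd 4936] [4] (.free), .derive 3428 [.edge 4, .fwd 0] [] (.free), .derive 7857 [.bwd 0] [] (.free), .derive 3428 [.bwd 0, .bwd 4940] [7] (.free), .derive 7423 [.bwd 5807, .fwd 0] [] (.free), .derive 7423 [.fwd 0] [] (.free),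
  .derive 4156 [.bwd 0, .bwd 5346] [6] (.free), .derive 4157 [.edge 6, .fwd 0] [] (.free), .derive 7658 [.bwd 0] [] (.free), .derive 4157 [.bwd 0, .bwd 5350] [7] (.free), .derive 7859 [.bwd 4943, .fwd 0] [] (.free), .derive 7244 [.bwd 893, .fwd 0] [] (.free), .derive 3789 [.bwd 0, .bwd 6146] [4] (.free), .derive 6899 [.fwd 6819, .fwd 0] [] (.free),
  .derive 6899 [.fwd 0] [] (.free), .derive 3045 [.bwd 0, .bwd 6822] [6] (.free), .derive 7245 [.bwd 6149, .fwd 0] [] (.free), .derive 7245 [.fwd 0] [] (.free), .derive 2259 [.bwd 0, .fwd 6150] [1] (.free), .derive 6898 [.bwd 6829, .fwd 0] [] (.free), .derive 7002 [.bwd 0] [] (.free), .derive 6898 [.bwd 0, .bwd 6629] [6] (.free),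
  .derive 7456 [.fwd 5761, .fwd 0] [] (.free), .derive 7456 [.fwd 0] [] (.free), .derive 2471 [.bwd 0, .bwd 4261] [7] (.free), .derive 3947 [.edge 7, .fwd 0] [] (.free), .derive 8212 [.bwd 0] [] (.free), .derive 3947 [.bwd 0, .bwd 4265] [6] (.free), .derive 7734 [.bwd 5210, .fwd 0] [] (.free), .derive 7734 [.fwd 0] [] (.free),
  .derive 5373 [.bwd 0, .bwd 5201] [3] (.free), .derive 8211 [.bwd 4271, .fwd 0] [] (.free), .derive 8211 [.fwd 0] [] (.free), .derive 7739 [.bwd 0, .fwd 4272, .fwd 160] [0] (.free), .derive 7728 [.bwd 5206, .fwd 0] [] (.free), .derive 8039 [.bwd 0] [] (.free), .derive 7728 [.bwd 0, .bwd 4625] [4] (.free), .derive 8028 [.fwd 4649, .fwd 0] [] (.free),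
  .derive 8043 [.bwd 0] [] (.free), .derive 8028 [.bwd 0, .bwd 4629] [1] (.free), .derive 8027 [.bwd 4653, .fwd 0] [] (.free), .derive 8027 [.fwd 0] [] (.free), .derive 4864 [.bwd 0, .bwd 4657] [6] (.free), .derive 8045 [.bwd 4628, .fwd 0] [] (.free), .derive 8045 [.fwd 0] [] (.free), .derive 4834 [.bwd 0, .fwd 4629] [4] (.free),
  .derive 3954 [.edge 4, .fwd 0] [] (.free), .derive 8042 [.bwd 0] [] (.free), .derive 3954 [.bwd 0, .bwd 4639] [6] (.free), .derive 7745 [.bwd 5209, .fwd 0] [] (.free), .derive 7745 [.fwd 0] [] (.free), .derive 4863 [.bwd 0, .bwd 5207] [3] (.free), .derive 8041 [.bwd 4645, .fwd 0] [] (.free), .derive 7747 [.bwd 0, .fwd 206] [] (.free),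
  .derive 5398 [.bwd 0, .bwd 5211] [6] (.free), .derive 7472 [.fwd 5763, .fwd 0] [] (.free), .derive 7472 [.fwd 0] [] (.free), .derive 3955 [.bwd 0, .bwd 5766] [7] (.free), .derive 6999 [.fwd 6669, .fwd 0] [] (.free), .derive 6999 [.fwd 0] [] (.free), .derive 3533 [.bwd 0, .bwd 4580] [5] (.free), .derive 3530 [.edge 5, .fwd 0] [] (.free),
  .derive 8076 [.bwd 0] [] (.free), .derive 3530 [.bwd 0, .bwd 4584] [7] (.free), .derive 7468 [.bwd 5781, .fwd 0] [] (.free), .derive 7468 [.fwd 0] [] (.free), .derive 4903 [.bwd 0, .bwd 5781] [4] (.free), .derive 8074 [.bwd 4592, .fwd 0] [] (.free), .derive 4903 [.bwd 2, .bwd 5174] [6] (.free), .derive 8075 [.bwd 4592, .fwd 0] [] (.free),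
  .derive 8075 [.fwd 0] [] (.free), .derive 7768 [.bwd 0, .fwd 4593] [3] (.free), .derive 8040 [.bwd 243, .fwd 0] [] (.free), .derive 8072 [.bwd 0] [] (.free), .derive 8040 [.bwd 0, .bwd 4600] [4] (.free), .derive 8044 [.fwd 4662, .fwd 0] [] (.free), .derive 8073 [.bwd 0] [] (.free), .derive 8044 [.bwd 0, .fwd 4604] [1] (.free),
  .derive 8080 [.bwd 2800, .fwd 0] [] (.free), .derive 8080 [.fwd 0] [] (.free), .derive 8062 [.bwd 0, .fwd 4593] [4] (.free), .derive 8061 [.bwd 4630, .fwd 0] [] (.free)]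
def ph9_p16_1 : List Aux := [
  .derive 8079 [.bwd 0] [] (.free), .derive 8061 [.bwd 0, .bwd 4435] [2] (.free), .derive 8067 [.fwd 4624, .fwd 0] [] (.free), .derive 8158 [.bwd 0] [] (.free), .derive 8067 [.bwd 0, .fwd 4437] [4] (.free), .derive 8063 [.bwd 4626, .fwd 0] [] (.free), .derive 8157 [.bwd 0] [] (.free), .derive 8063 [.bwd 0, .bwd 4431] [0] (.free),
  .derive 8066 [.fwd 4632, .fwd 0] [] (.free), .derive 8163 [.bwd 0] [] (.free), .derive 8074 [.fwd 24] [] (.free), .derive 7469 [.bwd 0, .fwd 4617] [5] (.free), .derive 7470 [.fwd 5806, .fwd 0] [] (.free), .derive 7746 [.bwd 0] [] (.free), .derive 7470 [.bwd 0, .fwd 5254] [1] (.free), .derive 7455 [.bwd 5810, .fwd 0] [] (.free),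
  .derive 7731 [.bwd 0] [] (.free), .derive 7455 [.bwd 0, .fwd 5286] [7] (.free), .derive 3509 [.fwd 5841, .fwd 0] [] (.free), .derive 7000 [.bwd 0] [] (.free), .derive 3509 [.bwd 0, .bwd 6712] [4] (.free), .derive 7454 [.bwd 5846, .fwd 0] [] (.free), .derive 7454 [.fwd 0] [] (.free), .derive 2470 [.bwd 0, .bwd 4349] [7] (.free),
  .derive 3946 [.edge 7, .fwd 0] [] (.free), .derive 8208 [.bwd 0] [] (.free), .derive 3946 [.bwd 0, .bwd 4353] [6] (.free), .derive 7732 [.bwd 5295, .fwd 0] [] (.free), .derive 7732 [.fwd 0] [] (.free), .derive 5364 [.bwd 0, .fwd 5296] [2] (.free), .derive 5377 [.edge 2, .fwd 0] [] (.free), .derive 7724 [.bwd 0] [] (.free),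
  .derive 5377 [.bwd 0, .bwd 5316] [6] (.free), .derive 8213 [.bwd 4351, .fwd 0] [] (.free), .derive 8213 [.fwd 0] [] (.free), .derive 3935 [.bwd 0, .fwd 4352] [7] (.free), .derive 2469 [.edge 7, .fwd 0] [] (.free), .derive 7282 [.bwd 0] [] (.free), .derive 2469 [.bwd 0, .bwd 6184] [6] (.free), .derive 6998 [.bwd 6735, .fwd 0] [] (.free),
  .derive 6998 [.fwd 0] [] (.free), .derive 3120 [.bwd 0, .fwd 6736] [3] (.free), .derive 3132 [.edge 3, .fwd 0] [] (.free), .derive 6880 [.bwd 0] [] (.free), .derive 3132 [.bwd 0, .bwd 6979] [6] (.free), .derive 7293 [.bwd 6173, .fwd 0] [] (.free), .derive 7293 [.fwd 0] [] (.free), .derive 2112 [.bwd 0, .bwd 6171] [0] (.free),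
  .derive 2078 [.edge 0, .fwd 0] [] (.free), .derive 7295 [.bwd 0] [] (.free), .derive 2078 [.bwd 0, .bwd 6175] [6] (.free), .derive 6879 [.bwd 6988, .fwd 0] [] (.free), .derive 6879 [.fwd 0] [] (.free), .derive 3133 [.bwd 0, .fwd 6989] [5] (.free), .derive 3134 [.edge 5, .fwd 0] [] (.free), .derive 6876 [.bwd 0] [] (.free),
  .derive 3134 [.bwd 0, .bwd 4368] [7] (.free), .derive 5171 [.edge 7, .fwd 0] [] (.free), .derive 8215 [.bwd 0] [] (.free), .derive 5171 [.bwd 0, .fwd 4372] [4] (.free), .derive 8171 [.bwd 4466, .fwd 0] [] (.free), .derive 8171 [.fwd 0] [] (.free), .derive 5434 [.bwd 0, .fwd 4467] [7] (.free), .derive 3560 [.edge 7, .fwd 0] [] (.free),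
  .derive 7296 [.bwd 0] [] (.free), .derive 3560 [.bwd 0, .fwd 6187] [5] (.free), .derive 3561 [.edge 5, .fwd 0] [] (.free), .derive 7294 [.bwd 0] [] (.free), .derive 3561 [.bwd 0, .fwd 6194] [0] (.free), .derive 3556 [.edge 0, .fwd 0] [] (.free), .derive 7292 [.bwd 0] [] (.free), .derive 3556 [.bwd 0, .fwd 6200] [5] (.free),
  .derive 3555 [.edge 5, .fwd 0] [] (.free), .derive 7291 [.bwd 0] [] (.free), .derive 3555 [.bwd 0, .bwd 4481] [7] (.free), .derive 7488 [.bwd 5836, .fwd 0] [] (.free), .derive 8170 [.bwd 0] [] (.free), .derive 7488 [.bwd 0, .fwd 4485] [1] (.free), .derive 7496 [.fwd 5822, .fwd 0] [] (.free), .derive 8169 [.bwd 0] [] (.free),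
  .derive 7496 [.bwd 0, .fwd 4490] [7] (.free), .derive 3568 [.fwd 5826, .fwd 0] [] (.free), .derive 7285 [.bwd 0] [] (.free), .derive 3568 [.bwd 0, .bwd 6222] [6] (.free), .derive 3546 [.edge 6, .fwd 0] [] (.free), .derive 7286 [.bwd 0] [] (.free), .derive 3546 [.bwd 0, .bwd 6222] [5] (.free), .derive 3547 [.edge 5, .fwd 0] [] (.free),
  .derive 7288 [.bwd 0] [] (.free), .derive 3547 [.bwd 0, .bwd 6221] [6] (.free), .derive 3837 [.edge 6, .fwd 0] [] (.free), .derive 7290 [.bwd 0] [] (.free), .derive 3837 [.bwd 0, .bwd 6225] [4] (.free), .derive 7682 [.bwd 5461, .fwd 0] [] (.free), .derive 7345 [.bwd 2814, .fwd 0] [] (.free), .derive 3128 [.bwd 0, .fwd 2814] [6] (.free),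
  .derive 3127 [.edge 6, .fwd 0] [] (.free), .derive 6911 [.bwd 0] [] (.free), .derive 3127 [.bwd 0, .fwd 6961] [7] (.free), .derive 7289 [.bwd 6234, .fwd 0] [] (.free)]
def ph9_p16_2 : List Aux := [
  .derive 7289 [.fwd 0] [] (.free), .derive 3551 [.bwd 0, .fwd 6235] [5] (.free), .derive 3552 [.edge 5, .fwd 0] [] (.free), .derive 7287 [.bwd 0] [] (.free), .derive 3552 [.bwd 0, .bwd 6242] [7] (.free), .derive 6877 [.fwd 7045, .fwd 0] [] (.free), .derive 6877 [.fwd 0] [] (.free), .derive 3126 [.bwd 0, .bwd 5853] [6] (.free),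
  .derive 3125 [.edge 6, .fwd 0] [] (.free), .derive 7495 [.bwd 0] [] (.free), .derive 3125 [.bwd 0, .fwd 5857] [1] (.free), .derive 3131 [.edge 1, .fwd 0] [] (.free), .derive 6878 [.bwd 0] [] (.free), .derive 3131 [.bwd 0, .bwd 7052] [6] (.free), .derive 6806 [.fwd 7202, .fwd 0] [] (.free), .derive 6806 [.fwd 0] [] (.free),
  .derive 2060 [.bwd 0, .bwd 7102] [5] (.free), .derive 1846 [.edge 5, .fwd 0] [] (.free), .derive 6854 [.bwd 0] [] (.free), .derive 1846 [.bwd 0, .bwd 7106] [3] (.free), .derive 6832 [.bwd 7160, .fwd 0] [] (.free), .derive 6832 [.fwd 0] [] (.free), .derive 2010 [.bwd 0, .fwd 7161] [6] (.free), .derive 6855 [.bwd 7108, .fwd 0] [] (.free),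
  .derive 6855 [.fwd 0] [] (.free), .derive 2468 [.bwd 0, .fwd 7109] [2] (.free), .derive 2475 [.edge 2, .fwd 0] [] (.free), .derive 6853 [.bwd 0] [] (.free), .derive 2475 [.bwd 0, .bwd 7116] [6] (.free), .derive 7009 [.bwd 6807, .fwd 0] [] (.free), .derive 7009 [.fwd 0] [] (.free), .derive 2009 [.bwd 0, .fwd 6808] [0] (.free),
  .derive 2016 [.edge 0, .fwd 0] [] (.free), .derive 6797 [.bwd 0] [] (.free), .derive 2016 [.bwd 0, .fwd 7238] [6] (.free), .derive 6859 [.bwd 7112, .fwd 0] [] (.free), .derive 6859 [.fwd 0] [] (.free), .derive 2472 [.bwd 0, .bwd 7111] [4] (.free), .derive 7003 [.bwd 6827, .fwd 0] [] (.free), .derive 7003 [.fwd 0] [] (.free),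
  .derive 6860 [.bwd 0, .bwd 6827, .fwd 1572] [2] (.free), .derive 6857 [.bwd 7116, .fwd 0] [] (.free), .derive 6857 [.fwd 0] [] (.free), .derive 3377 [.bwd 0, .bwd 7124] [6] (.free), .derive 7392 [.fwd 6089, .fwd 0] [] (.free), .derive 7392 [.fwd 0] [] (.free), .derive 2014 [.bwd 0, .fwd 6092, .fwd 1589] [3] (.free), .derive 3141 [.edge 3, .fwd 0] [] (.free),
  .derive 6959 [.bwd 0] [] (.free), .derive 3141 [.bwd 0, .bwd 6915] [5] (.free), .derive 3140 [.edge 5, .fwd 0] [] (.free), .derive 6960 [.bwd 0] [] (.free), .derive 3140 [.bwd 0, .bwd 5907] [6] (.free), .derive 3139 [.edge 6, .fwd 0] [] (.free), .derive 7491 [.bwd 0] [] (.free), .derive 3139 [.bwd 0, .bwd 4420] [7] (.free),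
  .derive 5182 [.edge 7, .fwd 0] [] (.free), .derive 8236 [.bwd 0] [] (.free), .derive 5182 [.bwd 0, .fwd 4424] [5] (.free), .derive 5181 [.edge 5, .fwd 0] [] (.free), .derive 8235 [.bwd 0] [] (.free), .derive 5181 [.bwd 0, .fwd 4429] [7] (.free), .derive 3138 [.edge 7, .fwd 0] [] (.free), .derive 7490 [.bwd 0] [] (.free),
  .derive 3138 [.bwd 0, .bwd 5248] [3] (.free), .derive 3114 [.edge 3, .fwd 0] [] (.free), .derive 7821 [.bwd 0] [] (.free), .derive 3114 [.bwd 0, .fwd 5250] [6] (.free), .derive 3507 [.edge 6, .fwd 0] [] (.free), .derive 7006 [.bwd 0] [] (.free), .derive 3507 [.bwd 0, .fwd 1603] [7] (.free), .derive 7452 [.bwd 6000, .fwd 0] [] (.free),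
  .derive 7452 [.fwd 0] [] (.free), .derive 4192 [.bwd 0, .fwd 6001] [6] (.free), .derive 7862 [.bwd 5185, .fwd 0] [] (.free), .derive 7862 [.fwd 0] [] (.free), .derive 5371 [.bwd 0, .bwd 4540] [5] (.free), .derive 5370 [.edge 5, .fwd 0] [] (.free), .derive 8188 [.bwd 0] [] (.free), .derive 5370 [.bwd 0, .bwd 4544] [6] (.free),
  .derive 7418 [.fwd 6076, .fwd 0] [] (.free), .derive 7418 [.fwd 0] [] (.free), .derive 5328 [.bwd 0, .bwd 6079] [7] (.free), .derive 8189 [.bwd 4546, .fwd 0] [] (.free), .derive 8189 [.fwd 0] [] (.free), .derive 3391 [.bwd 0, .fwd 4547] [5] (.free), .derive 3396 [.edge 5, .fwd 0] [] (.free), .derive 7402 [.bwd 0] [] (.free),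
  .derive 3396 [.bwd 0, .bwd 6116] [7] (.free), .derive 7419 [.bwd 6084, .fwd 0] [] (.free), .derive 7419 [.fwd 0] [] (.free), .derive 3369 [.bwd 0, .fwd 6085] [4] (.free), .derive 3368 [.edge 4, .fwd 0] [] (.free), .derive 7416 [.bwd 0] [] (.free), .derive 3368 [.bwd 0, .bwd 6093] [7] (.free), .derive 7401 [.bwd 6124, .fwd 0] [] (.free),
  .derive 7401 [.fwd 0] [] (.free), .derive 3389 [.bwd 0, .bwd 4563] [5] (.free), .derive 3390 [.edge 5, .fwd 0] [] (.free), .derive 8187 [.bwd 0] [] (.free)]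
def ph9_p16_3 : List Aux := [
  .derive 3390 [.bwd 0, .bwd 4567] [7] (.free), .derive 7417 [.bwd 6099, .fwd 0] [] (.free), .derive 7417 [.fwd 0] [] (.free), .derive 5327 [.bwd 0, .bwd 6049] [1] (.free), .derive 8186 [.bwd 4574, .fwd 0] [] (.free), .derive 8186 [.fwd 0] [] (.free), .derive 7443 [.bwd 0, .bwd 4574] [7] (.free), .derive 3497 [.fwd 6054, .fwd 0] [] (.free),
  .derive 7549 [.bwd 0] [] (.free), .derive 3497 [.bwd 0, .bwd 5854] [5] (.free), .derive 7442 [.bwd 6059, .fwd 0] [] (.free), .derive 7442 [.fwd 0] [] (.free), .derive 3638 [.bwd 0, .fwd 6060] [4] (.free), .derive 7548 [.bwd 5860, .fwd 0] [] (.free), .derive 7548 [.fwd 0] [] (.free), .derive 7441 [.bwd 0, .fwd 5861] [1] (.free),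
  .derive 7483 [.fwd 5986, .fwd 0] [] (.free), .derive 7547 [.bwd 0] [] (.free), .derive 7483 [.bwd 0, .fwd 5866] [5] (.free), .derive 3542 [.fwd 5990, .fwd 0] [] (.free), .derive 7394 [.bwd 0] [] (.free), .derive 3542 [.bwd 0, .bwd 6163] [7] (.free), .derive 7484 [.bwd 5991, .fwd 0] [] (.free), .derive 7484 [.fwd 0] [] (.free),
  .derive 3353 [.bwd 0, .bwd 5989] [4] (.free), .derive 3352 [.edge 4, .fwd 0] [] (.free), .derive 7486 [.bwd 0] [] (.free), .derive 3352 [.bwd 0, .bwd 5993] [7] (.free), .derive 6882 [.fwd 7157, .fwd 0] [] (.free), .derive 6882 [.fwd 0] [] (.free), .derive 3543 [.bwd 0, .bwd 7156] [6] (.free), .derive 3544 [.edge 6, .fwd 0] [] (.free),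
  .derive 6884 [.bwd 0] [] (.free), .derive 3544 [.bwd 0, .bwd 7158, .fwd 2539] [7] (.free), .derive 6858 [.fwd 7212, .fwd 0] [] (.free), .derive 6858 [.fwd 0] [] (.free), .derive 2405 [.bwd 0, .fwd 7215] [4] (.free), .derive 6952 [.bwd 7016, .fwd 0] [] (.free), .derive 6856 [.bwd 0, .fwd 2547] [] (.free), .derive 3348 [.bwd 0, .fwd 7221] [7] (.free),
  .derive 7393 [.bwd 6184, .fwd 0] [] (.free), .derive 7393 [.fwd 0] [] (.free), .derive 3541 [.bwd 0, .fwd 6185] [2] (.free), .derive 7481 [.bwd 6017, .fwd 0] [] (.free), .derive 7481 [.fwd 0] [] (.free), .derive 6950 [.bwd 0, .bwd 6017] [6] (.free), .derive 7193 [.fwd 6559, .fwd 0] [] (.free), .derive 7482 [.bwd 0] [] (.free),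
  .derive 7193 [.bwd 0, .bwd 6015] [4] (.free), .derive 2803 [.fwd 6563, .fwd 0] [] (.free), .derive 7485 [.bwd 0] [] (.free), .derive 2803 [.bwd 0, .bwd 6013] [6] (.free), .derive 2401 [.edge 6, .fwd 0] [] (.free), .derive 7487 [.bwd 0] [] (.free), .derive 2401 [.bwd 0, .fwd 6017] [1] (.free), .derive 6769 [.fwd 7422, .fwd 0] [] (.free),
  .derive 6868 [.bwd 0] [] (.free), .derive 6769 [.bwd 0, .bwd 7204] [7] (.free), .derive 6670 [.bwd 7424, .fwd 0] [] (.free), .derive 6874 [.bwd 0] [] (.free), .derive 6670 [.bwd 0, .fwd 7208] [5] (.free), .derive 6786 [.fwd 7387, .fwd 0] [] (.free), .derive 6803 [.bwd 0] [] (.free), .derive 6786 [.bwd 0, .bwd 7355] [7] (.free),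
  .derive 6789 [.fwd 7383, .fwd 0] [] (.free), .derive 6804 [.bwd 0] [] (.free), .derive 6789 [.bwd 0, .bwd 7359] [0] (.free), .derive 6788 [.bwd 7387, .fwd 0] [] (.free), .derive 6788 [.fwd 0] [] (.free), .derive 1588 [.bwd 0, .fwd 7391] [7] (.free), .derive 1587 [.edge 7, .fwd 0] [] (.free), .derive 6787 [.bwd 0] [] (.free),
  .derive 1587 [.bwd 0, .fwd 7396] [5] (.free), .derive 2048 [.edge 5, .fwd 0] [] (.free), .derive 6723 [.bwd 0] [] (.free), .derive 2048 [.bwd 0, .bwd 7438] [7] (.free), .derive 2045 [.edge 7, .fwd 0] [] (.free), .derive 6770 [.bwd 0] [] (.free), .derive 2045 [.bwd 0, .fwd 7442] [6] (.free), .derive 6870 [.bwd 7235, .fwd 0] [] (.free),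
  .derive 6870 [.fwd 0] [] (.free), .derive 2826 [.bwd 0, .bwd 7234] [4] (.free), .derive 7198 [.bwd 6587, .fwd 0] [] (.free), .derive 7198 [.fwd 0] [] (.free), .derive 6872 [.bwd 0, .bwd 6579] [3] (.free), .derive 7270 [.fwd 6453, .fwd 0] [] (.free), .derive 7270 [.fwd 0] [] (.free), .derive 7204 [.bwd 0, .bwd 6456] [6] (.free),
  .derive 7205 [.fwd 6580, .fwd 0] [] (.free), .derive 7205 [.fwd 0] [] (.free), .derive 3093 [.bwd 0, .fwd 6583] [5] (.free), .derive 3092 [.edge 5, .fwd 0] [] (.free), .derive 7203 [.bwd 0] [] (.free), .derive 3092 [.bwd 0, .bwd 6548] [6] (.free), .derive 3094 [.edge 6, .fwd 0] [] (.free), .derive 7223 [.bwd 0] [] (.free),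
  .derive 3094 [.bwd 0, .bwd 5025] [7] (.free), .derive 5150 [.edge 7, .fwd 0] [] (.free), .derive 8010 [.bwd 0] [] (.free), .derive 5150 [.bwd 0, .bwd 5029] [4] (.free)]
def ph9_p16_4 : List Aux := [
  .derive 8167 [.bwd 4715, .fwd 0] [] (.free), .derive 8167 [.fwd 0] [] (.free), .derive 4741 [.bwd 0, .fwd 4716] [7] (.free), .derive 2986 [.edge 7, .fwd 0] [] (.free), .derive 7271 [.bwd 0] [] (.free), .derive 2986 [.bwd 0, .fwd 6471] [6] (.free), .derive 2840 [.edge 6, .fwd 0] [] (.free), .derive 7268 [.bwd 0] [] (.free),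
  .derive 2840 [.bwd 0, .fwd 6481] [1] (.free), .derive 2839 [.edge 1, .fwd 0] [] (.free), .derive 7264 [.bwd 0] [] (.free), .derive 2839 [.bwd 0, .bwd 6489] [6] (.free), .derive 2987 [.edge 6, .fwd 0] [] (.free), .derive 7265 [.bwd 0] [] (.free), .derive 2987 [.bwd 0, .bwd 4730] [7] (.free), .derive 4747 [.edge 7, .fwd 0] [] (.free),
  .derive 8166 [.bwd 0] [] (.free), .derive 4747 [.bwd 0, .bwd 4734] [4] (.free), .derive 8011 [.bwd 5046, .fwd 0] [] (.free), .derive 8011 [.fwd 0] [] (.free), .derive 5149 [.bwd 0, .fwd 5047] [7] (.free), .derive 3089 [.edge 7, .fwd 0] [] (.free), .derive 7224 [.bwd 0] [] (.free), .derive 3089 [.bwd 0, .fwd 6576] [6] (.free),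
  .derive 3088 [.edge 6, .fwd 0] [] (.free), .derive 7202 [.bwd 0] [] (.free), .derive 3088 [.bwd 0, .fwd 6624] [5] (.free), .derive 3090 [.edge 5, .fwd 0] [] (.free), .derive 7201 [.bwd 0] [] (.free), .derive 3090 [.bwd 0, .bwd 6619] [6] (.free), .derive 3091 [.edge 6, .fwd 0] [] (.free), .derive 7206 [.bwd 0] [] (.free),
  .derive 3091 [.bwd 0, .bwd 5066] [7] (.free), .derive 5151 [.edge 7, .fwd 0] [] (.free), .derive 8008 [.bwd 0] [] (.free), .derive 5151 [.bwd 0, .bwd 5067] [1] (.free), .derive 8168 [.bwd 4749, .fwd 0] [] (.free), .derive 8168 [.fwd 0] [] (.free), .derive 8009 [.bwd 0, .fwd 4750] [7] (.free), .derive 7207 [.bwd 5070, .fwd 0] [] (.free),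
  .derive 7267 [.bwd 0] [] (.free), .derive 7207 [.bwd 0, .fwd 6516] [6] (.free), .derive 7200 [.bwd 6630, .fwd 0] [] (.free), .derive 7266 [.bwd 0] [] (.free), .derive 7200 [.bwd 0, .bwd 6514] [5] (.free), .derive 7199 [.bwd 6646, .fwd 0] [] (.free), .derive 7269 [.bwd 0] [] (.free), .derive 7199 [.bwd 0, .fwd 6518] [3] (.free),
  .derive 6902 [.bwd 6651, .fwd 0] [] (.free), .derive 6902 [.fwd 0] [] (.free), .derive 6871 [.bwd 0, .bwd 7232] [7] (.free), .derive 6873 [.fwd 7301, .fwd 0] [] (.free), .derive 6873 [.fwd 0] [] (.free), .derive 2285 [.bwd 0, .fwd 7304] [5] (.free), .derive 1823 [.edge 5, .fwd 0] [] (.free), .derive 6805 [.bwd 0] [] (.free),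
  .derive 1823 [.bwd 0, .fwd 7446] [7] (.free), .derive 6831 [.bwd 7399, .fwd 0] [] (.free), .derive 6831 [.fwd 0] [] (.free), .derive 6800 [.bwd 0, .fwd 7400] [6] (.free), .derive 7263 [.fwd 6541, .fwd 0] [] (.free), .derive 7263 [.fwd 0] [] (.free), .derive 6823 [.bwd 0, .fwd 6544] [4] (.free), .derive 6824 [.fwd 7420, .fwd 0] [] (.free),
  .derive 7262 [.bwd 0] [] (.free), .derive 6824 [.bwd 0, .fwd 6549] [6] (.free), .derive 6767 [.bwd 7422, .fwd 0] [] (.free), .derive 6801 [.bwd 0] [] (.free), .derive 6767 [.bwd 0, .bwd 7463] [7] (.free), .derive 1817 [.bwd 7540, .fwd 0] [] (.free), .derive 6802 [.bwd 0] [] (.free), .derive 1817 [.bwd 0, .bwd 7316] [5] (.free),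
  .derive 2286 [.edge 5, .fwd 0] [] (.free), .derive 6875 [.bwd 0] [] (.free), .derive 2286 [.bwd 0, .fwd 7318] [7] (.free), .derive 6768 [.fwd 7544, .fwd 0] [] (.free), .derive 6869 [.bwd 0] [] (.free), .derive 6768 [.bwd 0, .fwd 7334] [2] (.free), .derive 6905 [.fwd 7253, .fwd 0] [] (.free), .derive 6905 [.fwd 0] [] (.free),
  .derive 6866 [.bwd 0, .bwd 7256] [7] (.free), .derive 6864 [.bwd 7344, .fwd 0] [] (.free), .derive 6864 [.fwd 0] [] (.free), .derive 2287 [.bwd 0, .fwd 7350] [4] (.free), .derive 2288 [.edge 4, .fwd 0] [] (.free), .derive 6863 [.bwd 0] [] (.free), .derive 2288 [.bwd 0, .bwd 7355] [1] (.free), .derive 6906 [.bwd 7261, .fwd 0] [] (.free),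
  .derive 6906 [.fwd 0] [] (.free), .derive 2029 [.bwd 0, .fwd 7262] [4] (.free), .derive 2030 [.edge 4, .fwd 0] [] (.free), .derive 6903 [.bwd 0] [] (.free), .derive 2030 [.bwd 0, .fwd 3701] [6] (.free), .derive 6865 [.bwd 7359, .fwd 0] [] (.free), .derive 6865 [.fwd 0] [] (.free), .derive 2639 [.bwd 0, .fwd 7360] [5] (.free),
  .derive 7103 [.bwd 6889, .fwd 0] [] (.free), .derive 7103 [.fwd 0] [] (.free), .derive 3525 [.bwd 0, .fwd 6890] [3] (.free), .derive 3526 [.edge 3, .fwd 0] [] (.free)]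
def ph9_p16 : List Aux :=
  ((ph9_p16_0 ++ ph9_p16_1) ++ (ph9_p16_2 ++ (ph9_p16_3 ++ ph9_p16_4)))

theorem ph9_p16_ok : stHas (runList (auxStep' P) ph9_p16 (mkSt 8508 mask10 ph9_eq16)) 8508 mask10 ph9_eq17 = true := by decide +kernel

def ph9_p17_0 : List Aux := [
  .derive 7077 [.bwd 0] [] (.free), .derive 3526 [.bwd 0, .bwd 6924] [2] (.free), .derive 7465 [.bwd 6206, .fwd 0] [] (.free), .derive 7465 [.fwd 0] [] (.free), .derive 7087 [.bwd 0, .bwd 5715] [4] (.free), .derive 4186 [.bwd 6927, .fwd 0] [] (.free), .derive 7710 [.bwd 0] [] (.free), .derive 4186 [.bwd 0, .bwd 5712] [6] (.free),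
  .derive 7860 [.bwd 5422, .fwd 0] [] (.free), .derive 7860 [.fwd 0] [] (.free), .derive 7713 [.bwd 0, .bwd 5422, .fwd 914] [1] (.free), .derive 8249 [.bwd 4648, .bwd 0] [] (.free), .derive 8249 [.fwd 0] [] (.free), .derive 7713 [.bwd 0, .fwd 4649] [7] (.free), .derive 7714 [.fwd 5717, .fwd 0] [] (.free), .derive 8248 [.bwd 0] [] (.free),
  .derive 7714 [.bwd 0, .bwd 4644] [5] (.free), .derive 7716 [.fwd 5717, .fwd 0] [] (.free), .derive 8253 [.bwd 0] [] (.free), .derive 7716 [.bwd 0, .fwd 4648] [0] (.free), .derive 7720 [.fwd 5711, .fwd 0] [] (.free), .derive 8226 [.bwd 0] [] (.free), .derive 7720 [.bwd 0, .bwd 4708] [2] (.free), .derive 3928 [.fwd 5715, .fwd 0] [] (.free),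
  .derive 7626 [.bwd 0] [] (.free), .derive 3928 [.bwd 0, .bwd 5913] [5] (.free), .derive 7706 [.fwd 5745, .fwd 0] [] (.free), .derive 7706 [.fwd 0] [] (.free), .derive 3776 [.bwd 0, .bwd 5748] [7] (.free), .derive 7627 [.bwd 5916, .fwd 0] [] (.free), .derive 7627 [.fwd 0] [] (.free), .derive 3911 [.bwd 0, .bwd 5846] [6] (.free),
  .derive 3912 [.edge 6, .fwd 0] [] (.free), .derive 7661 [.bwd 0] [] (.free), .derive 3912 [.bwd 0, .bwd 5850] [7] (.free), .derive 7708 [.bwd 5751, .fwd 0] [] (.free), .derive 7083 [.bwd 1370, .fwd 0] [] (.free), .derive 3793 [.bwd 0, .fwd 1777] [6] (.free), .derive 3770 [.edge 6, .fwd 0] [] (.free), .derive 7822 [.bwd 0] [] (.free),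
  .derive 3770 [.bwd 0, .fwd 5521] [4] (.free), .derive 3771 [.edge 4, .fwd 0] [] (.free), .derive 7492 [.bwd 0] [] (.free), .derive 3771 [.bwd 0, .fwd 6196] [6] (.free), .derive 3792 [.edge 6, .fwd 0] [] (.free), .derive 7059 [.bwd 0] [] (.free), .derive 3792 [.bwd 0, .fwd 1788, .fwd 1398] [7] (.free), .derive 7660 [.bwd 5865, .fwd 0] [] (.free),
  .derive 7660 [.fwd 0] [] (.free), .derive 3515 [.bwd 0, .fwd 5866] [6] (.free), .derive 2446 [.edge 6, .fwd 0] [] (.free), .derive 7621 [.bwd 0] [] (.free), .derive 2446 [.bwd 0, .bwd 5949] [7] (.free), .derive 6986 [.bwd 7171, .fwd 0] [] (.free), .derive 6986 [.fwd 0] [] (.free), .derive 3773 [.bwd 0, .fwd 7172] [5] (.free),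
  .derive 7620 [.bwd 5954, .fwd 0] [] (.free), .derive 7620 [.fwd 0] [] (.free), .derive 3901 [.bwd 0, .bwd 5952] [3] (.free), .derive 3902 [.edge 3, .fwd 0] [] (.free), .derive 7623 [.bwd 0] [] (.free), .derive 3902 [.bwd 0, .bwd 5956] [5] (.free), .derive 6966 [.fwd 7219, .fwd 0] [] (.free), .derive 6966 [.fwd 0] [] (.free),
  .derive 3774 [.bwd 0, .bwd 7222] [7] (.free), .derive 7624 [.bwd 5958, .fwd 0] [] (.free), .derive 7624 [.fwd 0] [] (.free), .derive 2418 [.bwd 0, .fwd 5959] [1] (.free), .derive 2574 [.edge 1, .fwd 0] [] (.free), .derive 7435 [.bwd 0] [] (.free), .derive 2574 [.bwd 0, .bwd 6332] [7] (.free), .derive 7063 [.bwd 7042, .fwd 0] [] (.free),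
  .derive 7063 [.fwd 0] [] (.free), .derive 3469 [.bwd 0, .bwd 7039] [5] (.free), .derive 3470 [.edge 5, .fwd 0] [] (.free), .derive 7065 [.bwd 0] [] (.free), .derive 3470 [.bwd 0, .bwd 7043] [7] (.free), .derive 7436 [.bwd 6338, .fwd 0] [] (.free), .derive 7436 [.fwd 0] [] (.free), .derive 2575 [.bwd 0, .fwd 6339] [2] (.free),
  .derive 4147 [.edge 2, .fwd 0] [] (.free), .derive 7428 [.bwd 0] [] (.free), .derive 4147 [.bwd 0, .bwd 6357] [7] (.free), .derive 7846 [.bwd 5522, .fwd 0] [] (.free), .derive 7846 [.fwd 0] [] (.free), .derive 3445 [.bwd 0, .fwd 5523] [5] (.free), .derive 3446 [.edge 5, .fwd 0] [] (.free), .derive 7838 [.bwd 0] [] (.free),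
  .derive 3446 [.bwd 0, .bwd 5538] [7] (.free), .derive 7429 [.bwd 6363, .fwd 0] [] (.free), .derive 7429 [.fwd 0] [] (.free), .derive 4139 [.bwd 0, .bwd 6346] [0] (.free), .derive 4144 [.edge 0, .fwd 0] [] (.free), .derive 7438 [.bwd 0] [] (.free), .derive 4144 [.bwd 0, .bwd 6350] [7] (.free), .derive 7843 [.bwd 5539, .fwd 0] [] (.free),
  .derive 7843 [.fwd 0] [] (.free), .derive 3477 [.bwd 0, .bwd 5539] [5] (.free), .derive 3444 [.edge 5, .fwd 0] [] (.free), .derive 7844 [.bwd 0] [] (.free)]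
def ph9_p17_1 : List Aux := [
  .derive 3444 [.bwd 0, .bwd 5543] [7] (.free), .derive 7427 [.bwd 6378, .fwd 0] [] (.free), .derive 7427 [.fwd 0] [] (.free), .derive 4145 [.bwd 0, .bwd 4774] [4] (.free), .derive 4146 [.edge 4, .fwd 0] [] (.free), .derive 8234 [.bwd 0] [] (.free), .derive 4146 [.bwd 0, .fwd 4776] [7] (.free), .derive 7845 [.bwd 5548, .fwd 0] [] (.free),
  .derive 7845 [.fwd 0] [] (.free), .derive 7426 [.bwd 0, .fwd 5549] [5] (.free), .derive 7437 [.fwd 6367, .fwd 0] [] (.free), .derive 7841 [.bwd 0] [] (.free), .derive 7437 [.bwd 0, .bwd 5558] [7] (.free), .derive 8229 [.fwd 4793, .fwd 0] [] (.free), .derive 8229 [.fwd 0] [] (.free), .derive 4143 [.bwd 0, .bwd 4796] [1] (.free),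
  .derive 7840 [.bwd 5564, .fwd 0] [] (.free), .derive 7840 [.fwd 0] [] (.free), .derive 5427 [.bwd 0, .fwd 5565] [6] (.free), .derive 8231 [.bwd 4796, .fwd 0] [] (.free), .derive 8231 [.fwd 0] [] (.free), .derive 7839 [.bwd 0, .bwd 4794] [4] (.free), .derive 7847 [.fwd 5558, .fwd 0] [] (.free), .derive 8233 [.bwd 0] [] (.free),
  .derive 7847 [.bwd 0, .bwd 4798] [6] (.free), .derive 7842 [.bwd 5560, .fwd 0] [] (.free), .derive 7842 [.fwd 0] [] (.free), .derive 5428 [.bwd 0, .bwd 4773] [2] (.free), .derive 8232 [.bwd 4804, .fwd 0] [] (.free), .derive 8245 [.bwd 0, .fwd 4645] [] (.free), .derive 5859 [.bwd 0, .bwd 4774] [7] (.free), .derive 5858 [.edge 7, .fwd 0] [] (.free),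
  .derive 8246 [.bwd 0] [] (.free), .derive 5858 [.bwd 0, .bwd 4778] [1] (.free), .derive 7639 [.bwd 4653, .fwd 0] [] (.free), .derive 7639 [.fwd 0] [] (.free), .derive 5440 [.bwd 0, .bwd 4428] [7] (.free), .derive 5439 [.edge 7, .fwd 0] [] (.free), .derive 8382 [.bwd 0] [] (.free), .derive 5439 [.bwd 0, .fwd 4432] [4] (.free),
  .derive 7834 [.fwd 5598, .fwd 0] [] (.free), .derive 8288 [.bwd 0, .fwd 1678] [] (.free), .derive 4335 [.bwd 0, .fwd 4709] [7] (.free), .derive 4334 [.edge 7, .fwd 0] [] (.free), .derive 7581 [.bwd 0] [] (.free), .derive 4334 [.bwd 0, .fwd 6124] [6] (.free), .derive 7988 [.bwd 5324, .fwd 0] [] (.free), .derive 7988 [.fwd 0] [] (.free),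
  .derive 7578 [.bwd 0, .fwd 5325] [2] (.free), .derive 7645 [.fwd 4655, .fwd 0] [] (.free), .derive 7890 [.bwd 0] [] (.free), .derive 7645 [.bwd 0, .bwd 5513] [6] (.free), .derive 7640 [.bwd 6005, .fwd 0] [] (.free), .derive 7640 [.fwd 0] [] (.free), .derive 4217 [.bwd 0, .bwd 6018] [4] (.free), .derive 7889 [.bwd 5518, .fwd 0] [] (.free),
  .derive 7368 [.bwd 3540, .fwd 0] [] (.free), .derive 3784 [.bwd 0, .fwd 3131] [7] (.free), .derive 7642 [.bwd 6019, .fwd 0] [] (.free), .derive 7642 [.fwd 0] [] (.free), .derive 4088 [.bwd 0, .fwd 6020] [1] (.free), .derive 4104 [.edge 1, .fwd 0] [] (.free), .derive 7434 [.bwd 0] [] (.free), .derive 4104 [.bwd 0, .bwd 6426] [7] (.free),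
  .derive 7801 [.bwd 5690, .fwd 0] [] (.free), .derive 7801 [.fwd 0] [] (.free), .derive 3468 [.bwd 0, .bwd 5642, .fwd 1964] [4] (.free), .derive 7433 [.bwd 6432, .fwd 0] [] (.free), .derive 7433 [.fwd 0] [] (.free), .derive 4216 [.bwd 0, .fwd 6433] [6] (.free), .derive 7888 [.bwd 5535, .fwd 0] [] (.free), .derive 7888 [.fwd 0] [] (.free),
  .derive 7304 [.bwd 0, .fwd 5536] [3] (.free), .derive 7589 [.fwd 6137, .fwd 0] [] (.free), .derive 7871 [.bwd 0] [] (.free), .derive 7589 [.bwd 0, .bwd 5571] [6] (.free), .derive 7587 [.bwd 6139, .fwd 0] [] (.free), .derive 7587 [.fwd 0] [] (.free), .derive 4199 [.bwd 0, .bwd 6145] [4] (.free), .derive 7870 [.bwd 5577, .fwd 0] [] (.free),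
  .derive 7870 [.fwd 0] [] (.free), .derive 3706 [.bwd 0, .fwd 5578] [7] (.free), .derive 7588 [.bwd 6148, .fwd 0] [] (.free), .derive 7588 [.fwd 0] [] (.free), .derive 7107 [.bwd 0, .bwd 6022] [1] (.free), .derive 7118 [.fwd 7047, .fwd 0] [] (.free), .derive 7652 [.bwd 0] [] (.free), .derive 7118 [.bwd 0, .bwd 6026] [7] (.free),
  .derive 7868 [.fwd 5588, .fwd 0] [] (.free), .derive 7375 [.bwd 3464, .fwd 0] [] (.free), .derive 3787 [.bwd 0, .bwd 6569] [5] (.free), .derive 7651 [.bwd 6032, .fwd 0] [] (.free), .derive 7651 [.fwd 0] [] (.free), .derive 3328 [.bwd 0, .fwd 6033] [3] (.free), .derive 3323 [.edge 3, .fwd 0] [] (.free), .derive 7647 [.bwd 0] [] (.free),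
  .derive 3323 [.bwd 0, .bwd 6046] [5] (.free), .derive 7363 [.bwd 6600, .fwd 0] [] (.free), .derive 7363 [.fwd 0] [] (.free), .derive 3786 [.bwd 0, .bwd 6598] [4] (.free)]
def ph9_p17_2 : List Aux := [
  .derive 3783 [.edge 4, .fwd 0] [] (.free), .derive 7365 [.bwd 0] [] (.free), .derive 3783 [.bwd 0, .bwd 6602] [5] (.free), .derive 7637 [.bwd 6072, .fwd 0] [] (.free), .derive 7637 [.fwd 0] [] (.free), .derive 3324 [.bwd 0, .bwd 6067] [3] (.free), .derive 3325 [.edge 3, .fwd 0] [] (.free), .derive 7641 [.bwd 0] [] (.free),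
  .derive 3325 [.bwd 0, .bwd 4626] [2] (.free), .derive 5295 [.edge 2, .fwd 0] [] (.free), .derive 8322 [.bwd 0] [] (.free), .derive 5295 [.bwd 0, .fwd 4628] [4] (.free), .derive 8180 [.fwd 4995, .fwd 0] [] (.free), .derive 8260 [.bwd 0, .fwd 3595] [] (.free), .derive 4333 [.bwd 0, .bwd 4785] [7] (.free), .derive 4332 [.edge 7, .fwd 0] [] (.free),
  .derive 8286 [.bwd 0] [] (.free), .derive 4332 [.bwd 0, .bwd 4789] [3] (.free), .derive 7981 [.bwd 5412, .fwd 0] [] (.free), .derive 7981 [.fwd 0] [] (.free), .derive 5584 [.bwd 0, .fwd 5413] [6] (.free), .derive 8287 [.bwd 4791, .fwd 0] [] (.free), .derive 8287 [.fwd 0] [] (.free), .derive 5971 [.bwd 0, .bwd 4695] [4] (.free),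
  .derive 8404 [.bwd 4475, .fwd 0] [] (.free), .derive 8298 [.bwd 0, .fwd 967] [] (.free), .derive 6085 [.bwd 0, .bwd 4699] [6] (.free), .derive 8138 [.fwd 5101, .fwd 0] [] (.free), .derive 8138 [.fwd 0] [] (.free), .derive 5596 [.bwd 0, .bwd 5082] [5] (.free), .derive 5586 [.edge 5, .fwd 0] [] (.free), .derive 8148 [.bwd 0] [] (.free),
  .derive 5586 [.bwd 0, .fwd 5084, .fwd 1011] [6] (.free), .derive 8291 [.bwd 4796, .fwd 0] [] (.free), .derive 8291 [.fwd 0] [] (.free), .derive 5843 [.bwd 0, .fwd 4797] [7] (.free), .derive 5844 [.edge 7, .fwd 0] [] (.free), .derive 8276 [.bwd 0] [] (.free), .derive 5844 [.bwd 0, .bwd 4824] [6] (.free), .derive 8371 [.bwd 4557, .fwd 0] [] (.free),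
  .derive 8371 [.fwd 0] [] (.free), .derive 5576 [.bwd 0, .bwd 4551] [4] (.free), .derive 5575 [.edge 4, .fwd 0] [] (.free), .derive 8375 [.bwd 0] [] (.free), .derive 5575 [.bwd 0, .bwd 4555] [6] (.free), .derive 8275 [.bwd 4832, .fwd 0] [] (.free), .derive 8275 [.fwd 0] [] (.free), .derive 5849 [.bwd 0, .bwd 4812] [7] (.free),
  .derive 5848 [.edge 7, .fwd 0] [] (.free), .derive 8289 [.bwd 0] [] (.free), .derive 5848 [.bwd 0, .bwd 4816] [6] (.free), .derive 8266 [.fwd 4854, .fwd 0] [] (.free), .derive 7989 [.bwd 966, .fwd 0] [] (.free), .derive 5585 [.bwd 0, .fwd 5428, .fwd 964] [2] (.free), .derive 8271 [.fwd 4846, .fwd 0] [] (.free), .derive 8271 [.fwd 0] [] (.free),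
  .derive 5548 [.bwd 0, .bwd 4849] [7] (.free), .derive 8268 [.bwd 4856, .fwd 0] [] (.free), .derive 8268 [.fwd 0] [] (.free), .derive 5566 [.bwd 0, .fwd 4857] [4] (.free), .derive 5563 [.edge 4, .fwd 0] [] (.free), .derive 8265 [.bwd 0] [] (.free), .derive 5563 [.bwd 0, .bwd 4868] [7] (.free), .derive 8270 [.bwd 4858, .fwd 0] [] (.free),
  .derive 8270 [.fwd 0] [] (.free), .derive 5545 [.bwd 0, .fwd 4859] [5] (.free), .derive 8264 [.bwd 4873, .fwd 0] [] (.free), .derive 8264 [.fwd 0] [] (.free), .derive 5582 [.bwd 0, .bwd 4868, .fwd 976] [4] (.free), .derive 5583 [.edge 4, .fwd 0] [] (.free), .derive 7930 [.bwd 0] [] (.free), .derive 5583 [.bwd 0, .fwd 5561] [6] (.free),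
  .derive 8285 [.bwd 4846, .fwd 0] [] (.free), .derive 8285 [.fwd 0] [] (.free), .derive 5966 [.bwd 0, .fwd 4847] [4] (.free), .derive 8395 [.bwd 4542, .fwd 0] [] (.free), .derive 8284 [.bwd 0, .fwd 971] [] (.free), .derive 6086 [.bwd 0, .bwd 4852] [6] (.free), .derive 8419 [.bwd 4503, .fwd 0] [] (.free), .derive 8419 [.fwd 0] [] (.free),
  .derive 5582 [.bwd 0, .fwd 4504] [3] (.free), .derive 8283 [.bwd 4858, .fwd 0] [] (.free), .derive 8283 [.fwd 0] [] (.free), .derive 8107 [.bwd 0, .fwd 4859] [0] (.free), .derive 8016 [.bwd 5225, .fwd 0] [] (.free), .derive 8281 [.bwd 0] [] (.free), .derive 8016 [.bwd 0, .bwd 4865] [3] (.free), .derive 8413 [.fwd 4522, .fwd 0] [] (.free),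
  .derive 8413 [.fwd 0] [] (.free), .derive 5581 [.bwd 0, .bwd 4525] [6] (.free), .derive 8282 [.bwd 4868, .fwd 0] [] (.free), .derive 8282 [.fwd 0] [] (.free), .derive 6081 [.bwd 0, .bwd 4758] [4] (.free), .derive 8412 [.bwd 4531, .fwd 0] [] (.free), .derive 8301 [.bwd 0, .fwd 993] [] (.free), .derive 5972 [.bwd 0, .bwd 4762] [6] (.free),
  .derive 7936 [.fwd 5575, .fwd 0] [] (.free), .derive 7616 [.bwd 1002, .fwd 0] [] (.free), .derive 5598 [.bwd 0, .bwd 6202] [5] (.free), .derive 8269 [.fwd 4895, .fwd 0] [] (.free)]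
def ph9_p17_3 : List Aux := [
  .derive 8269 [.fwd 0] [] (.free), .derive 3748 [.bwd 0, .bwd 4898] [7] (.free), .derive 7617 [.bwd 6205, .fwd 0] [] (.free), .derive 7617 [.fwd 0] [] (.free), .derive 5559 [.bwd 0, .bwd 4921] [4] (.free), .derive 5569 [.edge 4, .fwd 0] [] (.free), .derive 8259 [.bwd 0] [] (.free), .derive 5569 [.bwd 0, .bwd 4925] [7] (.free),
  .derive 8272 [.bwd 4899, .fwd 0] [] (.free), .derive 8272 [.fwd 0] [] (.free), .derive 5517 [.bwd 0, .fwd 4900] [2] (.free), .derive 8258 [.bwd 4931, .fwd 0] [] (.free), .derive 8149 [.bwd 1097, .fwd 0] [] (.free), .derive 5597 [.bwd 0, .bwd 5160, .fwd 1101] [6] (.free), .derive 8300 [.bwd 4783, .fwd 0] [] (.free), .derive 8300 [.fwd 0] [] (.free),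
  .derive 5842 [.bwd 0, .fwd 4784] [7] (.free), .derive 5852 [.edge 7, .fwd 0] [] (.free), .derive 8274 [.bwd 0] [] (.free), .derive 5852 [.bwd 0, .bwd 4907] [6] (.free), .derive 8379 [.bwd 4620, .fwd 0] [] (.free), .derive 8379 [.fwd 0] [] (.free), .derive 5571 [.bwd 0, .fwd 4621] [4] (.free), .derive 5570 [.edge 4, .fwd 0] [] (.free),
  .derive 8366 [.bwd 0] [] (.free), .derive 5570 [.bwd 0, .bwd 4651] [6] (.free), .derive 8273 [.bwd 4915, .fwd 0] [] (.free), .derive 8273 [.fwd 0] [] (.free), .derive 5838 [.bwd 0, .bwd 4912] [7] (.free), .derive 5837 [.edge 7, .fwd 0] [] (.free), .derive 8277 [.bwd 0] [] (.free), .derive 5837 [.bwd 0, .bwd 4916] [6] (.free),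
  .derive 7615 [.fwd 6237, .fwd 0] [] (.free), .derive 7615 [.fwd 0] [] (.free), .derive 5578 [.bwd 0, .fwd 1049] [5] (.free), .derive 5579 [.edge 5, .fwd 0] [] (.free), .derive 7994 [.bwd 0] [] (.free), .derive 5579 [.bwd 0, .fwd 5502] [6] (.free), .derive 8278 [.bwd 4921, .fwd 0] [] (.free), .derive 8278 [.fwd 0] [] (.free),
  .derive 5970 [.bwd 0, .bwd 4920] [4] (.free), .derive 8403 [.bwd 4594, .fwd 0] [] (.free), .derive 8280 [.bwd 0, .fwd 1093] [] (.free), .derive 6082 [.bwd 0, .bwd 4924] [6] (.free), .derive 8151 [.fwd 5189, .fwd 0] [] (.free), .derive 8151 [.fwd 0] [] (.free), .derive 5580 [.bwd 0, .bwd 5192] [3] (.free), .derive 8279 [.bwd 4929, .fwd 0] [] (.free),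
  .derive 8279 [.fwd 0] [] (.free), .derive 5103 [.bwd 0, .bwd 4793] [7] (.free), .derive 5104 [.edge 7, .fwd 0] [] (.free), .derive 8310 [.bwd 0] [] (.free), .derive 5104 [.bwd 0, .fwd 4797] [5] (.free), .derive 5105 [.edge 5, .fwd 0] [] (.free), .derive 8304 [.bwd 0] [] (.free), .derive 5105 [.bwd 0, .fwd 4815] [7] (.free),
  .derive 5101 [.edge 7, .fwd 0] [] (.free), .derive 8299 [.bwd 0] [] (.free), .derive 5101 [.bwd 0, .fwd 4828] [0] (.free), .derive 5100 [.edge 0, .fwd 0] [] (.free), .derive 8290 [.bwd 0] [] (.free), .derive 5100 [.bwd 0, .bwd 4817] [7] (.free), .derive 5108 [.edge 7, .fwd 0] [] (.free), .derive 8306 [.bwd 0] [] (.free),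
  .derive 5108 [.bwd 0, .bwd 4818] [5] (.free), .derive 5078 [.edge 5, .fwd 0] [] (.free), .derive 8307 [.bwd 0] [] (.free), .derive 5078 [.bwd 0, .bwd 4787] [4] (.free), .derive 5079 [.edge 4, .fwd 0] [] (.free), .derive 5078 [.bwd 2, .fwd 4822] [7] (.free), .derive 5077 [.edge 7, .fwd 0] [] (.free), .derive 8297 [.bwd 0] [] (.free),
  .derive 5077 [.bwd 0, .bwd 4584] [1] (.free), .derive 8137 [.bwd 5249, .fwd 0] [] (.free), .derive 8425 [.bwd 0] [] (.free), .derive 8321 [.bwd 6] [] (.free), .derive 5079 [.bwd 0, .bwd 4788] [5] (.free), .derive 5107 [.edge 5, .fwd 0] [] (.free), .derive 8324 [.bwd 0] [] (.free), .derive 5107 [.bwd 0, .bwd 4792] [3] (.free),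
  .derive 8153 [.bwd 5222, .fwd 0] [] (.free), .derive 8153 [.fwd 0] [] (.free), .derive 5719 [.bwd 0, .bwd 5023] [7] (.free), .derive 5715 [.edge 7, .fwd 0] [] (.free), .derive 8247 [.bwd 0] [] (.free), .derive 5715 [.bwd 0, .fwd 5027] [0] (.free), .derive 5710 [.edge 0, .fwd 0] [] (.free), .derive 8238 [.bwd 0] [] (.free),
  .derive 5710 [.bwd 0, .fwd 5050] [7] (.free), .derive 5711 [.edge 7, .fwd 0] [] (.free), .derive 8152 [.bwd 0] [] (.free), .derive 5711 [.bwd 0, .fwd 5234] [5] (.free), .derive 5712 [.edge 5, .fwd 0] [] (.free), .derive 8141 [.bwd 0] [] (.free), .derive 5712 [.bwd 0, .bwd 5046] [7] (.free), .derive 5720 [.edge 7, .fwd 0] [] (.free),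
  .derive 8242 [.bwd 0] [] (.free), .derive 5720 [.bwd 0, .bwd 5050] [3] (.free), .derive 8325 [.bwd 4809, .fwd 0] [] (.free), .derive 8325 [.fwd 0] [] (.free)]
def ph9_p17_4 : List Aux := [
  .derive 5437 [.bwd 0, .fwd 4810] [5] (.free), .derive 5436 [.edge 5, .fwd 0] [] (.free), .derive 7583 [.bwd 0] [] (.free), .derive 5436 [.bwd 0, .fwd 6377] [6] (.free), .derive 8240 [.bwd 5062, .fwd 0] [] (.free), .derive 8240 [.fwd 0] [] (.free), .derive 7580 [.bwd 0, .fwd 5063] [2] (.free), .derive 7643 [.fwd 4899, .fwd 0] [] (.free),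
  .derive 7701 [.bwd 0] [] (.free), .derive 7643 [.bwd 0, .bwd 6139] [6] (.free), .derive 7638 [.bwd 6268, .fwd 0] [] (.free), .derive 7638 [.fwd 0] [] (.free), .derive 3905 [.bwd 0, .fwd 4907] [4] (.free), .derive 7700 [.bwd 6145, .fwd 0] [] (.free), .derive 7582 [.bwd 0, .fwd 2282] [] (.free), .derive 4251 [.bwd 0, .fwd 6392] [6] (.free),
  .derive 7928 [.bwd 5712, .fwd 0] [] (.free), .derive 7928 [.fwd 0] [] (.free), .derive 7579 [.bwd 0, .fwd 5713] [3] (.free), .derive 7649 [.fwd 6264, .fwd 0] [] (.free), .derive 7896 [.bwd 0] [] (.free), .derive 7649 [.bwd 0, .bwd 5772] [6] (.free), .derive 7654 [.fwd 6252, .fwd 0] [] (.free), .derive 7654 [.fwd 0] [] (.free),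
  .derive 4221 [.bwd 0, .fwd 4921] [4] (.free), .derive 4240 [.edge 4, .fwd 0] [] (.free), .derive 7648 [.bwd 0] [] (.free), .derive 4240 [.bwd 0, .bwd 6261] [6] (.free), .derive 7915 [.bwd 5748, .fwd 0] [] (.free), .derive 7915 [.fwd 0] [] (.free), .derive 7653 [.bwd 0, .bwd 5686] [2] (.free), .derive 7650 [.fwd 4934, .fwd 0] [] (.free),
  .derive 7950 [.bwd 0] [] (.free), .derive 7650 [.bwd 0, .bwd 5690] [6] (.free), .derive 7655 [.fwd 6262, .fwd 0] [] (.free), .derive 7655 [.fwd 0] [] (.free), .derive 4278 [.bwd 0, .bwd 6265] [4] (.free), .derive 7895 [.fwd 5790, .fwd 0] [] (.free), .derive 7895 [.fwd 0] [] (.free), .derive 3788 [.bwd 0, .fwd 5791] [7] (.free),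
  .derive 7657 [.bwd 6265, .fwd 0] [] (.free), .derive 7657 [.fwd 0] [] (.free), .derive 4276 [.bwd 0, .bwd 4729] [5] (.free), .derive 4286 [.edge 5, .fwd 0] [] (.free), .derive 8385 [.bwd 0] [] (.free), .derive 4286 [.bwd 0, .fwd 4731] [7] (.free), .derive 4280 [.edge 7, .fwd 0] [] (.free), .derive 7656 [.bwd 0] [] (.free),
  .derive 4280 [.bwd 0, .fwd 6274] [3] (.free), .derive 7951 [.bwd 5704, .fwd 0] [] (.free), .derive 7951 [.fwd 0] [] (.free), .derive 5871 [.bwd 0, .bwd 5619] [2] (.free), .derive 5496 [.bwd 8192, .fwd 0] [] (.free), .derive 7992 [.bwd 0] [] (.free), .derive 5496 [.bwd 0, .fwd 5623] [0] (.free), .derive 5533 [.edge 0, .fwd 0] [] (.free),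
  .derive 7983 [.bwd 0] [] (.free), .derive 5533 [.bwd 0, .bwd 5639] [5] (.free), .derive 5532 [.edge 5, .fwd 0] [] (.free), .derive 7986 [.bwd 0] [] (.free), .derive 5532 [.bwd 0, .fwd 5643] [2] (.free), .derive 5866 [.fwd 8195, .fwd 0] [] (.free), .derive 7947 [.bwd 0] [] (.free), .derive 5866 [.bwd 0, .fwd 5723] [5] (.free),
  .derive 5876 [.edge 5, .fwd 0] [] (.free), .derive 7945 [.bwd 0] [] (.free), .derive 5876 [.bwd 0, .bwd 5730] [3] (.free), .derive 8384 [.bwd 4756, .fwd 0] [] (.free), .derive 8384 [.fwd 0] [] (.free), .derive 4273 [.bwd 0, .bwd 4752] [7] (.free), .derive 4272 [.edge 7, .fwd 0] [] (.free), .derive 8386 [.bwd 0] [] (.free),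
  .derive 4272 [.bwd 0, .fwd 4756] [5] (.free), .derive 4275 [.edge 5, .fwd 0] [] (.free), .derive 8365 [.bwd 0] [] (.free), .derive 4275 [.bwd 0, .fwd 4803] [7] (.free), .derive 4274 [.edge 7, .fwd 0] [] (.free), .derive 7653 [.bwd 0] [] (.free), .derive 4274 [.bwd 0, .fwd 6312, .fwd 51] [6] (.free), .derive 7948 [.bwd 5738, .fwd 0] [] (.free),
  .derive 7948 [.fwd 0] [] (.free), .derive 4240 [.bwd 0, .bwd 5731] [4] (.free), .derive 4221 [.edge 4, .fwd 0] [] (.free), .derive 7953 [.bwd 0] [] (.free), .derive 4221 [.bwd 0, .fwd 5735, .fwd 51] [0] (.free), .derive 4198 [.edge 0, .fwd 0] [] (.free), .derive 7650 [.bwd 0] [] (.free), .derive 4198 [.bwd 0, .bwd 6315, .fwd 51] [6] (.free),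
  .derive 7869 [.bwd 5887, .fwd 0] [] (.free), .derive 7869 [.fwd 0] [] (.free), .derive 4278 [.bwd 0, .bwd 5885, .fwd 315] [1] (.free), .derive 7949 [.bwd 5749, .fwd 0] [] (.free), .derive 7949 [.fwd 0] [] (.free), .derive 7589 [.bwd 0, .bwd 5234] [2] (.free), .derive 7590 [.fwd 6455, .fwd 0] [] (.free), .derive 8199 [.bwd 0] [] (.free),
  .derive 7590 [.bwd 0, .bwd 5238] [1] (.free), .derive 7600 [.fwd 6436, .fwd 0] [] (.free), .derive 7600 [.fwd 0] [] (.free), .derive 5342 [.bwd 0, .fwd 6437] [6] (.free)]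
def ph9_p17 : List Aux :=
  ((ph9_p17_0 ++ ph9_p17_1) ++ (ph9_p17_2 ++ (ph9_p17_3 ++ ph9_p17_4)))

theorem ph9_p17_ok : stHas (runList (auxStep' P) ph9_p17 (mkSt 8508 mask10 ph9_eq17)) 8508 mask10 ph9_eq18 = true := by decide +kernel

end Cfsg.Agent.CosetData.ChainU62
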