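import Cfsg.Agent.Lib.Compute.CosetData.ChainU62Aux

/-! Coset enumeration certificate data (S2091 chain). -/

set_option autoImplicit false
set_option maxRecDepth 100000
set_option Elab.async false

namespace Cfsg.Agent.CosetData.ChainU62

open Cfsg.Agent.CosetCert

def ph9_p18_0 : List Aux := [
  .derive 8200 [.bwd 5240, .fwd 0] [] (.free), .derive 8200 [.fwd 0] [] (.free), .derive 5718 [.bwd 0, .fwd 5241] [2] (.free), .derive 5836 [.edge 2, .fwd 0] [] (.free), .derive 7912 [.bwd 0] [] (.free), .derive 5836 [.bwd 0, .bwd 5830] [6] (.free), .derive 7628 [.bwd 5005, .fwd 0] [] (.free), .derive 7628 [.fwd 0] [] (.free),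
  .derive 4237 [.bwd 0, .fwd 5004] [4] (.free), .derive 4234 [.edge 4, .fwd 0] [] (.free), .derive 7599 [.bwd 0] [] (.free), .derive 4234 [.bwd 0, .fwd 6452] [6] (.free), .derive 7909 [.bwd 5842, .fwd 0] [] (.free), .derive 7909 [.fwd 0] [] (.free), .derive 5830 [.bwd 0, .bwd 5817] [3] (.free), .derive 7522 [.fwd 6613, .fwd 0] [] (.free),
  .derive 7924 [.bwd 0] [] (.free), .derive 7522 [.bwd 0, .bwd 5821] [6] (.free), .derive 7524 [.fwd 6613, .fwd 0] [] (.free), .derive 7524 [.fwd 0] [] (.free), .derive 4250 [.bwd 0, .bwd 6613] [5] (.free), .derive 4242 [.edge 5, .fwd 0] [] (.free), .derive 7525 [.bwd 0] [] (.free), .derive 4242 [.bwd 0, .bwd 6617] [2] (.free),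
  .derive 7918 [.bwd 5840, .fwd 0] [] (.free), .derive 7918 [.fwd 0] [] (.free), .derive 3613 [.bwd 0, .bwd 5833] [5] (.free), .derive 3612 [.edge 5, .fwd 0] [] (.free), .derive 7922 [.bwd 0] [] (.free), .derive 3612 [.bwd 0, .fwd 5837] [0] (.free), .derive 7523 [.bwd 6627, .fwd 0] [] (.free), .derive 7884 [.bwd 0] [] (.free),
  .derive 7523 [.bwd 0, .bwd 5903] [2] (.free), .derive 7622 [.bwd 5018, .fwd 0] [] (.free), .derive 7622 [.fwd 0] [] (.free), .derive 4214 [.bwd 0, .bwd 6424] [6] (.free), .derive 7885 [.bwd 5906, .fwd 0] [] (.free), .derive 7885 [.fwd 0] [] (.free), .derive 7625 [.bwd 0, .fwd 5907] [3] (.free), .derive 7634 [.fwd 6413, .fwd 0] [] (.free),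
  .derive 7873 [.bwd 0, .fwd 5029] [] (.free), .derive 5835 [.bwd 0, .bwd 5933] [6] (.free), .derive 7630 [.bwd 5029, .fwd 0] [] (.free), .derive 7630 [.fwd 0] [] (.free), .derive 4201 [.bwd 0, .bwd 6427] [4] (.free), .derive 7872 [.bwd 5939, .fwd 0] [] (.free), .derive 7872 [.fwd 0] [] (.free), .derive 3777 [.bwd 0, .fwd 5940] [7] (.free),
  .derive 7631 [.bwd 6430, .fwd 0] [] (.free), .derive 7631 [.fwd 0] [] (.free), .derive 7404 [.bwd 0, .bwd 4965] [2] (.free), .derive 5354 [.bwd 6873, .fwd 0] [] (.free), .derive 8323 [.bwd 0] [] (.free), .derive 5354 [.bwd 0, .fwd 4967] [7] (.free), .derive 5353 [.edge 7, .fwd 0] [] (.free), .derive 7629 [.bwd 0] [] (.free),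
  .derive 5353 [.bwd 0, .bwd 6432, .fwd 5071] [6] (.free), .derive 8203 [.bwd 5292, .fwd 0] [] (.free), .derive 8203 [.fwd 0] [] (.free), .derive 5717 [.bwd 0, .fwd 5293] [4] (.free), .derive 5555 [.edge 4, .fwd 0] [] (.free), .derive 8195 [.bwd 0] [] (.free), .derive 5555 [.bwd 0, .bwd 5313] [6] (.free), .derive 7598 [.fwd 6506, .fwd 0] [] (.free),
  .derive 7598 [.fwd 0] [] (.free), .derive 5338 [.bwd 0, .bwd 5016] [7] (.free), .derive 5339 [.edge 7, .fwd 0] [] (.free), .derive 8308 [.bwd 0] [] (.free), .derive 5339 [.bwd 0, .bwd 5017, .fwd 1433] [3] (.free), .derive 8196 [.bwd 5319, .fwd 0] [] (.free), .derive 8196 [.fwd 0] [] (.free), .derive 8103 [.bwd 0, .fwd 5320] [5] (.free),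
  .derive 8105 [.fwd 5517, .fwd 0] [] (.free), .derive 8194 [.bwd 0] [] (.free), .derive 8105 [.bwd 0, .bwd 5008] [4] (.free), .derive 8108 [.fwd 5513, .fwd 0] [] (.free), .derive 8314 [.bwd 0] [] (.free), .derive 8108 [.bwd 0, .bwd 5008] [0] (.free), .derive 8097 [.bwd 5517, .fwd 0] [] (.free), .derive 8316 [.bwd 0] [] (.free),
  .derive 8097 [.bwd 0, .fwd 5010] [4] (.free), .derive 8114 [.fwd 5504, .fwd 0] [] (.free), .derive 8202 [.bwd 0] [] (.free), .derive 8114 [.bwd 0, .fwd 5319] [5] (.free), .derive 7611 [.bwd 1412, .fwd 0] [] (.free), .derive 8197 [.bwd 0] [] (.free), .derive 7611 [.bwd 0, .bwd 5334] [3] (.free), .derive 7602 [.bwd 6500, .fwd 0] [] (.free),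
  .derive 7602 [.fwd 0] [] (.free), .derive 5340 [.bwd 0, .bwd 6524] [7] (.free), .derive 7908 [.fwd 5921, .fwd 0] [] (.free), .derive 7908 [.fwd 0] [] (.free), .derive 3741 [.bwd 0, .fwd 5924] [5] (.free), .derive 7601 [.bwd 6530, .fwd 0] [] (.free), .derive 7601 [.fwd 0] [] (.free), .derive 5344 [.bwd 0, .bwd 4885] [4] (.free),
  .derive 5343 [.edge 4, .fwd 0] [] (.free), .derive 8383 [.bwd 0] [] (.free), .derive 5343 [.bwd 0, .bwd 4889] [3] (.free), .derive 8201 [.bwd 5337, .fwd 0] [] (.free)]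
def ph9_p18_1 : List Aux := [
  .derive 8201 [.fwd 0] [] (.free), .derive 5860 [.bwd 0, .bwd 5025] [7] (.free), .derive 5855 [.edge 7, .fwd 0] [] (.free), .derive 8319 [.bwd 0] [] (.free), .derive 5855 [.bwd 0, .bwd 4814] [6] (.free), .derive 6272 [.edge 6, .fwd 0] [] (.free), .derive 8426 [.bwd 0] [] (.free), .derive 6272 [.bwd 0, .bwd 4818] [3] (.free),
  .derive 8451 [.bwd 4775, .fwd 0] [] (.free), .derive 8451 [.fwd 0] [] (.free), .derive 6174 [.bwd 0, .fwd 4776] [6] (.free), .derive 5701 [.edge 6, .fwd 0] [] (.free), .derive 8381 [.bwd 0] [] (.free), .derive 5701 [.bwd 0, .fwd 4908] [5] (.free), .derive 8320 [.bwd 5037, .fwd 0] [] (.free), .derive 8380 [.bwd 0] [] (.free),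
  .derive 8320 [.bwd 0, .fwd 4913] [4] (.free), .derive 8318 [.bwd 5039, .fwd 0] [] (.free), .derive 8318 [.fwd 0] [] (.free), .derive 8292 [.bwd 0, .bwd 5045] [5] (.free), .derive 8350 [.fwd 4984, .fwd 0] [] (.free), .derive 8350 [.fwd 0] [] (.free), .derive 5700 [.bwd 0, .bwd 4824] [7] (.free), .derive 5685 [.edge 7, .fwd 0] [] (.free),
  .derive 8431 [.bwd 0] [] (.free), .derive 5685 [.bwd 0, .bwd 4828] [1] (.free), .derive 8315 [.bwd 5059, .fwd 0] [] (.free), .derive 8315 [.fwd 0] [] (.free), .derive 6201 [.bwd 0, .bwd 5055] [7] (.free), .derive 6192 [.edge 7, .fwd 0] [] (.free), .derive 8317 [.bwd 0] [] (.free), .derive 6192 [.bwd 0, .fwd 5059] [2] (.free),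
  .derive 8430 [.bwd 4836, .fwd 0] [] (.free), .derive 8430 [.fwd 0] [] (.free), .derive 6213 [.bwd 0, .bwd 4833] [7] (.free), .derive 6214 [.edge 7, .fwd 0] [] (.free), .derive 8432 [.bwd 0] [] (.free), .derive 6214 [.bwd 0, .fwd 4837] [5] (.free), .derive 8435 [.bwd 4833, .fwd 0] [] (.free), .derive 8435 [.fwd 0] [] (.free),
  .derive 8428 [.bwd 0, .fwd 4834] [7] (.free), .derive 8429 [.fwd 4846, .fwd 0] [] (.free), .derive 8434 [.bwd 0] [] (.free), .derive 8429 [.bwd 0, .fwd 4839] [3] (.free), .derive 8460 [.fwd 4795, .fwd 0] [] (.free), .derive 8460 [.fwd 0] [] (.free), .derive 6335 [.bwd 0, .fwd 4796] [5] (.free), .derive 6244 [.edge 5, .fwd 0] [] (.free),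
  .derive 8456 [.bwd 0] [] (.free), .derive 6244 [.bwd 0, .bwd 4805] [6] (.free), .derive 6243 [.edge 6, .fwd 0] [] (.free), .derive 8457 [.bwd 0] [] (.free), .derive 6243 [.bwd 0, .bwd 4809] [2] (.free), .derive 8439 [.bwd 4840, .fwd 0] [] (.free), .derive 8439 [.fwd 0] [] (.free), .derive 6281 [.bwd 0, .fwd 4838] [7] (.free),
  .derive 8458 [.bwd 4811, .fwd 0] [] (.free), .derive 8458 [.fwd 0] [] (.free), .derive 8438 [.bwd 0, .bwd 4811] [0] (.free), .derive 6243 [.fwd 4848, .fwd 0] [] (.free), .derive 8459 [.bwd 0] [] (.free), .derive 6243 [.bwd 0, .bwd 4815] [7] (.free), .derive 8440 [.bwd 4848, .fwd 0] [] (.free), .derive 8440 [.fwd 0] [] (.free),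
  .derive 6284 [.bwd 0, .fwd 4849] [1] (.free), .derive 6292 [.edge 1, .fwd 0] [] (.free), .derive 8437 [.bwd 0] [] (.free), .derive 6292 [.bwd 0, .fwd 4857] [0] (.free), .derive 8462 [.bwd 4816, .fwd 0] [] (.free), .derive 8462 [.fwd 0] [] (.free), .derive 6334 [.bwd 0, .fwd 4817, .fwd 2789] [3] (.free), .derive 8464 [.bwd 4814, .fwd 0] [] (.free),
  .derive 8464 [.fwd 0] [] (.free), .derive 8450 [.bwd 0, .fwd 4815] [7] (.free), .derive 6267 [.fwd 4843, .fwd 0] [] (.free), .derive 8427 [.bwd 0] [] (.free), .derive 6267 [.bwd 0, .fwd 4884] [6] (.free), .derive 6146 [.edge 6, .fwd 0] [] (.free), .derive 8338 [.bwd 0] [] (.free), .derive 6146 [.bwd 0, .bwd 5052] [5] (.free),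
  .derive 6147 [.edge 5, .fwd 0] [] (.free), .derive 8346 [.bwd 0] [] (.free), .derive 6147 [.bwd 0, .bwd 5056] [3] (.free), .derive 8425 [.bwd 4896, .fwd 0] [] (.free), .derive 8137 [.bwd 309, .fwd 0] [] (.free), .derive 5777 [.bwd 0, .bwd 5557] [7] (.free), .derive 5778 [.edge 7, .fwd 0] [] (.free), .derive 8139 [.bwd 0] [] (.free),
  .derive 5778 [.bwd 0, .bwd 5558] [4] (.free), .derive 5779 [.edge 4, .fwd 0] [] (.free), .derive 8140 [.bwd 0] [] (.free), .derive 5779 [.bwd 0, .bwd 5548] [7] (.free), .derive 5813 [.edge 7, .fwd 0] [] (.free), .derive 8146 [.bwd 0] [] (.free), .derive 5813 [.bwd 0, .fwd 5552] [6] (.free), .derive 8358 [.bwd 5038, .fwd 0] [] (.free),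
  .derive 8358 [.fwd 0] [] (.free), .derive 6110 [.bwd 0, .fwd 5039] [4] (.free), .derive 6109 [.edge 4, .fwd 0] [] (.free), .derive 8347 [.bwd 0] [] (.free)]
def ph9_p18_2 : List Aux := [
  .derive 6109 [.bwd 0, .fwd 5071] [2] (.free), .derive 6114 [.edge 2, .fwd 0] [] (.free), .derive 8345 [.bwd 0] [] (.free), .derive 6114 [.bwd 0, .bwd 5078] [6] (.free), .derive 8162 [.fwd 5530, .fwd 0] [] (.free), .derive 8162 [.fwd 0] [] (.free), .derive 5776 [.bwd 0, .fwd 5533] [4] (.free), .derive 5775 [.edge 4, .fwd 0] [] (.free),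
  .derive 8160 [.bwd 0] [] (.free), .derive 5775 [.bwd 0, .bwd 5540] [1] (.free), .derive 8343 [.bwd 5090, .fwd 0] [] (.free), .derive 8114 [.bwd 1540, .fwd 0] [] (.free), .derive 5132 [.bwd 0, .bwd 5636] [7] (.free), .derive 8161 [.bwd 5543, .fwd 0] [] (.free), .derive 8161 [.fwd 0] [] (.free), .derive 4999 [.bwd 0, .fwd 5544] [5] (.free),
  .derive 7514 [.fwd 6827, .fwd 0] [] (.free), .derive 8159 [.bwd 0, .fwd 1411] [] (.free), .derive 3746 [.bwd 0, .bwd 5550] [7] (.free), .derive 7611 [.bwd 6634, .fwd 0] [] (.free), .derive 7611 [.fwd 0] [] (.free), .derive 5131 [.bwd 0, .bwd 5163, .fwd 1566] [4] (.free), .derive 5140 [.edge 4, .fwd 0] [] (.free), .derive 8099 [.bwd 0] [] (.free),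
  .derive 5140 [.bwd 0, .bwd 5681] [7] (.free), .derive 8163 [.bwd 5550, .fwd 0] [] (.free), .derive 8066 [.bwd 1116, .fwd 0] [] (.free), .derive 4983 [.bwd 0, .bwd 5752] [6] (.free), .derive 8015 [.fwd 5847, .fwd 0] [] (.free), .derive 7607 [.bwd 1582, .fwd 0] [] (.free), .derive 8015 [.fwd 1583, .fwd 0] [] (.free), .derive 4983 [.bwd 5850, .fwd 0] [6] (.free),
  .commit 0]
def ph9_p18 : List Aux :=
  (ph9_p18_0 ++ (ph9_p18_1 ++ ph9_p18_2))

theorem ph9_p18_ok : stIs ((runList (auxStep' P) ph9_p18 (mkSt 8508 mask10 ph9_eq18)).map fun st => { st with eqs := [] }) 8508 mask11 = true := by decide +kernel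

end Cfsg.Agent.CosetData.ChainU62
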