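import Cfsg.Agent.Lib.Compute.CosetData.ChainU62Aux0
import Cfsg.Agent.Lib.Compute.CosetData.ChainU62Aux1
import Cfsg.Agent.Lib.Compute.CosetData.ChainU62Aux2
import Cfsg.Agent.Lib.Compute.CosetData.ChainU62Aux3
import Cfsg.Agent.Lib.Compute.CosetData.ChainU62Aux4
import Cfsg.Agent.Lib.Compute.CosetData.ChainU62Aux5
import Cfsg.Agent.Lib.Compute.CosetData.ChainU62Aux6
import Cfsg.Agent.Lib.Compute.CosetData.ChainU62Aux7
import Cfsg.Agent.Lib.Compute.CosetData.ChainU62Aux8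
import Cfsg.Agent.Lib.Compute.CosetData.ChainU62Aux9

/-! Coset enumeration certificate data (S2091 chain). -/

set_option autoImplicit false
set_option maxRecDepth 100000
set_option Elab.async false

namespace Cfsg.Agent.CosetData.ChainU62

open Cfsg.Agent.CosetCert

/-- the long derivation -/
def ph9 : List Aux :=
  ph9_p0 ++ (ph9_p1 ++ (ph9_p2 ++ (ph9_p3 ++ (ph9_p4 ++ (ph9_p5 ++ (ph9_p6 ++ (ph9_p7 ++ (ph9_p8 ++ (ph9_p9 ++ (ph9_p10 ++ (ph9_p11 ++ (ph9_p12 ++ (ph9_p13 ++ (ph9_p14 ++ (ph9_p15 ++ (ph9_p16 ++ (ph9_p17 ++ (ph9_p18))))))))))))))))))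

def seg10 : List Phase := [.aux ph9]

theorem seg10_ok : stIs (runList (phaseStep P) seg10 ⟨6496, mask10, []⟩) 8508 mask11 = true :=
  stIs_aux P (auxRun_append P ph9_p0_ok (auxRun_append P ph9_p1_ok (auxRun_append P ph9_p2_ok (auxRun_append P ph9_p3_ok (auxRun_append P ph9_p4_ok (auxRun_append P ph9_p5_ok (auxRun_append P ph9_p6_ok (auxRun_append P ph9_p7_ok (auxRun_append P ph9_p8_ok (auxRun_append P ph9_p9_ok (auxRun_append P ph9_p10_ok (auxRun_append P ph9_p11_ok (auxRun_append P ph9_p12_ok (auxRun_append P ph9_p13_ok (auxRun_append P ph9_p14_ok (auxRun_append P ph9_p15_ok (auxRun_append P ph9_p16_ok (auxRun_append P ph9_p17_ok (auxRun_last P ph9_p18_ok)))))))))))))))))))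

end Cfsg.Agent.CosetData.ChainU62
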