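import Cfsg.Agent.Lib.Compute.CosetData.ChainU62Tree
import Cfsg.Agent.Lib.Compute.CosetData.ChainU62Seg0
import Cfsg.Agent.Lib.Compute.CosetData.ChainU62Seg1
import Cfsg.Agent.Lib.Compute.CosetData.ChainU62AuxRun

/-! Coset enumeration certificate data (S2091 chain). -/

set_option autoImplicit false
set_option maxRecDepth 100000
set_option Elab.async false

namespace Cfsg.Agent.CosetData.ChainU62

open Cfsg.Agent.CosetCert

/-- the certificate -/
def phases : List Phase :=
  seg0 ++ (seg1 ++ (seg2 ++ (seg3 ++ (seg4 ++ (seg5 ++ (seg6 ++ (seg7 ++ (seg8 ++ (seg9 ++ (seg10 ++ (seg11 ++ (seg12 ++ (seg13)))))))))))))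

theorem cert_ok : checkCert P 6336 tree phases = true :=
  checkCert_of_run P treeRun_ok (run_append P seg0_ok (run_append P seg1_ok (run_append P seg2_ok (run_append P seg3_ok (run_append P seg4_ok (run_append P seg5_ok (run_append P seg6_ok (run_append P seg7_ok (run_append P seg8_ok (run_append P seg9_ok (run_append P seg10_ok (run_append P seg11_ok (run_append P seg12_ok (run_last P seg13_ok))))))))))))))

end Cfsg.Agent.CosetData.ChainU62
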