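import Cfsg.Agent.Lib.Compute.CosetData.Fi23ATree
import Cfsg.Agent.Lib.Compute.CosetData.Fi23ASeg0
import Cfsg.Agent.Lib.Compute.CosetData.Fi23ASeg1
import Cfsg.Agent.Lib.Compute.CosetData.Fi23ASeg2
import Cfsg.Agent.Lib.Compute.CosetData.Fi23ASeg3
import Cfsg.Agent.Lib.Compute.CosetData.Fi23ASeg4
import Cfsg.Agent.Lib.Compute.CosetData.Fi23ASeg5
import Cfsg.Agent.Lib.Compute.CosetData.Fi23ASeg6
import Cfsg.Agent.Lib.Compute.CosetData.Fi23ASeg7
import Cfsg.Agent.Lib.Compute.CosetData.Fi23ASeg8
import Cfsg.Agent.Lib.Compute.CosetData.Fi23ASeg9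

/-! Coset enumeration certificate data (S1689). -/

set_option autoImplicit false
set_option maxRecDepth 100000
set_option Elab.async false

namespace Cfsg.Agent.CosetData.Fi23A

open Cfsg.Agent.CosetCert

/-- the certificate -/
def phases : List Phase :=
  seg0 ++ (seg1 ++ (seg2 ++ (seg3 ++ (seg4 ++ (seg5 ++ (seg6 ++ (seg7 ++ (seg8 ++ (seg9 ++ (seg10 ++ (seg11 ++ (seg12 ++ (seg13 ++ (seg14 ++ (seg15 ++ (seg16 ++ (seg17 ++ (seg18 ++ (seg19 ++ (seg20 ++ (seg21 ++ (seg22 ++ (seg23 ++ (seg24 ++ (seg25 ++ (seg26 ++ (seg27 ++ (seg28 ++ (seg29 ++ (seg30 ++ (seg31 ++ (seg32 ++ (seg33 ++ (seg34 ++ (seg35 ++ (seg36 ++ (seg37 ++ (seg38 ++ (seg39 ++ (seg40 ++ (seg41 ++ (seg42 ++ (seg43 ++ (seg44 ++ (seg45 ++ (seg46 ++ (seg47 ++ (seg48 ++ (seg49 ++ (seg50 ++ (seg51 ++ (seg52 ++ (seg53 ++ (seg54 ++ (seg55 ++ (seg56 ++ (seg57 ++ (seg58 ++ (seg59 ++ (seg60 ++ (seg61 ++ (seg62 ++ (seg63 ++ (seg64 ++ (seg65 ++ (seg66 ++ (seg67 ++ (seg68 ++ (seg69 ++ (seg70 ++ (seg71 ++ (seg72))))))))))))))))))))))))))))))))))))))))))))))))))))))))))))))))))))))))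

theorem cert_ok : checkCert P 31671 tree phases = true :=
  checkCert_of_run P treeRun_ok (run_append P seg0_ok (run_append P seg1_ok (run_append P seg2_ok (run_append P seg3_ok (run_append P seg4_ok (run_append P seg5_ok (run_append P seg6_ok (run_append P seg7_ok (run_append P seg8_ok (run_append P seg9_ok (run_append P seg10_ok (run_append P seg11_ok (run_append P seg12_ok (run_append P seg13_ok (run_append P seg14_ok (run_append P seg15_ok (run_append P seg16_ok (run_append P seg17_ok (run_append P seg18_ok (run_append P seg19_ok (run_append P seg20_ok (run_append P seg21_ok (run_append P seg22_ok (run_append P seg23_ok (run_append P seg24_ok (run_append P seg25_ok (run_append P seg26_ok (run_append P seg27_ok (run_append P seg28_ok (run_append P seg29_ok (run_append P seg30_ok (run_append P seg31_ok (run_append P seg32_ok (run_append P seg33_ok (run_append P seg34_ok (run_append P seg35_ok (run_append P seg36_ok (run_append P seg37_ok (run_append P seg38_ok (run_append P seg39_ok (run_append P seg40_ok (run_append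 P seg41_ok (run_append P seg42_ok (run_append P seg43_ok (run_append P seg44_ok (run_append P seg45_ok (run_append P seg46_ok (run_append P seg47_ok (run_append P seg48_ok (run_append P seg49_ok (run_append P seg50_ok (run_append P seg51_ok (run_append P seg52_ok (run_append P seg53_ok (run_append P seg54_ok (run_append P seg55_ok (run_append P seg56_ok (run_append P seg57_ok (run_append P seg58_ok (run_append P seg59_ok (run_append P seg60_ok (run_append P seg61_ok (run_append P seg62_ok (run_append P seg63_ok (run_append P seg64_ok (run_append P seg65_ok (run_append P seg66_ok (run_append P seg67_ok (run_append P seg68_ok (run_append P seg69_ok (run_append P seg70_ok (run_append P seg71_ok (run_last P seg72_ok)))))))))))))))))))))))))))))))))))))))))))))))))))))))))))))))))))))))))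

end Cfsg.Agent.CosetData.Fi23A
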