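import Cfsg.Agent.Lib.Compute.CosetData.Fi23ATab

/-! Coset enumeration certificate data (S1689). -/

set_option autoImplicit false
set_option maxRecDepth 100000
set_option Elab.async false

namespace Cfsg.Agent.CosetData.Fi23A

open Cfsg.Agent.CosetCert

theorem gen0_ok : genOK P 31671 0 = true := by decide +kernel

theorem gen1_ok : genOK P 31671 1 = true := by decide +kernel

theorem gen2_ok : genOK P 31671 2 = true := by decide +kernel

theorem gen3_ok : genOK P 31671 3 = true := by decide +kernel

theorem gen4_ok : genOK P 31671 4 = true := by decide +kernel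

theorem gen5_ok : genOK P 31671 5 = true := by decide +kernel

theorem gen6_ok : genOK P 31671 6 = true := by decide +kernel

theorem gen7_ok : genOK P 31671 7 = true := by decide +kernel

theorem gen8_ok : genOK P 31671 8 = true := by decide +kernel

theorem gen9_ok : genOK P 31671 9 = true := by decide +kernel

theorem tab_ok : tableOK P 31671 = true := tableOK_of_gens P (by decide +kernel) (by decide +kernel) fun x hx =>
  match x, hx with
  | 0, _ => gen0_ok
  | 1, _ => gen1_ok
  | 2, _ => gen2_ok
  | 3, _ => gen3_ok
  | 4, _ => gen4_ok
  | 5, _ => gen5_ok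
  | 6, _ => gen6_ok
  | 7, _ => gen7_ok
  | 8, _ => gen8_ok
  | 9, _ => gen9_ok
  | _ + 10, hx => absurd (show _ + 10 < 10 from hx) (by omega)

end Cfsg.Agent.CosetData.Fi23A
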