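import Cfsg.Agent.Lib.Compute.CosetData.Fi23ATab

/-! Coset enumeration certificate data (S1689). -/

set_option autoImplicit false
set_option maxRecDepth 100000
set_option Elab.async false

namespace Cfsg.Agent.CosetData.Fi23A

open Cfsg.Agent.CosetCert

theorem base6_ok : Fixes P 31671 [0, 7, 0, 7] :=
  fixes_of_powFix P (u := [0, 7]) (e := 2) (by decide +kernel) (by decide +kernel)

theorem base7_ok : Fixes P 31671 [0, 8, 0, 8] :=
  fixes_of_powFix P (u := [0, 8]) (e := 2) (by decide +kernel) (by decide +kernel)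

theorem base8_ok : Fixes P 31671 [0, 9, 0, 9] :=
  fixes_of_powFix P (u := [0, 9]) (e := 2) (by decide +kernel) (by decide +kernel)

theorem base9_ok : Fixes P 31671 [1, 2, 1, 2, 1, 2] :=
  fixes_of_powFix P (u := [1, 2]) (e := 3) (by decide +kernel) (by decide +kernel)

theorem base10_ok : Fixes P 31671 [1, 3, 1, 3] :=
  fixes_of_powFix P (u := [1, 3]) (e := 2) (by decide +kernel) (by decide +kernel)

theorem base11_ok : Fixes P 31671 [1, 4, 1, 4] :=
  fixes_of_powFix P (u := [1, 4]) (e := 2) (by decide +kernel) (by decide +kernel)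

end Cfsg.Agent.CosetData.Fi23A
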