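import Cfsg.Agent.Lib.Compute.CosetData.Fi23ATab

/-! Coset enumeration certificate data (S1689). -/

set_option autoImplicit false
set_option maxRecDepth 100000
set_option Elab.async false

namespace Cfsg.Agent.CosetData.Fi23A

open Cfsg.Agent.CosetCert

theorem base18_ok : Fixes P 31671 [2, 4, 2, 4] :=
  fixes_of_powFix P (u := [2, 4]) (e := 2) (by decide +kernel) (by decide +kernel)

theorem base19_ok : Fixes P 31671 [2, 5, 2, 5] :=
  fixes_of_powFix P (u := [2, 5]) (e := 2) (by decide +kernel) (by decide +kernel)

theorem base20_ok : Fixes P 31671 [2, 6, 2, 6] :=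
  fixes_of_powFix P (u := [2, 6]) (e := 2) (by decide +kernel) (by decide +kernel)

theorem base21_ok : Fixes P 31671 [2, 7, 2, 7] :=
  fixes_of_powFix P (u := [2, 7]) (e := 2) (by decide +kernel) (by decide +kernel)

theorem base22_ok : Fixes P 31671 [2, 8, 2, 8] :=
  fixes_of_powFix P (u := [2, 8]) (e := 2) (by decide +kernel) (by decide +kernel)

theorem base23_ok : Fixes P 31671 [2, 9, 2, 9] :=
  fixes_of_powFix P (u := [2, 9]) (e := 2) (by decide +kernel) (by decide +kernel)

end Cfsg.Agent.CosetData.Fi23A
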