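import Cfsg.Agent.Lib.Compute.CosetData.Fi23ATab

/-! Coset enumeration certificate data (S1689). -/

set_option autoImplicit false
set_option maxRecDepth 100000
set_option Elab.async false

namespace Cfsg.Agent.CosetData.Fi23A

open Cfsg.Agent.CosetCert

theorem base30_ok : Fixes P 31671 [4, 5, 4, 5, 4, 5] :=
  fixes_of_powFix P (u := [4, 5]) (e := 3) (by decide +kernel) (by decide +kernel)

theorem base31_ok : Fixes P 31671 [4, 6, 4, 6] :=
  fixes_of_powFix P (u := [4, 6]) (e := 2) (by decide +kernel) (by decide +kernel)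

theorem base32_ok : Fixes P 31671 [4, 7, 4, 7] :=
  fixes_of_powFix P (u := [4, 7]) (e := 2) (by decide +kernel) (by decide +kernel)

theorem base33_ok : Fixes P 31671 [4, 8, 4, 8] :=
  fixes_of_powFix P (u := [4, 8]) (e := 2) (by decide +kernel) (by decide +kernel)

theorem base34_ok : Fixes P 31671 [4, 9, 4, 9] :=
  fixes_of_powFix P (u := [4, 9]) (e := 2) (by decide +kernel) (by decide +kernel)

theorem base35_ok : Fixes P 31671 [5, 6, 5, 6, 5, 6] :=
  fixes_of_powFix P (u := [5, 6]) (e := 3) (by decide +kernel) (by decide +kernel)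

end Cfsg.Agent.CosetData.Fi23A
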