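import Cfsg.Agent.Lib.Compute.CosetData.Fi23ATab

/-! Coset enumeration certificate data (S1689). -/

set_option autoImplicit false
set_option maxRecDepth 100000
set_option Elab.async false

namespace Cfsg.Agent.CosetData.Fi23A

open Cfsg.Agent.CosetCert

theorem base42_ok : Fixes P 31671 [7, 8, 7, 8, 7, 8] :=
  fixes_of_powFix P (u := [7, 8]) (e := 3) (by decide +kernel) (by decide +kernel)

theorem base43_ok : Fixes P 31671 [7, 9, 7, 9] :=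
  fixes_of_powFix P (u := [7, 9]) (e := 2) (by decide +kernel) (by decide +kernel)

theorem base44_ok : Fixes P 31671 [8, 9, 8, 9] :=
  fixes_of_powFix P (u := [8, 9]) (e := 2) (by decide +kernel) (by decide +kernel)

theorem base45_ok : Fixes P 31671 [3, 2, 1, 3, 4, 5, 3, 7, 8, 3, 2, 1, 3, 4, 5, 3, 7, 8, 3, 2, 1, 3, 4, 5, 3, 7, 8, 3, 2, 1, 3, 4, 5, 3, 7, 8, 3, 2, 1, 3, 4, 5, 3, 7, 8, 3, 2, 1, 3, 4, 5, 3, 7, 8, 3, 2, 1, 3, 4, 5, 3, 7, 8, 3, 2, 1, 3, 4, 5, 3, 7, 8, 3, 2, 1, 3, 4, 5, 3, 7, 8, 3, 2, 1, 3, 4, 5, 3, 7, 8] :=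
  fixes_of_powFix P (u := [3, 2, 1, 3, 4, 5, 3, 7, 8]) (e := 10) (by decide +kernel) (by decide +kernel)

theorem base46_ok : Fixes P 31671 [0, 1, 2, 3, 4, 5, 7, 0, 1, 2, 3, 4, 5, 7, 0, 1, 2, 3, 4, 5, 7, 0, 1, 2, 3, 4, 5, 7, 0, 1, 2, 3, 4, 5, 7, 0, 1, 2, 3, 4, 5, 7, 0, 1, 2, 3, 4, 5, 7, 0, 1, 2, 3, 4, 5, 7, 0, 1, 2, 3, 4, 5, 7] :=
  fixes_of_powFix P (u := [0, 1, 2, 3, 4, 5, 7]) (e := 9) (by decide +kernel) (by decide +kernel)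

end Cfsg.Agent.CosetData.Fi23A
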