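import Cfsg.Agent.Lib.Compute.CosetOrbit

/-! Coset enumeration certificate data (S1720). -/

set_option autoImplicit false
set_option maxRecDepth 100000
set_option Elab.async false

namespace Cfsg.Agent.CosetData.HJA

open Cfsg.Agent.CosetCert

/-- the coset table -/
def tab : Tab :=
  .leaf 0x3a001f0039003b0035003800370031003b00360032003a0039002a0036003800170037001b003a0034002500330035002e003400320012003800330020003900300016002f0031002c0030001f00330023002d002b0019002e002f002b001e002d002c0012002200370029001d0028002a00270029001700280026001a00240027001b0034002100240026001100250014002e0022002a000f00230013002500200031000e0021000d003b002f001c0010002c0029001c0014001e001d000d0035000c00260015001800270018002d000f0019001a000c000b00360028003000150013001a0016000b0023000a001d00210009001600320008002b00100024000e0011001e0008000700220019000600200011001f0005001c0004001b0018001700030015000900140005000a00130003000200120010000f00060004000e000700020001000d000a000c000100070000000b0009000800000006000500040000000300020001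

/-- base relators -/
def base : List (List ℕ) := [
  [0, 1, 0, 1, 0, 1],
  [0, 2, 0, 2, 0, 2],
  [1, 2, 1, 2, 1, 2, 1, 2, 1, 2],
  [0, 1, 2, 0, 1, 2, 0, 1, 2]]

/-- rotations of the relators -/
def rots : WTab :=
  (.node (.node (.node (.node (.leaf [0, 1, 0, 1, 0, 1]) (.leaf [2, 0, 1, 2, 0, 1, 2, 0, 1])) (.node (.leaf [1, 2, 1, 2, 1, 2, 1, 2, 1, 2]) (.leaf [0, 1, 0, 1, 0, 1]))) (.node (.node (.leaf [0, 2, 0, 2, 0, 2]) (.leaf [1, 0, 2, 1, 0, 2, 1, 0, 2])) (.node (.leaf [0, 1, 2, 0, 1, 2, 0, 1, 2]) (.leaf [0, 1, 0, 1, 0, 1])))) (.node (.node (.node (.leaf [1, 0, 1, 0, 1, 0]) (.leaf [2, 1, 0, 2, 1, 0, 2, 1, 0])) (.node (.leaf [2, 1, 2, 1, 2, 1, 2, 1, 2, 1]) (.leaf [0, 1, 0, 1, 0, 1]))) (.node (.node (.leaf [2, 0, 2, 0, 2, 0]) (.leaf [0, 2, 1, 0, 2, 1, 0, 2, 1])) (.node (.leaf [1, 2, 0, 1, 2, 0, 1, 2, 0]) (.leaf [0, 1, 0, 1, 0, 1])))))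

def hints_0 : List (ℕ × ℕ × Bool) := [
  (0, 0, false), (3, 2, false), (2, 0, false), (0, 0, false), (1, 0, false), (3, 1, true), (3, 0, false), (0, 0, false),
  (0, 1, false), (3, 0, true), (2, 1, false), (0, 0, false), (1, 1, false), (3, 2, true), (3, 1, false), (0, 0, false)]
def hints : List (ℕ × ℕ × Bool) :=
  hints_0

/-- subgroup words -/
def sw : List (List ℕ) := [[0, 0]]

def subs : List (List ℕ) := [[0, 0]]

/-- parameters -/
def P : Params := ⟨tab, 3, rots, subs⟩

def tree_0 : List ℕ := [
  0, 1, 2, 4, 5, 6, 12, 8,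
  9, 15, 10, 14, 16, 20, 23, 24,
  42, 25, 28, 31, 33, 57, 35, 36,
  45, 65, 37, 39, 60, 49, 41, 43,
  59, 46, 62, 52, 100, 81, 78, 69,
  89, 104, 54, 90, 76, 106, 93, 68,
  98, 56, 140, 113, 83, 70, 127, 151,
  148, 160, 94]
def tree : List ℕ :=
  tree_0

def ph0_0 : List ℕ := [
  28672, 40962, 98315, 114694, 192514, 155648, 208901, 192523,
  167944, 225284, 184330, 155654, 237572, 221188, 176128, 229383,
  163846, 139271, 184321, 172035, 225281, 102406, 90117, 212999,
  208897, 151555, 135169, 65542, 114693, 196615, 241665]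

/-- known edges at a check point -/
def mask0 : ℕ := 0x4924b49b43913a1272db6ee9f59f6ffdbfffedfb7ffff

theorem treeRun_ok : stIs (runList (treeStep P) tree ⟨1, 0, []⟩) 60 mask0 = true := by decide +kernel

def seg0 : List Phase := [.scans ph0_0]

theorem seg0_ok : stIs (runList (phaseStep P) seg0 ⟨60, mask0, []⟩) 60 (2 ^ (60 * P.k) - 1) = true := by decide +kernel

/-- the certificate -/
def phases : List Phase :=
  seg0

theorem cert_ok : checkCert P 60 tree phases = true :=
  checkCert_of_run P treeRun_ok (run_last P seg0_ok)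

theorem gen0_ok : genOK P 60 0 = true := by decide +kernel

theorem gen1_ok : genOK P 60 1 = true := by decide +kernel

theorem gen2_ok : genOK P 60 2 = true := by decide +kernel

theorem tab_ok : tableOK P 60 = true := tableOK_of_gens P (by decide +kernel) (by decide +kernel) fun x hx =>
  match x, hx with
  | 0, _ => gen0_ok
  | 1, _ => gen1_ok
  | 2, _ => gen2_ok
  | _ + 3, hx => absurd (show _ + 3 < 3 from hx) (by omega)

theorem base0_ok : Fixes P 60 [0, 1, 0, 1, 0, 1] :=
  fixes_of_powFix P (u := [0, 1]) (e := 3) (by decide +kernel) (by decide +kernel)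

theorem base1_ok : Fixes P 60 [0, 2, 0, 2, 0, 2] :=
  fixes_of_powFix P (u := [0, 2]) (e := 3) (by decide +kernel) (by decide +kernel)

theorem base2_ok : Fixes P 60 [1, 2, 1, 2, 1, 2, 1, 2, 1, 2] :=
  fixes_of_powFix P (u := [1, 2]) (e := 5) (by decide +kernel) (by decide +kernel)

theorem base3_ok : Fixes P 60 [0, 1, 2, 0, 1, 2, 0, 1, 2] :=
  fixes_of_powFix P (u := [0, 1, 2]) (e := 3) (by decide +kernel) (by decide +kernel)

theorem base_ok : ∀ w ∈ base, Fixes P 60 w := by
  intro w hw
  rw [base] at hw
  rcases List.mem_cons.1 hw with rfl | hw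
  · exact base0_ok
  rcases List.mem_cons.1 hw with rfl | hw
  · exact base1_ok
  rcases List.mem_cons.1 hw with rfl | hw
  · exact base2_ok
  rcases List.mem_cons.1 hw with rfl | hw
  · exact base3_ok
  exact absurd hw List.not_mem_nil

theorem rots_ok : rotsOK base rots.entries hints = true := by decide +kernel

theorem fix_ok : wordsFixBase P sw = true := by decide +kernel

theorem tree_ok : treeOK P tree 0 = true := by decide +kernel

theorem tree_len : tree.length + 1 = 60 := by decide +kernel

end Cfsg.Agent.CosetData.HJA
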