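import Cfsg.Agent.Lib.Compute.CosetOrbit

/-! Coset enumeration certificate data (S1720). -/

set_option autoImplicit false
set_option maxRecDepth 100000
set_option Elab.async false

namespace Cfsg.Agent.CosetData.HJGA

open Cfsg.Agent.CosetCert

/-- the coset table -/
def tab : Tab :=
  .node (.leaf 0x12d012400a9011001390139012300a80136013a00f5012600aa013401370105012500a7010201380136011c00a20139013500fd011b00a0010a013600f1011e00a1013801330128011d009f0106013400f600f6009b012e0131010c00f700960116013200b800f400900101012f012600f5008d012c013000f300f300920132012d013a00f200870115012e011e00f1009a012f012b010200f000850105012c012000f8007a0113012900f900f9007800ff012a013300fa007201270127010600fb007101280128012f01380124011e01250104013701230103012600f2013a012600bb0123012301390125011c0124010000ba011f0121012100f400b8012001220122012a00b9012100be011f011f00b70122010f0120012c0134011d0126011d00fa0133011e0107011e011c0136011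b0123011b00fc0135011c00bc011c00bb011500cf00f2011900bd011600d700f7011a0111011300ad00f8011700bc011400ae00fc0118011201190051013101150110011a0053012d0116010a0117004a00fd011300be01180049012a0114011600bd00de010c0111011800be00dd00b90112011500bb00e1013a010a010f010d00af011f010e00f7010c00b000bd010f010d010f00df00b7010c0131010e00e00112010d010b010b0057010b00c4011400bc01080135011000c00109005c00c300c300e700c8010a00e100e100fb010600ca011d01030127010700ea013301020137010400c0012b010101250105010400f0010000f0010200c901250107012b010300eb0137010600ba010000bf0130010501220101010000f4010400fe00fe00c2012900fd00ff00ff00fe00f900fc013500fc00c1011400ff011b00fd00fc011700fe01070127004200fa00fa011d0128004300fb00fb01290129004100fe00f800b9012a003f011800f9010e01310044011900f601320132003c00f300f70138012f004000f100f4012101300039010000f5012e012e004600f600f20124012d0045011a00f30134012c003600f500f00103012b0035010400f100c700ec009700e900ee00eb0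0ed008300da00ef00da00ee008000eb00ec00e100ef007b00e700ed00ee00da010200ed00ea00e600d9010600e600eb00c800e7008900ef00e800d900e6008c00d900e9010800e9007400ec00e600ea00e8007300ea00e700e000e4009300e400e400dc00e5009c00e500e500c500e2007e00df00e200de00e3007d00db00e300ec00c701100108010800e500dc010c00dc00df001d00db010d00e300e000e200c50112001e00dd001c00c6011100dd00de00e400e000ac00e000db001e00df00ab00e200dc00ed00eb00cb00ee00d900e800ea00cc00e800da00d400d7003b00d600d100d600d8011900d400cf00d700d4002000d800d200ca00d3003000d200d000d800d6002500d700ce00cc00d5002c00ce00cd00c900ce002100d500d600d000cf003a00d000d800d100cd003200d100d500cd00d1011a00cd00d700cb00d2002600d300d400cf00d0002a00cf00d300d300ca00d900cb00cb00ce00c900da00cc00cc00d500cc010700c900c900d200cb010300ca00ca00e90108001500c700c700ef00e1001200c800c8001b00dd001400c600c500e300de000f001d00c600c100c4004d000d010b00bf00c300500109010900c200c200ff00c200c100c400c100fd000c00c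2010900c0010500bf00bf00c300bf010100c000c0011301110006012000bd011901120005010e00be0117010a0004011b00bb011a01100003012400bc0101012200a300b800b800f8012000a5011100b70130012100a400ba00ba00b7011f00a6010d00b900ae00b4002b00b400b400b000b3003100ad00b300b200b6002200b600b600ac00b5002d00b100b500b400ae003400ae00b1001800ad003300b300b200b500ac010e001900af001a00ab010f00af00b000b600b2011700b200ad001900b1011800b500ae00b300b000dc001800ab000200af00db00ab00ac006000a90138009b00a7003e00aa013a009d00a8002e00a70139009c00a9005c00a80137009e00aa002f00a300b7009800a5005200a400b9009900a6003d00a500b8009a00a3005000a600ba009700a4002800a00136007200a0004f009f01340074009f004d00a20135007000a2003800a10133007600a1005b009c009500a70095003c009b005f00a90094002d009e00e400a80093005f009d013200aa009600430099012c00a40085006d009a006300a5008600320097007c00a600840059009800ef00a300830093009401310095009b00940093009e0096009e00950096006e0093009d0096009500e50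094009c0068008f012e008e0087004b0090005e008b008e002900910130008c008d004600920068008d00880067008d006b009200910045008e012f008f0090002c008b00e8009000890054008c00750091008a0022008900760087008b0056008a00e90088008c004c008700670089008f00240088012d008a00920084008500640084009900830086012b0083009a00860083007f008600980085008400ee008500970025007e008100800081003b007d0082007700820026007f00ed0082007b006600800084007e007c0065008200e3007f007d0051008100e20078007e003a007b0098007a007f0053007c00ec0079008000390079012a007c0078005e007a0069007b0077006a00770129007d007a00410078006a0081007900340074008a009f0075006f0073008b00730076004a007600e700a100730071007500e60075007400270070012800a200710073006f0127006f007200470072006d00a0006f00750071006c00710070005a00440094006c005f0099004300700052006c00580042006f006e006d000b0040008e0069005e00780041007700510069000a003f0079006b006a00920046008f00670067008e0045008800680068007f0026006100650065007e002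500620066006600610035008600490063000800360099005d0064000f00200065005700610064002100660048006200aa003e0017005f0052009b003c009d0060006e0079003900910053006b0007003700160063004f00a7002e0109005b0050009e002d005a005c005a006e0031005b0058005b00970032004e00500058006c00300054005a0059000e001f010b0062004d008900220055004c00550015002b0056004e0056008b002c0058004b004e007b003a0115005e005100a5003d0013006d0060007d003b0116006a005300a3002f00c30059005c00a100380011004a005d0012002a00590055005400a0002800c40047005700880024000b0056004b00910029000a0054004c007400340114004f00490048003301130064004a00490023000900610047007000270008004d0048008f006800f300450045008d006700f2004600460031006e00f70042003c009a006d00fa003d00420030006c00fb004400430077006a00f9003b003f0017006b00f5003f00390013006900f80040004100a900600024003c003d00a4005200290043003e009d005f00f6003e00440081005100d80041003a007c005300d10039003b007a005e00f4003a0040009f004f0027003400370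010005d0023003600380011006300f1003700350021006400f0003300360076004a00b2003800330023004900b1003500340098005900d0002f00300044005a00b50030002d0042005800d50031003200a60050002f0032002e00a8005c002e002d002f009c005b00b3002e0031008c005400d30029002a0004005500b6002a00220003004e00cd002b002c0090004b003d002c002400a2004d00280027001f007200470038002800230080006600ce002500250082006500d4002600260087004c003e0022002900330048003700210027008a005600b40024002b0035006100d2002300200005006200d6001f002100010057001f0020002800db001d000c00de001e00df001e001d00c5001d00dd001b0019001c001c00c6001c0007001b001b00af0002001a001a001a00ad0018001c00b0001900b10019001000ac00180040000b00600013001300140009005d001600110055000400c8001200120016000600c60014000f003f000a005200170017004e000300c70015001500360008004f00100016003700070018001100100062000500c5000e001400570001000e000f000e000c000d000200c4000d000d000c001e00c1000c006b0017004c000a000a00690013004b000b000b0006001600480009000800630011004700070009005d0010001b000800070009001400be000600050020000f00bd00010006002b001500bc00030003002a001200bb0004000400ab001a000d00020002001f000e00000005000100000000000100000000)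 (.leaf 0x13a013800d4012a0136012e013700ce0129010c0101013a00d20128011200f4013900d60127013400ff013400d30132013a0135013300cd0131010d0127013600d50130013700f0013500d0012f0111010d0130012f013600fd00f7012f01300135012e0125013201310134012c00ba01310132013301140139012c012c00b7013100f2012b012b00b900ff0106012e012e00b80130011d012d012d00ba011300f801280129013a0129011f0127012a0139012a0102012a0127013801150134012901280137010501000124006c00fa00bd01300123006d00fb011e01240126006a00f8011c00f30125006900f9010e00f50120006700f000bc0104011f006800f1010701200122006400f2011f01290121006300f3012000fb011c006e00f40125012b011b005f00f500be00fe011e006b00f60124011b011d005e00f7010f00be0118005c011500fa00bc011700500116010000bb011a0057011300f001120119004d011400f5010a0114010101190101011101130105011a012800bd011600fd0117012f0110011500ff0118012b0117011000ae011201380115010a00ad011101330113011200d70110010200f60107005d00ff011b010e0103004f00fd012301320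10600b100fe0135010c010200b200fc013900c2010900dd00c200c40116011100cf010a00ba00c0010b010800c0010900ed00dd010900ea010800f1010f006001050121012c010d00d1010400b800b800ff011501070127012100fe004c010600fb00fa010e0052010100bb0128010c00d801000110013800fd011601030116012600fc004b01020119013601050113010f012d011c01040048010d00f200fc01010114010e013200fd01000047010c00f6011e00f9006501250104010300f800660126011a00b700fb0061012300f8012a00fa0062012400f9013100f50059011b00f3010f00f40058011c00fc012200f7004e011d0117013700f60054011e00f1012300f1005a011f00f7012d00f0005b012000fe010700f30055012100f4013300f200560122011800ea00ed003000ee00e000c800ec003200ef00e9010800ef002c00ec00e700d900ee002a00ed00dc00e700e0002900e100da00ef00df0024010800e500da00e7003100e600ee00c700e6002d00e700df00eb00e9002b00e800ed00e100e8002200e900db00db00e3002500e300ea00df00e2002600e200d900dd00e5002100e500e200c600e4002000e400e300e600de00c300eb001e001d00eb002700de00e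f00e400ea002300dd00e8001c00e100c400e000dd00e30108010b00df00de001e00da002800c500ec00e500d9001f00c600e600e900dc002f00c700eb00ec00db002e00c800e400d500b2010200c900d700d300ae011000cb00d800ca00ce013700d200d500d800d3013400cd00d600cc00d2013a00ce00d300d700d5013600d000d400cf00d4013800d600ae00ce00b1010600ca00b400c900cd013300d300ad00d200ad010a00cc00b600d100d6013900d400b200cb00d0013500d500b100d400ab00cc00cf00cc00cd00ac00cb00d7001800d600af001500d100ca00d000b0001200d8001900ee00c6001700d900c800e800c5001300da001d00e200c8001600db00c5001b00c7001100dc00c600c400c300de00c1010b00bf00c400e100bf000d010b00c00006010b00c100c100bf000500c400c2010900c20004010900c000c300c1000300c3000c011a00bc004900be011d011400bb004a00bd0126011900be005300bc0122011800bd005100bb0103012f00b900b6012b010a00b900ba00b5012d00b7010500b700b4012c010600f900b800b3012e00b900b100b500ba00b500cf00ab00b600b900b600b300ad00b300b800b300d100af00b400b700b400b5001800d8010c0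0b000ce00b600d1010d00af00cd001a00c9000f00b200af00b300ca001400b100b0001900d7011200ac00d200b400cf011100ab00d0000200cb00ac00ae00ab00b500cc00ab00ad00ac005000a9007e00a80091002f00aa009300a70090003d00a7009c00aa0081005200a8007d00a9007d006000a4008c00a50092002e00a3008900a60080005c00a6007300a3007f003e00a5007400a4008f005700a1008000a10089003700a2009700a2007a001f009f007b009f008a005d00a0008300a00079009d00810078006d006f009e0091009400320075009b007d00a800430071009c0090007f00590073009700920075005b00940098008f0088002d00960099007f0090005f0093009a008000a1003c0095006e008d007c00580099005a0082007a006c00970044008e009d0030009a0031007e00a9004200980029009a008b005600a60068009d008e002a00aa0046009b0098004e00a9004b00990086002200a3004c00940091002c007e002400960084005400820055007300a60045008b002b007500920067008c004e00760087006800a0002a007400a5004600a2004500860099002b007c00670085008a0055007b006c0088008f00310074004200870076005a00760030007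c008d006e00720058007b009f00440070003a00950072006a008d0026009e0071006900a80051009700a2003900a5003b0098009b005e00a40053009300aa0041008e0066009c00a7003f00a7006500840096006b00880025008300a000400087006900720095006600a1003f007000700026009f00400071009e00650077006b006f006f002500780070008a0085006300850033008b009a0064009d0072008900a3003600860049008c00a40035009b0074007a0082006200840023007800810061009c007600790079002000830048007700770021009e0096006b011e0084006d005900690125009e006e0086006a01260095004a0077006e011c007c006a000b006c01240082006b007a006d01230081004f009100630121008a0060008700640122008b0053007d006200fa007a005c007c006100fb0078004c0009006701200075006300620068011f007600640063006600f8007200610014006500f90071006200a6005d0107005c0068005b005e011d00980049000a005f011b007f005d009f0060010f0057005e00a40057011a00600066005f005600f2009a00480095005500f300850059006d004e00f7009b005a0083005400f60096004700a2005c0118005d00560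012005b00f000920057008c005a00f1008700540015005800f4008d0055007e004900bc000b006700a7004f0103005000510080004a00bb000a005200aa004d01190052004b00070052010e004d0069008a005900f50090004d000e00500117004f004e008e0048010400150065008f00470100001200500047005100bd0008006c0073005300be0009005f006f004c00fe0014005b004a004b00fc000f00580090003600450089003e008800350046008c003a009400400040008300430032003f0041009c004400850041003f00930034001700420043007e0040007800440044007b0041007900430042007d003800a30037003a002e004600a80038003b002f003b002d0039003900970033007f0034003d0013003d00820033003e001700450013003c003c008000370010003d00340028003f00a1003e0033001f003900200046003500740035001600450036007300360027003b0038001100420075003a00370016003c0043002a00ee009d00310093002b00e9008600320084002c00ef0094002700a9002800da003d002900a5001f00d9003e0026003c002200e8009900230004003000ed008e002b008b003100e70088002c0089003200ec009100280092002700eb000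3002f0001002f00dc0038002a0034002900e0000500300081002000e40079002e007b002100e500770024008d002300ea000400250071002400df0006002d0003002d00e6008f001f0006002500e3006f00200036002600e20070002100a0002e00db0037002200dc001e000d001c00e100e0001d0010001b00c700de001c001c001e001c00c5001b001a001d001b00b0001a001b0019001a00ae0019000e001a00c900b200180018000200cb0041001600c8003a00170035001700c6003300110054001400ca004c00150061001500af0048000f0039001100c7003b00100056000f00c9004b000e000f001300c50034001600380010001d000e00130011001200b000470014004d000e001900100012000c000d001e000d00c3000d000c0001000c00bf006a0009000b0053000b005e0008000a005100070064000b0009004900080005000a0008004a0009004f000700070001000a0021000400c2002300050008000300c100270006002c000600c0002400040022000500bf0029000100ac000200000018000200280001000c0007000300000000000200000000)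

/-- base relators -/
def base : List (List ℕ) := [
  [0, 3, 0, 3],
  [0, 6, 0, 6],
  [0, 7, 0, 7],
  [0, 8, 0, 9],
  [1, 6, 1, 6],
  [1, 7, 2, 7],
  [1, 8, 1, 9],
  [2, 3, 2, 9],
  [2, 6, 2, 6],
  [2, 8, 2, 8],
  [3, 6, 3, 6],
  [3, 7, 3, 7],
  [6, 7, 6, 7],
  [6, 8, 6, 8],
  [6, 9, 6, 9],
  [3, 6, 8, 3, 8],
  [3, 6, 9, 3, 9],
  [6, 8, 9, 8, 9],
  [0, 1, 0, 1, 0, 1],
  [0, 2, 0, 2, 0, 2],
  [0, 3, 6, 0, 6, 3],
  [0, 3, 7, 0, 7, 3],
  [0, 3, 8, 0, 9, 3],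
  [0, 6, 7, 0, 7, 6],
  [0, 6, 8, 0, 9, 6],
  [0, 7, 8, 0, 9, 7],
  [0, 8, 9, 0, 8, 9],
  [1, 2, 1, 2, 1, 7],
  [1, 2, 1, 2, 7, 2],
  [1, 3, 1, 7, 9, 7],
  [1, 3, 7, 2, 9, 7],
  [1, 6, 7, 2, 7, 6],
  [1, 6, 8, 1, 9, 6],
  [1, 7, 3, 2, 9, 7],
  [1, 7, 6, 2, 6, 7],
  [1, 7, 8, 2, 8, 7],
  [1, 8, 7, 2, 7, 9],
  [1, 8, 9, 1, 8, 9],
  [2, 3, 6, 2, 9, 6],
  [2, 3, 8, 2, 8, 9],
  [2, 3, 9, 2, 3, 9],
  [2, 6, 8, 2, 8, 6],
  [3, 6, 7, 3, 7, 6],
  [3, 8, 3, 9, 8, 9],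
  [3, 8, 9, 3, 9, 8],
  [3, 8, 9, 8, 3, 9],
  [6, 7, 8, 6, 8, 7],
  [6, 7, 9, 6, 9, 7],
  [1, 3, 8, 3, 1, 6, 9],
  [1, 3, 9, 3, 1, 6, 8],
  [3, 6, 7, 8, 3, 8, 7],
  [3, 6, 7, 9, 3, 9, 7],
  [3, 6, 8, 7, 3, 7, 8],
  [3, 6, 9, 7, 3, 7, 9],
  [3, 7, 6, 7, 8, 3, 8],
  [3, 7, 6, 7, 9, 3, 9],
  [3, 7, 8, 9, 7, 9, 8],
  [3, 7, 9, 8, 7, 8, 9],
  [3, 8, 7, 9, 8, 7, 9],
  [6, 7, 8, 9, 8, 9, 7],
  [0, 1, 0, 1, 0, 6, 1, 6],
  [0, 1, 0, 1, 0, 7, 2, 7],
  [0, 1, 0, 1, 0, 8, 1, 9],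
  [0, 1, 0, 1, 3, 0, 3, 1],
  [0, 1, 2, 1, 2, 1, 0, 7],
  [0, 1, 3, 1, 0, 7, 8, 7],
  [0, 2, 0, 2, 0, 3, 2, 9],
  [0, 2, 0, 2, 0, 6, 2, 6],
  [0, 2, 0, 2, 0, 7, 1, 7],
  [0, 2, 0, 2, 0, 8, 2, 8],
  [0, 3, 6, 7, 0, 7, 6, 3],
  [0, 3, 7, 8, 0, 9, 7, 3],
  [0, 3, 8, 7, 0, 7, 9, 3],
  [0, 3, 8, 9, 0, 8, 9, 3],
  [0, 6, 7, 8, 0, 9, 7, 6],
  [0, 6, 8, 7, 0, 7, 9, 6],
  [0, 7, 3, 8, 0, 9, 3, 7],
  [0, 7, 8, 9, 0, 8, 9, 7],
  [0, 8, 7, 8, 0, 9, 7, 9],
  [0, 8, 7, 9, 0, 8, 7, 9],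
  [1, 2, 1, 2, 1, 3, 7, 3],
  [1, 2, 1, 2, 1, 6, 7, 6],
  [1, 2, 1, 2, 3, 1, 7, 9],
  [1, 2, 1, 2, 3, 7, 2, 9],
  [1, 2, 1, 2, 6, 7, 2, 6],
  [1, 2, 1, 2, 7, 8, 2, 8],
  [1, 2, 1, 2, 7, 9, 2, 3],
  [1, 2, 1, 3, 2, 1, 8, 7],
  [1, 2, 3, 1, 2, 7, 8, 2],
  [1, 2, 7, 8, 7, 2, 1, 3],
  [1, 3, 1, 3, 7, 3, 9, 7],
  [1, 3, 1, 6, 7, 9, 7, 6],
  [1, 3, 6, 7, 2, 9, 7, 6],
  [1, 3, 7, 8, 2, 8, 9, 7],
  [1, 3, 7, 9, 2, 3, 9, 7],
  [1, 3, 8, 1, 9, 7, 9, 7],
  [1, 3, 8, 3, 1, 3, 9, 3],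
  [1, 3, 8, 3, 1, 8, 9, 8],
  [1, 3, 9, 1, 8, 7, 9, 7],
  [1, 3, 9, 3, 1, 9, 8, 9],
  [1, 6, 7, 8, 2, 8, 7, 6],
  [1, 6, 8, 7, 2, 7, 9, 6],
  [1, 7, 3, 8, 2, 8, 9, 7],
  [1, 7, 3, 9, 2, 3, 9, 7],
  [1, 7, 6, 3, 2, 6, 9, 7],
  [1, 7, 8, 3, 2, 9, 8, 7],
  [1, 7, 8, 6, 2, 6, 8, 7],
  [1, 7, 8, 7, 1, 7, 8, 7],
  [1, 8, 3, 7, 2, 9, 7, 9],
  [1, 8, 7, 3, 2, 9, 7, 9],
  [1, 8, 7, 6, 2, 6, 7, 9],
  [1, 8, 7, 8, 2, 8, 7, 9],
  [1, 8, 7, 9, 2, 3, 7, 9],
  [1, 8, 7, 9, 2, 7, 3, 9],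
  [1, 8, 9, 7, 2, 7, 8, 9],
  [2, 3, 8, 9, 2, 8, 9, 3],
  [3, 6, 8, 7, 8, 9, 7, 9],
  [3, 6, 9, 7, 9, 8, 7, 8],
  [3, 7, 8, 9, 7, 8, 6, 9],
  [3, 7, 9, 8, 7, 9, 6, 8],
  [3, 8, 7, 8, 3, 8, 7, 8],
  [3, 8, 7, 8, 6, 9, 7, 9],
  [3, 9, 7, 9, 3, 9, 7, 9],
  [6, 7, 8, 7, 6, 7, 8, 7],
  [6, 8, 7, 9, 6, 9, 7, 8],
  [4, 5, 4, 5, 4, 5],
  [4, 5, 6, 5, 4, 3],
  [4, 5, 3, 5, 4, 6, 3],
  [4, 5, 8, 9, 5, 4, 9, 7, 8],
  [0, 4, 0, 4],
  [0, 5, 0, 5],
  [7, 4, 7, 4],
  [7, 5, 7, 5],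
  [1, 2, 0, 1, 4, 1, 0, 2, 1, 4],
  [1, 2, 0, 1, 5, 1, 0, 2, 1, 5],
  [6, 4, 6, 4, 6, 4],
  [3, 4, 3, 4, 3, 4, 3, 4, 3, 4],
  [6, 5, 6, 5, 6, 5, 6, 5, 6, 5],
  [3, 5, 3, 5, 3, 5],
  [6, 4, 5, 6, 4, 5, 6, 4, 5],
  [6, 4, 3, 6, 4, 3, 6, 4, 3, 6, 4, 3, 6, 4, 3],
  [6, 5, 3, 6, 5, 3, 6, 5, 3, 6, 5, 3, 6, 5, 3],
  [3, 4, 3, 5, 3, 4, 6],
  [3, 5, 6, 4, 6, 5, 6],
  [4, 5, 3, 6, 5, 4, 6],
  [3, 4, 6, 4, 6, 4, 3, 6],
  [3, 4, 6, 5, 3, 4, 6, 5],
  [3, 5, 4, 5, 4, 6, 5, 4],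
  [3, 5, 6, 3, 6, 5, 3, 5],
  [1, 2, 6, 4, 3, 4, 2, 1, 4, 3, 4, 6]]

/-- rotations of the relators -/
def rots : WTab :=
  (.node (.node (.node (.node (.node (.node (.node (.node (.node (.node (.node (.leaf [0, 3, 0, 3]) (.leaf [6, 2, 3, 6, 7, 1, 7, 9])) (.node (.leaf [3, 1, 0, 7, 8, 7, 0, 1]) (.leaf [0, 3, 0, 3]))) (.node (.node (.leaf [8, 6, 2, 6, 8, 2]) (.leaf [7, 9, 6, 9, 7, 8, 6, 8])) (.node (.leaf [8, 7, 2, 1, 2, 1, 8, 2]) (.leaf [0, 3, 0, 3])))) (.node (.node (.node (.leaf [9, 0, 8, 9, 0, 8]) (.leaf [8, 1, 9, 3, 7, 2, 9, 7])) (.node (.leaf [7, 0, 7, 8, 6, 0, 6, 9]) (.leaf [0, 3, 0, 3]))) (.node (.node (.leaf [8, 3, 7, 6, 7, 8, 3]) (.leaf [4, 5, 3, 6, 5, 4, 6])) (.node (.leaf [3, 2, 9, 7, 3, 1, 7, 9]) (.leaf [0, 3, 0, 3]))))) (.node (.node (.node (.node (.leaf [8, 9, 8, 6, 9]) (.leaf [8, 1, 9, 7, 9, 2, 3, 7])) (.node (.leaf [9, 0, 8, 7, 3, 0, 3, 7]) (.leaf [0, 3, 0, 3]))) (.node (.node (.leaf [3,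 1, 8, 6, 1, 3, 9]) (.leaf [1, 2, 0, 1, 5, 1, 0, 2, 1, 5])) (.node (.leaf [1, 3, 7, 3, 9, 7, 1, 3]) (.leaf [0, 3, 0, 3])))) (.node (.node (.node (.leaf [1, 7, 6, 2, 6, 7]) (.leaf [6, 3, 8, 7, 8, 9, 7, 9])) (.node (.leaf [1, 2, 1, 6, 7, 6, 1, 2]) (.leaf [0, 3, 0, 3]))) (.node (.node (.leaf [6, 7, 8, 9, 8, 9, 7]) (.leaf [4, 6, 1, 2, 6, 4, 3, 4, 2, 1, 4, 3])) (.node (.leaf [7, 8, 2, 8, 7, 6, 1, 6]) (.leaf [0, 3, 0, 3])))))) (.node (.node (.node (.node (.node (.leaf [6, 7, 6, 7]) (.leaf [8, 7, 1, 7, 8, 7, 1, 7])) (.node (.leaf [0, 2, 0, 7, 1, 7, 0, 2]) (.leaf [0, 3, 0, 3]))) (.node (.node (.leaf [6, 7, 9, 6, 9, 7]) (.leaf [5, 4, 9, 7, 8, 4, 5, 8, 9])) (.node (.leaf [1, 2, 3, 1, 2, 1, 7, 8]) (.leaf [0, 3, 0, 3])))) (.node (.node (.node (.leaf [3, 1, 7, 9, 2, 7]) (.leaf [3, 2, 3, 9, 8, 2, 9, 8])) (.node (.leaf [8, 0, 9, 8, 7, 0, 7, 9]) (.leaf [0, 3, 0, 3]))) (.node (.node (.leaf [9, 8, 7, 3, 8, 9, 7]) (.leaf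 [4, 5, 4, 6, 5, 4, 3, 5])) (.node (.leaf [8, 3, 1, 8, 9, 8, 1, 3]) (.leaf [0, 3, 0, 3]))))) (.node (.node (.node (.node (.leaf [0, 6, 7, 0, 7, 6]) (.leaf [8, 1, 9, 7, 8, 2, 8, 7])) (.node (.leaf [8, 0, 9, 8, 3, 0, 3, 9]) (.leaf [0, 3, 0, 3]))) (.node (.node (.leaf [8, 7, 3, 7, 8, 3, 6]) (.leaf [3, 6, 5, 3, 6, 5, 3, 6, 5, 3, 6, 5, 3, 6, 5])) (.node (.leaf [9, 2, 7, 6, 3, 1, 6, 7]) (.leaf [0, 3, 0, 3])))) (.node (.node (.node (.leaf [6, 2, 9, 6, 2, 3]) (.leaf [7, 3, 8, 6, 9, 7, 8, 9])) (.node (.leaf [7, 3, 2, 1, 2, 1, 9, 2]) (.leaf [0, 3, 0, 3]))) (.node (.node (.leaf [0, 1, 0, 8, 1, 9, 0, 1]) (.leaf [0, 3, 0, 3])) (.node (.leaf [8, 2, 8, 3, 7, 1, 7, 9]) (.leaf [0, 3, 0, 3]))))))) (.node (.node (.node (.node (.node (.node (.leaf [1, 8, 1, 9]) (.leaf [9, 2, 3, 8, 7, 1, 7, 8])) (.node (.leaf [3, 0, 2, 0, 2, 0, 9, 2]) (.leaf [0, 3, 0, 3]))) (.node (.node (.leaf [9, 3, 9, 8, 3, 8]) (.leaf [3, 5, 4, 6, 3, 4,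 5])) (.node (.leaf [9, 7, 2, 1, 2, 1, 3, 2]) (.leaf [0, 3, 0, 3])))) (.node (.node (.node (.leaf [1, 3, 1, 7, 9, 7]) (.leaf [8, 1, 9, 8, 7, 2, 7, 9])) (.node (.leaf [9, 0, 8, 3, 7, 0, 7, 3]) (.leaf [0, 3, 0, 3]))) (.node (.node (.leaf [3, 9, 7, 6, 7, 3, 9]) (.leaf [6, 4, 6, 4, 3, 6, 3, 4])) (.node (.leaf [7, 9, 1, 8, 3, 1, 7, 9]) (.leaf [0, 3, 0, 3]))))) (.node (.node (.node (.node (.leaf [7, 0, 7, 3, 0, 3]) (.leaf [8, 1, 9, 7, 6, 2, 6, 7])) (.node (.leaf [7, 0, 7, 8, 3, 0, 3, 9]) (.leaf [0, 3, 0, 3]))) (.node (.node (.leaf [3, 6, 7, 9, 3, 9, 7]) (.leaf [3, 5, 3, 5, 3, 5])) (.node (.leaf [1, 6, 7, 9, 7, 6, 1, 3]) (.leaf [0, 3, 0, 3])))) (.node (.node (.node (.leaf [7, 9, 1, 8, 7, 2]) (.leaf [7, 3, 9, 6, 8, 7, 9, 8])) (.node (.leaf [1, 3, 2, 1, 2, 1, 9, 7]) (.leaf [0, 3, 0, 3]))) (.node (.node (.leaf [0, 1, 0, 6, 1, 6, 0, 1]) (.leaf [0, 3, 0, 3])) (.node (.leaf [7, 2, 7, 8, 6, 1, 6, 9]) (.leaf [0, 3, 0,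 3])))))) (.node (.node (.node (.node (.node (.leaf [3, 6, 9, 3, 9]) (.leaf [8, 1, 9, 7, 9, 2, 7, 3])) (.node (.leaf [6, 7, 0, 7, 6, 3, 0, 3]) (.leaf [0, 3, 0, 3]))) (.node (.node (.leaf [3, 8, 3, 1, 9, 6, 1]) (.leaf [0, 5, 0, 5])) (.node (.leaf [7, 2, 1, 3, 2, 1, 2, 8]) (.leaf [0, 3, 0, 3])))) (.node (.node (.node (.leaf [1, 8, 6, 1, 6, 9]) (.leaf [6, 3, 9, 7, 9, 8, 7, 8])) (.node (.leaf [7, 9, 0, 8, 7, 9, 0, 8]) (.leaf [0, 3, 0, 3]))) (.node (.node (.leaf [7, 3, 9, 8, 7, 8, 9]) (.leaf [6, 3, 6, 5, 3, 5, 3, 5])) (.node (.leaf [7, 8, 1, 9, 3, 1, 7, 9]) (.leaf [0, 3, 0, 3]))))) (.node (.node (.node (.node (.leaf [6, 0, 6, 9, 0, 8]) (.leaf [8, 1, 9, 7, 3, 2, 9, 7])) (.node (.leaf [9, 0, 8, 7, 6, 0, 6, 7]) (.leaf [0, 3, 0, 3]))) (.node (.node (.leaf [3, 7, 9, 3, 6, 9, 7]) (.leaf [4, 3, 6, 4, 3, 5, 3])) (.node (.leaf [8, 2, 8, 7, 3, 1, 7, 9]) (.leaf [0, 3, 0, 3])))) (.node (.node (.node (.leaf [9, 8, 2, 8,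 3, 2]) (.leaf [9, 6, 8, 7, 8, 3, 9, 7])) (.node (.leaf [7, 6, 2, 1, 2, 1, 6, 2]) (.leaf [0, 3, 0, 3]))) (.node (.node (.leaf [0, 1, 3, 0, 3, 1, 0, 1]) (.leaf [0, 3, 0, 3])) (.node (.leaf [3, 2, 9, 3, 7, 1, 7, 9]) (.leaf [0, 3, 0, 3])))))))) (.node (.node (.node (.node (.node (.node (.node (.leaf [0, 9, 0, 8]) (.leaf [8, 3, 2, 9, 8, 7, 1, 7])) (.node (.leaf [0, 2, 0, 3, 2, 9, 0, 2]) (.leaf [0, 3, 0, 3]))) (.node (.node (.leaf [3, 8, 3, 9, 8, 9]) (.leaf [4, 5, 6, 5, 4, 3])) (.node (.leaf [1, 2, 7, 9, 2, 3, 1, 2]) (.leaf [0, 3, 0, 3])))) (.node (.node (.node (.leaf [1, 7, 1, 2, 1, 2]) (.leaf [8, 9, 1, 8, 9, 7, 2, 7])) (.node (.leaf [3, 8, 0, 9, 3, 7, 0, 7]) (.leaf [0, 3, 0, 3]))) (.node (.node (.leaf [3, 7, 6, 7, 9, 3, 9]) (.leaf [4, 5, 6, 3, 5, 4, 6])) (.node (.leaf [8, 1, 9, 7, 9, 7, 1, 3]) (.leaf [0, 3, 0, 3]))))) (.node (.node (.node (.node (.leaf [0, 3, 6, 0, 6, 3]) (.leaf [7, 9, 1, 8, 7, 6, 2, 6]))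 (.node (.leaf [8, 7, 0, 7, 9, 3, 0, 3]) (.leaf [0, 3, 0, 3]))) (.node (.node (.leaf [7, 3, 6, 7, 8, 3, 8]) (.leaf [1, 5, 1, 2, 0, 1, 5, 1, 0, 2])) (.node (.leaf [3, 7, 3, 1, 3, 1, 7, 9]) (.leaf [0, 3, 0, 3])))) (.node (.node (.node (.leaf [8, 2, 8, 7, 1, 7]) (.leaf [6, 9, 3, 7, 8, 9, 7, 8])) (.node (.leaf [1, 2, 3, 1, 7, 9, 1, 2]) (.leaf [0, 3, 0, 3]))) (.node (.node (.leaf [9, 8, 9, 8, 7, 6, 7]) (.leaf [4, 3, 4, 6, 2, 1, 6, 4, 3, 4, 1, 2])) (.node (.leaf [8, 7, 2, 7, 9, 6, 1, 6]) (.leaf [0, 3, 0, 3])))))) (.node (.node (.node (.node (.node (.leaf [8, 3, 8, 3, 6]) (.leaf [7, 9, 1, 8, 3, 7, 2, 9])) (.node (.leaf [0, 2, 0, 8, 2, 8, 0, 2]) (.leaf [0, 3, 0, 3]))) (.node (.node (.leaf [8, 3, 1, 6, 9, 1, 3]) (.leaf [4, 5, 9, 8, 5, 4, 8, 7, 9])) (.node (.leaf [3, 1, 2, 7, 8, 2, 1, 2]) (.leaf [0, 3, 0, 3])))) (.node (.node (.node (.leaf [1, 6, 8, 1, 9, 6]) (.leaf [7, 9, 3, 6, 8, 7, 8, 9])) (.node (.leaf [7, 8,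 0, 9, 7, 9, 0, 8]) (.leaf [0, 3, 0, 3]))) (.node (.node (.leaf [7, 8, 9, 3, 7, 9, 8]) (.leaf [6, 4, 5, 4, 5, 3, 4, 5])) (.node (.leaf [9, 1, 8, 7, 9, 7, 1, 3]) (.leaf [0, 3, 0, 3]))))) (.node (.node (.node (.node (.leaf [8, 0, 9, 6, 0, 6]) (.leaf [7, 9, 1, 8, 7, 9, 2, 3])) (.node (.leaf [7, 8, 0, 9, 7, 6, 0, 6]) (.leaf [0, 3, 0, 3]))) (.node (.node (.leaf [7, 8, 6, 3, 8, 7, 3]) (.leaf [3, 4, 6, 3, 4, 3, 5])) (.node (.leaf [7, 8, 2, 8, 9, 7, 1, 3]) (.leaf [0, 3, 0, 3])))) (.node (.node (.node (.leaf [3, 2, 6, 9, 2, 6]) (.leaf [7, 8, 6, 9, 7, 9, 3, 8])) (.node (.leaf [1, 2, 6, 7, 2, 6, 1, 2]) (.leaf [0, 3, 0, 3]))) (.node (.node (.leaf [8, 0, 1, 0, 1, 0, 9, 1]) (.leaf [0, 3, 0, 3])) (.node (.leaf [3, 9, 2, 3, 9, 7, 1, 7]) (.leaf [0, 3, 0, 3]))))))) (.node (.node (.node (.node (.node (.node (.leaf [2, 6, 2, 6]) (.leaf [8, 6, 2, 6, 8, 7, 1, 7])) (.node (.leaf [0, 2, 0, 6, 2, 6, 0, 2]) (.leaf [0, 3, 0, 3])))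 (.node (.node (.leaf [3, 9, 3, 8, 9, 8]) (.leaf [5, 3, 5, 4, 3, 6, 4])) (.node (.leaf [1, 3, 2, 1, 8, 7, 1, 2]) (.leaf [0, 3, 0, 3])))) (.node (.node (.node (.leaf [7, 2, 9, 7, 1, 3]) (.leaf [9, 3, 2, 3, 8, 9, 2, 8])) (.node (.leaf [8, 9, 0, 8, 9, 7, 0, 7]) (.leaf [0, 3, 0, 3]))) (.node (.node (.leaf [8, 9, 7, 9, 8, 3, 7]) (.leaf [6, 5, 3, 4, 6, 5, 3, 4])) (.node (.leaf [8, 3, 1, 3, 9, 3, 1, 3]) (.leaf [0, 3, 0, 3]))))) (.node (.node (.node (.node (.leaf [9, 3, 0, 3, 8, 0]) (.leaf [7, 9, 1, 8, 7, 8, 2, 8])) (.node (.leaf [8, 9, 0, 8, 9, 3, 0, 3]) (.leaf [0, 3, 0, 3]))) (.node (.node (.leaf [9, 3, 9, 7, 6, 3, 7]) (.leaf [6, 4, 3, 6, 4, 3, 6, 4, 3, 6, 4, 3, 6, 4, 3])) (.node (.leaf [6, 7, 2, 9, 7, 6, 1, 3]) (.leaf [0, 3, 0, 3])))) (.node (.node (.node (.leaf [1, 8, 9, 1, 8, 9]) (.leaf [6, 8, 3, 7, 9, 8, 7, 9])) (.node (.leaf [1, 2, 3, 7, 2, 9, 1, 2]) (.leaf [0, 3, 0, 3]))) (.node (.node (.leaf [0, 1, 0,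 7, 2, 7, 0, 1]) (.leaf [0, 3, 0, 3])) (.node (.leaf [3, 8, 2, 8, 9, 7, 1, 7]) (.leaf [0, 3, 0, 3])))))) (.node (.node (.node (.node (.node (.leaf [6, 3, 9, 3, 9]) (.leaf [7, 9, 1, 8, 7, 3, 2, 9])) (.node (.leaf [7, 8, 0, 9, 7, 3, 0, 3]) (.leaf [0, 3, 0, 3]))) (.node (.node (.leaf [1, 6, 8, 1, 3, 9, 3]) (.leaf [0, 1, 4, 1, 0, 2, 1, 4, 1, 2])) (.node (.leaf [7, 8, 7, 2, 1, 3, 1, 2]) (.leaf [0, 3, 0, 3])))) (.node (.node (.node (.leaf [9, 7, 1, 7, 3, 2]) (.leaf [7, 8, 3, 6, 9, 7, 9, 8])) (.node (.leaf [1, 2, 1, 3, 7, 3, 1, 2]) (.leaf [0, 3, 0, 3]))) (.node (.node (.leaf [9, 3, 8, 7, 9, 8, 7]) (.leaf [6, 4, 3, 4, 2, 1, 4, 3, 4, 6, 1, 2])) (.node (.leaf [9, 3, 1, 9, 8, 9, 1, 3]) (.leaf [0, 3, 0, 3]))))) (.node (.node (.node (.node (.leaf [7, 9, 0, 8, 7, 0]) (.leaf [3, 9, 1, 8, 7, 9, 2, 7])) (.node (.leaf [8, 7, 0, 7, 9, 6, 0, 6]) (.leaf [0, 3, 0, 3]))) (.node (.node (.leaf [6, 3, 9, 7, 3, 7, 9]) (.leaf [6,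 3, 5, 6, 4, 6, 5])) (.node (.leaf [7, 9, 2, 3, 9, 7, 1, 3]) (.leaf [0, 3, 0, 3])))) (.node (.node (.node (.leaf [9, 2, 3, 9, 2, 3]) (.leaf [7, 9, 3, 9, 7, 9, 3, 9])) (.node (.leaf [1, 2, 7, 8, 2, 8, 1, 2]) (.leaf [0, 3, 0, 3]))) (.node (.node (.leaf [2, 1, 2, 1, 0, 7, 0, 1]) (.leaf [0, 3, 0, 3])) (.node (.leaf [6, 3, 2, 6, 9, 7, 1, 7]) (.leaf [0, 3, 0, 3]))))))))) (.node (.node (.node (.node (.node (.node (.node (.node (.leaf [0, 7, 0, 7]) (.leaf [7, 1, 7, 9, 6, 2, 3, 6])) (.node (.leaf [8, 7, 0, 1, 3, 1, 0, 7]) (.leaf [0, 3, 0, 3]))) (.node (.node (.leaf [7, 3, 7, 6, 3, 6]) (.leaf [7, 8, 6, 8, 7, 9, 6, 9])) (.node (.leaf [2, 1, 8, 2, 8, 7, 2, 1]) (.leaf [0, 3, 0, 3])))) (.node (.node (.node (.leaf [1, 2, 1, 2, 1, 7]) (.leaf [9, 7, 2, 7, 8, 9, 1, 8])) (.node (.leaf [6, 0, 6, 9, 7, 0, 7, 8]) (.leaf [0, 3, 0, 3]))) (.node (.node (.leaf [7, 6, 7, 3, 8, 3, 8]) (.leaf [5, 4, 6, 4, 5, 3, 6])) (.node (.leaf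 [3, 1, 7, 9, 3, 2, 9, 7]) (.leaf [0, 3, 0, 3]))))) (.node (.node (.node (.node (.leaf [0, 1, 0, 1, 0, 1]) (.leaf [7, 6, 2, 6, 7, 9, 1, 8])) (.node (.leaf [3, 0, 3, 7, 9, 0, 8, 7]) (.leaf [0, 3, 0, 3]))) (.node (.node (.leaf [7, 8, 3, 8, 7, 3, 6]) (.leaf [5, 1, 0, 2, 1, 5, 1, 2, 0, 1])) (.node (.leaf [9, 7, 1, 3, 1, 3, 7, 3]) (.leaf [0, 3, 0, 3])))) (.node (.node (.node (.leaf [6, 7, 1, 7, 6, 2]) (.leaf [8, 9, 7, 8, 6, 9, 3, 7])) (.node (.leaf [7, 6, 1, 2, 1, 2, 1, 6]) (.leaf [0, 3, 0, 3]))) (.node (.node (.leaf [8, 9, 7, 6, 7, 8, 9]) (.leaf [3, 4, 1, 2, 4, 3, 4, 6, 2, 1, 6, 4])) (.node (.leaf [7, 6, 1, 6, 7, 8, 2, 8]) (.leaf [0, 3, 0, 3])))))) (.node (.node (.node (.node (.node (.leaf [6, 9, 6, 9]) (.leaf [3, 7, 2, 9, 7, 9, 1, 8])) (.node (.leaf [1, 7, 0, 2, 0, 2, 0, 7]) (.leaf [0, 3, 0, 3]))) (.node (.node (.leaf [9, 7, 6, 7, 9, 6]) (.leaf [8, 4, 5, 8, 9, 5, 4, 9, 7])) (.node (.leaf [2, 1, 7, 8, 1, 2,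 3, 1]) (.leaf [0, 3, 0, 3])))) (.node (.node (.node (.leaf [7, 2, 7, 6, 1, 6]) (.leaf [8, 7, 8, 9, 7, 9, 3, 6])) (.node (.leaf [7, 0, 7, 9, 8, 0, 9, 8]) (.leaf [0, 3, 0, 3]))) (.node (.node (.leaf [3, 7, 9, 8, 7, 8, 9]) (.leaf [5, 4, 3, 5, 4, 5, 4, 6])) (.node (.leaf [9, 8, 1, 3, 8, 3, 1, 8]) (.leaf [0, 3, 0, 3]))))) (.node (.node (.node (.node (.leaf [7, 6, 0, 6, 7, 0]) (.leaf [7, 9, 2, 3, 7, 9, 1, 8])) (.node (.leaf [3, 0, 3, 9, 8, 0, 9, 8]) (.leaf [0, 3, 0, 3]))) (.node (.node (.leaf [8, 3, 6, 8, 7, 3, 7]) (.leaf [3, 4, 3, 5, 3, 4, 6])) (.node (.leaf [3, 1, 6, 7, 9, 2, 7, 6]) (.leaf [0, 3, 0, 3])))) (.node (.node (.node (.leaf [6, 9, 2, 6, 3, 2]) (.leaf [7, 8, 3, 8, 7, 8, 3, 8])) (.node (.leaf [2, 1, 9, 2, 7, 3, 2, 1]) (.leaf [0, 3, 0, 3]))) (.node (.node (.leaf [1, 9, 0, 1, 0, 1, 0, 8]) (.leaf [0, 3, 0, 3])) (.node (.leaf [7, 1, 7, 9, 8, 2, 8, 3]) (.leaf [0, 3, 0, 3]))))))) (.node (.node (.node (.node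 (.node (.node (.leaf [2, 3, 2, 9]) (.leaf [7, 1, 7, 8, 9, 2, 3, 8])) (.node (.leaf [2, 0, 9, 2, 3, 0, 2, 0]) (.leaf [0, 3, 0, 3]))) (.node (.node (.leaf [3, 8, 9, 8, 3, 9]) (.leaf [3, 4, 5, 3, 5, 4, 6])) (.node (.leaf [2, 1, 3, 2, 9, 7, 2, 1]) (.leaf [0, 3, 0, 3])))) (.node (.node (.node (.leaf [9, 7, 1, 3, 1, 7]) (.leaf [8, 9, 2, 8, 9, 3, 2, 3])) (.node (.leaf [7, 0, 7, 3, 9, 0, 8, 3]) (.leaf [0, 3, 0, 3]))) (.node (.node (.leaf [7, 3, 9, 3, 9, 7, 6]) (.leaf [3, 6, 3, 4, 6, 4, 6, 4])) (.node (.leaf [3, 1, 7, 9, 7, 9, 1, 8]) (.leaf [0, 3, 0, 3]))))) (.node (.node (.node (.node (.leaf [0, 3, 8, 0, 9, 3]) (.leaf [7, 8, 2, 8, 7, 9, 1, 8])) (.node (.leaf [3, 0, 3, 9, 7, 0, 7, 8]) (.leaf [0, 3, 0, 3]))) (.node (.node (.leaf [3, 9, 7, 3, 6, 7, 9]) (.leaf [5, 6, 4, 5, 6, 4, 5, 6, 4])) (.node (.leaf [7, 6, 1, 3, 1, 6, 7, 9]) (.leaf [0, 3, 0, 3])))) (.node (.node (.node (.leaf [2, 7, 8, 1, 9, 7]) (.leaf [9, 8,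 7, 9, 6, 8, 3, 7])) (.node (.leaf [2, 1, 9, 7, 1, 3, 2, 1]) (.leaf [0, 3, 0, 3]))) (.node (.node (.leaf [1, 6, 0, 1, 0, 1, 0, 6]) (.leaf [0, 3, 0, 3])) (.node (.leaf [6, 1, 6, 9, 7, 2, 7, 8]) (.leaf [0, 3, 0, 3])))))) (.node (.node (.node (.node (.node (.leaf [9, 3, 6, 9, 3]) (.leaf [7, 3, 2, 9, 7, 9, 1, 8])) (.node (.leaf [6, 3, 0, 3, 6, 7, 0, 7]) (.leaf [0, 3, 0, 3]))) (.node (.node (.leaf [1, 3, 9, 3, 1, 6, 8]) (.leaf [7, 5, 7, 5])) (.node (.leaf [2, 1, 2, 8, 7, 2, 1, 3]) (.leaf [0, 3, 0, 3])))) (.node (.node (.node (.leaf [1, 7, 3, 2, 9, 7]) (.leaf [9, 7, 9, 8, 7, 8, 3, 6])) (.node (.leaf [8, 0, 9, 7, 8, 0, 9, 7]) (.leaf [0, 3, 0, 3]))) (.node (.node (.leaf [7, 9, 8, 7, 9, 3, 8]) (.leaf [3, 5, 3, 5, 6, 3, 6, 5])) (.node (.leaf [3, 1, 7, 9, 7, 8, 1, 9]) (.leaf [0, 3, 0, 3]))))) (.node (.node (.node (.node (.leaf [8, 0, 9, 7, 0, 7]) (.leaf [7, 9, 2, 7, 3, 9, 1, 8])) (.node (.leaf [6, 0, 6, 7, 9, 0,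 8, 7]) (.leaf [0, 3, 0, 3]))) (.node (.node (.leaf [7, 3, 7, 9, 6, 3, 9]) (.leaf [6, 4, 6, 5, 6, 3, 5])) (.node (.leaf [3, 1, 7, 9, 8, 2, 8, 7]) (.leaf [0, 3, 0, 3])))) (.node (.node (.node (.leaf [3, 2, 9, 8, 2, 8]) (.leaf [8, 3, 9, 7, 9, 6, 8, 7])) (.node (.leaf [2, 1, 6, 2, 7, 6, 2, 1]) (.leaf [0, 3, 0, 3]))) (.node (.node (.leaf [3, 1, 0, 1, 0, 1, 3, 0]) (.leaf [0, 3, 0, 3])) (.node (.leaf [7, 1, 7, 9, 3, 2, 9, 3]) (.leaf [0, 3, 0, 3])))))))) (.node (.node (.node (.node (.node (.node (.node (.leaf [1, 7, 2, 7]) (.leaf [8, 7, 1, 7, 8, 3, 2, 9])) (.node (.leaf [2, 9, 0, 2, 0, 2, 0, 3]) (.leaf [0, 3, 0, 3]))) (.node (.node (.leaf [8, 9, 3, 8, 3, 9]) (.leaf [4, 3, 4, 5, 6, 5])) (.node (.leaf [2, 3, 1, 2, 1, 2, 7, 9]) (.leaf [0, 3, 0, 3])))) (.node (.node (.node (.leaf [1, 2, 7, 2, 1, 2]) (.leaf [7, 2, 7, 9, 8, 1, 9, 8])) (.node (.leaf [3, 7, 0, 7, 3, 8, 0, 9]) (.leaf [0, 3, 0, 3]))) (.node (.node (.leaf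 [9, 3, 9, 3, 7, 6, 7]) (.leaf [5, 4, 6, 4, 5, 6, 3])) (.node (.leaf [9, 7, 1, 3, 8, 1, 9, 7]) (.leaf [0, 3, 0, 3]))))) (.node (.node (.node (.node (.leaf [6, 3, 0, 3, 6, 0]) (.leaf [6, 2, 6, 7, 8, 1, 9, 7])) (.node (.leaf [9, 3, 0, 3, 8, 7, 0, 7]) (.leaf [0, 3, 0, 3]))) (.node (.node (.leaf [8, 7, 6, 3, 7, 8, 3]) (.leaf [3, 4, 3, 4, 3, 4, 3, 4, 3, 4])) (.node (.leaf [3, 1, 7, 9, 3, 7, 3, 1]) (.leaf [0, 3, 0, 3])))) (.node (.node (.node (.leaf [1, 8, 7, 2, 7, 9]) (.leaf [8, 7, 9, 8, 7, 3, 9, 6])) (.node (.leaf [7, 9, 1, 2, 1, 2, 3, 1]) (.leaf [0, 3, 0, 3]))) (.node (.node (.leaf [7, 6, 7, 9, 8, 9, 8]) (.leaf [2, 1, 6, 4, 3, 4, 1, 2, 4, 3, 4, 6])) (.node (.leaf [9, 6, 1, 6, 8, 7, 2, 7]) (.leaf [0, 3, 0, 3])))))) (.node (.node (.node (.node (.node (.leaf [3, 8, 6, 3, 8]) (.leaf [9, 2, 7, 3, 8, 1, 9, 7])) (.node (.leaf [2, 8, 0, 2, 0, 2, 0, 8]) (.leaf [0, 3, 0, 3]))) (.node (.node (.leaf [9, 1, 3, 8, 3, 1,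 6]) (.leaf [5, 4, 8, 7, 9, 4, 5, 9, 8])) (.node (.leaf [8, 2, 1, 2, 3, 1, 2, 7]) (.leaf [0, 3, 0, 3])))) (.node (.node (.node (.leaf [9, 6, 1, 6, 8, 1]) (.leaf [9, 8, 7, 8, 6, 3, 9, 7])) (.node (.leaf [7, 9, 0, 8, 7, 8, 0, 9]) (.leaf [0, 3, 0, 3]))) (.node (.node (.leaf [8, 7, 8, 9, 7, 3, 9]) (.leaf [5, 3, 4, 5, 6, 4, 5, 4])) (.node (.leaf [9, 7, 1, 3, 9, 1, 8, 7]) (.leaf [0, 3, 0, 3]))))) (.node (.node (.node (.node (.leaf [6, 9, 0, 8, 6, 0]) (.leaf [3, 2, 9, 7, 8, 1, 9, 7])) (.node (.leaf [7, 6, 0, 6, 7, 8, 0, 9]) (.leaf [0, 3, 0, 3]))) (.node (.node (.leaf [3, 6, 9, 7, 3, 7, 9]) (.leaf [4, 3, 5, 3, 4, 3, 6])) (.node (.leaf [9, 7, 1, 3, 7, 8, 2, 8]) (.leaf [0, 3, 0, 3])))) (.node (.node (.node (.leaf [8, 2, 8, 9, 2, 3]) (.leaf [7, 9, 3, 8, 7, 8, 6, 9])) (.node (.leaf [2, 6, 1, 2, 1, 2, 6, 7]) (.leaf [0, 3, 0, 3]))) (.node (.node (.leaf [1, 0, 9, 1, 8, 0, 1, 0]) (.leaf [0, 3, 0, 3])) (.node (.leaf [9,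 7, 1, 7, 3, 9, 2, 3]) (.leaf [0, 3, 0, 3]))))))) (.node (.node (.node (.node (.node (.node (.leaf [3, 6, 3, 6]) (.leaf [8, 7, 1, 7, 8, 6, 2, 6])) (.node (.leaf [2, 6, 0, 2, 0, 2, 0, 6]) (.leaf [0, 3, 0, 3]))) (.node (.node (.leaf [8, 6, 8, 7, 6, 7]) (.leaf [4, 5, 8, 9, 5, 4, 9, 7, 8])) (.node (.leaf [8, 7, 1, 2, 1, 3, 2, 1]) (.leaf [0, 3, 0, 3])))) (.node (.node (.node (.leaf [7, 9, 2, 7, 3, 1]) (.leaf [8, 2, 9, 8, 3, 2, 3, 9])) (.node (.leaf [9, 7, 0, 7, 8, 9, 0, 8]) (.leaf [0, 3, 0, 3]))) (.node (.node (.leaf [8, 3, 7, 8, 9, 7, 9]) (.leaf [4, 3, 5, 6, 4, 3, 5, 6])) (.node (.leaf [9, 3, 1, 3, 8, 3, 1, 3]) (.leaf [0, 3, 0, 3]))))) (.node (.node (.node (.node (.leaf [0, 8, 3, 0, 3, 9]) (.leaf [8, 2, 8, 7, 8, 1, 9, 7])) (.node (.leaf [9, 3, 0, 3, 8, 9, 0, 8]) (.leaf [0, 3, 0, 3]))) (.node (.node (.leaf [6, 3, 7, 9, 3, 9, 7]) (.leaf [4, 6, 3, 4, 6, 3, 4, 6, 3, 4, 6, 3, 4, 6, 3])) (.node (.leaf [7, 6, 1,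 3, 6, 7, 2, 9]) (.leaf [0, 3, 0, 3])))) (.node (.node (.node (.leaf [8, 1, 9, 8, 1, 9]) (.leaf [9, 7, 8, 9, 7, 3, 8, 6])) (.node (.leaf [2, 9, 1, 2, 1, 2, 3, 7]) (.leaf [0, 3, 0, 3]))) (.node (.node (.leaf [2, 7, 0, 1, 0, 1, 0, 7]) (.leaf [0, 3, 0, 3])) (.node (.leaf [9, 7, 1, 7, 3, 8, 2, 8]) (.leaf [0, 3, 0, 3])))))) (.node (.node (.node (.node (.node (.leaf [9, 8, 9, 6, 8]) (.leaf [9, 2, 3, 7, 8, 1, 9, 7])) (.node (.leaf [7, 3, 0, 3, 7, 8, 0, 9]) (.leaf [0, 3, 0, 3]))) (.node (.node (.leaf [6, 1, 3, 9, 3, 1, 8]) (.leaf [0, 2, 1, 4, 1, 2, 0, 1, 4, 1])) (.node (.leaf [1, 3, 1, 2, 7, 8, 7, 2]) (.leaf [0, 3, 0, 3])))) (.node (.node (.node (.leaf [2, 3, 7, 1, 7, 9]) (.leaf [8, 9, 7, 9, 6, 3, 8, 7])) (.node (.leaf [7, 3, 1, 2, 1, 2, 1, 3]) (.leaf [0, 3, 0, 3]))) (.node (.node (.leaf [9, 7, 8, 3, 9, 7, 8]) (.leaf [2, 1, 4, 3, 4, 6, 1, 2, 6, 4, 3, 4])) (.node (.leaf [8, 9, 1, 3, 9, 3, 1, 9]) (.leaf [0, 3, 0,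 3]))))) (.node (.node (.node (.node (.leaf [7, 0, 7, 9, 0, 8]) (.leaf [7, 2, 9, 7, 8, 1, 9, 3])) (.node (.leaf [9, 6, 0, 6, 8, 7, 0, 7]) (.leaf [0, 3, 0, 3]))) (.node (.node (.leaf [6, 7, 8, 3, 8, 3, 7]) (.leaf [4, 6, 5, 3, 6, 5, 6])) (.node (.leaf [9, 7, 1, 3, 7, 9, 2, 3]) (.leaf [0, 3, 0, 3])))) (.node (.node (.node (.leaf [2, 6, 8, 2, 8, 6]) (.leaf [8, 7, 6, 7, 8, 7, 6, 7])) (.node (.leaf [2, 8, 1, 2, 1, 2, 7, 8]) (.leaf [0, 3, 0, 3]))) (.node (.node (.leaf [0, 7, 0, 1, 2, 1, 2, 1]) (.leaf [0, 3, 0, 3])) (.node (.leaf [9, 7, 1, 7, 6, 3, 2, 6]) (.leaf [0, 3, 0, 3])))))))))) (.node (.node (.node (.node (.node (.node (.node (.node (.node (.leaf [0, 6, 0, 6]) (.leaf [3, 6, 7, 1, 7, 9, 6, 2])) (.node (.leaf [0, 7, 8, 7, 0, 1, 3, 1]) (.leaf [0, 3, 0, 3]))) (.node (.node (.leaf [3, 6, 7, 3, 7, 6]) (.leaf [6, 9, 7, 8, 6, 8, 7, 9])) (.node (.leaf [2, 1, 2, 1, 8, 2, 8, 7]) (.leaf [0, 3, 0, 3])))) (.node (.node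 (.node (.leaf [8, 0, 9, 8, 0, 9]) (.leaf [1, 8, 9, 7, 2, 7, 8, 9])) (.node (.leaf [7, 8, 6, 0, 6, 9, 7, 0]) (.leaf [0, 3, 0, 3]))) (.node (.node (.leaf [3, 8, 7, 6, 7, 3, 8]) (.leaf [3, 6, 5, 4, 6, 4, 5])) (.node (.leaf [9, 7, 3, 1, 7, 9, 3, 2]) (.leaf [0, 3, 0, 3]))))) (.node (.node (.node (.node (.leaf [8, 6, 9, 8, 9]) (.leaf [1, 8, 7, 6, 2, 6, 7, 9])) (.node (.leaf [8, 7, 3, 0, 3, 7, 9, 0]) (.leaf [0, 3, 0, 3]))) (.node (.node (.leaf [3, 6, 7, 8, 3, 8, 7]) (.leaf [0, 1, 5, 1, 0, 2, 1, 5, 1, 2])) (.node (.leaf [7, 3, 9, 7, 1, 3, 1, 3]) (.leaf [0, 3, 0, 3])))) (.node (.node (.node (.leaf [6, 2, 6, 7, 1, 7]) (.leaf [3, 7, 8, 9, 7, 8, 6, 9])) (.node (.leaf [1, 6, 7, 6, 1, 2, 1, 2]) (.leaf [0, 3, 0, 3]))) (.node (.node (.leaf [8, 9, 8, 9, 7, 6, 7]) (.leaf [6, 4, 3, 4, 1, 2, 4, 3, 4, 6, 2, 1])) (.node (.leaf [2, 8, 7, 6, 1, 6, 7, 8]) (.leaf [0, 3, 0, 3])))))) (.node (.node (.node (.node (.node (.leaf [6,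 8, 6, 8]) (.leaf [1, 8, 3, 7, 2, 9, 7, 9])) (.node (.leaf [0, 7, 1, 7, 0, 2, 0, 2]) (.leaf [0, 3, 0, 3]))) (.node (.node (.leaf [9, 6, 9, 7, 6, 7]) (.leaf [9, 7, 8, 4, 5, 8, 9, 5, 4])) (.node (.leaf [3, 1, 2, 1, 7, 8, 1, 2]) (.leaf [0, 3, 0, 3])))) (.node (.node (.node (.leaf [1, 6, 7, 2, 7, 6]) (.leaf [3, 6, 8, 7, 8, 9, 7, 9])) (.node (.leaf [9, 8, 7, 0, 7, 9, 8, 0]) (.leaf [0, 3, 0, 3]))) (.node (.node (.leaf [7, 3, 8, 9, 7, 9, 8]) (.leaf [4, 6, 5, 4, 3, 5, 4, 5])) (.node (.leaf [1, 8, 9, 8, 1, 3, 8, 3]) (.leaf [0, 3, 0, 3]))))) (.node (.node (.node (.node (.leaf [7, 0, 7, 6, 0, 6]) (.leaf [1, 8, 7, 9, 2, 3, 7, 9])) (.node (.leaf [9, 8, 3, 0, 3, 9, 8, 0]) (.leaf [0, 3, 0, 3]))) (.node (.node (.leaf [3, 7, 8, 3, 6, 8, 7]) (.leaf [5, 6, 3, 5, 6, 3, 5, 6, 3, 5, 6, 3, 5, 6, 3])) (.node (.leaf [7, 6, 3, 1, 6, 7, 9, 2]) (.leaf [0, 3, 0, 3])))) (.node (.node (.node (.leaf [9, 6, 2, 3, 6, 2]) (.leaf [3, 8,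 7, 8, 3, 8, 7, 8])) (.node (.leaf [2, 1, 2, 1, 9, 2, 7, 3]) (.leaf [0, 3, 0, 3]))) (.node (.node (.leaf [0, 8, 1, 9, 0, 1, 0, 1]) (.leaf [0, 3, 0, 3])) (.node (.leaf [8, 3, 7, 1, 7, 9, 8, 2]) (.leaf [0, 3, 0, 3]))))))) (.node (.node (.node (.node (.node (.node (.leaf [1, 9, 1, 8]) (.leaf [3, 8, 7, 1, 7, 8, 9, 2])) (.node (.leaf [2, 0, 2, 0, 9, 2, 3, 0]) (.leaf [0, 3, 0, 3]))) (.node (.node (.leaf [9, 8, 3, 8, 9, 3]) (.leaf [4, 6, 3, 4, 5, 3, 5])) (.node (.leaf [2, 1, 2, 1, 3, 2, 9, 7]) (.leaf [0, 3, 0, 3])))) (.node (.node (.node (.leaf [1, 7, 9, 7, 1, 3]) (.leaf [2, 3, 8, 9, 2, 8, 9, 3])) (.node (.leaf [8, 3, 7, 0, 7, 3, 9, 0]) (.leaf [0, 3, 0, 3]))) (.node (.node (.leaf [7, 6, 7, 3, 9, 3, 9]) (.leaf [6, 4, 3, 6, 3, 4, 6, 4])) (.node (.leaf [1, 8, 3, 1, 7, 9, 7, 9]) (.leaf [0, 3, 0, 3]))))) (.node (.node (.node (.node (.leaf [7, 3, 0, 3, 7, 0]) (.leaf [1, 8, 7, 8, 2, 8, 7, 9])) (.node (.leaf [7, 8, 3,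 0, 3, 9, 7, 0]) (.leaf [0, 3, 0, 3]))) (.node (.node (.leaf [7, 9, 3, 9, 7, 3, 6]) (.leaf [6, 4, 5, 6, 4, 5, 6, 4, 5])) (.node (.leaf [7, 9, 7, 6, 1, 3, 1, 6]) (.leaf [0, 3, 0, 3])))) (.node (.node (.node (.leaf [9, 7, 2, 7, 8, 1]) (.leaf [3, 7, 9, 8, 7, 9, 6, 8])) (.node (.leaf [2, 1, 2, 1, 9, 7, 1, 3]) (.leaf [0, 3, 0, 3]))) (.node (.node (.leaf [0, 6, 1, 6, 0, 1, 0, 1]) (.leaf [0, 3, 0, 3])) (.node (.leaf [7, 8, 6, 1, 6, 9, 7, 2]) (.leaf [0, 3, 0, 3])))))) (.node (.node (.node (.node (.node (.leaf [9, 3, 9, 3, 6]) (.leaf [1, 8, 7, 3, 2, 9, 7, 9])) (.node (.leaf [0, 7, 6, 3, 0, 3, 6, 7]) (.leaf [0, 3, 0, 3]))) (.node (.node (.leaf [3, 1, 9, 6, 1, 3, 8]) (.leaf [7, 4, 7, 4])) (.node (.leaf [1, 3, 2, 1, 2, 8, 7, 2]) (.leaf [0, 3, 0, 3])))) (.node (.node (.node (.leaf [6, 1, 6, 9, 1, 8]) (.leaf [3, 6, 9, 7, 9, 8, 7, 8])) (.node (.leaf [9, 7, 8, 0, 9, 7, 8, 0]) (.leaf [0, 3, 0, 3]))) (.node (.node (.leaf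 [3, 8, 7, 9, 8, 7, 9]) (.leaf [6, 5, 3, 5, 3, 5, 6, 3])) (.node (.leaf [1, 9, 3, 1, 7, 9, 7, 8]) (.leaf [0, 3, 0, 3]))))) (.node (.node (.node (.node (.leaf [0, 7, 8, 0, 9, 7]) (.leaf [1, 8, 7, 9, 2, 7, 3, 9])) (.node (.leaf [8, 7, 6, 0, 6, 7, 9, 0]) (.leaf [0, 3, 0, 3]))) (.node (.node (.leaf [9, 3, 6, 9, 7, 3, 7]) (.leaf [3, 5, 6, 4, 6, 5, 6])) (.node (.leaf [8, 7, 3, 1, 7, 9, 8, 2]) (.leaf [0, 3, 0, 3])))) (.node (.node (.node (.leaf [2, 8, 3, 2, 9, 8]) (.leaf [8, 7, 8, 3, 9, 7, 9, 6])) (.node (.leaf [2, 1, 2, 1, 6, 2, 7, 6]) (.leaf [0, 3, 0, 3]))) (.node (.node (.leaf [3, 0, 3, 1, 0, 1, 0, 1]) (.leaf [0, 3, 0, 3])) (.node (.leaf [9, 3, 7, 1, 7, 9, 3, 2]) (.leaf [0, 3, 0, 3])))))))) (.node (.node (.node (.node (.node (.node (.node (.leaf [1, 6, 1, 6]) (.leaf [2, 9, 8, 7, 1, 7, 8, 3])) (.node (.leaf [0, 3, 2, 9, 0, 2, 0, 2]) (.leaf [0, 3, 0, 3]))) (.node (.node (.leaf [3, 9, 8, 9, 3, 8]) (.leaf [6,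 5, 4, 3, 4, 5])) (.node (.leaf [7, 9, 2, 3, 1, 2, 1, 2]) (.leaf [0, 3, 0, 3])))) (.node (.node (.node (.leaf [1, 2, 1, 2, 7, 2]) (.leaf [9, 8, 7, 2, 7, 9, 8, 1])) (.node (.leaf [0, 9, 3, 7, 0, 7, 3, 8]) (.leaf [0, 3, 0, 3]))) (.node (.node (.leaf [6, 7, 9, 3, 9, 3, 7]) (.leaf [6, 3, 5, 4, 6, 4, 5])) (.node (.leaf [9, 7, 9, 7, 1, 3, 8, 1]) (.leaf [0, 3, 0, 3]))))) (.node (.node (.node (.node (.leaf [6, 0, 6, 3, 0, 3]) (.leaf [9, 7, 6, 2, 6, 7, 8, 1])) (.node (.leaf [0, 7, 9, 3, 0, 3, 8, 7]) (.leaf [0, 3, 0, 3]))) (.node (.node (.leaf [8, 3, 8, 7, 6, 3, 7]) (.leaf [6, 4, 6, 4, 6, 4])) (.node (.leaf [3, 1, 3, 1, 7, 9, 3, 7]) (.leaf [0, 3, 0, 3])))) (.node (.node (.node (.leaf [8, 7, 1, 7, 8, 2]) (.leaf [9, 6, 8, 7, 9, 8, 7, 3])) (.node (.leaf [3, 1, 7, 9, 1, 2, 1, 2]) (.leaf [0, 3, 0, 3]))) (.node (.node (.leaf [9, 8, 7, 6, 7, 9, 8]) (.leaf [4, 6, 2, 1, 6, 4, 3, 4, 1, 2, 4, 3])) (.node (.leaf [2, 7, 9, 6,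 1, 6, 8, 7]) (.leaf [0, 3, 0, 3])))))) (.node (.node (.node (.node (.node (.leaf [8, 3, 6, 8, 3]) (.leaf [9, 7, 9, 2, 7, 3, 8, 1])) (.node (.leaf [0, 8, 2, 8, 0, 2, 0, 2]) (.leaf [0, 3, 0, 3]))) (.node (.node (.leaf [1, 6, 9, 1, 3, 8, 3]) (.leaf [9, 8, 5, 4, 8, 7, 9, 4, 5])) (.node (.leaf [2, 7, 8, 2, 1, 2, 3, 1]) (.leaf [0, 3, 0, 3])))) (.node (.node (.node (.leaf [8, 1, 9, 6, 1, 6]) (.leaf [9, 7, 9, 8, 7, 8, 6, 3])) (.node (.leaf [0, 9, 7, 9, 0, 8, 7, 8]) (.leaf [0, 3, 0, 3]))) (.node (.node (.leaf [9, 3, 7, 9, 8, 7, 8]) (.leaf [5, 4, 5, 3, 4, 5, 6, 4])) (.node (.leaf [8, 7, 9, 7, 1, 3, 9, 1]) (.leaf [0, 3, 0, 3]))))) (.node (.node (.node (.node (.leaf [9, 6, 0, 6, 8, 0]) (.leaf [9, 7, 3, 2, 9, 7, 8, 1])) (.node (.leaf [0, 9, 7, 6, 0, 6, 7, 8]) (.leaf [0, 3, 0, 3]))) (.node (.node (.leaf [6, 3, 8, 7, 3, 7, 8]) (.leaf [6, 3, 4, 3, 5, 3, 4])) (.node (.leaf [2, 8, 9, 7, 1, 3, 7, 8]) (.leaf [0, 3, 0, 3]))))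 (.node (.node (.node (.leaf [2, 3, 8, 2, 8, 9]) (.leaf [6, 9, 7, 9, 3, 8, 7, 8])) (.node (.leaf [6, 7, 2, 6, 1, 2, 1, 2]) (.leaf [0, 3, 0, 3]))) (.node (.node (.leaf [1, 0, 1, 0, 9, 1, 8, 0]) (.leaf [0, 3, 0, 3])) (.node (.leaf [2, 3, 9, 7, 1, 7, 3, 9]) (.leaf [0, 3, 0, 3]))))))) (.node (.node (.node (.node (.node (.node (.leaf [2, 8, 2, 8]) (.leaf [2, 6, 8, 7, 1, 7, 8, 6])) (.node (.leaf [0, 6, 2, 6, 0, 2, 0, 2]) (.leaf [0, 3, 0, 3]))) (.node (.node (.leaf [6, 7, 8, 6, 8, 7]) (.leaf [5, 4, 3, 6, 4, 5, 3])) (.node (.leaf [2, 1, 8, 7, 1, 2, 1, 3]) (.leaf [0, 3, 0, 3])))) (.node (.node (.node (.leaf [9, 7, 1, 3, 7, 2]) (.leaf [3, 9, 8, 2, 9, 8, 3, 2])) (.node (.leaf [0, 8, 9, 7, 0, 7, 8, 9]) (.leaf [0, 3, 0, 3]))) (.node (.node (.leaf [7, 9, 8, 3, 7, 8, 9]) (.leaf [5, 6, 4, 3, 5, 6, 4, 3])) (.node (.leaf [1, 3, 9, 3, 1, 3, 8, 3]) (.leaf [0, 3, 0, 3]))))) (.node (.node (.node (.node (.leaf [3, 9, 0, 8, 3,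 0]) (.leaf [9, 7, 8, 2, 8, 7, 8, 1])) (.node (.leaf [0, 8, 9, 3, 0, 3, 8, 9]) (.leaf [0, 3, 0, 3]))) (.node (.node (.leaf [9, 7, 6, 3, 7, 9, 3]) (.leaf [3, 6, 4, 3, 6, 4, 3, 6, 4, 3, 6, 4, 3, 6, 4])) (.node (.leaf [2, 9, 7, 6, 1, 3, 6, 7]) (.leaf [0, 3, 0, 3])))) (.node (.node (.node (.leaf [9, 1, 8, 9, 1, 8]) (.leaf [8, 6, 9, 7, 8, 9, 7, 3])) (.node (.leaf [3, 7, 2, 9, 1, 2, 1, 2]) (.leaf [0, 3, 0, 3]))) (.node (.node (.leaf [0, 7, 2, 7, 0, 1, 0, 1]) (.leaf [0, 3, 0, 3])) (.node (.leaf [2, 8, 9, 7, 1, 7, 3, 8]) (.leaf [0, 3, 0, 3])))))) (.node (.node (.node (.node (.node (.leaf [6, 8, 9, 8, 9]) (.leaf [9, 7, 9, 2, 3, 7, 8, 1])) (.node (.leaf [0, 9, 7, 3, 0, 3, 7, 8]) (.leaf [0, 3, 0, 3]))) (.node (.node (.leaf [8, 1, 3, 9, 3, 1, 6]) (.leaf [4, 1, 0, 2, 1, 4, 1, 2, 0, 1])) (.node (.leaf [7, 2, 1, 3, 1, 2, 7, 8]) (.leaf [0, 3, 0, 3])))) (.node (.node (.node (.leaf [7, 9, 2, 3, 7, 1]) (.leaf [8, 7, 8, 9,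 7, 9, 6, 3])) (.node (.leaf [1, 3, 7, 3, 1, 2, 1, 2]) (.leaf [0, 3, 0, 3]))) (.node (.node (.leaf [7, 8, 9, 7, 8, 3, 9]) (.leaf [3, 4, 2, 1, 4, 3, 4, 6, 1, 2, 6, 4])) (.node (.leaf [1, 9, 8, 9, 1, 3, 9, 3]) (.leaf [0, 3, 0, 3]))))) (.node (.node (.node (.node (.leaf [0, 8, 7, 0, 7, 9]) (.leaf [9, 3, 7, 2, 9, 7, 8, 1])) (.node (.leaf [0, 7, 9, 6, 0, 6, 8, 7]) (.leaf [0, 3, 0, 3]))) (.node (.node (.leaf [3, 7, 6, 7, 8, 3, 8]) (.leaf [5, 6, 4, 6, 5, 3, 6])) (.node (.leaf [2, 3, 9, 7, 1, 3, 7, 9]) (.leaf [0, 3, 0, 3])))) (.node (.node (.node (.leaf [3, 2, 9, 3, 2, 9]) (.leaf [6, 7, 8, 7, 6, 7, 8, 7])) (.node (.leaf [7, 8, 2, 8, 1, 2, 1, 2]) (.leaf [0, 3, 0, 3]))) (.node (.node (.leaf [2, 1, 0, 7, 0, 1, 2, 1]) (.leaf [0, 3, 0, 3])) (.node (.leaf [2, 6, 9, 7, 1, 7, 6, 3]) (.leaf [0, 3, 0, 3]))))))))) (.node (.node (.node (.node (.node (.node (.node (.node (.leaf [0, 8, 0, 9]) (.leaf [1, 7, 8, 3, 2, 9, 8, 7]))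 (.node (.leaf [0, 2, 0, 2, 0, 3, 2, 9]) (.leaf [0, 3, 0, 3]))) (.node (.node (.leaf [7, 6, 3, 6, 7, 3]) (.leaf [4, 5, 4, 5, 4, 5])) (.node (.leaf [1, 2, 1, 2, 7, 9, 2, 3]) (.leaf [0, 3, 0, 3])))) (.node (.node (.node (.leaf [1, 2, 1, 7, 1, 2]) (.leaf [2, 7, 8, 9, 1, 8, 9, 7])) (.node (.leaf [0, 7, 3, 8, 0, 9, 3, 7]) (.leaf [0, 3, 0, 3]))) (.node (.node (.leaf [7, 3, 8, 3, 8, 7, 6]) (.leaf [6, 4, 5, 3, 6, 5, 4])) (.node (.leaf [1, 3, 8, 1, 9, 7, 9, 7]) (.leaf [0, 3, 0, 3]))))) (.node (.node (.node (.node (.leaf [0, 2, 0, 2, 0, 2]) (.leaf [2, 6, 7, 9, 1, 8, 7, 6])) (.node (.leaf [0, 3, 8, 7, 0, 7, 9, 3]) (.leaf [0, 3, 0, 3]))) (.node (.node (.leaf [3, 8, 7, 3, 6, 7, 8]) (.leaf [0, 2, 1, 5, 1, 2, 0, 1, 5, 1])) (.node (.leaf [7, 9, 3, 7, 3, 1, 3, 1]) (.leaf [0, 3, 0, 3])))) (.node (.node (.node (.leaf [1, 7, 8, 2, 8, 7]) (.leaf [7, 8, 6, 9, 3, 7, 8, 9])) (.node (.leaf [1, 2, 1, 2, 3, 1, 7, 9]) (.leaf [0,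 3, 0, 3]))) (.node (.node (.leaf [7, 6, 7, 8, 9, 8, 9]) (.leaf [1, 2, 4, 3, 4, 6, 2, 1, 6, 4, 3, 4])) (.node (.leaf [1, 6, 8, 7, 2, 7, 9, 6]) (.leaf [0, 3, 0, 3])))))) (.node (.node (.node (.node (.node (.leaf [3, 6, 8, 3, 8]) (.leaf [2, 9, 7, 9, 1, 8, 3, 7])) (.node (.leaf [0, 2, 0, 2, 0, 8, 2, 8]) (.leaf [0, 3, 0, 3]))) (.node (.node (.leaf [1, 3, 8, 3, 1, 6, 9]) (.leaf [7, 9, 4, 5, 9, 8, 5, 4, 8])) (.node (.leaf [1, 2, 3, 1, 2, 7, 8, 2]) (.leaf [0, 3, 0, 3])))) (.node (.node (.node (.leaf [7, 6, 1, 6, 7, 2]) (.leaf [8, 9, 7, 9, 3, 6, 8, 7])) (.node (.leaf [0, 8, 7, 8, 0, 9, 7, 9]) (.leaf [0, 3, 0, 3]))) (.node (.node (.leaf [9, 8, 7, 8, 9, 3, 7]) (.leaf [4, 5, 6, 4, 5, 4, 5, 3])) (.node (.leaf [1, 3, 9, 1, 8, 7, 9, 7]) (.leaf [0, 3, 0, 3]))))) (.node (.node (.node (.node (.leaf [0, 6, 8, 0, 9, 6]) (.leaf [2, 3, 7, 9, 1, 8, 7, 9])) (.node (.leaf [0, 6, 7, 8, 0, 9, 7, 6]) (.leaf [0, 3, 0, 3]))) (.node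 (.node (.leaf [7, 3, 7, 8, 6, 3, 8]) (.leaf [3, 5, 3, 4, 6, 3, 4])) (.node (.leaf [1, 3, 7, 8, 2, 8, 9, 7]) (.leaf [0, 3, 0, 3])))) (.node (.node (.node (.leaf [2, 6, 3, 2, 6, 9]) (.leaf [3, 8, 7, 8, 6, 9, 7, 9])) (.node (.leaf [1, 2, 1, 2, 6, 7, 2, 6]) (.leaf [0, 3, 0, 3]))) (.node (.node (.leaf [9, 1, 8, 0, 1, 0, 1, 0]) (.leaf [0, 3, 0, 3])) (.node (.leaf [1, 7, 3, 9, 2, 3, 9, 7]) (.leaf [0, 3, 0, 3]))))))) (.node (.node (.node (.node (.node (.node (.leaf [2, 9, 2, 3]) (.leaf [1, 7, 8, 6, 2, 6, 8, 7])) (.node (.leaf [0, 2, 0, 2, 0, 6, 2, 6]) (.leaf [0, 3, 0, 3]))) (.node (.node (.leaf [9, 8, 3, 9, 3, 8]) (.leaf [6, 4, 5, 3, 5, 4, 3])) (.node (.leaf [1, 2, 1, 3, 2, 1, 8, 7]) (.leaf [0, 3, 0, 3])))) (.node (.node (.node (.leaf [1, 3, 7, 2, 9, 7]) (.leaf [2, 8, 9, 3, 2, 3, 8, 9])) (.node (.leaf [0, 7, 8, 9, 0, 8, 9, 7]) (.leaf [0, 3, 0, 3]))) (.node (.node (.leaf [3, 7, 8, 9, 7, 9, 8]) (.leaf [3, 4, 6,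 5, 3, 4, 6, 5])) (.node (.leaf [1, 3, 8, 3, 1, 3, 9, 3]) (.leaf [0, 3, 0, 3]))))) (.node (.node (.node (.node (.leaf [8, 0, 9, 3, 0, 3]) (.leaf [2, 8, 7, 9, 1, 8, 7, 8])) (.node (.leaf [0, 3, 8, 9, 0, 8, 9, 3]) (.leaf [0, 3, 0, 3]))) (.node (.node (.leaf [7, 3, 6, 7, 9, 3, 9]) (.leaf [4, 6, 5, 4, 6, 5, 4, 6, 5])) (.node (.leaf [1, 3, 6, 7, 2, 9, 7, 6]) (.leaf [0, 3, 0, 3])))) (.node (.node (.node (.leaf [8, 1, 9, 7, 2, 7]) (.leaf [7, 9, 6, 8, 3, 7, 9, 8])) (.node (.leaf [1, 2, 1, 2, 3, 7, 2, 9]) (.leaf [0, 3, 0, 3]))) (.node (.node (.leaf [0, 1, 0, 1, 0, 7, 2, 7]) (.leaf [0, 3, 0, 3])) (.node (.leaf [1, 7, 3, 8, 2, 8, 9, 7]) (.leaf [0, 3, 0, 3])))))) (.node (.node (.node (.node (.node (.leaf [3, 9, 6, 3, 9]) (.leaf [2, 9, 7, 9, 1, 8, 7, 3])) (.node (.leaf [0, 3, 7, 8, 0, 9, 7, 3]) (.leaf [0, 3, 0, 3]))) (.node (.node (.leaf [9, 3, 1, 6, 8, 1, 3]) (.leaf [1, 2, 0, 1, 4, 1, 0, 2, 1, 4])) (.node (.leaf [1,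 2, 7, 8, 7, 2, 1, 3]) (.leaf [0, 3, 0, 3])))) (.node (.node (.node (.leaf [3, 2, 9, 7, 1, 7]) (.leaf [9, 8, 7, 8, 3, 6, 9, 7])) (.node (.leaf [1, 2, 1, 2, 1, 3, 7, 3]) (.leaf [0, 3, 0, 3]))) (.node (.node (.leaf [8, 7, 9, 3, 8, 7, 9]) (.leaf [1, 2, 6, 4, 3, 4, 2, 1, 4, 3, 4, 6])) (.node (.leaf [1, 3, 9, 3, 1, 9, 8, 9]) (.leaf [0, 3, 0, 3]))))) (.node (.node (.node (.node (.leaf [9, 7, 0, 7, 8, 0]) (.leaf [2, 7, 3, 9, 1, 8, 7, 9])) (.node (.leaf [0, 6, 8, 7, 0, 7, 9, 6]) (.leaf [0, 3, 0, 3]))) (.node (.node (.leaf [7, 9, 6, 3, 9, 7, 3]) (.leaf [6, 5, 6, 3, 5, 6, 4])) (.node (.leaf [1, 3, 7, 9, 2, 3, 9, 7]) (.leaf [0, 3, 0, 3])))) (.node (.node (.node (.leaf [2, 3, 9, 2, 3, 9]) (.leaf [3, 9, 7, 9, 3, 9, 7, 9])) (.node (.leaf [1, 2, 1, 2, 7, 8, 2, 8]) (.leaf [0, 3, 0, 3]))) (.node (.node (.leaf [0, 1, 2, 1, 2, 1, 0, 7]) (.leaf [0, 3, 0, 3])) (.node (.leaf [1, 7, 6, 3, 2, 6, 9, 7]) (.leaf [0, 3, 0, 3]))))))))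 (.node (.node (.node (.node (.node (.node (.node (.leaf [2, 7, 1, 7]) (.leaf [7, 8, 9, 2, 3, 8, 7, 1])) (.node (.leaf [9, 2, 3, 0, 2, 0, 2, 0]) (.leaf [0, 3, 0, 3]))) (.node (.node (.leaf [3, 8, 9, 3, 9, 8]) (.leaf [4, 5, 3, 5, 4, 6, 3])) (.node (.leaf [3, 2, 9, 7, 2, 1, 2, 1]) (.leaf [0, 3, 0, 3])))) (.node (.node (.node (.leaf [7, 2, 1, 2, 1, 2]) (.leaf [7, 9, 8, 1, 9, 8, 7, 2])) (.node (.leaf [7, 3, 9, 0, 8, 3, 7, 0]) (.leaf [0, 3, 0, 3]))) (.node (.node (.leaf [9, 3, 7, 6, 7, 9, 3]) (.leaf [3, 4, 6, 4, 6, 4, 3, 6])) (.node (.leaf [7, 9, 7, 9, 1, 8, 3, 1]) (.leaf [0, 3, 0, 3]))))) (.node (.node (.node (.node (.leaf [0, 3, 7, 0, 7, 3]) (.leaf [6, 7, 8, 1, 9, 7, 6, 2])) (.node (.leaf [3, 9, 7, 0, 7, 8, 3, 0]) (.leaf [0, 3, 0, 3]))) (.node (.node (.leaf [6, 3, 7, 8, 3, 8, 7]) (.leaf [6, 5, 6, 5, 6, 5, 6, 5, 6, 5])) (.node (.leaf [1, 3, 1, 6, 7, 9, 7, 6]) (.leaf [0, 3, 0, 3])))) (.node (.node (.node (.leaf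 [7, 2, 7, 9, 1, 8]) (.leaf [9, 8, 7, 3, 9, 6, 8, 7])) (.node (.leaf [9, 7, 1, 3, 2, 1, 2, 1]) (.leaf [0, 3, 0, 3]))) (.node (.node (.leaf [0, 1, 0, 1, 0, 6, 1, 6]) (.leaf [0, 3, 0, 3])) (.node (.leaf [6, 9, 7, 2, 7, 8, 6, 1]) (.leaf [0, 3, 0, 3])))))) (.node (.node (.node (.node (.node (.leaf [6, 3, 8, 3, 8]) (.leaf [7, 3, 8, 1, 9, 7, 9, 2])) (.node (.leaf [0, 3, 6, 7, 0, 7, 6, 3]) (.leaf [0, 3, 0, 3]))) (.node (.node (.leaf [6, 1, 3, 8, 3, 1, 9]) (.leaf [0, 4, 0, 4])) (.node (.leaf [2, 8, 7, 2, 1, 3, 2, 1]) (.leaf [0, 3, 0, 3])))) (.node (.node (.node (.leaf [6, 9, 1, 8, 6, 1]) (.leaf [7, 8, 6, 3, 9, 7, 9, 8])) (.node (.leaf [0, 8, 7, 9, 0, 8, 7, 9]) (.leaf [0, 3, 0, 3]))) (.node (.node (.leaf [8, 9, 7, 3, 9, 8, 7]) (.leaf [3, 5, 6, 3, 6, 5, 3, 5])) (.node (.leaf [7, 9, 7, 8, 1, 9, 3, 1]) (.leaf [0, 3, 0, 3]))))) (.node (.node (.node (.node (.leaf [0, 8, 6, 0, 6, 9]) (.leaf [9, 7, 8, 1, 9, 7, 3, 2]))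 (.node (.leaf [6, 7, 9, 0, 8, 7, 6, 0]) (.leaf [0, 3, 0, 3]))) (.node (.node (.leaf [9, 7, 3, 7, 9, 3, 6]) (.leaf [5, 3, 4, 3, 6, 4, 3])) (.node (.leaf [7, 9, 8, 2, 8, 7, 3, 1]) (.leaf [0, 3, 0, 3])))) (.node (.node (.node (.leaf [8, 9, 2, 3, 8, 2]) (.leaf [9, 7, 9, 6, 8, 7, 8, 3])) (.node (.leaf [6, 2, 7, 6, 2, 1, 2, 1]) (.leaf [0, 3, 0, 3]))) (.node (.node (.leaf [0, 1, 0, 1, 3, 0, 3, 1]) (.leaf [0, 3, 0, 3])) (.node (.leaf [7, 9, 3, 2, 9, 3, 7, 1]) (.leaf [0, 3, 0, 3]))))))) (.node (.node (.node (.node (.node (.node (.leaf [3, 7, 3, 7]) (.leaf [1, 7, 8, 7, 1, 7, 8, 7])) (.node (.leaf [0, 2, 0, 2, 0, 7, 1, 7]) (.leaf [0, 3, 0, 3]))) (.node (.node (.leaf [8, 7, 6, 7, 8, 6]) (.leaf [8, 9, 5, 4, 9, 7, 8, 4, 5])) (.node (.leaf [7, 8, 1, 2, 3, 1, 2, 1]) (.leaf [0, 3, 0, 3])))) (.node (.node (.node (.leaf [2, 7, 3, 1, 7, 9]) (.leaf [9, 8, 3, 2, 3, 9, 8, 2])) (.node (.leaf [7, 9, 8, 0, 9, 8, 7, 0]) (.leaf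 [0, 3, 0, 3]))) (.node (.node (.leaf [9, 7, 9, 8, 7, 3, 8]) (.leaf [3, 5, 4, 5, 4, 6, 5, 4])) (.node (.leaf [1, 3, 8, 3, 1, 8, 9, 8]) (.leaf [0, 3, 0, 3]))))) (.node (.node (.node (.node (.leaf [3, 0, 3, 9, 0, 8]) (.leaf [8, 7, 8, 1, 9, 7, 8, 2])) (.node (.leaf [3, 9, 8, 0, 9, 8, 3, 0]) (.leaf [0, 3, 0, 3]))) (.node (.node (.leaf [3, 6, 8, 7, 3, 7, 8]) (.leaf [6, 5, 3, 6, 5, 3, 6, 5, 3, 6, 5, 3, 6, 5, 3])) (.node (.leaf [6, 7, 9, 2, 7, 6, 3, 1]) (.leaf [0, 3, 0, 3])))) (.node (.node (.node (.leaf [2, 3, 6, 2, 9, 6]) (.leaf [8, 9, 7, 3, 8, 6, 9, 7])) (.node (.leaf [9, 2, 7, 3, 2, 1, 2, 1]) (.leaf [0, 3, 0, 3]))) (.node (.node (.leaf [0, 1, 0, 1, 0, 8, 1, 9]) (.leaf [0, 3, 0, 3])) (.node (.leaf [7, 9, 8, 2, 8, 3, 7, 1]) (.leaf [0, 3, 0, 3])))))) (.node (.node (.node (.node (.node (.leaf [9, 6, 8, 9, 8]) (.leaf [3, 7, 8, 1, 9, 7, 9, 2])) (.node (.leaf [3, 7, 9, 0, 8, 7, 3, 0]) (.leaf [0, 3, 0, 3]))) (.node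 (.node (.leaf [3, 9, 3, 1, 8, 6, 1]) (.leaf [1, 4, 1, 2, 0, 1, 4, 1, 0, 2])) (.node (.leaf [1, 3, 1, 3, 7, 3, 9, 7]) (.leaf [0, 3, 0, 3])))) (.node (.node (.node (.leaf [7, 1, 7, 9, 2, 3]) (.leaf [7, 9, 6, 3, 8, 7, 8, 9])) (.node (.leaf [1, 2, 1, 2, 1, 6, 7, 6]) (.leaf [0, 3, 0, 3]))) (.node (.node (.leaf [8, 3, 9, 7, 8, 9, 7]) (.leaf [4, 3, 4, 6, 1, 2, 6, 4, 3, 4, 2, 1])) (.node (.leaf [1, 6, 7, 8, 2, 8, 7, 6]) (.leaf [0, 3, 0, 3]))))) (.node (.node (.node (.node (.leaf [0, 8, 9, 0, 8, 9]) (.leaf [9, 7, 8, 1, 9, 3, 7, 2])) (.node (.leaf [6, 9, 7, 0, 7, 8, 6, 0]) (.leaf [0, 3, 0, 3]))) (.node (.node (.leaf [8, 3, 8, 3, 7, 6, 7]) (.leaf [5, 3, 6, 5, 6, 4, 6])) (.node (.leaf [7, 9, 3, 2, 9, 7, 3, 1]) (.leaf [0, 3, 0, 3])))) (.node (.node (.node (.leaf [8, 2, 8, 6, 2, 6]) (.leaf [6, 8, 7, 9, 6, 9, 7, 8])) (.node (.leaf [8, 2, 8, 7, 2, 1, 2, 1]) (.leaf [0, 3, 0, 3]))) (.node (.node (.leaf [0, 1, 3, 1, 0,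 7, 8, 7]) (.leaf [0, 3, 0, 3])) (.node (.leaf [7, 9, 6, 2, 3, 6, 7, 1]) (.leaf [0, 3, 0, 3]))))))))))) (.node (.node (.node (.node (.node (.node (.node (.node (.node (.node (.leaf [3, 0, 3, 0]) (.leaf [2, 3, 6, 7, 1, 7, 9, 6])) (.node (.leaf [1, 0, 7, 8, 7, 0, 1, 3]) (.leaf [0, 3, 0, 3]))) (.node (.node (.leaf [6, 2, 6, 8, 2, 8]) (.leaf [9, 6, 9, 7, 8, 6, 8, 7])) (.node (.leaf [7, 2, 1, 2, 1, 8, 2, 8]) (.leaf [0, 3, 0, 3])))) (.node (.node (.node (.leaf [9, 8, 0, 9, 8, 0]) (.leaf [1, 9, 3, 7, 2, 9, 7, 8])) (.node (.leaf [0, 7, 8, 6, 0, 6, 9, 7]) (.leaf [0, 3, 0, 3]))) (.node (.node (.leaf [8, 3, 8, 7, 6, 7, 3]) (.leaf [5, 3, 6, 5, 4, 6, 4])) (.node (.leaf [2, 9, 7, 3, 1, 7, 9, 3]) (.leaf [0, 3, 0, 3]))))) (.node (.node (.node (.node (.leaf [9, 8, 6, 9, 8]) (.leaf [1, 9, 7, 9, 2, 3, 7, 8])) (.node (.leaf [0, 8, 7, 3, 0, 3, 7, 9]) (.leaf [0, 3, 0, 3]))) (.node (.node (.leaf [1, 8, 6, 1, 3, 9, 3]) (.leaf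 [2, 0, 1, 5, 1, 0, 2, 1, 5, 1])) (.node (.leaf [3, 7, 3, 9, 7, 1, 3, 1]) (.leaf [0, 3, 0, 3])))) (.node (.node (.node (.leaf [7, 6, 2, 6, 7, 1]) (.leaf [3, 8, 7, 8, 9, 7, 9, 6])) (.node (.leaf [2, 1, 6, 7, 6, 1, 2, 1]) (.leaf [0, 3, 0, 3]))) (.node (.node (.leaf [7, 8, 9, 8, 9, 7, 6]) (.leaf [6, 1, 2, 6, 4, 3, 4, 2, 1, 4, 3, 4])) (.node (.leaf [8, 2, 8, 7, 6, 1, 6, 7]) (.leaf [0, 3, 0, 3])))))) (.node (.node (.node (.node (.node (.leaf [7, 6, 7, 6]) (.leaf [7, 1, 7, 8, 7, 1, 7, 8])) (.node (.leaf [2, 0, 7, 1, 7, 0, 2, 0]) (.leaf [0, 3, 0, 3]))) (.node (.node (.leaf [7, 9, 6, 9, 7, 6]) (.leaf [4, 9, 7, 8, 4, 5, 8, 9, 5])) (.node (.leaf [2, 3, 1, 2, 1, 7, 8, 1]) (.leaf [0, 3, 0, 3])))) (.node (.node (.node (.leaf [1, 7, 9, 2, 7, 3]) (.leaf [2, 3, 9, 8, 2, 9, 8, 3])) (.node (.leaf [0, 9, 8, 7, 0, 7, 9, 8]) (.leaf [0, 3, 0, 3]))) (.node (.node (.leaf [8, 7, 3, 8, 9, 7, 9]) (.leaf [5, 4, 6, 5, 4, 3, 5, 4]))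 (.node (.leaf [3, 1, 8, 9, 8, 1, 3, 8]) (.leaf [0, 3, 0, 3]))))) (.node (.node (.node (.node (.leaf [6, 7, 0, 7, 6, 0]) (.leaf [1, 9, 7, 8, 2, 8, 7, 8])) (.node (.leaf [0, 9, 8, 3, 0, 3, 9, 8]) (.leaf [0, 3, 0, 3]))) (.node (.node (.leaf [7, 3, 7, 8, 3, 6, 8]) (.leaf [3, 5, 6, 3, 5, 6, 3, 5, 6, 3, 5, 6, 3, 5, 6])) (.node (.leaf [2, 7, 6, 3, 1, 6, 7, 9]) (.leaf [0, 3, 0, 3])))) (.node (.node (.node (.leaf [2, 9, 6, 2, 3, 6]) (.leaf [3, 8, 6, 9, 7, 8, 9, 7])) (.node (.leaf [3, 2, 1, 2, 1, 9, 2, 7]) (.leaf [0, 3, 0, 3]))) (.node (.node (.leaf [1, 0, 8, 1, 9, 0, 1, 0]) (.leaf [0, 3, 0, 3])) (.node (.leaf [2, 8, 3, 7, 1, 7, 9, 8]) (.leaf [0, 3, 0, 3]))))))) (.node (.node (.node (.node (.node (.node (.leaf [8, 1, 9, 1]) (.leaf [2, 3, 8, 7, 1, 7, 8, 9])) (.node (.leaf [0, 2, 0, 2, 0, 9, 2, 3]) (.leaf [0, 3, 0, 3]))) (.node (.node (.leaf [3, 9, 8, 3, 8, 9]) (.leaf [5, 4, 6, 3, 4, 5, 3])) (.node (.leaf [7, 2,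 1, 2, 1, 3, 2, 9]) (.leaf [0, 3, 0, 3])))) (.node (.node (.node (.leaf [3, 1, 7, 9, 7, 1]) (.leaf [1, 9, 8, 7, 2, 7, 9, 8])) (.node (.leaf [0, 8, 3, 7, 0, 7, 3, 9]) (.leaf [0, 3, 0, 3]))) (.node (.node (.leaf [9, 7, 6, 7, 3, 9, 3]) (.leaf [4, 6, 4, 3, 6, 3, 4, 6])) (.node (.leaf [9, 1, 8, 3, 1, 7, 9, 7]) (.leaf [0, 3, 0, 3]))))) (.node (.node (.node (.node (.leaf [0, 7, 3, 0, 3, 7]) (.leaf [1, 9, 7, 6, 2, 6, 7, 8])) (.node (.leaf [0, 7, 8, 3, 0, 3, 9, 7]) (.leaf [0, 3, 0, 3]))) (.node (.node (.leaf [6, 7, 9, 3, 9, 7, 3]) (.leaf [5, 3, 5, 3, 5, 3])) (.node (.leaf [6, 7, 9, 7, 6, 1, 3, 1]) (.leaf [0, 3, 0, 3])))) (.node (.node (.node (.leaf [9, 1, 8, 7, 2, 7]) (.leaf [3, 9, 6, 8, 7, 9, 8, 7])) (.node (.leaf [3, 2, 1, 2, 1, 9, 7, 1]) (.leaf [0, 3, 0, 3]))) (.node (.node (.leaf [1, 0, 6, 1, 6, 0, 1, 0]) (.leaf [0, 3, 0, 3])) (.node (.leaf [2, 7, 8, 6, 1, 6, 9, 7]) (.leaf [0, 3, 0, 3])))))) (.node (.node (.node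 (.node (.node (.leaf [6, 9, 3, 9, 3]) (.leaf [1, 9, 7, 9, 2, 7, 3, 8])) (.node (.leaf [7, 0, 7, 6, 3, 0, 3, 6]) (.leaf [0, 3, 0, 3]))) (.node (.node (.leaf [8, 3, 1, 9, 6, 1, 3]) (.leaf [5, 0, 5, 0])) (.node (.leaf [2, 1, 3, 2, 1, 2, 8, 7]) (.leaf [0, 3, 0, 3])))) (.node (.node (.node (.leaf [8, 6, 1, 6, 9, 1]) (.leaf [3, 9, 7, 9, 8, 7, 8, 6])) (.node (.leaf [9, 0, 8, 7, 9, 0, 8, 7]) (.leaf [0, 3, 0, 3]))) (.node (.node (.leaf [3, 9, 8, 7, 8, 9, 7]) (.leaf [3, 6, 5, 3, 5, 3, 5, 6])) (.node (.leaf [8, 1, 9, 3, 1, 7, 9, 7]) (.leaf [0, 3, 0, 3]))))) (.node (.node (.node (.node (.leaf [0, 6, 9, 0, 8, 6]) (.leaf [1, 9, 7, 3, 2, 9, 7, 8])) (.node (.leaf [0, 8, 7, 6, 0, 6, 7, 9]) (.leaf [0, 3, 0, 3]))) (.node (.node (.leaf [7, 9, 3, 6, 9, 7, 3]) (.leaf [3, 6, 4, 3, 5, 3, 4])) (.node (.leaf [2, 8, 7, 3, 1, 7, 9, 8]) (.leaf [0, 3, 0, 3])))) (.node (.node (.node (.leaf [8, 2, 8, 3, 2, 9]) (.leaf [6, 8, 7, 8, 3,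 9, 7, 9])) (.node (.leaf [6, 2, 1, 2, 1, 6, 2, 7]) (.leaf [0, 3, 0, 3]))) (.node (.node (.leaf [1, 3, 0, 3, 1, 0, 1, 0]) (.leaf [0, 3, 0, 3])) (.node (.leaf [2, 9, 3, 7, 1, 7, 9, 3]) (.leaf [0, 3, 0, 3])))))))) (.node (.node (.node (.node (.node (.node (.node (.leaf [9, 0, 8, 0]) (.leaf [3, 2, 9, 8, 7, 1, 7, 8])) (.node (.leaf [2, 0, 3, 2, 9, 0, 2, 0]) (.leaf [0, 3, 0, 3]))) (.node (.node (.leaf [8, 3, 9, 8, 9, 3]) (.leaf [5, 6, 5, 4, 3, 4])) (.node (.leaf [2, 7, 9, 2, 3, 1, 2, 1]) (.leaf [0, 3, 0, 3])))) (.node (.node (.node (.leaf [7, 1, 2, 1, 2, 1]) (.leaf [9, 1, 8, 9, 7, 2, 7, 8])) (.node (.leaf [8, 0, 9, 3, 7, 0, 7, 3]) (.leaf [0, 3, 0, 3]))) (.node (.node (.leaf [7, 6, 7, 9, 3, 9, 3]) (.leaf [5, 6, 3, 5, 4, 6, 4])) (.node (.leaf [1, 9, 7, 9, 7, 1, 3, 8]) (.leaf [0, 3, 0, 3]))))) (.node (.node (.node (.node (.leaf [3, 6, 0, 6, 3, 0]) (.leaf [9, 1, 8, 7, 6, 2, 6, 7])) (.node (.leaf [7, 0, 7, 9, 3,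 0, 3, 8]) (.leaf [0, 3, 0, 3]))) (.node (.node (.leaf [7, 8, 3, 8, 7, 6, 3]) (.leaf [5, 1, 2, 0, 1, 5, 1, 0, 2, 1])) (.node (.leaf [7, 3, 1, 3, 1, 7, 9, 3]) (.leaf [0, 3, 0, 3])))) (.node (.node (.node (.leaf [2, 8, 7, 1, 7, 8]) (.leaf [9, 3, 7, 8, 9, 7, 8, 6])) (.node (.leaf [2, 3, 1, 7, 9, 1, 2, 1]) (.leaf [0, 3, 0, 3]))) (.node (.node (.leaf [8, 9, 8, 7, 6, 7, 9]) (.leaf [3, 4, 6, 2, 1, 6, 4, 3, 4, 1, 2, 4])) (.node (.leaf [7, 2, 7, 9, 6, 1, 6, 8]) (.leaf [0, 3, 0, 3])))))) (.node (.node (.node (.node (.node (.leaf [3, 8, 3, 6, 8]) (.leaf [9, 1, 8, 3, 7, 2, 9, 7])) (.node (.leaf [2, 0, 8, 2, 8, 0, 2, 0]) (.leaf [0, 3, 0, 3]))) (.node (.node (.leaf [3, 1, 6, 9, 1, 3, 8]) (.leaf [5, 9, 8, 5, 4, 8, 7, 9, 4])) (.node (.leaf [1, 2, 7, 8, 2, 1, 2, 3]) (.leaf [0, 3, 0, 3])))) (.node (.node (.node (.leaf [6, 8, 1, 9, 6, 1]) (.leaf [9, 3, 6, 8, 7, 8, 9, 7])) (.node (.leaf [8, 0, 9, 7, 9, 0, 8, 7]) (.leaf [0,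 3, 0, 3]))) (.node (.node (.leaf [8, 9, 3, 7, 9, 8, 7]) (.leaf [4, 5, 4, 5, 3, 4, 5, 6])) (.node (.leaf [1, 8, 7, 9, 7, 1, 3, 9]) (.leaf [0, 3, 0, 3]))))) (.node (.node (.node (.node (.leaf [0, 9, 6, 0, 6, 8]) (.leaf [9, 1, 8, 7, 9, 2, 3, 7])) (.node (.leaf [8, 0, 9, 7, 6, 0, 6, 7]) (.leaf [0, 3, 0, 3]))) (.node (.node (.leaf [8, 6, 3, 8, 7, 3, 7]) (.leaf [4, 6, 3, 4, 3, 5, 3])) (.node (.leaf [8, 2, 8, 9, 7, 1, 3, 7]) (.leaf [0, 3, 0, 3])))) (.node (.node (.node (.leaf [2, 6, 9, 2, 6, 3]) (.leaf [8, 6, 9, 7, 9, 3, 8, 7])) (.node (.leaf [2, 6, 7, 2, 6, 1, 2, 1]) (.leaf [0, 3, 0, 3]))) (.node (.node (.leaf [0, 1, 0, 1, 0, 9, 1, 8]) (.leaf [0, 3, 0, 3])) (.node (.leaf [9, 2, 3, 9, 7, 1, 7, 3]) (.leaf [0, 3, 0, 3]))))))) (.node (.node (.node (.node (.node (.node (.leaf [6, 2, 6, 2]) (.leaf [6, 2, 6, 8, 7, 1, 7, 8])) (.node (.leaf [2, 0, 6, 2, 6, 0, 2, 0]) (.leaf [0, 3, 0, 3]))) (.node (.node (.leaf [9, 3,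 8, 9, 8, 3]) (.leaf [3, 5, 4, 3, 6, 4, 5])) (.node (.leaf [3, 2, 1, 8, 7, 1, 2, 1]) (.leaf [0, 3, 0, 3])))) (.node (.node (.node (.leaf [2, 9, 7, 1, 3, 7]) (.leaf [3, 2, 3, 8, 9, 2, 8, 9])) (.node (.leaf [9, 0, 8, 9, 7, 0, 7, 8]) (.leaf [0, 3, 0, 3]))) (.node (.node (.leaf [9, 7, 9, 8, 3, 7, 8]) (.leaf [5, 3, 4, 6, 5, 3, 4, 6])) (.node (.leaf [3, 1, 3, 9, 3, 1, 3, 8]) (.leaf [0, 3, 0, 3]))))) (.node (.node (.node (.node (.leaf [3, 0, 3, 8, 0, 9]) (.leaf [9, 1, 8, 7, 8, 2, 8, 7])) (.node (.leaf [9, 0, 8, 9, 3, 0, 3, 8]) (.leaf [0, 3, 0, 3]))) (.node (.node (.leaf [3, 9, 7, 6, 3, 7, 9]) (.leaf [4, 3, 6, 4, 3, 6, 4, 3, 6, 4, 3, 6, 4, 3, 6])) (.node (.leaf [7, 2, 9, 7, 6, 1, 3, 6]) (.leaf [0, 3, 0, 3])))) (.node (.node (.node (.leaf [8, 9, 1, 8, 9, 1]) (.leaf [8, 3, 7, 9, 8, 7, 9, 6])) (.node (.leaf [2, 3, 7, 2, 9, 1, 2, 1]) (.leaf [0, 3, 0, 3]))) (.node (.node (.leaf [1, 0, 7, 2, 7, 0, 1, 0]) (.leaf [0,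 3, 0, 3])) (.node (.leaf [8, 2, 8, 9, 7, 1, 7, 3]) (.leaf [0, 3, 0, 3])))))) (.node (.node (.node (.node (.node (.leaf [3, 9, 3, 9, 6]) (.leaf [9, 1, 8, 7, 3, 2, 9, 7])) (.node (.leaf [8, 0, 9, 7, 3, 0, 3, 7]) (.leaf [0, 3, 0, 3]))) (.node (.node (.leaf [6, 8, 1, 3, 9, 3, 1]) (.leaf [1, 4, 1, 0, 2, 1, 4, 1, 2, 0])) (.node (.leaf [8, 7, 2, 1, 3, 1, 2, 7]) (.leaf [0, 3, 0, 3])))) (.node (.node (.node (.leaf [7, 1, 7, 3, 2, 9]) (.leaf [8, 3, 6, 9, 7, 9, 8, 7])) (.node (.leaf [2, 1, 3, 7, 3, 1, 2, 1]) (.leaf [0, 3, 0, 3]))) (.node (.node (.leaf [9, 7, 8, 9, 7, 8, 3]) (.leaf [4, 3, 4, 2, 1, 4, 3, 4, 6, 1, 2, 6])) (.node (.leaf [3, 1, 9, 8, 9, 1, 3, 9]) (.leaf [0, 3, 0, 3]))))) (.node (.node (.node (.node (.leaf [9, 0, 8, 7, 0, 7]) (.leaf [9, 1, 8, 7, 9, 2, 7, 3])) (.node (.leaf [7, 0, 7, 9, 6, 0, 6, 8]) (.leaf [0, 3, 0, 3]))) (.node (.node (.leaf [3, 9, 7, 3, 7, 9, 6]) (.leaf [6, 5, 6, 4, 6, 5, 3])) (.node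 (.leaf [9, 2, 3, 9, 7, 1, 3, 7]) (.leaf [0, 3, 0, 3])))) (.node (.node (.node (.leaf [9, 3, 2, 9, 3, 2]) (.leaf [9, 3, 9, 7, 9, 3, 9, 7])) (.node (.leaf [2, 7, 8, 2, 8, 1, 2, 1]) (.leaf [0, 3, 0, 3]))) (.node (.node (.leaf [1, 2, 1, 0, 7, 0, 1, 2]) (.leaf [0, 3, 0, 3])) (.node (.leaf [3, 2, 6, 9, 7, 1, 7, 6]) (.leaf [0, 3, 0, 3]))))))))) (.node (.node (.node (.node (.node (.node (.node (.node (.leaf [7, 0, 7, 0]) (.leaf [1, 7, 9, 6, 2, 3, 6, 7])) (.node (.leaf [7, 0, 1, 3, 1, 0, 7, 8]) (.leaf [0, 3, 0, 3]))) (.node (.node (.leaf [3, 7, 6, 3, 6, 7]) (.leaf [8, 6, 8, 7, 9, 6, 9, 7])) (.node (.leaf [1, 8, 2, 8, 7, 2, 1, 2]) (.leaf [0, 3, 0, 3])))) (.node (.node (.node (.leaf [2, 1, 2, 1, 7, 1]) (.leaf [7, 2, 7, 8, 9, 1, 8, 9])) (.node (.leaf [0, 6, 9, 7, 0, 7, 8, 6]) (.leaf [0, 3, 0, 3]))) (.node (.node (.leaf [6, 7, 3, 8, 3, 8, 7]) (.leaf [4, 6, 4, 5, 3, 6, 5])) (.node (.leaf [1, 7, 9, 3, 2, 9, 7, 3]) (.leaf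 [0, 3, 0, 3]))))) (.node (.node (.node (.node (.leaf [1, 0, 1, 0, 1, 0]) (.leaf [6, 2, 6, 7, 9, 1, 8, 7])) (.node (.leaf [0, 3, 7, 9, 0, 8, 7, 3]) (.leaf [0, 3, 0, 3]))) (.node (.node (.leaf [8, 3, 8, 7, 3, 6, 7]) (.leaf [1, 0, 2, 1, 5, 1, 2, 0, 1, 5])) (.node (.leaf [7, 1, 3, 1, 3, 7, 3, 9]) (.leaf [0, 3, 0, 3])))) (.node (.node (.node (.leaf [7, 1, 7, 6, 2, 6]) (.leaf [9, 7, 8, 6, 9, 3, 7, 8])) (.node (.leaf [6, 1, 2, 1, 2, 1, 6, 7]) (.leaf [0, 3, 0, 3]))) (.node (.node (.leaf [9, 7, 6, 7, 8, 9, 8]) (.leaf [4, 1, 2, 4, 3, 4, 6, 2, 1, 6, 4, 3])) (.node (.leaf [6, 1, 6, 7, 8, 2, 8, 7]) (.leaf [0, 3, 0, 3])))))) (.node (.node (.node (.node (.node (.leaf [9, 6, 9, 6]) (.leaf [7, 2, 9, 7, 9, 1, 8, 3])) (.node (.leaf [7, 0, 2, 0, 2, 0, 7, 1]) (.leaf [0, 3, 0, 3]))) (.node (.node (.leaf [7, 6, 7, 9, 6, 9]) (.leaf [8, 7, 9, 4, 5, 9, 8, 5, 4])) (.node (.leaf [1, 7, 8, 1, 2, 3, 1, 2]) (.leaf [0, 3, 0, 3]))))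 (.node (.node (.node (.leaf [2, 7, 6, 1, 6, 7]) (.leaf [7, 8, 9, 7, 9, 3, 6, 8])) (.node (.leaf [0, 7, 9, 8, 0, 9, 8, 7]) (.leaf [0, 3, 0, 3]))) (.node (.node (.leaf [7, 9, 8, 7, 8, 9, 3]) (.leaf [4, 3, 5, 4, 5, 4, 6, 5])) (.node (.leaf [8, 1, 3, 8, 3, 1, 8, 9]) (.leaf [0, 3, 0, 3]))))) (.node (.node (.node (.node (.leaf [6, 0, 6, 7, 0, 7]) (.leaf [9, 2, 3, 7, 9, 1, 8, 7])) (.node (.leaf [0, 3, 9, 8, 0, 9, 8, 3]) (.leaf [0, 3, 0, 3]))) (.node (.node (.leaf [8, 7, 3, 7, 8, 6, 3]) (.leaf [4, 3, 5, 3, 4, 6, 3])) (.node (.leaf [1, 6, 7, 9, 2, 7, 6, 3]) (.leaf [0, 3, 0, 3])))) (.node (.node (.node (.leaf [9, 2, 6, 3, 2, 6]) (.leaf [8, 3, 8, 7, 8, 3, 8, 7])) (.node (.leaf [1, 9, 2, 7, 3, 2, 1, 2]) (.leaf [0, 3, 0, 3]))) (.node (.node (.leaf [9, 0, 1, 0, 1, 0, 8, 1]) (.leaf [0, 3, 0, 3])) (.node (.leaf [1, 7, 9, 8, 2, 8, 3, 7]) (.leaf [0, 3, 0, 3]))))))) (.node (.node (.node (.node (.node (.node (.leaf [3, 2,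 9, 2]) (.leaf [1, 7, 8, 9, 2, 3, 8, 7])) (.node (.leaf [0, 9, 2, 3, 0, 2, 0, 2]) (.leaf [0, 3, 0, 3]))) (.node (.node (.leaf [8, 9, 8, 3, 9, 3]) (.leaf [3, 6, 4, 5, 3, 5, 4])) (.node (.leaf [1, 3, 2, 9, 7, 2, 1, 2]) (.leaf [0, 3, 0, 3])))) (.node (.node (.node (.leaf [7, 1, 3, 1, 7, 9]) (.leaf [9, 2, 8, 9, 3, 2, 3, 8])) (.node (.leaf [0, 7, 3, 9, 0, 8, 3, 7]) (.leaf [0, 3, 0, 3]))) (.node (.node (.leaf [3, 9, 3, 9, 7, 6, 7]) (.leaf [6, 3, 4, 6, 4, 6, 4, 3])) (.node (.leaf [1, 7, 9, 7, 9, 1, 8, 3]) (.leaf [0, 3, 0, 3]))))) (.node (.node (.node (.node (.leaf [3, 8, 0, 9, 3, 0]) (.leaf [8, 2, 8, 7, 9, 1, 8, 7])) (.node (.leaf [0, 3, 9, 7, 0, 7, 8, 3]) (.leaf [0, 3, 0, 3]))) (.node (.node (.leaf [9, 7, 3, 6, 7, 9, 3]) (.leaf [5, 4, 6, 5, 4, 6, 5, 4, 6])) (.node (.leaf [6, 1, 3, 1, 6, 7, 9, 7]) (.leaf [0, 3, 0, 3])))) (.node (.node (.node (.leaf [7, 8, 1, 9, 7, 2]) (.leaf [8, 7, 9, 6, 8, 3, 7, 9])) (.node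 (.leaf [1, 9, 7, 1, 3, 2, 1, 2]) (.leaf [0, 3, 0, 3]))) (.node (.node (.leaf [6, 0, 1, 0, 1, 0, 6, 1]) (.leaf [0, 3, 0, 3])) (.node (.leaf [1, 6, 9, 7, 2, 7, 8, 6]) (.leaf [0, 3, 0, 3])))))) (.node (.node (.node (.node (.node (.leaf [9, 3, 9, 6, 3]) (.leaf [3, 2, 9, 7, 9, 1, 8, 7])) (.node (.leaf [3, 0, 3, 6, 7, 0, 7, 6]) (.leaf [0, 3, 0, 3]))) (.node (.node (.leaf [3, 9, 3, 1, 6, 8, 1]) (.leaf [5, 7, 5, 7])) (.node (.leaf [1, 2, 8, 7, 2, 1, 3, 2]) (.leaf [0, 3, 0, 3])))) (.node (.node (.node (.leaf [7, 3, 2, 9, 7, 1]) (.leaf [7, 9, 8, 7, 8, 3, 6, 9])) (.node (.leaf [0, 9, 7, 8, 0, 9, 7, 8]) (.leaf [0, 3, 0, 3]))) (.node (.node (.leaf [9, 8, 7, 9, 3, 8, 7]) (.leaf [5, 3, 5, 6, 3, 6, 5, 3])) (.node (.leaf [1, 7, 9, 7, 8, 1, 9, 3]) (.leaf [0, 3, 0, 3]))))) (.node (.node (.node (.node (.leaf [0, 9, 7, 0, 7, 8]) (.leaf [9, 2, 7, 3, 9, 1, 8, 7])) (.node (.leaf [0, 6, 7, 9, 0, 8, 7, 6]) (.leaf [0, 3, 0, 3])))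 (.node (.node (.leaf [3, 7, 9, 6, 3, 9, 7]) (.leaf [4, 6, 5, 6, 3, 5, 6])) (.node (.leaf [1, 7, 9, 8, 2, 8, 7, 3]) (.leaf [0, 3, 0, 3])))) (.node (.node (.node (.leaf [2, 9, 8, 2, 8, 3]) (.leaf [3, 9, 7, 9, 6, 8, 7, 8])) (.node (.leaf [1, 6, 2, 7, 6, 2, 1, 2]) (.leaf [0, 3, 0, 3]))) (.node (.node (.leaf [1, 0, 1, 0, 1, 3, 0, 3]) (.leaf [0, 3, 0, 3])) (.node (.leaf [1, 7, 9, 3, 2, 9, 3, 7]) (.leaf [0, 3, 0, 3])))))))) (.node (.node (.node (.node (.node (.node (.node (.leaf [7, 2, 7, 1]) (.leaf [7, 1, 7, 8, 3, 2, 9, 8])) (.node (.leaf [9, 0, 2, 0, 2, 0, 3, 2]) (.leaf [0, 3, 0, 3]))) (.node (.node (.leaf [9, 3, 8, 3, 9, 8]) (.leaf [3, 4, 5, 6, 5, 4])) (.node (.leaf [3, 1, 2, 1, 2, 7, 9, 2]) (.leaf [0, 3, 0, 3])))) (.node (.node (.node (.leaf [2, 7, 2, 1, 2, 1]) (.leaf [2, 7, 9, 8, 1, 9, 8, 7])) (.node (.leaf [7, 0, 7, 3, 8, 0, 9, 3]) (.leaf [0, 3, 0, 3]))) (.node (.node (.leaf [3, 9, 3, 7, 6, 7, 9]) (.leaf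 [4, 6, 4, 5, 6, 3, 5])) (.node (.leaf [7, 1, 3, 8, 1, 9, 7, 9]) (.leaf [0, 3, 0, 3]))))) (.node (.node (.node (.node (.leaf [3, 0, 3, 6, 0, 6]) (.leaf [2, 6, 7, 8, 1, 9, 7, 6])) (.node (.leaf [3, 0, 3, 8, 7, 0, 7, 9]) (.leaf [0, 3, 0, 3]))) (.node (.node (.leaf [7, 6, 3, 7, 8, 3, 8]) (.leaf [4, 3, 4, 3, 4, 3, 4, 3, 4, 3])) (.node (.leaf [1, 7, 9, 3, 7, 3, 1, 3]) (.leaf [0, 3, 0, 3])))) (.node (.node (.node (.leaf [8, 7, 2, 7, 9, 1]) (.leaf [7, 9, 8, 7, 3, 9, 6, 8])) (.node (.leaf [9, 1, 2, 1, 2, 3, 1, 7]) (.leaf [0, 3, 0, 3]))) (.node (.node (.leaf [6, 7, 9, 8, 9, 8, 7]) (.leaf [1, 6, 4, 3, 4, 1, 2, 4, 3, 4, 6, 2])) (.node (.leaf [6, 1, 6, 8, 7, 2, 7, 9]) (.leaf [0, 3, 0, 3])))))) (.node (.node (.node (.node (.node (.leaf [8, 6, 3, 8, 3]) (.leaf [2, 7, 3, 8, 1, 9, 7, 9])) (.node (.leaf [8, 0, 2, 0, 2, 0, 8, 2]) (.leaf [0, 3, 0, 3]))) (.node (.node (.leaf [9, 6, 1, 3, 8, 3, 1]) (.leaf [4, 8, 7, 9, 4, 5,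 9, 8, 5])) (.node (.leaf [2, 1, 2, 3, 1, 2, 7, 8]) (.leaf [0, 3, 0, 3])))) (.node (.node (.node (.leaf [6, 1, 6, 8, 1, 9]) (.leaf [8, 7, 8, 6, 3, 9, 7, 9])) (.node (.leaf [9, 0, 8, 7, 8, 0, 9, 7]) (.leaf [0, 3, 0, 3]))) (.node (.node (.leaf [7, 8, 9, 7, 3, 9, 8]) (.leaf [3, 4, 5, 6, 4, 5, 4, 5])) (.node (.leaf [7, 1, 3, 9, 1, 8, 7, 9]) (.leaf [0, 3, 0, 3]))))) (.node (.node (.node (.node (.leaf [9, 0, 8, 6, 0, 6]) (.leaf [2, 9, 7, 8, 1, 9, 7, 3])) (.node (.leaf [6, 0, 6, 7, 8, 0, 9, 7]) (.leaf [0, 3, 0, 3]))) (.node (.node (.leaf [6, 9, 7, 3, 7, 9, 3]) (.leaf [3, 5, 3, 4, 3, 6, 4])) (.node (.leaf [7, 1, 3, 7, 8, 2, 8, 9]) (.leaf [0, 3, 0, 3])))) (.node (.node (.node (.leaf [2, 8, 9, 2, 3, 8]) (.leaf [9, 3, 8, 7, 8, 6, 9, 7])) (.node (.leaf [6, 1, 2, 1, 2, 6, 7, 2]) (.leaf [0, 3, 0, 3]))) (.node (.node (.leaf [0, 9, 1, 8, 0, 1, 0, 1]) (.leaf [0, 3, 0, 3])) (.node (.leaf [7, 1, 7, 3, 9, 2, 3, 9]) (.leaf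 [0, 3, 0, 3]))))))) (.node (.node (.node (.node (.node (.node (.leaf [6, 3, 6, 3]) (.leaf [7, 1, 7, 8, 6, 2, 6, 8])) (.node (.leaf [6, 0, 2, 0, 2, 0, 6, 2]) (.leaf [0, 3, 0, 3]))) (.node (.node (.leaf [6, 8, 7, 6, 7, 8]) (.leaf [5, 8, 9, 5, 4, 9, 7, 8, 4])) (.node (.leaf [7, 1, 2, 1, 3, 2, 1, 8]) (.leaf [0, 3, 0, 3])))) (.node (.node (.node (.leaf [9, 2, 7, 3, 1, 7]) (.leaf [2, 9, 8, 3, 2, 3, 9, 8])) (.node (.leaf [7, 0, 7, 8, 9, 0, 8, 9]) (.leaf [0, 3, 0, 3]))) (.node (.node (.leaf [8, 9, 7, 9, 8, 7, 3]) (.leaf [3, 5, 6, 4, 3, 5, 6, 4])) (.node (.leaf [3, 1, 3, 8, 3, 1, 3, 9]) (.leaf [0, 3, 0, 3]))))) (.node (.node (.node (.node (.leaf [8, 3, 0, 3, 9, 0]) (.leaf [2, 8, 7, 8, 1, 9, 7, 8])) (.node (.leaf [3, 0, 3, 8, 9, 0, 8, 9]) (.leaf [0, 3, 0, 3]))) (.node (.node (.leaf [3, 7, 9, 3, 9, 7, 6]) (.leaf [6, 3, 4, 6, 3, 4, 6, 3, 4, 6, 3, 4, 6, 3, 4])) (.node (.leaf [6, 1, 3, 6, 7, 2, 9, 7]) (.leaf [0, 3,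 0, 3])))) (.node (.node (.node (.leaf [1, 9, 8, 1, 9, 8]) (.leaf [7, 8, 9, 7, 3, 8, 6, 9])) (.node (.leaf [9, 1, 2, 1, 2, 3, 7, 2]) (.leaf [0, 3, 0, 3]))) (.node (.node (.leaf [7, 0, 1, 0, 1, 0, 7, 2]) (.leaf [0, 3, 0, 3])) (.node (.leaf [7, 1, 7, 3, 8, 2, 8, 9]) (.leaf [0, 3, 0, 3])))))) (.node (.node (.node (.node (.node (.leaf [8, 9, 6, 8, 9]) (.leaf [2, 3, 7, 8, 1, 9, 7, 9])) (.node (.leaf [3, 0, 3, 7, 8, 0, 9, 7]) (.leaf [0, 3, 0, 3]))) (.node (.node (.leaf [1, 3, 9, 3, 1, 8, 6]) (.leaf [2, 1, 4, 1, 2, 0, 1, 4, 1, 0])) (.node (.leaf [3, 1, 2, 7, 8, 7, 2, 1]) (.leaf [0, 3, 0, 3])))) (.node (.node (.node (.leaf [3, 7, 1, 7, 9, 2]) (.leaf [9, 7, 9, 6, 3, 8, 7, 8])) (.node (.leaf [3, 1, 2, 1, 2, 1, 3, 7]) (.leaf [0, 3, 0, 3]))) (.node (.node (.leaf [7, 8, 3, 9, 7, 8, 9]) (.leaf [1, 4, 3, 4, 6, 1, 2, 6, 4, 3, 4, 2])) (.node (.leaf [9, 1, 3, 9, 3, 1, 9, 8]) (.leaf [0, 3, 0, 3]))))) (.node (.node (.node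 (.node (.leaf [0, 7, 9, 0, 8, 7]) (.leaf [2, 9, 7, 8, 1, 9, 3, 7])) (.node (.leaf [6, 0, 6, 8, 7, 0, 7, 9]) (.leaf [0, 3, 0, 3]))) (.node (.node (.leaf [7, 8, 3, 8, 3, 7, 6]) (.leaf [6, 5, 3, 6, 5, 6, 4])) (.node (.leaf [7, 1, 3, 7, 9, 2, 3, 9]) (.leaf [0, 3, 0, 3])))) (.node (.node (.node (.leaf [6, 8, 2, 8, 6, 2]) (.leaf [7, 6, 7, 8, 7, 6, 7, 8])) (.node (.leaf [8, 1, 2, 1, 2, 7, 8, 2]) (.leaf [0, 3, 0, 3]))) (.node (.node (.leaf [7, 0, 1, 2, 1, 2, 1, 0]) (.leaf [0, 3, 0, 3])) (.node (.leaf [7, 1, 7, 6, 3, 2, 6, 9]) (.leaf [0, 3, 0, 3])))))))))) (.node (.node (.node (.node (.node (.node (.node (.node (.node (.leaf [6, 0, 6, 0]) (.leaf [6, 7, 1, 7, 9, 6, 2, 3])) (.node (.leaf [7, 8, 7, 0, 1, 3, 1, 0]) (.leaf [0, 3, 0, 3]))) (.node (.node (.leaf [6, 7, 3, 7, 6, 3]) (.leaf [9, 7, 8, 6, 8, 7, 9, 6])) (.node (.leaf [1, 2, 1, 8, 2, 8, 7, 2]) (.leaf [0, 3, 0, 3])))) (.node (.node (.node (.leaf [0, 9, 8, 0,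 9, 8]) (.leaf [8, 9, 7, 2, 7, 8, 9, 1])) (.node (.leaf [8, 6, 0, 6, 9, 7, 0, 7]) (.leaf [0, 3, 0, 3]))) (.node (.node (.leaf [8, 7, 6, 7, 3, 8, 3]) (.leaf [6, 5, 4, 6, 4, 5, 3])) (.node (.leaf [7, 3, 1, 7, 9, 3, 2, 9]) (.leaf [0, 3, 0, 3]))))) (.node (.node (.node (.node (.leaf [6, 9, 8, 9, 8]) (.leaf [8, 7, 6, 2, 6, 7, 9, 1])) (.node (.leaf [7, 3, 0, 3, 7, 9, 0, 8]) (.leaf [0, 3, 0, 3]))) (.node (.node (.leaf [6, 7, 8, 3, 8, 7, 3]) (.leaf [1, 5, 1, 0, 2, 1, 5, 1, 2, 0])) (.node (.leaf [3, 9, 7, 1, 3, 1, 3, 7]) (.leaf [0, 3, 0, 3])))) (.node (.node (.node (.leaf [2, 6, 7, 1, 7, 6]) (.leaf [7, 8, 9, 7, 8, 6, 9, 3])) (.node (.leaf [6, 7, 6, 1, 2, 1, 2, 1]) (.leaf [0, 3, 0, 3]))) (.node (.node (.leaf [9, 8, 9, 7, 6, 7, 8]) (.leaf [4, 3, 4, 1, 2, 4, 3, 4, 6, 2, 1, 6])) (.node (.leaf [8, 7, 6, 1, 6, 7, 8, 2]) (.leaf [0, 3, 0, 3])))))) (.node (.node (.node (.node (.node (.leaf [8, 6, 8, 6]) (.leaf [8, 3, 7,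 2, 9, 7, 9, 1])) (.node (.leaf [7, 1, 7, 0, 2, 0, 2, 0]) (.leaf [0, 3, 0, 3]))) (.node (.node (.leaf [6, 9, 7, 6, 7, 9]) (.leaf [7, 8, 4, 5, 8, 9, 5, 4, 9])) (.node (.leaf [1, 2, 1, 7, 8, 1, 2, 3]) (.leaf [0, 3, 0, 3])))) (.node (.node (.node (.leaf [6, 7, 2, 7, 6, 1]) (.leaf [6, 8, 7, 8, 9, 7, 9, 3])) (.node (.leaf [8, 7, 0, 7, 9, 8, 0, 9]) (.leaf [0, 3, 0, 3]))) (.node (.node (.leaf [3, 8, 9, 7, 9, 8, 7]) (.leaf [6, 5, 4, 3, 5, 4, 5, 4])) (.node (.leaf [8, 9, 8, 1, 3, 8, 3, 1]) (.leaf [0, 3, 0, 3]))))) (.node (.node (.node (.node (.leaf [0, 7, 6, 0, 6, 7]) (.leaf [8, 7, 9, 2, 3, 7, 9, 1])) (.node (.leaf [8, 3, 0, 3, 9, 8, 0, 9]) (.leaf [0, 3, 0, 3]))) (.node (.node (.leaf [7, 8, 3, 6, 8, 7, 3]) (.leaf [6, 3, 5, 6, 3, 5, 6, 3, 5, 6, 3, 5, 6, 3, 5])) (.node (.leaf [6, 3, 1, 6, 7, 9, 2, 7]) (.leaf [0, 3, 0, 3])))) (.node (.node (.node (.leaf [6, 2, 3, 6, 2, 9]) (.leaf [8, 7, 8, 3, 8, 7, 8, 3])) (.node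 (.leaf [1, 2, 1, 9, 2, 7, 3, 2]) (.leaf [0, 3, 0, 3]))) (.node (.node (.leaf [8, 1, 9, 0, 1, 0, 1, 0]) (.leaf [0, 3, 0, 3])) (.node (.leaf [3, 7, 1, 7, 9, 8, 2, 8]) (.leaf [0, 3, 0, 3]))))))) (.node (.node (.node (.node (.node (.node (.leaf [9, 1, 8, 1]) (.leaf [8, 7, 1, 7, 8, 9, 2, 3])) (.node (.leaf [0, 2, 0, 9, 2, 3, 0, 2]) (.leaf [0, 3, 0, 3]))) (.node (.node (.leaf [8, 3, 8, 9, 3, 9]) (.leaf [6, 3, 4, 5, 3, 5, 4])) (.node (.leaf [1, 2, 1, 3, 2, 9, 7, 2]) (.leaf [0, 3, 0, 3])))) (.node (.node (.node (.leaf [7, 9, 7, 1, 3, 1]) (.leaf [3, 8, 9, 2, 8, 9, 3, 2])) (.node (.leaf [3, 7, 0, 7, 3, 9, 0, 8]) (.leaf [0, 3, 0, 3]))) (.node (.node (.leaf [6, 7, 3, 9, 3, 9, 7]) (.leaf [4, 3, 6, 3, 4, 6, 4, 6])) (.node (.leaf [8, 3, 1, 7, 9, 7, 9, 1]) (.leaf [0, 3, 0, 3]))))) (.node (.node (.node (.node (.leaf [3, 0, 3, 7, 0, 7]) (.leaf [8, 7, 8, 2, 8, 7, 9, 1])) (.node (.leaf [8, 3, 0, 3, 9, 7, 0, 7]) (.leaf [0,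 3, 0, 3]))) (.node (.node (.leaf [9, 3, 9, 7, 3, 6, 7]) (.leaf [4, 5, 6, 4, 5, 6, 4, 5, 6])) (.node (.leaf [9, 7, 6, 1, 3, 1, 6, 7]) (.leaf [0, 3, 0, 3])))) (.node (.node (.node (.leaf [7, 2, 7, 8, 1, 9]) (.leaf [7, 9, 8, 7, 9, 6, 8, 3])) (.node (.leaf [1, 2, 1, 9, 7, 1, 3, 2]) (.leaf [0, 3, 0, 3]))) (.node (.node (.leaf [6, 1, 6, 0, 1, 0, 1, 0]) (.leaf [0, 3, 0, 3])) (.node (.leaf [8, 6, 1, 6, 9, 7, 2, 7]) (.leaf [0, 3, 0, 3])))))) (.node (.node (.node (.node (.node (.leaf [3, 9, 3, 6, 9]) (.leaf [8, 7, 3, 2, 9, 7, 9, 1])) (.node (.leaf [7, 6, 3, 0, 3, 6, 7, 0]) (.leaf [0, 3, 0, 3]))) (.node (.node (.leaf [1, 9, 6, 1, 3, 8, 3]) (.leaf [4, 7, 4, 7])) (.node (.leaf [3, 2, 1, 2, 8, 7, 2, 1]) (.leaf [0, 3, 0, 3])))) (.node (.node (.node (.leaf [1, 6, 9, 1, 8, 6]) (.leaf [6, 9, 7, 9, 8, 7, 8, 3])) (.node (.leaf [7, 8, 0, 9, 7, 8, 0, 9]) (.leaf [0, 3, 0, 3]))) (.node (.node (.leaf [8, 7, 9, 8, 7, 9, 3]) (.leaf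 [5, 3, 5, 3, 5, 6, 3, 6])) (.node (.leaf [9, 3, 1, 7, 9, 7, 8, 1]) (.leaf [0, 3, 0, 3]))))) (.node (.node (.node (.node (.leaf [7, 8, 0, 9, 7, 0]) (.leaf [8, 7, 9, 2, 7, 3, 9, 1])) (.node (.leaf [7, 6, 0, 6, 7, 9, 0, 8]) (.leaf [0, 3, 0, 3]))) (.node (.node (.leaf [9, 7, 3, 7, 9, 6, 3]) (.leaf [5, 6, 4, 6, 5, 6, 3])) (.node (.leaf [7, 3, 1, 7, 9, 8, 2, 8]) (.leaf [0, 3, 0, 3])))) (.node (.node (.node (.leaf [8, 3, 2, 9, 8, 2]) (.leaf [7, 8, 3, 9, 7, 9, 6, 8])) (.node (.leaf [1, 2, 1, 6, 2, 7, 6, 2]) (.leaf [0, 3, 0, 3]))) (.node (.node (.leaf [0, 3, 1, 0, 1, 0, 1, 3]) (.leaf [0, 3, 0, 3])) (.node (.leaf [3, 7, 1, 7, 9, 3, 2, 9]) (.leaf [0, 3, 0, 3])))))))) (.node (.node (.node (.node (.node (.node (.node (.leaf [6, 1, 6, 1]) (.leaf [9, 8, 7, 1, 7, 8, 3, 2])) (.node (.leaf [3, 2, 9, 0, 2, 0, 2, 0]) (.leaf [0, 3, 0, 3]))) (.node (.node (.leaf [9, 8, 9, 3, 8, 3]) (.leaf [5, 4, 3, 4, 5, 6])) (.node (.leaf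 [9, 2, 3, 1, 2, 1, 2, 7]) (.leaf [0, 3, 0, 3])))) (.node (.node (.node (.leaf [2, 1, 2, 7, 2, 1]) (.leaf [8, 7, 2, 7, 9, 8, 1, 9])) (.node (.leaf [9, 3, 7, 0, 7, 3, 8, 0]) (.leaf [0, 3, 0, 3]))) (.node (.node (.leaf [7, 9, 3, 9, 3, 7, 6]) (.leaf [3, 5, 4, 6, 4, 5, 6])) (.node (.leaf [7, 9, 7, 1, 3, 8, 1, 9]) (.leaf [0, 3, 0, 3]))))) (.node (.node (.node (.node (.leaf [0, 6, 3, 0, 3, 6]) (.leaf [7, 6, 2, 6, 7, 8, 1, 9])) (.node (.leaf [7, 9, 3, 0, 3, 8, 7, 0]) (.leaf [0, 3, 0, 3]))) (.node (.node (.leaf [3, 8, 7, 6, 3, 7, 8]) (.leaf [4, 6, 4, 6, 4, 6])) (.node (.leaf [1, 3, 1, 7, 9, 3, 7, 3]) (.leaf [0, 3, 0, 3])))) (.node (.node (.node (.leaf [7, 1, 7, 8, 2, 8]) (.leaf [6, 8, 7, 9, 8, 7, 3, 9])) (.node (.leaf [1, 7, 9, 1, 2, 1, 2, 3]) (.leaf [0, 3, 0, 3]))) (.node (.node (.leaf [8, 7, 6, 7, 9, 8, 9]) (.leaf [6, 2, 1, 6, 4, 3, 4, 1, 2, 4, 3, 4])) (.node (.leaf [7, 9, 6, 1, 6, 8, 7, 2]) (.leaf [0, 3, 0,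 3])))))) (.node (.node (.node (.node (.node (.leaf [8, 3, 8, 6, 3]) (.leaf [7, 9, 2, 7, 3, 8, 1, 9])) (.node (.leaf [8, 2, 8, 0, 2, 0, 2, 0]) (.leaf [0, 3, 0, 3]))) (.node (.node (.leaf [6, 9, 1, 3, 8, 3, 1]) (.leaf [8, 5, 4, 8, 7, 9, 4, 5, 9])) (.node (.leaf [7, 8, 2, 1, 2, 3, 1, 2]) (.leaf [0, 3, 0, 3])))) (.node (.node (.node (.leaf [1, 9, 6, 1, 6, 8]) (.leaf [7, 9, 8, 7, 8, 6, 3, 9])) (.node (.leaf [9, 7, 9, 0, 8, 7, 8, 0]) (.leaf [0, 3, 0, 3]))) (.node (.node (.leaf [9, 8, 7, 8, 9, 7, 3]) (.leaf [4, 5, 3, 4, 5, 6, 4, 5])) (.node (.leaf [7, 9, 7, 1, 3, 9, 1, 8]) (.leaf [0, 3, 0, 3]))))) (.node (.node (.node (.node (.leaf [6, 0, 6, 8, 0, 9]) (.leaf [7, 3, 2, 9, 7, 8, 1, 9])) (.node (.leaf [9, 7, 6, 0, 6, 7, 8, 0]) (.leaf [0, 3, 0, 3]))) (.node (.node (.leaf [3, 8, 7, 3, 7, 8, 6]) (.leaf [6, 4, 3, 5, 3, 4, 3])) (.node (.leaf [8, 9, 7, 1, 3, 7, 8, 2]) (.leaf [0, 3, 0, 3])))) (.node (.node (.node (.leaf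 [3, 8, 2, 8, 9, 2]) (.leaf [9, 7, 9, 3, 8, 7, 8, 6])) (.node (.leaf [7, 2, 6, 1, 2, 1, 2, 6]) (.leaf [0, 3, 0, 3]))) (.node (.node (.leaf [0, 1, 0, 9, 1, 8, 0, 1]) (.leaf [0, 3, 0, 3])) (.node (.leaf [3, 9, 7, 1, 7, 3, 9, 2]) (.leaf [0, 3, 0, 3]))))))) (.node (.node (.node (.node (.node (.node (.leaf [8, 2, 8, 2]) (.leaf [6, 8, 7, 1, 7, 8, 6, 2])) (.node (.leaf [6, 2, 6, 0, 2, 0, 2, 0]) (.leaf [0, 3, 0, 3]))) (.node (.node (.leaf [7, 8, 6, 8, 7, 6]) (.leaf [4, 3, 6, 4, 5, 3, 5])) (.node (.leaf [1, 8, 7, 1, 2, 1, 3, 2]) (.leaf [0, 3, 0, 3])))) (.node (.node (.node (.leaf [7, 1, 3, 7, 2, 9]) (.leaf [9, 8, 2, 9, 8, 3, 2, 3])) (.node (.leaf [8, 9, 7, 0, 7, 8, 9, 0]) (.leaf [0, 3, 0, 3]))) (.node (.node (.leaf [9, 8, 3, 7, 8, 9, 7]) (.leaf [6, 4, 3, 5, 6, 4, 3, 5])) (.node (.leaf [3, 9, 3, 1, 3, 8, 3, 1]) (.leaf [0, 3, 0, 3]))))) (.node (.node (.node (.node (.leaf [9, 0, 8, 3, 0, 3]) (.leaf [7, 8, 2, 8, 7,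 8, 1, 9])) (.node (.leaf [8, 9, 3, 0, 3, 8, 9, 0]) (.leaf [0, 3, 0, 3]))) (.node (.node (.leaf [7, 6, 3, 7, 9, 3, 9]) (.leaf [3, 4, 6, 3, 4, 6, 3, 4, 6, 3, 4, 6, 3, 4, 6])) (.node (.leaf [9, 7, 6, 1, 3, 6, 7, 2]) (.leaf [0, 3, 0, 3])))) (.node (.node (.node (.leaf [9, 8, 1, 9, 8, 1]) (.leaf [6, 9, 7, 8, 9, 7, 3, 8])) (.node (.leaf [7, 2, 9, 1, 2, 1, 2, 3]) (.leaf [0, 3, 0, 3]))) (.node (.node (.leaf [7, 2, 7, 0, 1, 0, 1, 0]) (.leaf [0, 3, 0, 3])) (.node (.leaf [8, 9, 7, 1, 7, 3, 8, 2]) (.leaf [0, 3, 0, 3])))))) (.node (.node (.node (.node (.node (.leaf [8, 9, 8, 9, 6]) (.leaf [7, 9, 2, 3, 7, 8, 1, 9])) (.node (.leaf [9, 7, 3, 0, 3, 7, 8, 0]) (.leaf [0, 3, 0, 3]))) (.node (.node (.leaf [8, 6, 1, 3, 9, 3, 1]) (.leaf [1, 0, 2, 1, 4, 1, 2, 0, 1, 4])) (.node (.leaf [2, 1, 3, 1, 2, 7, 8, 7]) (.leaf [0, 3, 0, 3])))) (.node (.node (.node (.leaf [9, 2, 3, 7, 1, 7]) (.leaf [7, 8, 9, 7, 9, 6, 3, 8])) (.node (.leaf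 [3, 7, 3, 1, 2, 1, 2, 1]) (.leaf [0, 3, 0, 3]))) (.node (.node (.leaf [8, 9, 7, 8, 3, 9, 7]) (.leaf [4, 2, 1, 4, 3, 4, 6, 1, 2, 6, 4, 3])) (.node (.leaf [9, 8, 9, 1, 3, 9, 3, 1]) (.leaf [0, 3, 0, 3]))))) (.node (.node (.node (.node (.leaf [8, 7, 0, 7, 9, 0]) (.leaf [3, 7, 2, 9, 7, 8, 1, 9])) (.node (.leaf [7, 9, 6, 0, 6, 8, 7, 0]) (.leaf [0, 3, 0, 3]))) (.node (.node (.leaf [7, 6, 7, 8, 3, 8, 3]) (.leaf [6, 4, 6, 5, 3, 6, 5])) (.node (.leaf [3, 9, 7, 1, 3, 7, 9, 2]) (.leaf [0, 3, 0, 3])))) (.node (.node (.node (.leaf [2, 9, 3, 2, 9, 3]) (.leaf [7, 8, 7, 6, 7, 8, 7, 6])) (.node (.leaf [8, 2, 8, 1, 2, 1, 2, 7]) (.leaf [0, 3, 0, 3]))) (.node (.node (.leaf [1, 0, 7, 0, 1, 2, 1, 2]) (.leaf [0, 3, 0, 3])) (.node (.leaf [6, 9, 7, 1, 7, 6, 3, 2]) (.leaf [0, 3, 0, 3]))))))))) (.node (.node (.node (.node (.node (.node (.node (.node (.leaf [8, 0, 9, 0]) (.leaf [7, 8, 3, 2, 9, 8, 7, 1])) (.node (.leaf [2, 0, 2, 0,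 3, 2, 9, 0]) (.leaf [0, 3, 0, 3]))) (.node (.node (.leaf [6, 3, 6, 7, 3, 7]) (.leaf [5, 4, 5, 4, 5, 4])) (.node (.leaf [2, 1, 2, 7, 9, 2, 3, 1]) (.leaf [0, 3, 0, 3])))) (.node (.node (.node (.leaf [2, 1, 7, 1, 2, 1]) (.leaf [7, 8, 9, 1, 8, 9, 7, 2])) (.node (.leaf [7, 3, 8, 0, 9, 3, 7, 0]) (.leaf [0, 3, 0, 3]))) (.node (.node (.leaf [3, 8, 3, 8, 7, 6, 7]) (.leaf [6, 4, 5, 6, 3, 5, 4])) (.node (.leaf [3, 8, 1, 9, 7, 9, 7, 1]) (.leaf [0, 3, 0, 3]))))) (.node (.node (.node (.node (.leaf [2, 0, 2, 0, 2, 0]) (.leaf [6, 7, 9, 1, 8, 7, 6, 2])) (.node (.leaf [3, 8, 7, 0, 7, 9, 3, 0]) (.leaf [0, 3, 0, 3]))) (.node (.node (.leaf [8, 7, 3, 6, 7, 8, 3]) (.leaf [2, 1, 5, 1, 2, 0, 1, 5, 1, 0])) (.node (.leaf [9, 3, 7, 3, 1, 3, 1, 7]) (.leaf [0, 3, 0, 3])))) (.node (.node (.node (.leaf [7, 8, 2, 8, 7, 1]) (.leaf [8, 6, 9, 3, 7, 8, 9, 7])) (.node (.leaf [2, 1, 2, 3, 1, 7, 9, 1]) (.leaf [0, 3, 0, 3]))) (.node (.node (.leaf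 [7, 9, 8, 9, 8, 7, 6]) (.leaf [2, 4, 3, 4, 6, 2, 1, 6, 4, 3, 4, 1])) (.node (.leaf [6, 8, 7, 2, 7, 9, 6, 1]) (.leaf [0, 3, 0, 3])))))) (.node (.node (.node (.node (.node (.leaf [6, 8, 3, 8, 3]) (.leaf [9, 7, 9, 1, 8, 3, 7, 2])) (.node (.leaf [2, 0, 2, 0, 8, 2, 8, 0]) (.leaf [0, 3, 0, 3]))) (.node (.node (.leaf [3, 8, 3, 1, 6, 9, 1]) (.leaf [9, 4, 5, 9, 8, 5, 4, 8, 7])) (.node (.leaf [2, 3, 1, 2, 7, 8, 2, 1]) (.leaf [0, 3, 0, 3])))) (.node (.node (.node (.leaf [6, 1, 6, 7, 2, 7]) (.leaf [9, 7, 9, 3, 6, 8, 7, 8])) (.node (.leaf [8, 7, 8, 0, 9, 7, 9, 0]) (.leaf [0, 3, 0, 3]))) (.node (.node (.leaf [8, 7, 8, 9, 3, 7, 9]) (.leaf [5, 6, 4, 5, 4, 5, 3, 4])) (.node (.leaf [3, 9, 1, 8, 7, 9, 7, 1]) (.leaf [0, 3, 0, 3]))))) (.node (.node (.node (.node (.leaf [6, 8, 0, 9, 6, 0]) (.leaf [3, 7, 9, 1, 8, 7, 9, 2])) (.node (.leaf [6, 7, 8, 0, 9, 7, 6, 0]) (.leaf [0, 3, 0, 3]))) (.node (.node (.leaf [3, 7, 8, 6, 3, 8,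 7]) (.leaf [5, 3, 4, 6, 3, 4, 3])) (.node (.leaf [3, 7, 8, 2, 8, 9, 7, 1]) (.leaf [0, 3, 0, 3])))) (.node (.node (.node (.leaf [6, 3, 2, 6, 9, 2]) (.leaf [8, 7, 8, 6, 9, 7, 9, 3])) (.node (.leaf [2, 1, 2, 6, 7, 2, 6, 1]) (.leaf [0, 3, 0, 3]))) (.node (.node (.leaf [1, 8, 0, 1, 0, 1, 0, 9]) (.leaf [0, 3, 0, 3])) (.node (.leaf [7, 3, 9, 2, 3, 9, 7, 1]) (.leaf [0, 3, 0, 3]))))))) (.node (.node (.node (.node (.node (.node (.leaf [9, 2, 3, 2]) (.leaf [7, 8, 6, 2, 6, 8, 7, 1])) (.node (.leaf [2, 0, 2, 0, 6, 2, 6, 0]) (.leaf [0, 3, 0, 3]))) (.node (.node (.leaf [8, 3, 9, 3, 8, 9]) (.leaf [4, 5, 3, 5, 4, 3, 6])) (.node (.leaf [2, 1, 3, 2, 1, 8, 7, 1]) (.leaf [0, 3, 0, 3])))) (.node (.node (.node (.leaf [3, 7, 2, 9, 7, 1]) (.leaf [8, 9, 3, 2, 3, 8, 9, 2])) (.node (.leaf [7, 8, 9, 0, 8, 9, 7, 0]) (.leaf [0, 3, 0, 3]))) (.node (.node (.leaf [7, 8, 9, 7, 9, 8, 3]) (.leaf [4, 6, 5, 3, 4, 6, 5, 3])) (.node (.leaf [3,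 8, 3, 1, 3, 9, 3, 1]) (.leaf [0, 3, 0, 3]))))) (.node (.node (.node (.node (.leaf [0, 9, 3, 0, 3, 8]) (.leaf [8, 7, 9, 1, 8, 7, 8, 2])) (.node (.leaf [3, 8, 9, 0, 8, 9, 3, 0]) (.leaf [0, 3, 0, 3]))) (.node (.node (.leaf [7, 9, 3, 9, 7, 6, 3]) (.leaf [6, 5, 4, 6, 5, 4, 6, 5, 4])) (.node (.leaf [3, 6, 7, 2, 9, 7, 6, 1]) (.leaf [0, 3, 0, 3])))) (.node (.node (.node (.leaf [1, 9, 7, 2, 7, 8]) (.leaf [9, 6, 8, 3, 7, 9, 8, 7])) (.node (.leaf [2, 1, 2, 3, 7, 2, 9, 1]) (.leaf [0, 3, 0, 3]))) (.node (.node (.leaf [1, 0, 1, 0, 7, 2, 7, 0]) (.leaf [0, 3, 0, 3])) (.node (.leaf [7, 3, 8, 2, 8, 9, 7, 1]) (.leaf [0, 3, 0, 3])))))) (.node (.node (.node (.node (.node (.leaf [9, 6, 3, 9, 3]) (.leaf [9, 7, 9, 1, 8, 7, 3, 2])) (.node (.leaf [3, 7, 8, 0, 9, 7, 3, 0]) (.leaf [0, 3, 0, 3]))) (.node (.node (.leaf [3, 1, 6, 8, 1, 3, 9]) (.leaf [2, 0, 1, 4, 1, 0, 2, 1, 4, 1])) (.node (.leaf [2, 7, 8, 7, 2, 1, 3, 1]) (.leaf [0,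 3, 0, 3])))) (.node (.node (.node (.leaf [2, 9, 7, 1, 7, 3]) (.leaf [8, 7, 8, 3, 6, 9, 7, 9])) (.node (.leaf [2, 1, 2, 1, 3, 7, 3, 1]) (.leaf [0, 3, 0, 3]))) (.node (.node (.leaf [7, 9, 3, 8, 7, 9, 8]) (.leaf [2, 6, 4, 3, 4, 2, 1, 4, 3, 4, 6, 1])) (.node (.leaf [3, 9, 3, 1, 9, 8, 9, 1]) (.leaf [0, 3, 0, 3]))))) (.node (.node (.node (.node (.leaf [7, 0, 7, 8, 0, 9]) (.leaf [7, 3, 9, 1, 8, 7, 9, 2])) (.node (.leaf [6, 8, 7, 0, 7, 9, 6, 0]) (.leaf [0, 3, 0, 3]))) (.node (.node (.leaf [9, 6, 3, 9, 7, 3, 7]) (.leaf [5, 6, 3, 5, 6, 4, 6])) (.node (.leaf [3, 7, 9, 2, 3, 9, 7, 1]) (.leaf [0, 3, 0, 3])))) (.node (.node (.node (.leaf [3, 9, 2, 3, 9, 2]) (.leaf [9, 7, 9, 3, 9, 7, 9, 3])) (.node (.leaf [2, 1, 2, 7, 8, 2, 8, 1]) (.leaf [0, 3, 0, 3]))) (.node (.node (.leaf [1, 2, 1, 2, 1, 0, 7, 0]) (.leaf [0, 3, 0, 3])) (.node (.leaf [7, 6, 3, 2, 6, 9, 7, 1]) (.leaf [0, 3, 0, 3])))))))) (.node (.node (.node (.node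 (.node (.node (.node (.leaf [7, 1, 7, 2]) (.leaf [8, 9, 2, 3, 8, 7, 1, 7])) (.node (.leaf [2, 3, 0, 2, 0, 2, 0, 9]) (.leaf [0, 3, 0, 3]))) (.node (.node (.leaf [8, 9, 3, 9, 8, 3]) (.leaf [5, 3, 5, 4, 6, 3, 4])) (.node (.leaf [2, 9, 7, 2, 1, 2, 1, 3]) (.leaf [0, 3, 0, 3])))) (.node (.node (.node (.leaf [2, 1, 2, 1, 2, 7]) (.leaf [9, 8, 1, 9, 8, 7, 2, 7])) (.node (.leaf [3, 9, 0, 8, 3, 7, 0, 7]) (.leaf [0, 3, 0, 3]))) (.node (.node (.leaf [9, 3, 9, 7, 6, 7, 3]) (.leaf [4, 6, 4, 6, 4, 3, 6, 3])) (.node (.leaf [9, 7, 9, 1, 8, 3, 1, 7]) (.leaf [0, 3, 0, 3]))))) (.node (.node (.node (.node (.leaf [3, 7, 0, 7, 3, 0]) (.leaf [7, 8, 1, 9, 7, 6, 2, 6])) (.node (.leaf [9, 7, 0, 7, 8, 3, 0, 3]) (.leaf [0, 3, 0, 3]))) (.node (.node (.leaf [3, 7, 8, 3, 8, 7, 6]) (.leaf [5, 6, 5, 6, 5, 6, 5, 6, 5, 6])) (.node (.leaf [3, 1, 6, 7, 9, 7, 6, 1]) (.leaf [0, 3, 0, 3])))) (.node (.node (.node (.leaf [2, 7, 9, 1, 8, 7]) (.leaf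 [8, 7, 3, 9, 6, 8, 7, 9])) (.node (.leaf [7, 1, 3, 2, 1, 2, 1, 9]) (.leaf [0, 3, 0, 3]))) (.node (.node (.leaf [1, 0, 1, 0, 6, 1, 6, 0]) (.leaf [0, 3, 0, 3])) (.node (.leaf [9, 7, 2, 7, 8, 6, 1, 6]) (.leaf [0, 3, 0, 3])))))) (.node (.node (.node (.node (.node (.leaf [3, 8, 3, 8, 6]) (.leaf [3, 8, 1, 9, 7, 9, 2, 7])) (.node (.leaf [3, 6, 7, 0, 7, 6, 3, 0]) (.leaf [0, 3, 0, 3]))) (.node (.node (.leaf [1, 3, 8, 3, 1, 9, 6]) (.leaf [4, 0, 4, 0])) (.node (.leaf [8, 7, 2, 1, 3, 2, 1, 2]) (.leaf [0, 3, 0, 3])))) (.node (.node (.node (.leaf [9, 1, 8, 6, 1, 6]) (.leaf [8, 6, 3, 9, 7, 9, 8, 7])) (.node (.leaf [8, 7, 9, 0, 8, 7, 9, 0]) (.leaf [0, 3, 0, 3]))) (.node (.node (.leaf [9, 7, 3, 9, 8, 7, 8]) (.leaf [5, 6, 3, 6, 5, 3, 5, 3])) (.node (.leaf [9, 7, 8, 1, 9, 3, 1, 7]) (.leaf [0, 3, 0, 3]))))) (.node (.node (.node (.node (.leaf [8, 6, 0, 6, 9, 0]) (.leaf [7, 8, 1, 9, 7, 3, 2, 9])) (.node (.leaf [7, 9, 0, 8,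 7, 6, 0, 6]) (.leaf [0, 3, 0, 3]))) (.node (.node (.leaf [7, 3, 7, 9, 3, 6, 9]) (.leaf [3, 4, 3, 6, 4, 3, 5])) (.node (.leaf [9, 8, 2, 8, 7, 3, 1, 7]) (.leaf [0, 3, 0, 3])))) (.node (.node (.node (.leaf [9, 2, 3, 8, 2, 8]) (.leaf [7, 9, 6, 8, 7, 8, 3, 9])) (.node (.leaf [2, 7, 6, 2, 1, 2, 1, 6]) (.leaf [0, 3, 0, 3]))) (.node (.node (.leaf [1, 0, 1, 3, 0, 3, 1, 0]) (.leaf [0, 3, 0, 3])) (.node (.leaf [9, 3, 2, 9, 3, 7, 1, 7]) (.leaf [0, 3, 0, 3]))))))) (.node (.node (.node (.node (.node (.node (.leaf [7, 3, 7, 3]) (.leaf [7, 8, 7, 1, 7, 8, 7, 1])) (.node (.leaf [2, 0, 2, 0, 7, 1, 7, 0]) (.leaf [0, 3, 0, 3]))) (.node (.node (.leaf [7, 6, 7, 8, 6, 8]) (.leaf [9, 5, 4, 9, 7, 8, 4, 5, 8])) (.node (.leaf [8, 1, 2, 3, 1, 2, 1, 7]) (.leaf [0, 3, 0, 3])))) (.node (.node (.node (.leaf [7, 3, 1, 7, 9, 2]) (.leaf [8, 3, 2, 3, 9, 8, 2, 9])) (.node (.leaf [9, 8, 0, 9, 8, 7, 0, 7]) (.leaf [0, 3, 0, 3]))) (.node (.node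 (.leaf [7, 9, 8, 7, 3, 8, 9]) (.leaf [5, 4, 5, 4, 6, 5, 4, 3])) (.node (.leaf [3, 8, 3, 1, 8, 9, 8, 1]) (.leaf [0, 3, 0, 3]))))) (.node (.node (.node (.node (.leaf [0, 3, 9, 0, 8, 3]) (.leaf [7, 8, 1, 9, 7, 8, 2, 8])) (.node (.leaf [9, 8, 0, 9, 8, 3, 0, 3]) (.leaf [0, 3, 0, 3]))) (.node (.node (.leaf [6, 8, 7, 3, 7, 8, 3]) (.leaf [5, 3, 6, 5, 3, 6, 5, 3, 6, 5, 3, 6, 5, 3, 6])) (.node (.leaf [7, 9, 2, 7, 6, 3, 1, 6]) (.leaf [0, 3, 0, 3])))) (.node (.node (.node (.leaf [3, 6, 2, 9, 6, 2]) (.leaf [9, 7, 3, 8, 6, 9, 7, 8])) (.node (.leaf [2, 7, 3, 2, 1, 2, 1, 9]) (.leaf [0, 3, 0, 3]))) (.node (.node (.leaf [1, 0, 1, 0, 8, 1, 9, 0]) (.leaf [0, 3, 0, 3])) (.node (.leaf [9, 8, 2, 8, 3, 7, 1, 7]) (.leaf [0, 3, 0, 3])))))) (.node (.node (.node (.node (.node (.leaf [9, 8, 9, 8, 6]) (.leaf [7, 8, 1, 9, 7, 9, 2, 3])) (.node (.leaf [7, 9, 0, 8, 7, 3, 0, 3]) (.leaf [0, 3, 0, 3]))) (.node (.node (.leaf [9, 3, 1, 8,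 6, 1, 3]) (.leaf [4, 1, 2, 0, 1, 4, 1, 0, 2, 1])) (.node (.leaf [3, 1, 3, 7, 3, 9, 7, 1]) (.leaf [0, 3, 0, 3])))) (.node (.node (.node (.leaf [1, 7, 9, 2, 3, 7]) (.leaf [9, 6, 3, 8, 7, 8, 9, 7])) (.node (.leaf [2, 1, 2, 1, 6, 7, 6, 1]) (.leaf [0, 3, 0, 3]))) (.node (.node (.leaf [3, 9, 7, 8, 9, 7, 8]) (.leaf [3, 4, 6, 1, 2, 6, 4, 3, 4, 2, 1, 4])) (.node (.leaf [6, 7, 8, 2, 8, 7, 6, 1]) (.leaf [0, 3, 0, 3]))))) (.node (.node (.node (.node (.leaf [8, 9, 0, 8, 9, 0]) (.leaf [7, 8, 1, 9, 3, 7, 2, 9])) (.node (.leaf [9, 7, 0, 7, 8, 6, 0, 6]) (.leaf [0, 3, 0, 3]))) (.node (.node (.leaf [3, 8, 3, 7, 6, 7, 8]) (.leaf [3, 6, 5, 6, 4, 6, 5])) (.node (.leaf [9, 3, 2, 9, 7, 3, 1, 7]) (.leaf [0, 3, 0, 3])))) (.node (.node (.node (.leaf [2, 8, 6, 2, 6, 8]) (.leaf [8, 7, 9, 6, 9, 7, 8, 6])) (.node (.leaf [2, 8, 7, 2, 1, 2, 1, 8]) (.leaf [0, 3, 0, 3]))) (.node (.node (.leaf [1, 3, 1, 0, 7, 8, 7, 0]) (.leaf [0, 3, 0,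 3])) (.node (.leaf [9, 6, 2, 3, 6, 7, 1, 7]) (.leaf [0, 3, 0, 3]))))))))))))

def hints_0 : List (ℕ × ℕ × Bool) := [
  (0, 0, false), (104, 2, true), (65, 2, false), (0, 0, false), (41, 4, false), (124, 2, false), (85, 2, true), (0, 0, false),
  (26, 2, false), (113, 6, true), (75, 2, true), (0, 0, false), (54, 6, false), (144, 0, false), (94, 2, true), (0, 0, false),
  (17, 1, true), (109, 6, true), (71, 2, true), (0, 0, false), (49, 5, true), (134, 0, false), (90, 2, false), (0, 0, false),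
  (34, 0, false), (117, 6, true), (81, 2, false), (0, 0, false), (59, 0, false), (149, 10, false), (100, 2, false), (0, 0, false),
  (12, 0, false), (107, 2, false), (68, 2, false), (0, 0, false), (47, 0, false), (128, 4, false), (87, 2, true), (0, 0, false),
  (30, 4, true), (115, 6, true), (77, 2, true), (0, 0, false), (56, 3, true), (147, 2, false), (97, 2, false), (0, 0, false),
  (23, 0, false), (111, 6, true), (73, 2, true), (0, 0, false), (52, 2, false), (141, 2, false), (92, 2, true), (0, 0, false),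
  (38, 2, false), (119, 6, true), (83, 2, true), (0, 0, false), (62, 2, false), (0, 0, false), (102, 2, true), (0, 0, false),
  (6, 0, false), (105, 2, true), (66, 2, true), (0, 0, false), (44, 2, false), (127, 2, false), (86, 2, true), (0, 0, false),
  (29, 0, false), (114, 6, true), (76, 2, true), (0, 0, false), (55, 1, true), (145, 2, false), (95, 2, true), (0, 0, false),
  (21, 2, false), (110, 6, true), (72, 2, true), (0, 0, false), (51, 0, false), (138, 0, false), (91, 2, false), (0, 0, false),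
  (36, 4, false), (118, 6, true), (82, 2, true), (0, 0, false), (60, 2, false), (0, 0, false), (101, 2, true), (0, 0, false),
  (16, 0, false), (108, 6, true), (70, 2, false), (0, 0, false), (48, 3, true), (130, 0, false), (88, 2, true), (0, 0, false),
  (32, 2, true), (116, 6, true), (79, 2, false), (0, 0, false), (57, 5, true), (148, 2, false), (98, 2, true), (0, 0, false),
  (24, 4, true), (112, 6, true), (74, 2, true), (0, 0, false), (53, 4, false), (142, 5, true), (93, 2, true), (0, 0, false),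
  (39, 0, true), (121, 2, true), (84, 2, true), (0, 0, false), (63, 2, false), (0, 0, false), (103, 2, true), (0, 0, false),
  (3, 2, false), (105, 2, false), (66, 2, false), (0, 0, false), (43, 0, false), (126, 0, false), (86, 2, false), (0, 0, false),
  (27, 4, false), (114, 6, false), (76, 2, false), (0, 0, false), (55, 0, false), (144, 1, true), (95, 2, false), (0, 0, false),
  (20, 0, false), (110, 6, false), (72, 2, false), (0, 0, false), (50, 6, false), (134, 8, false), (90, 2, true), (0, 0, false),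
  (35, 2, false), (118, 6, false), (82, 2, false), (0, 0, false), (59, 1, true), (149, 6, true), (101, 2, false), (0, 0, false),
  (15, 2, false), (108, 6, false), (69, 2, false), (0, 0, false), (48, 2, false), (128, 3, true), (88, 2, false), (0, 0, false),
  (32, 0, false), (116, 6, false), (78, 2, false), (0, 0, false), (57, 4, false), (147, 2, true), (98, 2, false), (0, 0, false),
  (24, 2, false), (112, 6, false), (74, 2, false), (0, 0, false), (52, 3, true), (142, 4, false), (93, 2, false), (0, 0, false),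
  (38, 4, true), (121, 2, false), (84, 2, false), (0, 0, false), (62, 2, true), (0, 0, false), (103, 2, false), (0, 0, false),
  (8, 0, false), (106, 2, false), (67, 2, false), (0, 0, false), (45, 4, false), (127, 3, true), (87, 2, false), (0, 0, false),
  (30, 2, false), (115, 6, false), (77, 2, false), (0, 0, false), (56, 2, false), (146, 2, false), (96, 2, false), (0, 0, false),
  (22, 4, false), (111, 6, false), (73, 2, false), (0, 0, false), (51, 1, true), (140, 0, false), (92, 2, false), (0, 0, false),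
  (37, 0, false), (119, 6, false), (83, 2, false), (0, 0, false), (61, 2, false), (0, 0, false), (102, 2, false), (0, 0, false),
  (16, 3, true), (109, 6, false), (71, 2, false), (0, 0, false), (49, 4, false), (133, 2, false), (89, 2, false), (0, 0, false),
  (33, 4, false), (117, 6, false), (80, 2, false), (0, 0, false), (58, 6, false), (149, 2, false), (99, 2, false), (0, 0, false),
  (25, 0, true), (113, 6, false), (75, 2, false), (0, 0, false), (53, 5, true), (143, 6, false), (94, 2, false), (0, 0, false),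
  (40, 2, false), (122, 2, false), (85, 2, false), (0, 0, false), (64, 2, false), (0, 0, false), (104, 2, false), (0, 0, false),
  (2, 0, false), (104, 6, true), (65, 6, false), (0, 0, false), (42, 2, false), (124, 6, false), (85, 6, true), (0, 0, false),
  (27, 0, false), (114, 2, false), (75, 6, true), (0, 0, false), (54, 3, true), (144, 4, false), (94, 6, true), (0, 0, false),
  (18, 0, false), (110, 2, false), (71, 6, true), (0, 0, false), (50, 2, false), (134, 4, false), (90, 6, false), (0, 0, false),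
  (34, 4, false), (118, 2, false), (81, 6, false), (0, 0, false), (59, 4, false), (149, 2, true), (100, 6, false), (0, 0, false),
  (14, 0, false), (108, 2, false), (68, 6, false), (0, 0, false), (47, 4, false), (128, 8, false), (87, 6, true), (0, 0, false),
  (31, 2, false), (116, 2, false), (77, 6, true), (0, 0, false), (57, 0, false), (147, 6, false), (97, 6, false), (0, 0, false),
  (23, 4, false), (112, 2, false), (73, 6, true), (0, 0, false), (52, 6, false), (142, 0, false), (92, 6, true), (0, 0, false),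
  (38, 0, true), (120, 2, false), (83, 6, true), (0, 0, false), (62, 6, false), (0, 0, false), (102, 6, true), (0, 0, false),
  (7, 0, false), (105, 6, true), (66, 6, true), (0, 0, false), (45, 0, false), (127, 6, false), (86, 6, true), (0, 0, false),
  (29, 4, false), (115, 2, false), (76, 6, true), (0, 0, false), (55, 5, true), (145, 6, false), (95, 6, true), (0, 0, false),
  (22, 0, false), (111, 2, false), (72, 6, true), (0, 0, false), (51, 4, false), (139, 2, false), (91, 6, false), (0, 0, false),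
  (36, 2, true), (119, 2, false), (82, 6, true), (0, 0, false), (60, 6, false), (0, 0, false), (101, 6, true), (0, 0, false),
  (16, 4, false), (109, 2, false), (70, 6, false), (0, 0, false), (49, 0, false), (132, 0, false), (88, 6, true), (0, 0, false),
  (33, 0, false), (117, 2, false), (79, 2, true), (0, 0, false), (58, 2, false), (148, 6, false), (98, 6, true), (0, 0, false),
  (25, 2, false), (113, 2, false), (74, 6, true), (0, 0, false), (53, 1, true), (143, 2, false), (93, 6, true), (0, 0, false),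
  (39, 4, true), (121, 6, true), (84, 6, true), (0, 0, false), (63, 6, false), (0, 0, false), (103, 6, true), (0, 0, false),
  (5, 0, false), (105, 6, false), (66, 6, false), (0, 0, false), (43, 4, false), (126, 4, false), (86, 6, false), (0, 0, false),
  (28, 2, false), (114, 2, true), (76, 6, false), (0, 0, false), (55, 4, false), (144, 5, true), (95, 6, false), (0, 0, false)]
def hints_1 : List (ℕ × ℕ × Bool) := [
  (20, 4, false), (110, 2, true), (72, 6, false), (0, 0, false), (50, 3, true), (136, 0, false), (90, 6, true), (0, 0, false),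
  (36, 0, false), (118, 2, true), (82, 6, false), (0, 0, false), (59, 5, true), (149, 10, true), (101, 6, false), (0, 0, false),
  (15, 1, true), (108, 2, true), (69, 6, false), (0, 0, false), (48, 6, false), (128, 7, true), (88, 6, false), (0, 0, false),
  (32, 4, false), (116, 2, true), (78, 6, false), (0, 0, false), (57, 1, true), (147, 6, true), (98, 6, false), (0, 0, false),
  (24, 0, true), (112, 2, true), (74, 6, false), (0, 0, false), (53, 0, false), (142, 1, true), (93, 6, false), (0, 0, false),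
  (39, 2, false), (121, 6, false), (84, 6, false), (0, 0, false), (62, 6, true), (0, 0, false), (103, 6, false), (0, 0, false),
  (10, 0, false), (106, 6, false), (67, 6, false), (0, 0, false), (46, 2, false), (128, 0, false), (87, 6, false), (0, 0, false),
  (30, 0, true), (115, 2, true), (77, 6, false), (0, 0, false), (56, 6, false), (146, 2, true), (96, 6, false), (0, 0, false),
  (22, 2, true), (111, 2, true), (73, 6, false), (0, 0, false), (51, 5, true), (140, 1, true), (92, 6, false), (0, 0, false),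
  (37, 1, true), (119, 2, true), (83, 6, false), (0, 0, false), (61, 6, false), (0, 0, false), (102, 6, false), (0, 0, false),
  (17, 2, false), (109, 2, true), (71, 6, false), (0, 0, false), (49, 1, true), (133, 6, false), (89, 6, false), (0, 0, false),
  (33, 2, true), (117, 2, true), (80, 6, false), (0, 0, false), (58, 3, true), (149, 6, false), (99, 6, false), (0, 0, false),
  (25, 4, true), (113, 2, true), (75, 6, false), (0, 0, false), (54, 2, false), (143, 3, true), (94, 6, false), (0, 0, false),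
  (41, 0, false), (123, 2, false), (85, 6, false), (0, 0, false), (64, 6, false), (0, 0, false), (104, 6, false), (0, 0, false),
  (1, 0, false), (104, 4, true), (65, 4, false), (0, 0, false), (42, 0, false), (124, 4, false), (85, 4, true), (0, 0, false),
  (26, 1, true), (114, 0, false), (75, 4, true), (0, 0, false), (54, 1, true), (144, 2, false), (94, 4, true), (0, 0, false),
  (17, 3, true), (110, 0, false), (71, 4, true), (0, 0, false), (50, 0, false), (134, 2, false), (90, 4, false), (0, 0, false),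
  (34, 2, false), (118, 0, false), (81, 4, false), (0, 0, false), (59, 2, false), (149, 0, true), (100, 4, false), (0, 0, false),
  (13, 0, false), (108, 0, false), (68, 4, false), (0, 0, false), (47, 2, false), (128, 6, false), (87, 4, true), (0, 0, false),
  (31, 0, false), (116, 0, false), (77, 4, true), (0, 0, false), (56, 5, true), (147, 4, false), (97, 4, false), (0, 0, false),
  (23, 2, false), (112, 0, false), (73, 4, true), (0, 0, false), (52, 4, false), (141, 1, true), (92, 4, true), (0, 0, false),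
  (38, 4, false), (120, 0, false), (83, 4, true), (0, 0, false), (62, 4, false), (0, 0, false), (102, 4, true), (0, 0, false),
  (6, 2, false), (105, 4, true), (66, 4, true), (0, 0, false), (44, 4, false), (127, 4, false), (86, 4, true), (0, 0, false),
  (29, 2, false), (115, 0, false), (76, 4, true), (0, 0, false), (55, 3, true), (145, 4, false), (95, 4, true), (0, 0, false),
  (21, 4, false), (111, 0, false), (72, 4, true), (0, 0, false), (51, 2, false), (139, 0, false), (91, 4, false), (0, 0, false),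
  (36, 0, true), (119, 0, false), (82, 4, true), (0, 0, false), (60, 4, false), (0, 0, false), (101, 4, true), (0, 0, false),
  (16, 2, false), (109, 0, false), (70, 4, false), (0, 0, false), (48, 5, true), (131, 0, false), (88, 4, true), (0, 0, false),
  (32, 4, true), (117, 0, false), (79, 0, true), (0, 0, false), (58, 0, false), (148, 4, false), (98, 4, true), (0, 0, false),
  (25, 0, false), (113, 0, false), (74, 4, true), (0, 0, false), (53, 6, false), (143, 0, false), (93, 4, true), (0, 0, false),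
  (39, 2, true), (121, 4, true), (84, 4, true), (0, 0, false), (63, 4, false), (0, 0, false), (103, 4, true), (0, 0, false),
  (4, 0, false), (105, 4, false), (66, 4, false), (0, 0, false), (43, 2, false), (126, 2, false), (86, 4, false), (0, 0, false),
  (28, 0, false), (114, 0, true), (76, 4, false), (0, 0, false), (55, 2, false), (144, 3, true), (95, 4, false), (0, 0, false),
  (20, 2, false), (110, 0, true), (72, 4, false), (0, 0, false), (50, 1, true), (135, 0, false), (90, 4, true), (0, 0, false),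
  (35, 4, false), (118, 0, true), (82, 4, false), (0, 0, false), (59, 3, true), (149, 8, true), (101, 4, false), (0, 0, false),
  (15, 4, false), (108, 0, true), (69, 4, false), (0, 0, false), (48, 4, false), (128, 5, true), (88, 4, false), (0, 0, false),
  (32, 2, false), (116, 0, true), (78, 4, false), (0, 0, false), (57, 6, false), (147, 4, true), (98, 4, false), (0, 0, false),
  (24, 4, false), (112, 0, true), (74, 4, false), (0, 0, false), (52, 5, true), (142, 6, false), (93, 4, false), (0, 0, false),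
  (39, 0, false), (121, 4, false), (84, 4, false), (0, 0, false), (62, 4, true), (0, 0, false), (103, 4, false), (0, 0, false),
  (9, 0, false), (106, 4, false), (67, 4, false), (0, 0, false), (46, 0, false), (127, 5, true), (87, 4, false), (0, 0, false),
  (30, 4, false), (115, 0, true), (77, 4, false), (0, 0, false), (56, 4, false), (146, 0, true), (96, 4, false), (0, 0, false),
  (22, 0, true), (111, 0, true), (73, 4, false), (0, 0, false), (51, 3, true), (140, 2, false), (92, 4, false), (0, 0, false),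
  (37, 2, false), (119, 0, true), (83, 4, false), (0, 0, false), (61, 4, false), (0, 0, false), (102, 4, false), (0, 0, false),
  (17, 0, false), (109, 0, true), (71, 4, false), (0, 0, false), (49, 6, false), (133, 4, false), (89, 4, false), (0, 0, false),
  (33, 0, true), (117, 0, true), (80, 4, false), (0, 0, false), (58, 1, true), (149, 4, false), (99, 4, false), (0, 0, false),
  (25, 2, true), (113, 0, true), (75, 4, false), (0, 0, false), (54, 0, false), (143, 1, true), (94, 4, false), (0, 0, false),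
  (40, 1, true), (123, 0, false), (85, 4, false), (0, 0, false), (64, 4, false), (0, 0, false), (104, 4, false), (0, 0, false),
  (3, 0, false), (105, 0, false), (66, 0, false), (0, 0, false), (42, 4, false), (125, 0, false), (86, 0, false), (0, 0, false),
  (27, 2, false), (114, 4, false), (76, 0, false), (0, 0, false), (54, 5, true), (144, 6, false), (95, 0, false), (0, 0, false),
  (19, 0, false), (110, 4, false), (72, 0, false), (0, 0, false), (50, 4, false), (134, 6, false), (90, 0, true), (0, 0, false),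
  (35, 0, false), (118, 4, false), (82, 0, false), (0, 0, false), (59, 6, false), (149, 4, true), (101, 0, false), (0, 0, false)]
def hints_2 : List (ℕ × ℕ × Bool) := [
  (15, 0, false), (108, 4, false), (69, 0, false), (0, 0, false), (48, 0, false), (128, 1, true), (88, 0, false), (0, 0, false),
  (31, 4, false), (116, 4, false), (78, 0, false), (0, 0, false), (57, 2, false), (147, 0, true), (98, 0, false), (0, 0, false),
  (24, 0, false), (112, 4, false), (74, 0, false), (0, 0, false), (52, 1, true), (142, 2, false), (93, 0, false), (0, 0, false),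
  (38, 2, true), (121, 0, false), (84, 0, false), (0, 0, false), (62, 0, true), (0, 0, false), (103, 0, false), (0, 0, false),
  (7, 2, false), (106, 0, false), (67, 0, false), (0, 0, false), (45, 2, false), (127, 1, true), (87, 0, false), (0, 0, false),
  (30, 0, false), (115, 4, false), (77, 0, false), (0, 0, false), (56, 0, false), (146, 0, false), (96, 0, false), (0, 0, false),
  (22, 2, false), (111, 4, false), (73, 0, false), (0, 0, false), (51, 6, false), (139, 1, true), (92, 0, false), (0, 0, false),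
  (36, 4, true), (119, 4, false), (83, 0, false), (0, 0, false), (61, 0, false), (0, 0, false), (102, 0, false), (0, 0, false),
  (16, 1, true), (109, 4, false), (71, 0, false), (0, 0, false), (49, 2, false), (133, 0, false), (89, 0, false), (0, 0, false),
  (33, 2, false), (117, 4, false), (80, 0, false), (0, 0, false), (58, 4, false), (149, 0, false), (99, 0, false), (0, 0, false),
  (25, 4, false), (113, 4, false), (75, 0, false), (0, 0, false), (53, 3, true), (143, 4, false), (94, 0, false), (0, 0, false),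
  (40, 0, false), (122, 0, false), (85, 0, false), (0, 0, false), (64, 0, false), (0, 0, false), (104, 0, false), (0, 0, false),
  (5, 2, false), (105, 0, true), (66, 0, true), (0, 0, false), (44, 0, false), (127, 0, false), (86, 0, true), (0, 0, false),
  (28, 4, false), (114, 4, true), (76, 0, true), (0, 0, false), (55, 6, false), (145, 0, false), (95, 0, true), (0, 0, false),
  (21, 0, false), (110, 4, true), (72, 0, true), (0, 0, false), (50, 5, true), (137, 0, false), (91, 0, false), (0, 0, false),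
  (36, 2, false), (118, 4, true), (82, 0, true), (0, 0, false), (60, 0, false), (0, 0, false), (101, 0, true), (0, 0, false),
  (15, 3, true), (108, 4, true), (70, 0, false), (0, 0, false), (48, 1, true), (129, 0, false), (88, 0, true), (0, 0, false),
  (32, 0, true), (116, 4, true), (79, 0, false), (0, 0, false), (57, 3, true), (148, 0, false), (98, 0, true), (0, 0, false),
  (24, 2, true), (112, 4, true), (74, 0, true), (0, 0, false), (53, 2, false), (142, 3, true), (93, 0, true), (0, 0, false),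
  (39, 4, false), (121, 0, true), (84, 0, true), (0, 0, false), (63, 0, false), (0, 0, false), (103, 0, true), (0, 0, false),
  (11, 0, false), (107, 0, false), (68, 0, false), (0, 0, false), (46, 4, false), (128, 2, false), (87, 0, true), (0, 0, false),
  (30, 2, true), (115, 4, true), (77, 0, true), (0, 0, false), (56, 1, true), (147, 0, false), (97, 0, false), (0, 0, false),
  (22, 4, true), (111, 4, true), (73, 0, true), (0, 0, false), (52, 0, false), (141, 0, false), (92, 0, true), (0, 0, false),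
  (38, 0, false), (119, 4, true), (83, 0, true), (0, 0, false), (62, 0, false), (0, 0, false), (102, 0, true), (0, 0, false),
  (17, 4, false), (109, 4, true), (71, 0, true), (0, 0, false), (49, 3, true), (133, 8, false), (90, 0, false), (0, 0, false),
  (33, 4, true), (117, 4, true), (81, 0, false), (0, 0, false), (58, 5, true), (149, 8, false), (100, 0, false), (0, 0, false),
  (26, 0, false), (113, 4, true), (75, 0, true), (0, 0, false), (54, 4, false), (143, 5, true), (94, 0, true), (0, 0, false),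
  (41, 2, false), (124, 0, false), (85, 0, true), (0, 0, false), (65, 0, false), (0, 0, false), (104, 0, true), (0, 0, false),
  (0, 1, false), (104, 3, true), (65, 3, false), (0, 0, false), (41, 5, false), (124, 3, false), (85, 3, true), (0, 0, false),
  (26, 0, true), (113, 7, true), (75, 3, true), (0, 0, false), (54, 0, true), (144, 1, false), (94, 3, true), (0, 0, false),
  (17, 2, true), (109, 7, true), (71, 3, true), (0, 0, false), (49, 6, true), (134, 1, false), (90, 3, false), (0, 0, false),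
  (34, 1, false), (117, 7, true), (81, 3, false), (0, 0, false), (59, 1, false), (149, 11, false), (100, 3, false), (0, 0, false),
  (12, 1, false), (107, 3, false), (68, 3, false), (0, 0, false), (47, 1, false), (128, 5, false), (87, 3, true), (0, 0, false),
  (30, 5, true), (115, 7, true), (77, 3, true), (0, 0, false), (56, 4, true), (147, 3, false), (97, 3, false), (0, 0, false),
  (23, 1, false), (111, 7, true), (73, 3, true), (0, 0, false), (52, 3, false), (141, 0, true), (92, 3, true), (0, 0, false),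
  (38, 3, false), (119, 7, true), (83, 3, true), (0, 0, false), (62, 3, false), (0, 0, false), (102, 3, true), (0, 0, false),
  (6, 1, false), (105, 3, true), (66, 3, true), (0, 0, false), (44, 3, false), (127, 3, false), (86, 3, true), (0, 0, false),
  (29, 1, false), (114, 7, true), (76, 3, true), (0, 0, false), (55, 2, true), (145, 3, false), (95, 3, true), (0, 0, false),
  (21, 3, false), (110, 7, true), (72, 3, true), (0, 0, false), (51, 1, false), (138, 1, false), (91, 3, false), (0, 0, false),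
  (36, 5, false), (118, 7, true), (82, 3, true), (0, 0, false), (60, 3, false), (0, 0, false), (101, 3, true), (0, 0, false),
  (16, 1, false), (108, 7, true), (70, 3, false), (0, 0, false), (48, 4, true), (130, 1, false), (88, 3, true), (0, 0, false),
  (32, 3, true), (116, 7, true), (79, 3, false), (0, 0, false), (57, 6, true), (148, 3, false), (98, 3, true), (0, 0, false),
  (24, 5, true), (112, 7, true), (74, 3, true), (0, 0, false), (53, 5, false), (142, 6, true), (93, 3, true), (0, 0, false),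
  (39, 1, true), (121, 3, true), (84, 3, true), (0, 0, false), (63, 3, false), (0, 0, false), (103, 3, true), (0, 0, false),
  (3, 3, false), (105, 3, false), (66, 3, false), (0, 0, false), (43, 1, false), (126, 1, false), (86, 3, false), (0, 0, false),
  (27, 5, false), (114, 7, false), (76, 3, false), (0, 0, false), (55, 1, false), (144, 2, true), (95, 3, false), (0, 0, false),
  (20, 1, false), (110, 7, false), (72, 3, false), (0, 0, false), (50, 0, true), (134, 9, false), (90, 3, true), (0, 0, false),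
  (35, 3, false), (118, 7, false), (82, 3, false), (0, 0, false), (59, 2, true), (149, 7, true), (101, 3, false), (0, 0, false),
  (15, 3, false), (108, 7, false), (69, 3, false), (0, 0, false), (48, 3, false), (128, 4, true), (88, 3, false), (0, 0, false),
  (32, 1, false), (116, 7, false), (78, 3, false), (0, 0, false), (57, 5, false), (147, 3, true), (98, 3, false), (0, 0, false)]
def hints_3 : List (ℕ × ℕ × Bool) := [
  (24, 3, false), (112, 7, false), (74, 3, false), (0, 0, false), (52, 4, true), (142, 5, false), (93, 3, false), (0, 0, false),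
  (38, 5, true), (121, 3, false), (84, 3, false), (0, 0, false), (62, 3, true), (0, 0, false), (103, 3, false), (0, 0, false),
  (8, 1, false), (106, 3, false), (67, 3, false), (0, 0, false), (45, 5, false), (127, 4, true), (87, 3, false), (0, 0, false),
  (30, 3, false), (115, 7, false), (77, 3, false), (0, 0, false), (56, 3, false), (146, 3, false), (96, 3, false), (0, 0, false),
  (22, 5, false), (111, 7, false), (73, 3, false), (0, 0, false), (51, 2, true), (140, 1, false), (92, 3, false), (0, 0, false),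
  (37, 1, false), (119, 7, false), (83, 3, false), (0, 0, false), (61, 3, false), (0, 0, false), (102, 3, false), (0, 0, false),
  (16, 4, true), (109, 7, false), (71, 3, false), (0, 0, false), (49, 5, false), (133, 3, false), (89, 3, false), (0, 0, false),
  (33, 5, false), (117, 7, false), (80, 3, false), (0, 0, false), (58, 0, true), (149, 3, false), (99, 3, false), (0, 0, false),
  (25, 1, true), (113, 7, false), (75, 3, false), (0, 0, false), (53, 6, true), (143, 0, true), (94, 3, false), (0, 0, false),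
  (40, 0, true), (122, 3, false), (85, 3, false), (0, 0, false), (64, 3, false), (0, 0, false), (104, 3, false), (0, 0, false),
  (2, 1, false), (104, 7, true), (65, 7, false), (0, 0, false), (42, 3, false), (124, 7, false), (85, 7, true), (0, 0, false),
  (27, 1, false), (114, 3, false), (75, 7, true), (0, 0, false), (54, 4, true), (144, 5, false), (94, 7, true), (0, 0, false),
  (18, 1, false), (110, 3, false), (71, 7, true), (0, 0, false), (50, 3, false), (134, 5, false), (90, 7, false), (0, 0, false),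
  (34, 5, false), (118, 3, false), (81, 7, false), (0, 0, false), (59, 5, false), (149, 3, true), (100, 7, false), (0, 0, false),
  (14, 1, false), (108, 3, false), (68, 7, false), (0, 0, false), (47, 5, false), (128, 0, true), (87, 7, true), (0, 0, false),
  (31, 3, false), (116, 3, false), (77, 7, true), (0, 0, false), (57, 1, false), (147, 7, false), (97, 7, false), (0, 0, false),
  (23, 5, false), (112, 3, false), (73, 7, true), (0, 0, false), (52, 0, true), (142, 1, false), (92, 7, true), (0, 0, false),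
  (38, 1, true), (120, 3, false), (83, 7, true), (0, 0, false), (62, 7, false), (0, 0, false), (102, 7, true), (0, 0, false),
  (7, 1, false), (105, 7, true), (66, 7, true), (0, 0, false), (45, 1, false), (127, 0, true), (86, 7, true), (0, 0, false),
  (29, 5, false), (115, 3, false), (76, 7, true), (0, 0, false), (55, 6, true), (145, 7, false), (95, 7, true), (0, 0, false),
  (22, 1, false), (111, 3, false), (72, 7, true), (0, 0, false), (51, 5, false), (139, 0, true), (91, 7, false), (0, 0, false),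
  (36, 3, true), (119, 3, false), (82, 7, true), (0, 0, false), (60, 7, false), (0, 0, false), (101, 7, true), (0, 0, false),
  (16, 0, true), (109, 3, false), (70, 7, false), (0, 0, false), (49, 1, false), (132, 1, false), (88, 7, true), (0, 0, false),
  (33, 1, false), (117, 3, false), (79, 3, true), (0, 0, false), (58, 3, false), (148, 7, false), (98, 7, true), (0, 0, false),
  (25, 3, false), (113, 3, false), (74, 7, true), (0, 0, false), (53, 2, true), (143, 3, false), (93, 7, true), (0, 0, false),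
  (39, 5, true), (121, 7, true), (84, 7, true), (0, 0, false), (63, 7, false), (0, 0, false), (103, 7, true), (0, 0, false),
  (5, 1, false), (105, 7, false), (66, 7, false), (0, 0, false), (43, 5, false), (126, 5, false), (86, 7, false), (0, 0, false),
  (28, 3, false), (114, 3, true), (76, 7, false), (0, 0, false), (55, 5, false), (144, 6, true), (95, 7, false), (0, 0, false),
  (20, 5, false), (110, 3, true), (72, 7, false), (0, 0, false), (50, 4, true), (136, 1, false), (90, 7, true), (0, 0, false),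
  (36, 1, false), (118, 3, true), (82, 7, false), (0, 0, false), (59, 6, true), (149, 11, true), (101, 7, false), (0, 0, false),
  (15, 2, true), (108, 3, true), (69, 7, false), (0, 0, false), (48, 0, true), (128, 8, true), (88, 7, false), (0, 0, false),
  (32, 5, false), (116, 3, true), (78, 7, false), (0, 0, false), (57, 2, true), (147, 7, true), (98, 7, false), (0, 0, false),
  (24, 1, true), (112, 3, true), (74, 7, false), (0, 0, false), (53, 1, false), (142, 2, true), (93, 7, false), (0, 0, false),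
  (39, 3, false), (121, 7, false), (84, 7, false), (0, 0, false), (62, 7, true), (0, 0, false), (103, 7, false), (0, 0, false),
  (10, 1, false), (106, 7, false), (67, 7, false), (0, 0, false), (46, 3, false), (128, 1, false), (87, 7, false), (0, 0, false),
  (30, 1, true), (115, 3, true), (77, 7, false), (0, 0, false), (56, 0, true), (146, 3, true), (96, 7, false), (0, 0, false),
  (22, 3, true), (111, 3, true), (73, 7, false), (0, 0, false), (51, 6, true), (140, 2, true), (92, 7, false), (0, 0, false),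
  (37, 2, true), (119, 3, true), (83, 7, false), (0, 0, false), (61, 7, false), (0, 0, false), (102, 7, false), (0, 0, false),
  (17, 3, false), (109, 3, true), (71, 7, false), (0, 0, false), (49, 2, true), (133, 7, false), (89, 7, false), (0, 0, false),
  (33, 3, true), (117, 3, true), (80, 7, false), (0, 0, false), (58, 4, true), (149, 7, false), (99, 7, false), (0, 0, false),
  (25, 5, true), (113, 3, true), (75, 7, false), (0, 0, false), (54, 3, false), (143, 4, true), (94, 7, false), (0, 0, false),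
  (41, 1, false), (123, 3, false), (85, 7, false), (0, 0, false), (64, 7, false), (0, 0, false), (104, 7, false), (0, 0, false),
  (1, 1, false), (104, 5, true), (65, 5, false), (0, 0, false), (42, 1, false), (124, 5, false), (85, 5, true), (0, 0, false),
  (26, 2, true), (114, 1, false), (75, 5, true), (0, 0, false), (54, 2, true), (144, 3, false), (94, 5, true), (0, 0, false),
  (17, 4, true), (110, 1, false), (71, 5, true), (0, 0, false), (50, 1, false), (134, 3, false), (90, 5, false), (0, 0, false),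
  (34, 3, false), (118, 1, false), (81, 5, false), (0, 0, false), (59, 3, false), (149, 1, true), (100, 5, false), (0, 0, false),
  (13, 1, false), (108, 1, false), (68, 5, false), (0, 0, false), (47, 3, false), (128, 7, false), (87, 5, true), (0, 0, false),
  (31, 1, false), (116, 1, false), (77, 5, true), (0, 0, false), (56, 6, true), (147, 5, false), (97, 5, false), (0, 0, false),
  (23, 3, false), (112, 1, false), (73, 5, true), (0, 0, false), (52, 5, false), (141, 2, true), (92, 5, true), (0, 0, false),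
  (38, 5, false), (120, 1, false), (83, 5, true), (0, 0, false), (62, 5, false), (0, 0, false), (102, 5, true), (0, 0, false)]
def hints_4 : List (ℕ × ℕ × Bool) := [
  (6, 3, false), (105, 5, true), (66, 5, true), (0, 0, false), (44, 5, false), (127, 5, false), (86, 5, true), (0, 0, false),
  (29, 3, false), (115, 1, false), (76, 5, true), (0, 0, false), (55, 4, true), (145, 5, false), (95, 5, true), (0, 0, false),
  (21, 5, false), (111, 1, false), (72, 5, true), (0, 0, false), (51, 3, false), (139, 1, false), (91, 5, false), (0, 0, false),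
  (36, 1, true), (119, 1, false), (82, 5, true), (0, 0, false), (60, 5, false), (0, 0, false), (101, 5, true), (0, 0, false),
  (16, 3, false), (109, 1, false), (70, 5, false), (0, 0, false), (48, 6, true), (131, 1, false), (88, 5, true), (0, 0, false),
  (32, 5, true), (117, 1, false), (79, 1, true), (0, 0, false), (58, 1, false), (148, 5, false), (98, 5, true), (0, 0, false),
  (25, 1, false), (113, 1, false), (74, 5, true), (0, 0, false), (53, 0, true), (143, 1, false), (93, 5, true), (0, 0, false),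
  (39, 3, true), (121, 5, true), (84, 5, true), (0, 0, false), (63, 5, false), (0, 0, false), (103, 5, true), (0, 0, false),
  (4, 1, false), (105, 5, false), (66, 5, false), (0, 0, false), (43, 3, false), (126, 3, false), (86, 5, false), (0, 0, false),
  (28, 1, false), (114, 1, true), (76, 5, false), (0, 0, false), (55, 3, false), (144, 4, true), (95, 5, false), (0, 0, false),
  (20, 3, false), (110, 1, true), (72, 5, false), (0, 0, false), (50, 2, true), (135, 1, false), (90, 5, true), (0, 0, false),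
  (35, 5, false), (118, 1, true), (82, 5, false), (0, 0, false), (59, 4, true), (149, 9, true), (101, 5, false), (0, 0, false),
  (15, 0, true), (108, 1, true), (69, 5, false), (0, 0, false), (48, 5, false), (128, 6, true), (88, 5, false), (0, 0, false),
  (32, 3, false), (116, 1, true), (78, 5, false), (0, 0, false), (57, 0, true), (147, 5, true), (98, 5, false), (0, 0, false),
  (24, 5, false), (112, 1, true), (74, 5, false), (0, 0, false), (52, 6, true), (142, 0, true), (93, 5, false), (0, 0, false),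
  (39, 1, false), (121, 5, false), (84, 5, false), (0, 0, false), (62, 5, true), (0, 0, false), (103, 5, false), (0, 0, false),
  (9, 1, false), (106, 5, false), (67, 5, false), (0, 0, false), (46, 1, false), (127, 6, true), (87, 5, false), (0, 0, false),
  (30, 5, false), (115, 1, true), (77, 5, false), (0, 0, false), (56, 5, false), (146, 1, true), (96, 5, false), (0, 0, false),
  (22, 1, true), (111, 1, true), (73, 5, false), (0, 0, false), (51, 4, true), (140, 0, true), (92, 5, false), (0, 0, false),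
  (37, 0, true), (119, 1, true), (83, 5, false), (0, 0, false), (61, 5, false), (0, 0, false), (102, 5, false), (0, 0, false),
  (17, 1, false), (109, 1, true), (71, 5, false), (0, 0, false), (49, 0, true), (133, 5, false), (89, 5, false), (0, 0, false),
  (33, 1, true), (117, 1, true), (80, 5, false), (0, 0, false), (58, 2, true), (149, 5, false), (99, 5, false), (0, 0, false),
  (25, 3, true), (113, 1, true), (75, 5, false), (0, 0, false), (54, 1, false), (143, 2, true), (94, 5, false), (0, 0, false),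
  (40, 2, true), (123, 1, false), (85, 5, false), (0, 0, false), (64, 5, false), (0, 0, false), (104, 5, false), (0, 0, false),
  (3, 1, false), (105, 1, false), (66, 1, false), (0, 0, false), (42, 5, false), (125, 1, false), (86, 1, false), (0, 0, false),
  (27, 3, false), (114, 5, false), (76, 1, false), (0, 0, false), (54, 6, true), (144, 0, true), (95, 1, false), (0, 0, false),
  (19, 1, false), (110, 5, false), (72, 1, false), (0, 0, false), (50, 5, false), (134, 7, false), (90, 1, true), (0, 0, false),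
  (35, 1, false), (118, 5, false), (82, 1, false), (0, 0, false), (59, 0, true), (149, 5, true), (101, 1, false), (0, 0, false),
  (15, 1, false), (108, 5, false), (69, 1, false), (0, 0, false), (48, 1, false), (128, 2, true), (88, 1, false), (0, 0, false),
  (31, 5, false), (116, 5, false), (78, 1, false), (0, 0, false), (57, 3, false), (147, 1, true), (98, 1, false), (0, 0, false),
  (24, 1, false), (112, 5, false), (74, 1, false), (0, 0, false), (52, 2, true), (142, 3, false), (93, 1, false), (0, 0, false),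
  (38, 3, true), (121, 1, false), (84, 1, false), (0, 0, false), (62, 1, true), (0, 0, false), (103, 1, false), (0, 0, false),
  (7, 3, false), (106, 1, false), (67, 1, false), (0, 0, false), (45, 3, false), (127, 2, true), (87, 1, false), (0, 0, false),
  (30, 1, false), (115, 5, false), (77, 1, false), (0, 0, false), (56, 1, false), (146, 1, false), (96, 1, false), (0, 0, false),
  (22, 3, false), (111, 5, false), (73, 1, false), (0, 0, false), (51, 0, true), (139, 2, true), (92, 1, false), (0, 0, false),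
  (36, 5, true), (119, 5, false), (83, 1, false), (0, 0, false), (61, 1, false), (0, 0, false), (102, 1, false), (0, 0, false),
  (16, 2, true), (109, 5, false), (71, 1, false), (0, 0, false), (49, 3, false), (133, 1, false), (89, 1, false), (0, 0, false),
  (33, 3, false), (117, 5, false), (80, 1, false), (0, 0, false), (58, 5, false), (149, 1, false), (99, 1, false), (0, 0, false),
  (25, 5, false), (113, 5, false), (75, 1, false), (0, 0, false), (53, 4, true), (143, 5, false), (94, 1, false), (0, 0, false),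
  (40, 1, false), (122, 1, false), (85, 1, false), (0, 0, false), (64, 1, false), (0, 0, false), (104, 1, false), (0, 0, false),
  (5, 3, false), (105, 1, true), (66, 1, true), (0, 0, false), (44, 1, false), (127, 1, false), (86, 1, true), (0, 0, false),
  (28, 5, false), (114, 5, true), (76, 1, true), (0, 0, false), (55, 0, true), (145, 1, false), (95, 1, true), (0, 0, false),
  (21, 1, false), (110, 5, true), (72, 1, true), (0, 0, false), (50, 6, true), (137, 1, false), (91, 1, false), (0, 0, false),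
  (36, 3, false), (118, 5, true), (82, 1, true), (0, 0, false), (60, 1, false), (0, 0, false), (101, 1, true), (0, 0, false),
  (15, 4, true), (108, 5, true), (70, 1, false), (0, 0, false), (48, 2, true), (129, 1, false), (88, 1, true), (0, 0, false),
  (32, 1, true), (116, 5, true), (79, 1, false), (0, 0, false), (57, 4, true), (148, 1, false), (98, 1, true), (0, 0, false),
  (24, 3, true), (112, 5, true), (74, 1, true), (0, 0, false), (53, 3, false), (142, 4, true), (93, 1, true), (0, 0, false),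
  (39, 5, false), (121, 1, true), (84, 1, true), (0, 0, false), (63, 1, false), (0, 0, false), (103, 1, true), (0, 0, false),
  (11, 1, false), (107, 1, false), (68, 1, false), (0, 0, false), (46, 5, false), (128, 3, false), (87, 1, true), (0, 0, false),
  (30, 3, true), (115, 5, true), (77, 1, true), (0, 0, false), (56, 2, true), (147, 1, false), (97, 1, false), (0, 0, false)]
def hints_5 : List (ℕ × ℕ × Bool) := [
  (22, 5, true), (111, 5, true), (73, 1, true), (0, 0, false), (52, 1, false), (141, 1, false), (92, 1, true), (0, 0, false),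
  (38, 1, false), (119, 5, true), (83, 1, true), (0, 0, false), (62, 1, false), (0, 0, false), (102, 1, true), (0, 0, false),
  (17, 0, true), (109, 5, true), (71, 1, true), (0, 0, false), (49, 4, true), (133, 9, false), (90, 1, false), (0, 0, false),
  (33, 5, true), (117, 5, true), (81, 1, false), (0, 0, false), (58, 6, true), (149, 9, false), (100, 1, false), (0, 0, false),
  (26, 1, false), (113, 5, true), (75, 1, true), (0, 0, false), (54, 5, false), (143, 6, true), (94, 1, true), (0, 0, false),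
  (41, 3, false), (124, 1, false), (85, 1, true), (0, 0, false), (65, 1, false), (0, 0, false), (104, 1, true), (0, 0, false)]
def hints : List (ℕ × ℕ × Bool) :=
  ((hints_0 ++ (hints_1 ++ hints_2)) ++ (hints_3 ++ (hints_4 ++ hints_5)))

/-- subgroup words -/
def sw : List (List ℕ) := [[0], [1], [2], [3], [6], [7], [8], [9]]

def subs : List (List ℕ) := [[0], [1], [2], [3], [6], [7], [8], [9]]

/-- parameters -/
def P : Params := ⟨tab, 10, rots, subs⟩

def tree_0 : List ℕ := [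
  4, 5, 11, 32, 12, 51, 13, 59,
  68, 71, 97, 15, 128, 16, 56, 76,
  86, 157, 177, 66, 207, 208, 227, 23,
  145, 253, 74, 254, 165, 296, 18, 58,
  69, 39, 63, 342, 337, 327, 53, 19,
  33, 38, 48, 49, 347, 381, 407, 391,
  437, 427, 223, 173, 338, 178, 168, 169,
  199, 233, 193, 577, 567, 557, 198, 238,
  239, 521, 637, 647, 537, 621, 153, 203,
  93, 83, 717, 727, 712, 188, 79, 777,
  747, 797, 737, 219, 782, 189, 148, 711,
  787, 882, 867, 877, 873, 109, 919, 937,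
  209, 158, 88, 99, 977, 987, 1007, 997,
  108, 119, 118, 741, 1057, 1077, 333, 323,
  973, 398, 533, 543, 1003, 993, 1117, 1137,
  1127, 1147, 643, 1019, 633, 653, 1028, 819,
  389, 378, 1237, 1247, 669, 1089, 1337, 1347,
  1167, 1187, 439, 1157, 698, 1038, 343, 709,
  758, 1048, 499, 689, 909, 1417, 1287, 1277,
  1437, 1467, 958, 1257, 608, 1297, 1211, 1597,
  1221, 1617, 1431, 929, 469, 1647, 829, 619,
  479, 809, 28, 29, 258, 259, 268, 269,
  248, 249, 1728, 1797, 1719, 1817, 1664, 1644,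
  1654, 1634, 34, 44, 54, 1887, 35, 45,
  55, 1927, 131, 132, 154, 204, 184, 214,
  185, 215, 241, 2032, 1771, 1781, 1821, 1731,
  1801, 1741, 2048, 2060, 2116, 2100, 2070, 2090,
  2003, 1993, 1983, 1973, 288, 289, 298, 299,
  301, 325, 335, 385, 375, 345, 435, 455,
  495, 365, 415, 425, 445, 505, 485, 534,
  544, 694, 704, 574, 644, 604, 684, 634,
  654, 674, 664, 715, 1934, 725, 1944, 755,
  1914, 2354, 2014, 2547, 2606, 2603, 2613, 2343,
  1923, 1886, 1943, 2523, 2543, 2533, 2696, 1876,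
  1906, 2727, 734, 744, 834, 814, 775, 875,
  805, 925, 945, 1075, 955, 1105, 995, 1005,
  1045, 1035, 1055, 1065, 1095, 1085, 1134, 1144,
  1204, 1224, 1334, 1544, 1354, 1464, 1414, 1444,
  1504, 1554, 1594, 1614, 1604, 1624, 1674, 1704,
  1684, 1694]
def tree : List ℕ :=
  tree_0

def ph0_0 : List ℕ := [
  2048, 2049, 2050, 2051, 2052, 2053, 2054, 2055,
  54571, 53311, 49211, 50557, 58745, 50572, 120210, 30126,
  120072, 116104, 99741, 99755, 99659, 116054, 58708, 107889,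
  9572, 107914, 116108, 905258, 909364, 700451, 704549, 700461,
  725034, 704567, 729140, 741441, 733245, 733221, 737569, 856074,
  884738, 729116, 843786, 831659, 864283, 831708, 872701, 852271,
  708618, 868354, 53293, 802836, 803045, 127021, 380975, 356392,
  380969, 163895, 69860, 377187, 192886, 393606, 672188, 693437,
  378040, 685283, 685298, 335909, 323873, 323812, 335885, 28695,
  213224, 381166, 394254, 286730, 692401, 222145, 221199, 561183,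
  221217, 483586, 303466, 213378, 221638, 189333, 214034, 132151,
  283783, 988467, 217101, 135373, 152376, 283693, 561173, 475281,
  283460, 574331, 544943, 270504, 544940, 553249, 270652, 553931,
  561176, 426208, 160898, 159767, 61496, 159794, 467008, 360627,
  315625, 164065, 459016, 467215, 401684, 90427, 37178, 242037,
  332180, 520609, 500119, 500141, 528828, 500161, 250743, 144281,
  271281, 218044, 267218, 664596, 672803, 517182, 689258, 95342,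
  664732, 468119, 292059, 466979, 401448, 290882, 315593, 655601,
  655603, 655614, 61744, 397612, 307560, 156008, 418173, 524702,
  319905, 594348, 258486, 127855, 336757, 295837, 652224, 308231,
  595027, 316566, 353503, 595186, 696330, 319531, 393387, 688167,
  188454, 377136, 357422, 57371, 376996, 676938, 675858, 233768,
  676157, 521167, 622625, 622758, 516348, 524313, 237619, 516381,
  266590, 209264, 398359, 413711, 540819, 508058, 413893, 86224,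
  463154, 463168, 492361, 344975, 541579, 398238, 422832, 295847,
  541611, 345127, 422991, 582750, 87128, 312439, 311318, 311322,
  295769, 454693, 294958, 299074, 340251, 487713, 340328, 487798,
  509095, 488638, 263351, 341190, 435423, 439534, 341224, 267519,
  331801, 532509, 442400, 94245, 487680, 360733, 455703, 455912,
  471075, 217128, 208962, 299067, 405805, 311706, 439516, 152800,
  495637, 507941, 458897, 258297, 540961, 450903, 278902, 450955,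
  360865, 545212, 275326, 332949, 684051, 491547, 528419, 417858,
  463047, 647451, 274787, 33639, 234650, 245773, 643277, 644235,
  643220, 372957, 598429, 246173, 631191, 590285, 299959, 427047,
  631995, 630801, 581844, 635148, 631201, 389173, 389170, 364973,
  364589, 634927, 635184, 348318, 553857, 344331, 360479, 581682,
  450936, 606603, 606237, 610327, 1246515, 1205557, 759085, 192569,
  184528, 668582, 627831, 165002, 192527, 127193, 197379, 606229,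
  368664, 204937, 172170, 610526, 147701, 168171, 148177, 1082704,
  668466, 667672, 626871, 627798, 335899, 323783, 381145, 763187,
  763188, 1029427, 798730, 5427, 9525, 98334, 106528, 102730,
  745887, 733597, 737709, 741803, 737722, 713151, 836281, 860176,
  848090, 328998, 307216, 327707, 192546, 675883, 671789, 393280,
  254018, 315591, 585946, 631024, 696560, 245995, 446698, 205052,
  598334, 192825, 696736, 688561, 344836, 369399, 578338, 578329,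
  615219, 611111, 234343, 627600, 566177, 172990, 586703, 168902,
  627784, 58458, 656467, 693390, 689306, 447634, 684055, 446492,
  430111, 184367, 184361, 204849, 446609, 430239, 274663, 377070,
  430340, 184584, 622870, 184624, 278844, 450868, 139599, 41287,
  172369, 430422, 41312, 274808, 385440, 463544, 451258, 488142]
def ph0_1 : List ℕ := [
  434887, 41842, 549784, 611236, 615357, 259063, 357390, 660593,
  394391, 173246, 663569, 176150, 12347, 659669, 176353, 594167,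
  168206, 168212, 659752, 168355, 12696, 549578, 557838, 180999,
  369488, 480118, 660400, 623530, 25621, 652366, 181403, 570529,
  181397, 569363, 569391, 180264, 16447, 180424, 479440, 16603,
  569562, 147722, 147729, 369056, 147889, 238478, 582551, 86943,
  422823, 209959, 271454, 410727, 25742, 443555, 271546, 516126,
  266421, 545017, 532741, 553798, 521028, 385915, 312378, 95338,
  45067, 90127, 77959, 65668, 37030, 82122, 58045, 29381,
  33521, 144242, 295954, 311460, 233764, 496034, 652305, 651319,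
  651329, 111923, 118814, 114720, 122910, 50483, 972085, 771530,
  767419, 837052, 832956, 1114141, 1122566, 783627, 775626, 791819,
  1037692, 1105948, 1033546, 1054076, 1058062, 1049930, 1062167, 1053974,
  963948, 832913, 102411, 860194, 852004, 832778, 852028, 857020,
  884744, 880674, 1089565, 778271, 1118467, 787723, 1082648, 820625,
  888860, 1086834, 1085703, 1093665, 794884, 836988, 827403, 823321,
  872482, 836874, 25906, 25908, 1041790, 1041801, 1066290, 1045903,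
  1073413, 1073412, 1110048, 1069319, 1070386, 1078541, 1074453, 1066363,
  767283, 783669, 1054003, 1060894, 1048608, 1056798, 1122337, 1160501,
  1283379, 1279283, 734506, 738585, 754997, 13625, 167937, 73731,
  20485, 172039, 139273, 4165, 307276, 159826, 589917, 585818,
  594005, 598104, 61540, 319599, 352364, 131195, 184440, 204915,
  32886, 561281, 565375, 29172, 41471, 156163, 291379, 467522,
  627262, 643639, 213563, 635474, 303694, 459335, 631371, 287330,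
  426583, 402034, 373358, 365159, 70251, 221858, 475806, 483991,
  406171, 623271, 246443, 275122, 639663, 767279, 783665, 790533,
  1053999, 1060865, 1048579, 1036293, 1056844, 1106002, 1032292, 1098291,
  963887, 892931, 815177, 832815, 823299, 868358, 839689, 98373,
  876654, 852076, 880766, 864744, 8692, 79161, 241665, 258055,
  233481, 65605, 331852, 528477, 524378, 512085, 520280, 430191,
  385132, 495745, 499839, 57844, 250353, 619070, 647762, 418391,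
  389742, 447079, 335943, 1201457, 327681, 323589, 675847, 684041,
  192588, 315474, 667741, 692314, 229476, 659579, 664067, 164403,
  1271087, 1262895, 1287471, 1277957, 763183, 757765, 746801, 741377,
  712711, 725001, 880708, 720989, 704597, 102529, 107106, 111921,
  118785, 114691, 122956, 913501, 905327, 50479, 53255, 872936,
  872464, 1144113, 1152305, 1168689, 1221935, 1160497, 1171460, 1193265,
  1191940, 1140015, 1000751, 1017135, 1114115, 774149, 1122401, 1118770,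
  1025327, 1024004, 1008943, 1176881, 988463, 1185073, 996655, 983044,
  1230127, 1131823, 1254703, 1213743, 935217, 976177, 951601, 927025,
  808239, 901121, 1238319, 1246511, 1249284, 943409, 967985, 966660,
  1262899, 1257476, 1230131, 1224708, 1213747, 1208324, 1180981, 1175556,
  1148213, 1142788, 1131827, 1126404, 1004851, 999428, 947509, 942084,
  931125, 925700, 812339, 806916, 897054, 901124]

def ph1_0 : List Aux := [
  .node 12 1, .derive 315 [.bwd 0, .edge 6, .edge 4, .edge 3, .edge 4, .edge 1, .edge 2, .edge 4, .edge 3, .edge 4, .edge 6] [2] (.rel 1485), .derive 191 [.edge 0, .bwd 0, .bwd 1, .edge 5, .edge 1, .edge 2, .edge 0, .edge 1, .edge 5, .fwd 1] [] (.rel 1350), .derive 315 [.bwd 0] [] (.free), .derive 12 [.fwd 3, .fwd 0] [1] (.free), .commit 0]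
def ph1 : List Aux :=
  ph1_0

def ph2_0 : List ℕ := [
  49167, 798736, 798738, 786500, 790677, 802999, 803017, 795101,
  795141, 795974, 783688, 798743, 1085466, 1085447, 782427, 1085570,
  1085617, 1093845, 795041, 1094041, 803390, 803389, 1094393, 53391]

def ph3_0 : List Aux := [
  .node 26 1, .node 26 2, .node 27 1, .derive 27 [.edge 4, .edge 3, .edge 4, .edge 6, .edge 2, .edge 1, .edge 6, .edge 4, .edge 3, .edge 4, .fwd 0] [2] (.rel 1480), .derive 318 [.bwd 1, .edge 7, .fwd 1, .bwd 0, .fwd 1, .bwd 0] [] (.rel 136), .derive 318 [.fwd 0] [] (.free), .derive 317 [.bwd 4, .edge 4, .edge 3, .edge 4, .edge 6, .bwd 0, .bwd 2, .fwd 3, .fwd 0, .edge 6, .edge 4, .edge 3, .edge 4, .fwd 5] [] (.rel 1479), .derive 317 [.fwd 0] [] (.free),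
  .derive 316 [.bwd 0, .bwd 6] [2] (.free), .derive 316 [.bwd 8, .edge 5, .bwd 3, .bwd 6, .edge 0, .bwd 3, .bwd 5, .fwd 6, .fwd 3, .edge 5, .fwd 8, .fwd 0, .edge 0] [] (.rel 1347), .derive 316 [.fwd 0] [] (.free), .derive 26 [.fwd 10, .fwd 0] [1] (.free), .commit 0]
def ph3 : List Aux :=
  ph3_0

def ph4_0 : List ℕ := [
  8203, 106511, 716817, 823440, 102559, 8358, 700593, 717002,
  717014, 733403, 832341, 99170, 709490, 713602, 852879, 877487,
  701379, 701395, 726034, 738446, 839820, 856204, 708765, 856214,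
  713206, 885238, 836284, 856758, 873163, 864988, 869123, 885498,
  852788, 832373, 885608, 876589, 868395, 868711, 886041, 882040,
  849200, 714036, 709936, 705872, 722303, 705801, 722185, 718128,
  730448, 726320, 857396, 718189, 701823, 898317]

def ph5_0 : List Aux := [
  .node 27 1, .derive 319 [.bwd 0, .edge 6, .edge 4, .edge 3, .edge 4, .edge 1, .edge 2, .edge 4, .edge 3, .edge 4, .edge 6] [2] (.rel 1485), .derive 27 [.edge 7, .fwd 1, .fwd 0, .fwd 1, .fwd 0, .fwd 1] [] (.rel 137), .derive 319 [.bwd 0] [] (.free), .derive 27 [.fwd 3, .fwd 0] [1] (.free), .commit 0]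
def ph5 : List Aux :=
  ph5_0

def ph6_0 : List ℕ := [
  114699, 110607, 114854, 905393, 123746, 906179, 921732]

def ph7_0 : List Aux := [
  .node 35 4, .node 35 5, .derive 321 [.bwd 0, .edge 6, .edge 5, .edge 4, .edge 3] [4] (.rel 1289), .node 76 4, .derive 322 [.bwd 0, .edge 5, .edge 4, .edge 5, .fwd 0] [5] (.rel 1286), .node 177 4, .derive 323 [.bwd 0, .edge 5, .bwd 3, .bwd 4, .fwd 5] [5] (.rel 1286), .node 187 1,
  .node 188 1, .node 188 2, .node 188 5, .derive 327 [.bwd 0, .edge 4, .edge 3, .edge 6, .fwd 7, .bwd 6] [3] (.rel 1306), .node 190 1, .derive 328 [.bwd 0, .edge 7, .fwd 3] [7] (.rel 12), .node 190 8, .node 190 9,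
  .node 198 5, .derive 331 [.bwd 0, .edge 4, .edge 3, .edge 6, .fwd 16, .bwd 10] [3] (.rel 1306), .node 198 6, .derive 332 [.bwd 0, .edge 4, .edge 6, .edge 4, .edge 6] [4] (.rel 1354), .derive 332 [.bwd 1, .edge 4, .edge 6, .edge 5, .edge 3, .edge 6] [5] (.rel 1403), .node 207 4, .node 209 4, .derive 334 [.bwd 0, .edge 5, .edge 3, .edge 5, .fwd 19, .bwd 11] [6] (.rel 1303),
  .node 255 1, .node 256 8, .node 260 9, .derive 337 [.bwd 0, .edge 0, .fwd 1] [0] (.rel 9), .node 261 2, .derive 338 [.bwd 0, .edge 7, .fwd 4] [7] (.rel 14), .node 261 5, .derive 339 [.bwd 0, .edge 4, .edge 5, .edge 4, .fwd 20] [4] (.rel 1287),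
  .derive 339 [.bwd 1, .edge 4, .edge 6, .edge 5, .edge 4, .edge 6, .edge 5, .fwd 10] [6] (.rel 1365), .derive 339 [.bwd 2, .edge 6, .edge 3, .edge 5, .edge 6, .edge 3, .edge 5, .edge 6, .edge 3, .edge 5, .edge 6, .edge 3, .fwd 2, .fwd 0] [3] (.rel 1378), .node 261 9, .derive 340 [.bwd 0, .edge 6, .fwd 8] [6] (.rel 37), .node 262 1, .node 262 2, .node 263 1, .derive 343 [.bwd 0, .edge 6, .fwd 2] [6] (.rel 10),
  .node 263 2, .derive 344 [.bwd 0, .edge 3, .fwd 12] [9] (.rel 20), .node 266 2, .derive 345 [.bwd 0, .edge 6, .fwd 33] [6] (.rel 24), .node 269 1, .derive 346 [.bwd 0, .edge 7, .fwd 7] [7] (.rel 12), .node 271 1, .derive 347 [.bwd 0, .edge 6, .fwd 2] [6] (.rel 10),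
  .derive 347 [.bwd 1, .edge 7, .fwd 7] [7] (.rel 12), .node 271 5, .derive 348 [.bwd 0, .edge 4, .edge 5, .edge 4, .fwd 33] [4] (.rel 1287), .derive 348 [.bwd 1, .edge 4, .edge 3, .fwd 45, .fwd 44] [6] (.rel 1291), .node 273 1, .derive 349 [.bwd 0, .edge 7, .fwd 10] [7] (.rel 12), .node 273 2, .node 273 8,
  .derive 351 [.bwd 0, .edge 6, .fwd 41] [6] (.rel 35), .derive 330 [.bwd 41, .edge 4, .edge 5, .edge 9, .edge 8, .bwd 36, .fwd 37, .fwd 1] [7] (.rel 1319), .node 273 9, .derive 352 [.bwd 0, .edge 6, .fwd 43, .fwd 1, .fwd 2] [7] (.rel 290), .node 320 1, .derive 353 [.bwd 0, .bwd 9, .fwd 10, .fwd 43, .bwd 55, .edge 1, .edge 2, .fwd 39, .bwd 27, .fwd 29, .bwd 37] [2] (.rel 1485), .derive 349 [.bwd 9, .edge 6, .edge 4, .edge 3, .fwd 61, .fwd 1, .fwd 0, .bwd 39, .edge 3, .edge 4, .edge 6, .fwd 24] [] (.rel 1485), .derive 349 [.fwd 0] [] (.free),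
  .derive 342 [.bwd 0, .fwd 10] [7] (.free), .derive 346 [.fwd 19, .fwd 0] [] (.free), .derive 346 [.fwd 0] [] (.free), .derive 345 [.bwd 0, .bwd 19] [6] (.free), .derive 326 [.bwd 24, .fwd 0] [] (.free), .derive 347 [.bwd 0] [] (.free), .derive 326 [.bwd 0, .fwd 21] [7] (.free), .derive 328 [.fwd 57, .fwd 0] [] (.free),
  .derive 344 [.bwd 0] [] (.free), .derive 328 [.bwd 0, .fwd 31] [9] (.free), .derive 343 [.bwd 35, .edge 3, .fwd 45, .bwd 0, .fwd 60, .bwd 64, .fwd 65] [2] (.rel 789), .derive 350 [.bwd 20, .fwd 16, .fwd 15, .bwd 60, .fwd 62, .bwd 2, .fwd 33, .fwd 45] [3] (.rel 1133), .derive 340 [.bwd 41, .edge 7, .fwd 51, .bwd 0, .bwd 21, .fwd 23, .fwd 12, .bwd 38, .fwd 39] [] (.rel 718), .derive 341 [.bwd 0] [] (.free), .derive 340 [.bwd 0, .bwd 38] [6] (.free), .derive 337 [.bwd 43, .fwd 0] [] (.free),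
  .derive 343 [.bwd 0] [] (.free), .derive 337 [.bwd 0, .bwd 42] [1] (.free), .derive 337 [.bwd 1, .fwd 7] [2] (.free), .derive 325 [.bwd 0, .bwd 2, .bwd 44, .edge 4, .edge 1, .edge 2, .edge 0, .edge 1, .edge 4, .bwd 1, .fwd 55] [] (.rel 1341), .derive 336 [.bwd 0] [] (.free), .derive 324 [.bwd 77, .edge 0, .fwd 76, .bwd 0, .bwd 57, .fwd 3, .edge 0] [] (.rel 69), .derive 324 [.fwd 0] [] (.free), .derive 187 [.fwd 79, .fwd 0] [1] (.free),
  .commit 0]
def ph7 : List Aux :=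
  ph7_0

def ph8_0 : List ℕ := [
  1114123, 774159, 1106069, 1122470, 1110533, 1098580, 1101832, 1032246,
  1040392]

def ph9_0 : List Aux := [
  .node 35 4, .node 35 5, .derive 355 [.bwd 0, .edge 6, .edge 5, .edge 4, .edge 3] [4] (.rel 1289), .derive 355 [.bwd 1, .edge 7, .edge 5] [7] (.rel 1333), .derive 355 [.bwd 2, .edge 3, .edge 6, .edge 5, .edge 6, .edge 4] [6] (.rel 1406), .node 39 5, .derive 356 [.bwd 0, .edge 6, .edge 5, .edge 4, .edge 3] [4] (.rel 1289), .derive 356 [.bwd 1, .edge 0, .fwd 5] [0] (.rel 1329),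
  .derive 356 [.bwd 2, .edge 7, .edge 5] [7] (.rel 1333), .node 53 5, .node 63 5, .node 65 5, .node 66 5, .derive 360 [.bwd 0, .edge 7, .fwd 1] [7] (.rel 1333), .node 67 5, .derive 361 [.bwd 0, .edge 7, .fwd 4] [7] (.rel 1333),
  .node 69 5, .derive 362 [.bwd 0, .edge 7, .fwd 7] [7] (.rel 1333), .node 70 5, .node 76 4, .derive 364 [.bwd 0, .edge 5, .edge 4, .edge 5, .fwd 0] [5] (.rel 1286), .node 94 4, .node 95 4, .derive 366 [.bwd 0, .edge 7, .fwd 1] [7] (.rel 1331),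
  .node 99 4, .node 100 4, .derive 368 [.bwd 0, .edge 0, .fwd 1] [0] (.rel 1327), .node 103 4, .derive 369 [.bwd 0, .edge 7, .fwd 2] [7] (.rel 1331), .node 106 4, .node 107 4, .derive 371 [.bwd 0, .edge 0, .fwd 9] [0] (.rel 1327),
  .node 108 4, .node 110 4, .derive 373 [.bwd 0, .edge 0, .fwd 11] [0] (.rel 1327), .derive 373 [.bwd 1, .edge 7, .fwd 4] [7] (.rel 1331), .node 115 4, .node 116 4, .derive 375 [.bwd 0, .edge 0, .fwd 1] [0] (.rel 1327), .node 117 4,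
  .node 117 5, .node 118 4, .node 118 5, .derive 379 [.bwd 0, .edge 0, .fwd 2] [0] (.rel 1329), .node 123 4, .node 123 5, .node 124 4, .node 124 5,
  .node 125 4, .node 126 4, .derive 385 [.bwd 0, .edge 0, .fwd 1] [0] (.rel 1327), .node 127 4, .node 127 5, .node 128 4, .derive 388 [.bwd 0, .edge 0, .fwd 9] [0] (.rel 1327), .node 128 5,
  .derive 389 [.bwd 0, .edge 0, .fwd 10] [0] (.rel 1329), .node 129 5, .node 130 5, .node 131 4, .derive 392 [.bwd 0, .edge 7, .fwd 15] [7] (.rel 1331), .node 131 5, .derive 393 [.bwd 0, .edge 7, .fwd 16] [7] (.rel 1333), .node 132 5,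
  .derive 394 [.bwd 0, .edge 7, .fwd 16] [7] (.rel 1333), .node 137 4, .derive 395 [.bwd 0, .edge 7, .fwd 28] [7] (.rel 1331), .node 137 5, .node 138 4, .derive 397 [.bwd 0, .edge 7, .fwd 27] [7] (.rel 1331), .node 138 5, .derive 398 [.bwd 0, .edge 7, .fwd 28] [7] (.rel 1333),
  .node 139 4, .derive 399 [.bwd 0, .edge 0, .fwd 4] [0] (.rel 1327), .derive 399 [.bwd 1, .edge 7, .fwd 34] [7] (.rel 1331), .node 140 4, .derive 400 [.bwd 0, .edge 0, .fwd 10] [0] (.rel 1327), .derive 400 [.bwd 1, .edge 7, .fwd 40] [7] (.rel 1331), .node 140 5, .node 142 4,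
  .node 142 5, .node 145 4, .derive 404 [.bwd 0, .edge 0, .fwd 2] [0] (.rel 1327), .node 145 5, .node 147 4, .derive 406 [.bwd 0, .edge 7, .fwd 35] [7] (.rel 1331), .node 148 4, .derive 407 [.bwd 0, .edge 7, .fwd 7] [7] (.rel 1331),
  .node 148 5, .derive 408 [.bwd 0, .edge 7, .fwd 8] [7] (.rel 1333), .node 151 4, .derive 409 [.bwd 0, .edge 0, .fwd 31] [0] (.rel 1327), .derive 409 [.bwd 1, .edge 7, .fwd 38] [7] (.rel 1331), .node 152 4, .derive 410 [.bwd 0, .edge 7, .fwd 42] [7] (.rel 1331), .node 152 5,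
  .derive 411 [.bwd 0, .edge 0, .fwd 32] [0] (.rel 1329), .derive 411 [.bwd 1, .edge 7, .fwd 44] [7] (.rel 1333), .node 156 4, .derive 412 [.bwd 0, .edge 0, .fwd 14] [0] (.rel 1327)]
def ph9_1 : List Aux := [
  .derive 412 [.bwd 1, .edge 7, .fwd 51] [7] (.rel 1331), .node 157 4, .derive 413 [.bwd 0, .edge 7, .fwd 20] [7] (.rel 1331), .node 157 5, .derive 414 [.bwd 0, .edge 0, .fwd 15] [0] (.rel 1329), .derive 414 [.bwd 1, .edge 7, .fwd 21] [7] (.rel 1333), .node 177 4, .derive 415 [.bwd 0, .edge 5, .bwd 104, .bwd 105, .fwd 106] [5] (.rel 1286),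
  .node 187 1, .node 187 2, .derive 417 [.bwd 0, .edge 3, .fwd 0] [9] (.rel 20), .node 187 8, .node 187 9, .derive 419 [.bwd 0, .edge 4, .edge 5, .edge 9, .edge 8, .edge 5, .edge 4, .fwd 1] [7] (.rel 1319), .node 188 1, .node 188 2,
  .derive 421 [.bwd 0, .edge 3, .fwd 0] [9] (.rel 20), .node 188 5, .derive 422 [.bwd 0, .edge 4, .edge 3, .edge 6, .fwd 98, .bwd 97] [3] (.rel 1306), .node 188 8, .derive 423 [.bwd 0, .edge 0, .fwd 7] [0] (.rel 7), .node 188 9, .derive 424 [.bwd 0, .edge 0, .fwd 10, .bwd 8, .bwd 1] [7] (.rel 121), .node 189 1,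
  .derive 425 [.bwd 0, .edge 7, .fwd 14] [7] (.rel 12), .node 189 2, .derive 426 [.bwd 0, .edge 7, .fwd 17] [7] (.rel 14), .node 189 8, .node 189 9, .node 190 1, .derive 429 [.bwd 0, .edge 7, .fwd 14] [7] (.rel 12), .node 190 2,
  .derive 430 [.bwd 0, .edge 7, .fwd 17] [7] (.rel 14), .node 190 8, .derive 431 [.bwd 0, .edge 0, .fwd 5] [0] (.rel 7), .node 190 9, .derive 432 [.bwd 0, .edge 0, .fwd 8] [0] (.rel 9), .node 198 5, .derive 433 [.bwd 0, .edge 4, .edge 3, .edge 6, .fwd 137, .bwd 30] [3] (.rel 1306), .node 198 6,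
  .derive 434 [.bwd 0, .edge 3, .bwd 135] [3] (.rel 29), .derive 434 [.bwd 1, .edge 4, .edge 6, .edge 4, .edge 6] [4] (.rel 1354), .derive 434 [.bwd 2, .edge 4, .edge 6, .edge 5, .edge 3, .edge 6] [5] (.rel 1403), .node 207 4, .node 209 4, .derive 436 [.bwd 0, .edge 5, .edge 3, .edge 5, .fwd 125, .bwd 26] [6] (.rel 1303), .node 217 2, .node 217 9,
  .node 218 2, .node 218 8, .node 219 1, .derive 441 [.bwd 0, .edge 7, .fwd 4] [7] (.rel 12), .node 220 1, .derive 442 [.bwd 0, .edge 7, .fwd 4] [7] (.rel 12), .node 234 1, .node 234 2,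
  .derive 444 [.bwd 0, .edge 6, .fwd 9] [6] (.rel 24), .node 234 9, .derive 445 [.bwd 0, .edge 6, .fwd 10] [6] (.rel 37), .derive 445 [.bwd 1, .edge 4, .edge 5, .edge 9, .edge 8, .edge 5, .edge 4, .fwd 9] [7] (.rel 1319), .node 235 2, .derive 446 [.bwd 0, .edge 6, .fwd 12] [6] (.rel 24), .node 235 8, .derive 447 [.bwd 0, .edge 0, .fwd 5] [0] (.rel 7),
  .derive 447 [.bwd 1, .edge 6, .fwd 14] [6] (.rel 35), .derive 447 [.bwd 2, .edge 6, .fwd 15, .bwd 5, .fwd 6] [7] (.rel 284), .node 240 3, .node 240 6, .node 240 8, .node 240 9, .node 241 1, .node 241 2,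
  .node 241 3, .derive 454 [.bwd 0, .edge 0, .fwd 6] [0] (.rel 1), .node 241 6, .derive 455 [.bwd 0, .edge 0, .fwd 7] [0] (.rel 3), .node 241 8, .node 241 9, .derive 457 [.bwd 0, .edge 0, .fwd 9] [0] (.rel 9), .node 242 3,
  .derive 458 [.bwd 0, .edge 7, .fwd 13] [7] (.rel 30), .node 242 5, .node 242 6, .derive 460 [.bwd 0, .edge 7, .fwd 15] [7] (.rel 32), .node 242 8, .node 242 9, .node 243 1, .derive 463 [.bwd 0, .edge 7, .fwd 15] [7] (.rel 12),
  .node 243 2, .derive 464 [.bwd 0, .edge 7, .fwd 18] [7] (.rel 14), .node 243 3, .derive 465 [.bwd 0, .edge 7, .fwd 18] [7] (.rel 30), .node 243 5, .node 243 6, .derive 467 [.bwd 0, .edge 0, .fwd 11] [0] (.rel 3), .derive 467 [.bwd 1, .edge 7, .fwd 20] [7] (.rel 32),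
  .node 243 8, .derive 468 [.bwd 0, .edge 0, .fwd 11] [0] (.rel 7), .node 243 9, .derive 469 [.bwd 0, .edge 0, .fwd 14] [0] (.rel 9)]
def ph9_2 : List Aux := [
  .node 244 3, .node 244 6, .node 244 8, .node 244 9, .node 245 1, .node 245 2, .node 245 3, .derive 476 [.bwd 0, .edge 0, .fwd 6] [0] (.rel 1),
  .node 245 6, .derive 477 [.bwd 0, .edge 0, .fwd 7] [0] (.rel 3), .node 245 8, .derive 478 [.bwd 0, .edge 0, .fwd 7] [0] (.rel 7), .node 245 9, .derive 479 [.bwd 0, .edge 0, .fwd 10] [0] (.rel 9), .node 246 2, .node 246 3,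
  .derive 481 [.bwd 0, .edge 7, .fwd 15] [7] (.rel 30), .node 246 6, .derive 482 [.bwd 0, .edge 7, .fwd 16] [7] (.rel 32), .node 246 8, .node 246 9, .node 247 1, .derive 485 [.bwd 0, .edge 7, .fwd 16] [7] (.rel 12), .node 247 2,
  .derive 486 [.bwd 0, .edge 7, .fwd 19] [7] (.rel 14), .node 247 3, .derive 487 [.bwd 0, .edge 0, .fwd 10] [0] (.rel 1), .derive 487 [.bwd 1, .edge 7, .fwd 20] [7] (.rel 30), .node 247 6, .derive 488 [.bwd 0, .edge 0, .fwd 11] [0] (.rel 3), .derive 488 [.bwd 1, .edge 7, .fwd 21] [7] (.rel 32), .node 247 8,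
  .derive 489 [.bwd 0, .edge 0, .fwd 11] [0] (.rel 7), .node 247 9, .derive 490 [.bwd 0, .edge 0, .fwd 14] [0] (.rel 9), .node 248 2, .node 248 3, .node 248 6, .node 248 8, .node 248 9,
  .node 249 1, .node 249 3, .node 249 6, .derive 498 [.bwd 0, .edge 0, .fwd 5] [0] (.rel 3), .node 249 8, .derive 499 [.bwd 0, .edge 0, .fwd 5] [0] (.rel 7), .node 249 9, .derive 500 [.bwd 0, .edge 0, .fwd 8] [0] (.rel 9),
  .node 250 3, .derive 501 [.bwd 0, .edge 7, .fwd 12] [7] (.rel 30), .node 250 6, .derive 502 [.bwd 0, .edge 7, .fwd 13] [7] (.rel 32), .node 250 8, .node 250 9, .node 251 2, .derive 505 [.bwd 0, .edge 7, .fwd 14] [7] (.rel 14),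
  .node 251 3, .derive 506 [.bwd 0, .edge 0, .fwd 8] [0] (.rel 1), .derive 506 [.bwd 1, .edge 7, .fwd 16] [7] (.rel 30), .node 251 6, .derive 507 [.bwd 0, .edge 0, .fwd 9] [0] (.rel 3), .derive 507 [.bwd 1, .edge 7, .fwd 18] [7] (.rel 32), .node 251 8, .derive 508 [.bwd 0, .edge 0, .fwd 9] [0] (.rel 7),
  .node 251 9, .derive 509 [.bwd 0, .edge 0, .fwd 12] [0] (.rel 9), .node 252 1, .node 252 2, .node 252 8, .node 252 9, .node 253 1, .derive 514 [.bwd 0, .edge 6, .fwd 4] [6] (.rel 10),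
  .node 253 2, .derive 515 [.bwd 0, .edge 6, .fwd 5] [6] (.rel 24), .node 253 8, .derive 516 [.bwd 0, .edge 6, .fwd 6] [6] (.rel 35), .node 254 1, .node 254 2, .node 254 8, .derive 519 [.bwd 0, .edge 0, .fwd 9] [0] (.rel 7),
  .node 254 9, .derive 520 [.bwd 0, .edge 0, .fwd 12] [0] (.rel 9), .node 255 1, .derive 521 [.bwd 0, .edge 6, .fwd 6] [6] (.rel 10), .node 255 2, .derive 522 [.bwd 0, .edge 6, .fwd 7] [6] (.rel 24), .node 255 8, .node 255 9,
  .derive 524 [.bwd 0, .edge 0, .fwd 13] [0] (.rel 9), .derive 524 [.bwd 1, .edge 6, .fwd 8] [6] (.rel 37), .node 256 1, .derive 525 [.bwd 0, .edge 7, .fwd 23] [7] (.rel 12), .node 256 2, .derive 526 [.bwd 0, .edge 7, .fwd 26] [7] (.rel 14), .node 256 8, .node 256 9,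
  .node 257 1, .derive 529 [.bwd 0, .edge 6, .fwd 6] [6] (.rel 10), .derive 529 [.bwd 1, .edge 7, .fwd 25] [7] (.rel 12), .node 257 2]
def ph9_3 : List Aux := [
  .derive 530 [.bwd 0, .edge 7, .fwd 29] [7] (.rel 14), .derive 530 [.bwd 1, .edge 6, .fwd 8] [6] (.rel 24), .node 257 8, .derive 531 [.bwd 0, .edge 6, .fwd 8] [6] (.rel 35), .node 257 9, .derive 532 [.bwd 0, .edge 6, .fwd 9] [6] (.rel 37), .node 258 1, .node 258 2,
  .derive 534 [.bwd 0, .edge 3, .fwd 15] [9] (.rel 20), .node 258 8, .derive 535 [.bwd 0, .edge 6, .edge 3, .fwd 7] [3] (.rel 45), .node 258 9, .derive 536 [.bwd 0, .edge 6, .edge 3, .fwd 7] [3] (.rel 55), .node 259 1, .node 259 2, .derive 538 [.bwd 0, .edge 3, .fwd 15] [9] (.rel 20),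
  .derive 538 [.bwd 1, .edge 6, .fwd 8] [6] (.rel 24), .node 259 8, .derive 539 [.bwd 0, .edge 6, .fwd 8] [6] (.rel 35), .derive 539 [.bwd 1, .edge 6, .edge 3, .fwd 24] [3] (.rel 45), .node 259 9, .derive 540 [.bwd 0, .edge 6, .fwd 9] [6] (.rel 37), .derive 540 [.bwd 1, .edge 6, .edge 3, .fwd 26] [3] (.rel 55), .node 260 1,
  .derive 541 [.bwd 0, .edge 7, .fwd 46] [7] (.rel 12), .node 260 2, .derive 542 [.bwd 0, .edge 7, .fwd 49] [7] (.rel 14), .node 260 8, .derive 543 [.bwd 0, .edge 0, .fwd 32] [0] (.rel 7), .node 260 9, .derive 544 [.bwd 0, .edge 0, .fwd 35] [0] (.rel 9), .node 261 1,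
  .derive 545 [.bwd 0, .edge 6, .fwd 8] [6] (.rel 10), .derive 545 [.bwd 1, .edge 7, .fwd 48] [7] (.rel 12), .node 261 2, .derive 546 [.bwd 0, .edge 7, .fwd 52] [7] (.rel 14), .derive 546 [.bwd 1, .edge 6, .fwd 10] [6] (.rel 24), .node 261 5, .derive 547 [.bwd 0, .edge 4, .edge 5, .edge 4, .fwd 220] [4] (.rel 1287), .derive 547 [.bwd 1, .edge 4, .edge 6, .edge 5, .edge 4, .edge 6, .edge 5, .fwd 195] [6] (.rel 1365),
  .derive 547 [.bwd 2, .edge 6, .edge 3, .edge 5, .edge 6, .edge 3, .edge 5, .edge 6, .edge 3, .edge 5, .edge 6, .edge 3, .fwd 2, .fwd 0] [3] (.rel 1378), .node 261 8, .derive 548 [.bwd 0, .edge 0, .fwd 37] [0] (.rel 7), .derive 548 [.bwd 1, .edge 6, .fwd 15] [6] (.rel 35), .node 261 9, .derive 549 [.bwd 0, .edge 0, .fwd 42] [0] (.rel 9), .derive 549 [.bwd 1, .edge 6, .fwd 16] [6] (.rel 37), .node 262 1,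
  .node 262 2, .derive 551 [.bwd 0, .edge 3, .fwd 23] [9] (.rel 20), .node 262 8, .derive 552 [.bwd 0, .edge 0, .fwd 39] [0] (.rel 7), .node 262 9, .derive 553 [.bwd 0, .edge 0, .fwd 43] [0] (.rel 9), .node 263 1, .derive 554 [.bwd 0, .edge 6, .fwd 7] [6] (.rel 10),
  .node 263 2, .derive 555 [.bwd 0, .edge 3, .fwd 22] [9] (.rel 20), .node 263 8, .derive 556 [.bwd 0, .edge 6, .fwd 8] [6] (.rel 35), .node 263 9, .derive 557 [.bwd 0, .edge 6, .fwd 8] [6] (.rel 37), .node 266 1, .derive 558 [.bwd 0, .edge 6, .fwd 248] [6] (.rel 10),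
  .node 266 2, .derive 559 [.bwd 0, .edge 3, .fwd 0] [9] (.rel 20), .derive 559 [.bwd 1, .edge 6, .fwd 250] [6] (.rel 24), .node 266 8, .derive 560 [.bwd 0, .edge 6, .fwd 248] [6] (.rel 35), .derive 560 [.bwd 1, .edge 6, .edge 3, .fwd 249] [3] (.rel 45), .node 266 9, .derive 561 [.bwd 0, .edge 6, .fwd 249, .fwd 248, .bwd 2] [7] (.rel 290),
  .node 268 1, .node 268 2, .derive 563 [.bwd 0, .edge 7, .fwd 67] [7] (.rel 14), .derive 563 [.bwd 1, .edge 3, .fwd 107] [9] (.rel 20), .node 268 8, .derive 564 [.bwd 0, .edge 6, .edge 3, .fwd 102] [3] (.rel 45), .node 269 1, .derive 565 [.bwd 0, .edge 7, .fwd 30] [7] (.rel 12),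
  .node 269 2, .derive 566 [.bwd 0, .edge 7, .fwd 33] [7] (.rel 14), .derive 566 [.bwd 1, .edge 3, .fwd 104] [9] (.rel 20), .node 269 8, .derive 567 [.bwd 0, .edge 6, .edge 3, .fwd 97] [3] (.rel 45), .node 269 9, .derive 568 [.bwd 0, .edge 0, .fwd 9] [0] (.rel 9), .derive 568 [.bwd 1, .edge 6, .edge 3, .fwd 99] [3] (.rel 55),
  .node 270 1, .derive 569 [.bwd 0, .edge 6, .fwd 16] [6] (.rel 10), .derive 569 [.bwd 1, .edge 7, .fwd 75] [7] (.rel 12), .node 270 2, .derive 570 [.bwd 0, .edge 7, .fwd 78] [7] (.rel 14), .derive 570 [.bwd 1, .edge 3, .fwd 120] [9] (.rel 20), .node 270 8, .derive 571 [.bwd 0, .edge 6, .fwd 18] [6] (.rel 35),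
  .derive 571 [.bwd 1, .edge 6, .edge 3, .fwd 127] [3] (.rel 45), .node 271 1, .derive 572 [.bwd 0, .edge 6, .fwd 19] [6] (.rel 10), .derive 572 [.bwd 1, .edge 7, .fwd 42] [7] (.rel 12)]
def ph9_4 : List Aux := [
  .node 271 2, .derive 573 [.bwd 0, .edge 7, .fwd 46] [7] (.rel 14), .derive 573 [.bwd 1, .edge 3, .fwd 117] [9] (.rel 20), .derive 573 [.bwd 2, .edge 6, .fwd 22] [6] (.rel 24), .node 271 5, .derive 574 [.bwd 0, .edge 4, .edge 5, .edge 4, .fwd 267] [4] (.rel 1287), .derive 574 [.bwd 1, .edge 4, .edge 3, .fwd 299, .fwd 298] [6] (.rel 1291), .node 271 8,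
  .derive 575 [.bwd 0, .edge 6, .fwd 24] [6] (.rel 35), .node 271 9, .derive 576 [.bwd 0, .edge 6, .fwd 24] [6] (.rel 37), .node 272 1, .node 272 2, .derive 578 [.bwd 0, .edge 6, .fwd 303] [6] (.rel 24), .node 272 8, .derive 579 [.bwd 0, .edge 0, .fwd 44] [0] (.rel 7),
  .derive 579 [.bwd 1, .edge 6, .edge 3, .fwd 304] [3] (.rel 45), .node 272 9, .derive 580 [.bwd 0, .edge 6, .fwd 305] [6] (.rel 37), .derive 580 [.bwd 1, .edge 0, .fwd 51, .bwd 47, .bwd 3] [7] (.rel 121), .node 273 1, .derive 581 [.bwd 0, .edge 6, .fwd 291] [6] (.rel 10), .derive 581 [.bwd 1, .edge 7, .fwd 57] [7] (.rel 12), .node 273 2,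
  .derive 582 [.bwd 0, .edge 7, .fwd 61] [7] (.rel 14), .derive 582 [.bwd 1, .edge 3, .fwd 1] [9] (.rel 20), .derive 582 [.bwd 2, .edge 6, .fwd 294] [6] (.rel 24), .node 273 8, .derive 583 [.bwd 0, .edge 6, .fwd 294] [6] (.rel 35), .derive 583 [.bwd 1, .edge 6, .edge 3, .fwd 295] [3] (.rel 45), .derive 432 [.bwd 294, .edge 4, .edge 5, .edge 9, .edge 8, .bwd 287, .fwd 288, .fwd 2] [7] (.rel 1319), .node 273 9,
  .derive 584 [.bwd 0, .edge 6, .fwd 296, .fwd 1, .fwd 3] [7] (.rel 290), .node 274 1, .derive 585 [.bwd 0, .edge 6, .fwd 310] [6] (.rel 10), .derive 585 [.bwd 1, .edge 7, .fwd 22] [7] (.rel 12), .node 274 2, .derive 586 [.bwd 0, .edge 7, .fwd 25] [7] (.rel 14), .derive 586 [.bwd 1, .edge 6, .fwd 312] [6] (.rel 24), .node 274 8,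
  .derive 587 [.bwd 0, .edge 0, .fwd 8] [0] (.rel 7), .derive 587 [.bwd 1, .edge 6, .fwd 313] [6] (.rel 35), .derive 587 [.bwd 2, .edge 3, .edge 0, .edge 3, .fwd 10, .fwd 9, .fwd 307] [7] (.rel 595), .node 274 9, .derive 588 [.bwd 0, .edge 0, .fwd 16, .bwd 13, .fwd 307] [7] (.rel 121), .node 283 2, .node 283 4, .node 283 8,
  .node 283 9, .node 284 4, .node 284 6, .node 284 8, .derive 595 [.bwd 0, .edge 0, .fwd 3] [0] (.rel 7), .node 284 9, .derive 596 [.bwd 0, .edge 0, .fwd 6] [0] (.rel 9), .node 285 1,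
  .derive 597 [.bwd 0, .edge 7, .fwd 10] [7] (.rel 12), .node 285 4, .derive 598 [.bwd 0, .edge 7, .fwd 11] [7] (.rel 1331), .node 285 9, .node 286 4, .derive 600 [.bwd 0, .edge 7, .fwd 11] [7] (.rel 1331), .node 286 6, .derive 601 [.bwd 0, .edge 7, .fwd 12] [7] (.rel 32),
  .node 286 8, .derive 602 [.bwd 0, .edge 0, .fwd 5] [0] (.rel 7), .node 286 9, .node 287 3, .node 287 4, .node 287 9, .node 288 3, .node 288 4,
  .derive 608 [.bwd 0, .edge 0, .fwd 3] [0] (.rel 1327), .node 288 6, .node 288 8, .derive 610 [.bwd 0, .edge 0, .fwd 5] [0] (.rel 7), .node 289 3, .derive 611 [.bwd 0, .edge 7, .fwd 9] [7] (.rel 30), .node 289 8, .node 290 3,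
  .derive 613 [.bwd 0, .edge 0, .fwd 3] [0] (.rel 1), .derive 613 [.bwd 1, .edge 7, .fwd 10] [7] (.rel 30), .node 290 4, .derive 614 [.bwd 0, .edge 7, .fwd 11] [7] (.rel 1331), .node 290 6, .derive 615 [.bwd 0, .edge 7, .fwd 11] [7] (.rel 32), .node 290 9, .derive 616 [.bwd 0, .edge 0, .fwd 8] [0] (.rel 9),
  .node 291 9, .node 292 1, .node 292 6, .node 292 8, .derive 620 [.bwd 0, .edge 0, .fwd 3] [0] (.rel 7), .node 293 9, .node 294 2, .derive 622 [.bwd 0, .edge 7, .fwd 5] [7] (.rel 14),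
  .node 294 6, .derive 623 [.bwd 0, .edge 7, .fwd 6] [7] (.rel 32), .node 294 8, .derive 624 [.bwd 0, .edge 0, .fwd 5] [0] (.rel 7)]
def ph9_5 : List Aux := [
  .node 303 3, .node 303 5, .node 303 8, .node 304 9, .derive 628 [.bwd 0, .edge 0, .fwd 1] [0] (.rel 9), .node 305 3, .derive 629 [.bwd 0, .edge 7, .fwd 5] [7] (.rel 30), .node 305 5,
  .derive 630 [.bwd 0, .edge 7, .fwd 6] [7] (.rel 1333), .node 305 9, .node 306 5, .node 306 8, .derive 633 [.bwd 0, .edge 0, .fwd 2] [0] (.rel 7), .node 307 3, .node 307 8, .node 308 3,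
  .node 308 9, .derive 637 [.bwd 0, .edge 0, .fwd 2] [0] (.rel 9), .node 309 3, .derive 638 [.bwd 0, .edge 7, .fwd 5] [7] (.rel 30), .node 309 8, .node 310 3, .derive 640 [.bwd 0, .edge 7, .fwd 6] [7] (.rel 30), .derive 640 [.bwd 1, .edge 4, .edge 3, .edge 6, .edge 4, .fwd 9] [5] (.rel 1391),
  .node 310 9, .derive 641 [.bwd 0, .edge 0, .fwd 4] [0] (.rel 9), .node 354 1, .derive 642 [.bwd 0, .bwd 120, .fwd 121, .fwd 388, .bwd 420, .edge 1, .edge 2, .fwd 383, .bwd 186, .fwd 188, .bwd 381] [2] (.rel 1485), .derive 581 [.bwd 107, .edge 6, .edge 4, .edge 3, .fwd 527, .fwd 1, .fwd 0, .bwd 383, .edge 3, .edge 4, .edge 6, .fwd 179] [] (.rel 1485), .derive 581 [.fwd 0] [] (.free), .derive 551 [.bwd 0, .bwd 109] [1] (.free), .derive 551 [.bwd 1, .fwd 108] [7] (.free),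
  .derive 565 [.fwd 152, .fwd 0] [] (.free), .derive 565 [.fwd 0] [] (.free), .derive 559 [.bwd 0, .bwd 155] [1] (.free), .derive 559 [.bwd 1, .bwd 136] [6] (.free), .derive 421 [.bwd 169, .fwd 0] [] (.free), .derive 572 [.bwd 0] [] (.free), .derive 421 [.bwd 0, .bwd 140] [1] (.free), .derive 421 [.bwd 1, .fwd 139] [7] (.free),
  .derive 429 [.fwd 409, .fwd 0] [] (.free), .derive 555 [.bwd 0] [] (.free), .derive 429 [.bwd 0, .bwd 185] [2] (.free), .derive 429 [.bwd 1, .fwd 185] [9] (.free), .derive 542 [.bwd 207, .bwd 0, .bwd 414, .fwd 410, .bwd 115] [1] (.rel 174), .derive 554 [.bwd 190, .edge 3, .fwd 210, .bwd 1, .fwd 414, .bwd 429, .fwd 430] [2] (.rel 789), .derive 521 [.bwd 210, .bwd 2, .bwd 416, .fwd 412, .bwd 116, .bwd 1, .fwd 219] [9] (.rel 912), .derive 575 [.bwd 139, .edge 3, .fwd 264, .bwd 211, .bwd 3, .fwd 416, .bwd 430, .fwd 8] [] (.rel 915),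
  .derive 575 [.fwd 0] [] (.free), .derive 271 [.bwd 0, .fwd 140] [6] (.free), .derive 269 [.edge 6, .fwd 0] [] (.free), .derive 567 [.bwd 0] [] (.free), .derive 269 [.bwd 0, .fwd 167] [3] (.free), .derive 254 [.edge 3, .fwd 0] [] (.free), .derive 523 [.bwd 0] [] (.free), .derive 254 [.bwd 0, .bwd 268] [8] (.free),
  .derive 519 [.bwd 277, .fwd 0] [] (.free), .derive 519 [.fwd 0] [] (.free), .derive 255 [.bwd 0, .fwd 278] [0] (.free), .derive 253 [.edge 0, .fwd 0] [] (.free), .derive 513 [.bwd 0] [] (.free), .derive 584 [.fwd 128, .bwd 427, .fwd 431, .bwd 19, .fwd 203, .fwd 225] [2] (.rel 213), .derive 430 [.bwd 430, .fwd 432, .bwd 20, .fwd 204, .fwd 226, .bwd 279, .edge 3, .fwd 161] [1] (.rel 724), .derive 558 [.bwd 200, .edge 7, .fwd 131, .fwd 130, .bwd 429, .fwd 433, .bwd 21, .fwd 205] [3] (.rel 949),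
  .derive 549 [.bwd 219, .edge 3, .edge 7, .bwd 25, .bwd 433, .bwd 22, .fwd 206, .bwd 0] [2] (.rel 1010), .derive 432 [.fwd 134, .fwd 135, .bwd 431, .fwd 435, .bwd 23, .fwd 207, .fwd 229, .fwd 18] [2] (.rel 1070), .derive 582 [.bwd 142, .fwd 134, .fwd 133, .bwd 432, .fwd 436, .bwd 24, .fwd 208, .fwd 230] [3] (.rel 1133), .derive 517 [.bwd 283, .bwd 0, .fwd 140] [3] (.rel 29), .derive 566 [.bwd 187, .bwd 33, .bwd 203, .fwd 205, .fwd 4, .fwd 232, .bwd 1] [1] (.rel 695), .derive 549 [.bwd 224, .edge 7, .fwd 286, .bwd 2, .bwd 145, .fwd 148, .fwd 39, .bwd 220, .fwd 221] [] (.rel 718), .derive 550 [.bwd 0] [] (.free), .derive 549 [.bwd 0, .bwd 223] [1] (.free),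
  .derive 549 [.bwd 1, .bwd 216] [6] (.free), .derive 544 [.bwd 226, .fwd 0] [] (.free), .derive 549 [.bwd 3, .bwd 192] [7] (.free), .derive 554 [.bwd 1] [] (.free), .derive 544 [.bwd 0, .bwd 221] [1] (.free), .derive 544 [.bwd 1, .fwd 31] [2] (.free), .derive 544 [.bwd 2, .bwd 176] [7] (.free), .derive 545 [.fwd 245, .bwd 294, .fwd 296, .bwd 12, .bwd 155, .fwd 158, .fwd 49, .bwd 230, .fwd 228] [] (.rel 816),
  .derive 552 [.bwd 0] [] (.free), .derive 545 [.bwd 0, .bwd 221] [6] (.free), .derive 541 [.bwd 249, .fwd 0] [] (.free), .derive 556 [.bwd 0] [] (.free), .derive 541 [.bwd 0, .bwd 225] [8] (.free), .derive 522 [.bwd 182, .bwd 22, .bwd 17, .bwd 38, .bwd 18, .bwd 16, .fwd 202] [8] (.rel 957), .derive 524 [.bwd 298, .fwd 303, .bwd 19, .bwd 160, .fwd 19, .bwd 303, .fwd 298] [8] (.rel 957), .derive 566 [.fwd 18, .fwd 161, .fwd 20, .bwd 304, .edge 7, .fwd 242, .fwd 12] [8] (.rel 946),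
  .derive 566 [.fwd 0, .fwd 206, .fwd 17, .bwd 243, .edge 4, .edge 5, .edge 9, .edge 8, .fwd 509] [4] (.rel 1317), .derive 614 [.bwd 106, .edge 5, .edge 6, .edge 3, .fwd 510, .bwd 0, .bwd 185] [] (.rel 1416), .derive 614 [.fwd 0] [] (.free), .derive 573 [.bwd 0, .fwd 107] [7] (.free), .derive 554 [.bwd 190, .fwd 0] [] (.free), .derive 608 [.bwd 0, .fwd 17] [] (.free), .derive 544 [.bwd 0, .fwd 121] [0] (.free), .derive 527 [.bwd 264, .fwd 0] [] (.free),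
  .derive 605 [.bwd 0] [] (.free), .derive 527 [.bwd 0, .bwd 128] [4] (.free), .derive 379 [.bwd 555, .edge 3, .edge 5, .bwd 0, .bwd 278, .fwd 279] [4] (.rel 1304), .derive 553 [.fwd 245, .bwd 0, .fwd 555] [4] (.rel 1326)]
def ph9_6 : List Aux := [
  .derive 357 [.bwd 590, .edge 6, .edge 3, .fwd 559, .bwd 0, .bwd 238] [4] (.rel 1417), .derive 420 [.bwd 23, .bwd 25, .bwd 246, .edge 4, .edge 1, .edge 2, .edge 0, .edge 1, .edge 4, .bwd 24, .fwd 270] [] (.rel 1341), .derive 527 [.bwd 0] [] (.free), .derive 420 [.bwd 0, .bwd 272] [0] (.free), .derive 420 [.bwd 1, .bwd 300] [6] (.free), .derive 558 [.fwd 241, .fwd 0] [] (.free), .derive 420 [.bwd 3, .bwd 311] [8] (.free), .derive 558 [.fwd 1] [] (.free),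
  .derive 531 [.bwd 0, .fwd 44] [3] (.free), .derive 535 [.fwd 298, .fwd 0] [] (.free), .derive 531 [.bwd 2, .bwd 185] [7] (.free), .derive 546 [.bwd 1] [] (.free), .derive 535 [.bwd 0, .fwd 275] [6] (.free), .derive 539 [.fwd 294, .fwd 0] [] (.free), .derive 542 [.bwd 0] [] (.free), .derive 539 [.bwd 0, .fwd 288] [7] (.free),
  .derive 539 [.bwd 1, .bwd 266] [9] (.free), .derive 416 [.bwd 508, .edge 0, .fwd 502, .bwd 14, .bwd 286, .fwd 40, .edge 0] [] (.rel 69), .derive 416 [.fwd 0] [] (.free), .derive 259 [.bwd 0, .bwd 492] [7] (.free), .derive 270 [.edge 7, .fwd 0] [] (.free), .derive 426 [.bwd 0] [] (.free), .derive 270 [.bwd 0, .bwd 183] [6] (.free), .derive 268 [.edge 6, .fwd 0] [] (.free),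
  .derive 586 [.bwd 0] [] (.free), .derive 268 [.bwd 0, .fwd 187] [7] (.free), .derive 258 [.edge 7, .fwd 0] [] (.free), .derive 577 [.bwd 0] [] (.free), .derive 258 [.bwd 0, .bwd 216] [1] (.free), .derive 533 [.bwd 322, .fwd 0] [] (.free), .derive 533 [.fwd 0] [] (.free), .derive 272 [.bwd 0, .bwd 256] [7] (.free),
  .derive 274 [.edge 7, .fwd 0] [] (.free), .derive 563 [.bwd 0] [] (.free), .derive 274 [.bwd 0, .fwd 258] [9] (.free), .derive 588 [.bwd 191, .fwd 0] [] (.free), .derive 588 [.fwd 0] [] (.free), .derive 511 [.bwd 0, .fwd 192] [7] (.free), .derive 525 [.fwd 346, .fwd 0] [] (.free), .derive 525 [.fwd 0] [] (.free),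
  .derive 427 [.bwd 0, .bwd 342] [6] (.free), .derive 587 [.fwd 199, .fwd 0] [] (.free), .derive 587 [.fwd 0] [] (.free), .derive 529 [.bwd 0, .fwd 202] [0] (.free), .derive 529 [.bwd 1, .fwd 201] [7] (.free), .derive 515 [.bwd 346, .fwd 0] [] (.free), .derive 515 [.fwd 0] [] (.free), .derive 428 [.bwd 0, .bwd 253] [9] (.free),
  .derive 189 [.fwd 519, .fwd 0] [] (.free), .derive 570 [.bwd 0] [] (.free), .derive 189 [.bwd 0, .fwd 257] [7] (.free), .derive 187 [.edge 7, .fwd 0] [] (.free), .derive 537 [.bwd 0] [] (.free), .derive 582 [.bwd 42, .bwd 45, .fwd 289, .bwd 50, .bwd 322, .bwd 306, .fwd 78] [0] (.rel 100), .derive 418 [.bwd 542, .edge 0, .fwd 539, .bwd 51, .bwd 323, .fwd 77, .edge 0, .fwd 333] [1] (.rel 488), .derive 427 [.bwd 15, .bwd 364, .bwd 48, .bwd 52, .bwd 324, .fwd 78, .edge 0, .fwd 341, .fwd 2, .edge 0, .fwd 533] [] (.rel 487),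
  .derive 427 [.fwd 0] [] (.free), .derive 424 [.bwd 0, .bwd 212, .fwd 20] [7] (.free), .derive 423 [.bwd 535, .fwd 0] [] (.free), .derive 525 [.fwd 19, .fwd 2] [] (.free), .derive 511 [.bwd 1] [] (.free), .derive 423 [.bwd 0, .bwd 393] [2] (.free), .derive 423 [.bwd 1, .bwd 388, .fwd 15] [6] (.free), .derive 560 [.fwd 294, .fwd 0] [] (.free),
  .derive 560 [.fwd 0] [] (.free), .derive 428 [.bwd 0, .bwd 293] [7] (.free), .derive 587 [.fwd 223, .fwd 0] [] (.free), .derive 561 [.bwd 0, .fwd 24] [] (.free), .derive 529 [.bwd 0, .bwd 252] [0] (.free), .derive 584 [.bwd 25, .fwd 0] [] (.free), .derive 584 [.fwd 0] [] (.free), .derive 579 [.bwd 0, .fwd 109] [2] (.free),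
  .derive 579 [.bwd 1, .fwd 239] [7] (.free), .derive 580 [.fwd 253, .fwd 0] [] (.free), .derive 580 [.fwd 0] [] (.free), .derive 431 [.bwd 0, .fwd 256] [6] (.free), .derive 583 [.fwd 247, .fwd 0] [] (.free), .derive 583 [.fwd 0] [] (.free), .derive 419 [.bwd 0, .bwd 247] [7] (.free), .derive 418 [.bwd 565, .fwd 0] [] (.free),
  .derive 432 [.bwd 0] [] (.free), .derive 418 [.bwd 0, .bwd 545] [9] (.free), .derive 526 [.bwd 389, .bwd 75, .bwd 79, .bwd 351, .bwd 106, .fwd 136, .bwd 79, .bwd 351, .bwd 106, .fwd 136, .bwd 79, .bwd 351] [8] (.rel 556), .derive 557 [.bwd 322, .bwd 106, .bwd 0] [1] (.rel 19), .derive 543 [.bwd 356, .fwd 354, .bwd 1, .bwd 382, .bwd 368] [] (.rel 64), .derive 543 [.fwd 0] [] (.free), .derive 538 [.bwd 0, .fwd 357] [0] (.free), .derive 538 [.bwd 1, .bwd 343] [6] (.free),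
  .derive 534 [.bwd 371, .fwd 0] [] (.free), .derive 548 [.bwd 0] [] (.free), .derive 534 [.bwd 0, .fwd 347] [0] (.free), .derive 553 [.bwd 329, .bwd 330, .bwd 114, .bwd 8, .bwd 389] [1] (.rel 174), .derive 568 [.bwd 306, .edge 7, .edge 3, .fwd 362, .bwd 9, .fwd 398] [8] (.rel 431), .derive 514 [.bwd 422, .bwd 132, .bwd 423, .edge 7, .bwd 86, .bwd 115, .bwd 10, .fwd 399, .bwd 0] [] (.rel 1121), .derive 568 [.bwd 0] [] (.free), .derive 514 [.bwd 0, .fwd 307] [3] (.free),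
  .derive 514 [.bwd 1, .bwd 285] [6] (.free), .derive 510 [.bwd 425, .fwd 0] [] (.free), .derive 576 [.bwd 0] [] (.free), .derive 510 [.bwd 0, .bwd 289] [9] (.free)]
def ph9_7 : List Aux := [
  .derive 421 [.bwd 162, .bwd 302, .bwd 0, .bwd 406, .fwd 17, .fwd 122, .fwd 93, .edge 7, .fwd 431] [] (.rel 1121), .derive 512 [.bwd 0] [] (.free), .derive 421 [.bwd 0, .bwd 420] [0] (.free), .derive 421 [.bwd 1, .bwd 306] [3] (.free), .derive 421 [.bwd 2, .bwd 428] [6] (.free), .derive 559 [.fwd 338, .fwd 0] [] (.free), .derive 559 [.fwd 0] [] (.free), .derive 516 [.bwd 0, .fwd 172] [1] (.free),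
  .derive 516 [.bwd 1, .bwd 343] [2] (.free), .derive 516 [.bwd 2, .bwd 286, .fwd 179] [7] (.free), .derive 516 [.bwd 3, .bwd 344, .fwd 3] [9] (.free), .derive 565 [.fwd 177, .fwd 4] [] (.free), .derive 564 [.fwd 334, .bwd 1, .fwd 436, .fwd 10, .fwd 8] [9] (.rel 54), .derive 529 [.bwd 45, .bwd 342, .edge 3, .bwd 4, .bwd 2, .bwd 335] [2] (.rel 249), .derive 536 [.fwd 401, .bwd 409, .edge 7, .fwd 439, .bwd 3, .fwd 4] [8] (.rel 447), .derive 579 [.bwd 44, .bwd 283, .edge 3, .bwd 184, .bwd 5, .bwd 4, .fwd 5, .bwd 0] [1] (.rel 947),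
  .derive 545 [.bwd 135, .bwd 365, .edge 7, .bwd 164, .bwd 332, .bwd 8, .bwd 5, .fwd 6, .bwd 1] [2] (.rel 1118), .derive 429 [.fwd 586, .fwd 600, .bwd 15, .bwd 441, .bwd 6, .fwd 7, .bwd 2, .bwd 395] [8] (.rel 1280), .derive 540 [.bwd 0, .fwd 175, .fwd 359, .fwd 134] [2] (.rel 27), .derive 569 [.bwd 330, .edge 7, .fwd 398, .bwd 1, .fwd 176, .fwd 360, .fwd 135, .fwd 394] [3] (.rel 885), .derive 528 [.bwd 397, .bwd 2, .bwd 590, .fwd 584, .fwd 39, .bwd 606, .bwd 607, .fwd 610, .bwd 595] [] (.rel 1071), .derive 528 [.fwd 0] [] (.free), .derive 425 [.bwd 0, .bwd 416] [6] (.free), .derive 585 [.fwd 288, .fwd 0] [] (.free),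
  .derive 425 [.bwd 2, .bwd 428] [9] (.free), .derive 585 [.fwd 1] [] (.free), .derive 532 [.bwd 0, .fwd 290] [7] (.free), .derive 417 [.fwd 616, .bwd 602, .bwd 5, .bwd 404, .bwd 9, .bwd 305, .fwd 197, .fwd 377, .fwd 112, .fwd 111] [8] (.rel 1247), .derive 571 [.bwd 24, .bwd 597, .fwd 10, .bwd 73, .fwd 46, .edge 7, .fwd 606] [2] (.rel 1086), .derive 520 [.bwd 448, .fwd 452, .bwd 1] [1] (.rel 19), .derive 569 [.bwd 341, .edge 0, .bwd 191, .bwd 28, .bwd 448, .bwd 449, .fwd 453, .bwd 2] [0] (.rel 490), .derive 520 [.bwd 28, .bwd 615, .edge 0, .fwd 619, .bwd 50, .fwd 165, .bwd 3, .bwd 0] [2] (.rel 552),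
  .derive 517 [.bwd 4, .bwd 607, .fwd 7, .edge 4, .edge 5, .edge 9, .edge 8, .fwd 713] [4] (.rel 1317), .derive 520 [.fwd 3, .fwd 622, .fwd 5, .bwd 456, .fwd 452] [8] (.rel 221), .derive 569 [.bwd 2, .fwd 0, .fwd 2] [8] (.rel 26), .derive 562 [.bwd 345, .fwd 0, .bwd 3, .fwd 1, .bwd 445] [2] (.rel 253), .derive 396 [.bwd 668, .edge 3, .fwd 717, .bwd 3, .fwd 168, .bwd 309] [4] (.rel 1304), .derive 398 [.bwd 666, .edge 6, .edge 3, .fwd 718, .bwd 4, .bwd 453] [4] (.rel 1417), .derive 401 [.bwd 149, .fwd 169, .bwd 314, .bwd 596, .fwd 597, .fwd 735, .edge 6, .fwd 337, .bwd 175, .bwd 311, .bwd 1] [3] (.rel 1477), .derive 460 [.bwd 556, .edge 4, .edge 3, .fwd 660, .fwd 0, .fwd 2, .fwd 172] [] (.rel 1387),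
  .derive 521 [.bwd 0] [] (.free), .derive 460 [.bwd 0, .bwd 458] [1] (.free), .derive 460 [.bwd 1, .bwd 4] [4] (.free), .derive 460 [.bwd 2, .bwd 407, .fwd 131] [7] (.free), .derive 449 [.bwd 560, .fwd 0] [] (.free), .derive 535 [.bwd 0] [] (.free), .derive 449 [.bwd 0, .bwd 427] [6] (.free), .derive 240 [.fwd 579, .fwd 0] [] (.free),
  .derive 546 [.fwd 136, .fwd 2] [] (.free), .derive 539 [.bwd 1] [] (.free), .derive 240 [.bwd 0, .bwd 432] [8] (.free), .derive 450 [.bwd 582, .fwd 0] [] (.free), .derive 240 [.bwd 2, .fwd 135] [9] (.free), .derive 451 [.bwd 583, .fwd 0] [] (.free), .derive 551 [.bwd 0] [] (.free), .derive 451 [.bwd 0, .bwd 375, .fwd 43] [7] (.free),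
  .derive 450 [.fwd 4] [] (.free), .derive 259 [.bwd 0, .bwd 578] [0] (.free), .derive 263 [.edge 0, .fwd 0] [] (.free), .derive 457 [.bwd 0] [] (.free), .derive 263 [.bwd 0, .bwd 582] [9] (.free), .derive 557 [.bwd 400, .fwd 0] [] (.free), .derive 557 [.fwd 0] [] (.free), .derive 241 [.bwd 0, .fwd 79] [1] (.free),
  .derive 452 [.bwd 593, .fwd 0] [] (.free), .derive 241 [.bwd 2, .bwd 164] [4] (.free), .derive 54 [.edge 4, .fwd 0] [] (.free), .derive 241 [.bwd 4, .fwd 405] [6] (.free), .derive 455 [.bwd 593, .fwd 0] [] (.free), .derive 553 [.bwd 0] [] (.free), .derive 455 [.bwd 0, .fwd 78] [1] (.free), .derive 357 [.bwd 4] [] (.free),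
  .derive 54 [.bwd 0, .bwd 754] [7] (.free), .derive 70 [.edge 7, .fwd 0] [] (.free), .derive 362 [.bwd 0] [] (.free), .derive 70 [.bwd 0, .bwd 758] [5] (.free), .derive 363 [.bwd 757, .fwd 0] [] (.free), .derive 363 [.fwd 0] [] (.free), .derive 69 [.bwd 0, .bwd 45] [4] (.free), .derive 242 [.edge 4, .fwd 0] [] (.free),
  .derive 517 [.bwd 0] [] (.free), .derive 242 [.bwd 0, .fwd 213] [3] (.free), .derive 458 [.bwd 602, .fwd 0] [] (.free), .derive 242 [.bwd 2, .bwd 55] [8] (.free), .derive 461 [.bwd 599, .fwd 0] [] (.free), .derive 242 [.bwd 4, .bwd 238, .fwd 44] [9] (.free), .derive 462 [.bwd 600, .fwd 0] [] (.free), .derive 462 [.fwd 0] [] (.free),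
  .derive 460 [.bwd 0, .bwd 590] [0] (.free), .derive 467 [.fwd 594, .fwd 0] [] (.free), .derive 468 [.bwd 0] [] (.free), .derive 461 [.fwd 6] [] (.free), .derive 417 [.bwd 0, .bwd 592] [0] (.free), .derive 569 [.fwd 62, .fwd 0] [] (.free), .derive 569 [.fwd 0] [] (.free), .derive 469 [.bwd 0, .fwd 404] [7] (.free),
  .derive 458 [.fwd 13] [] (.free), .derive 430 [.bwd 0, .fwd 616] [7] (.free), .derive 420 [.bwd 665, .fwd 0] [] (.free), .derive 448 [.bwd 0] [] (.free)]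
def ph9_8 : List Aux := [
  .derive 420 [.bwd 0, .bwd 626] [0] (.free), .derive 544 [.bwd 197, .fwd 0] [] (.free), .derive 544 [.fwd 0] [] (.free), .derive 454 [.bwd 0, .fwd 224] [7] (.free), .derive 465 [.fwd 612, .fwd 0] [] (.free), .derive 454 [.bwd 2, .bwd 122] [8] (.free), .derive 554 [.fwd 230, .fwd 3] [] (.free), .derive 573 [.bwd 2] [] (.free),
  .derive 465 [.bwd 0, .fwd 405] [9] (.free), .derive 614 [.fwd 218, .fwd 1] [] (.free), .derive 526 [.bwd 45] [] (.free), .derive 452 [.bwd 0, .bwd 518] [2] (.free), .derive 452 [.bwd 1, .fwd 518] [7] (.free), .derive 464 [.fwd 623, .fwd 0] [] (.free), .derive 452 [.bwd 3, .bwd 505] [9] (.free), .derive 510 [.bwd 1] [] (.free),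
  .derive 464 [.bwd 0, .bwd 549] [1] (.free), .derive 464 [.bwd 1, .bwd 545] [6] (.free), .derive 464 [.bwd 2, .bwd 125, .fwd 123] [8] (.free), .derive 464 [.bwd 3, .fwd 119] [9] (.free), .derive 576 [.fwd 121, .fwd 4] [] (.free), .derive 467 [.bwd 30, .bwd 624, .fwd 630, .bwd 13, .bwd 420, .bwd 1, .fwd 2] [2] (.rel 243), .derive 456 [.bwd 645, .bwd 59, .bwd 461, .edge 7, .bwd 2, .fwd 3, .bwd 521] [3] (.rel 413), .derive 463 [.bwd 636, .fwd 632, .bwd 15, .bwd 422, .bwd 3, .fwd 633, .fwd 11, .fwd 532, .fwd 163, .bwd 94] [] (.rel 789),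
  .derive 571 [.bwd 0] [] (.free), .derive 463 [.bwd 0, .fwd 96] [2] (.free), .derive 463 [.bwd 1, .fwd 429, .fwd 124] [3] (.free), .derive 463 [.bwd 2, .bwd 114] [9] (.free), .derive 456 [.bwd 651, .fwd 655, .bwd 21, .bwd 473, .edge 7, .bwd 8, .fwd 638, .fwd 13] [1] (.rel 915), .derive 456 [.bwd 652, .bwd 66, .bwd 468, .edge 7, .bwd 9, .fwd 11, .fwd 133, .bwd 242] [7] (.rel 1212), .derive 545 [.fwd 497, .bwd 246, .bwd 471, .edge 7, .bwd 10, .fwd 11, .bwd 529, .bwd 7] [9] (.rel 1227), .derive 423 [.bwd 170, .bwd 563, .bwd 14, .bwd 10, .bwd 421, .edge 7, .fwd 476, .fwd 24, .bwd 658, .fwd 659] [1] (.rel 724),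
  .derive 429 [.fwd 701, .bwd 130, .bwd 563, .bwd 15, .bwd 11, .bwd 422, .edge 7, .fwd 471, .fwd 69, .fwd 660] [3] (.rel 1087), .derive 453 [.bwd 0, .fwd 289, .fwd 84, .bwd 665, .fwd 666, .fwd 33] [9] (.rel 54), .derive 564 [.bwd 6, .fwd 646, .bwd 1, .fwd 291, .fwd 473, .fwd 71, .edge 7, .fwd 637, .fwd 43] [1] (.rel 1130), .derive 453 [.bwd 3, .fwd 173, .edge 0, .fwd 558, .fwd 54, .edge 4, .edge 1, .edge 0, .edge 2, .edge 1, .edge 4] [] (.rel 1334), .derive 453 [.fwd 0] [] (.free), .derive 245 [.bwd 0, .fwd 3] [9] (.free), .derive 479 [.bwd 625, .fwd 0] [] (.free), .derive 479 [.fwd 0] [] (.free),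
  .derive 420 [.bwd 0, .fwd 626] [0] (.free), .derive 544 [.bwd 237, .fwd 0] [] (.free), .derive 472 [.bwd 0, .fwd 39] [] (.free), .derive 454 [.bwd 0, .bwd 640] [8] (.free), .derive 526 [.bwd 38, .fwd 0] [] (.free), .derive 452 [.bwd 34, .fwd 0] [] (.free), .derive 244 [.bwd 0, .bwd 656] [7] (.free), .derive 246 [.edge 7, .fwd 0] [] (.free),
  .derive 244 [.bwd 2, .fwd 33] [9] (.free), .derive 473 [.bwd 645, .fwd 0] [] (.free), .derive 534 [.bwd 0] [] (.free), .derive 473 [.bwd 0, .fwd 160] [0] (.free), .derive 478 [.fwd 640, .fwd 0] [] (.free), .derive 473 [.bwd 2, .bwd 24] [1] (.free), .derive 532 [.bwd 1] [] (.free), .derive 478 [.bwd 0, .fwd 128] [7] (.free),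
  .derive 464 [.bwd 8] [] (.free), .derive 246 [.bwd 0, .bwd 668] [2] (.free), .derive 480 [.bwd 643, .fwd 0] [] (.free), .derive 246 [.bwd 2, .fwd 39] [9] (.free), .derive 484 [.bwd 639, .fwd 0] [] (.free), .derive 484 [.fwd 0] [] (.free), .derive 271 [.bwd 0, .bwd 629] [0] (.free), .derive 270 [.edge 0, .fwd 0] [] (.free),
  .derive 489 [.bwd 0] [] (.free), .derive 270 [.bwd 0, .bwd 633] [8] (.free), .derive 571 [.bwd 471, .fwd 0] [] (.free), .derive 463 [.bwd 42, .fwd 0] [] (.free), .derive 247 [.bwd 0, .bwd 681] [1] (.free), .derive 485 [.bwd 647, .fwd 0] [] (.free), .derive 247 [.bwd 2, .fwd 44] [2] (.free), .derive 486 [.bwd 647, .fwd 0] [] (.free),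
  .derive 247 [.bwd 4, .fwd 45] [3] (.free), .derive 487 [.bwd 647, .fwd 0] [] (.free), .derive 247 [.bwd 6, .fwd 46] [9] (.free), .derive 490 [.bwd 641, .fwd 0] [] (.free), .derive 571 [.fwd 51, .fwd 8] [] (.free), .derive 564 [.bwd 1] [] (.free), .derive 490 [.bwd 0, .bwd 491, .fwd 183] [0] (.free), .derive 483 [.bwd 644, .fwd 0] [] (.free),
  .derive 490 [.bwd 2, .bwd 166] [2] (.free), .derive 490 [.bwd 3, .fwd 503] [3] (.free), .derive 490 [.bwd 4, .bwd 486, .fwd 5] [6] (.free), .derive 488 [.bwd 654, .bwd 0] [] (.free), .derive 490 [.bwd 0] [] (.free), .derive 488 [.bwd 0, .fwd 650] [0] (.free), .derive 482 [.bwd 656, .fwd 0] [] (.free), .derive 488 [.bwd 2, .fwd 6] [2] (.free),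
  .derive 488 [.bwd 3, .fwd 6] [3] (.free), .derive 488 [.bwd 4, .bwd 655] [9] (.free), .derive 564 [.fwd 12, .fwd 5] [] (.free), .derive 483 [.bwd 4] [] (.free), .derive 514 [.bwd 12, .fwd 0] [] (.free), .derive 482 [.bwd 0, .bwd 71] [2] (.free), .derive 510 [.fwd 78, .fwd 37] [] (.free), .derive 482 [.bwd 2, .bwd 594] [7] (.free),
  .derive 471 [.bwd 677, .fwd 0] [] (.free), .derive 530 [.bwd 0] [] (.free), .derive 471 [.bwd 0, .bwd 206, .fwd 128] [1] (.free), .derive 471 [.bwd 1, .bwd 599] [2] (.free)]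
def ph9_9 : List Aux := [
  .derive 471 [.bwd 2, .bwd 584] [9] (.free), .derive 487 [.fwd 27] [] (.free), .derive 421 [.bwd 0, .fwd 675] [0] (.free), .derive 520 [.bwd 200, .fwd 0] [] (.free), .derive 421 [.bwd 2, .fwd 676] [7] (.free), .derive 429 [.fwd 774, .fwd 0] [] (.free), .derive 476 [.bwd 0] [] (.free), .derive 429 [.bwd 0, .fwd 699] [0] (.free),
  .derive 520 [.fwd 4] [] (.free), .derive 481 [.bwd 0, .fwd 179] [1] (.free), .derive 481 [.bwd 1, .fwd 178, .fwd 115] [2] (.free), .derive 481 [.bwd 2, .bwd 630] [9] (.free), .derive 486 [.fwd 40] [] (.free), .derive 424 [.bwd 0, .fwd 688] [7] (.free), .derive 423 [.bwd 791, .fwd 0] [] (.free), .derive 474 [.bwd 0] [] (.free),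
  .derive 485 [.fwd 46] [] (.free), .derive 243 [.bwd 0, .fwd 694] [7] (.free), .derive 241 [.edge 7, .fwd 0] [] (.free), .derive 475 [.bwd 0] [] (.free), .derive 480 [.fwd 61] [] (.free), .derive 428 [.bwd 256, .fwd 552, .bwd 5, .bwd 716, .fwd 712] [1] (.rel 11), .derive 455 [.bwd 726, .bwd 728, .bwd 1, .bwd 707, .bwd 27, .bwd 655, .bwd 260, .bwd 6, .bwd 717, .fwd 713] [2] (.rel 752), .derive 425 [.bwd 201, .bwd 627, .edge 7, .bwd 261, .bwd 7, .bwd 718, .fwd 717, .fwd 3, .fwd 752, .fwd 77, .fwd 722] [2] (.rel 784),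
  .derive 477 [.bwd 2, .bwd 259, .fwd 554, .bwd 8, .bwd 719, .edge 7, .fwd 690, .fwd 39, .fwd 35, .fwd 214, .fwd 169] [3] (.rel 843), .derive 425 [.bwd 801, .fwd 796, .bwd 260, .fwd 555, .bwd 9, .bwd 720, .edge 7, .fwd 691, .fwd 40, .fwd 694] [8] (.rel 946), .derive 419 [.bwd 805, .bwd 10, .bwd 721, .edge 4, .edge 1, .edge 0, .edge 2, .edge 1, .edge 4, .fwd 685] [2] (.rel 1336), .derive 505 [.fwd 671, .bwd 0, .fwd 813, .fwd 272] [] (.rel 13), .derive 540 [.bwd 0] [] (.free), .derive 505 [.bwd 0, .fwd 210] [2] (.free), .derive 251 [.fwd 675, .fwd 0] [] (.free), .derive 505 [.bwd 2, .fwd 609] [6] (.free),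
  .derive 505 [.bwd 3, .bwd 214] [8] (.free), .derive 541 [.bwd 2] [] (.free), .derive 251 [.bwd 0, .fwd 349] [8] (.free), .derive 508 [.bwd 672, .fwd 0] [] (.free), .derive 508 [.fwd 0] [] (.free), .derive 263 [.bwd 0, .fwd 673] [0] (.free), .derive 259 [.edge 0, .fwd 0] [] (.free), .derive 504 [.bwd 0] [] (.free),
  .derive 259 [.bwd 0, .bwd 686] [9] (.free), .derive 540 [.bwd 620, .fwd 0] [] (.free), .derive 505 [.bwd 13, .fwd 0] [] (.free), .derive 250 [.bwd 0, .fwd 11] [6] (.free), .derive 502 [.bwd 693, .fwd 0] [] (.free), .derive 250 [.bwd 2, .fwd 689] [7] (.free), .derive 248 [.edge 7, .fwd 0] [] (.free), .derive 250 [.bwd 4, .fwd 14] [8] (.free),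
  .derive 503 [.bwd 695, .fwd 0] [] (.free), .derive 503 [.fwd 0] [] (.free), .derive 429 [.bwd 0, .bwd 684] [0] (.free), .derive 470 [.bwd 43, .fwd 0] [] (.free), .derive 509 [.bwd 0] [] (.free), .derive 470 [.bwd 0, .bwd 688] [9] (.free), .derive 496 [.bwd 7] [] (.free), .derive 248 [.bwd 0, .bwd 28] [2] (.free),
  .derive 491 [.bwd 720, .fwd 0] [] (.free), .derive 491 [.fwd 0] [] (.free), .derive 536 [.bwd 13] [] (.free), .derive 502 [.bwd 0, .bwd 607, .fwd 378] [0] (.free), .derive 507 [.fwd 699, .fwd 0] [] (.free), .derive 502 [.bwd 2, .fwd 648, .fwd 106] [3] (.free), .derive 502 [.bwd 3, .fwd 247, .fwd 207] [8] (.free), .derive 502 [.bwd 4, .bwd 651] [9] (.free),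
  .derive 545 [.bwd 3] [] (.free), .derive 507 [.bwd 0, .bwd 633] [1] (.free), .derive 507 [.bwd 1, .fwd 249, .fwd 7] [2] (.free), .derive 507 [.bwd 2, .fwd 633] [7] (.free), .derive 498 [.bwd 706, .fwd 0] [] (.free), .derive 522 [.bwd 0] [] (.free), .derive 498 [.bwd 0, .bwd 685] [2] (.free), .derive 498 [.bwd 1, .fwd 685] [6] (.free),
  .derive 249 [.fwd 729, .fwd 0] [] (.free), .derive 518 [.bwd 0] [] (.free), .derive 249 [.bwd 0, .bwd 254, .fwd 179] [3] (.free), .derive 497 [.bwd 733, .fwd 0] [] (.free), .derive 249 [.bwd 2, .bwd 390, .fwd 6] [8] (.free), .derive 499 [.bwd 732, .fwd 0] [] (.free), .derive 249 [.bwd 4, .bwd 595] [9] (.free), .derive 500 [.bwd 732, .fwd 0] [] (.free),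
  .derive 566 [.bwd 0] [] (.free), .derive 500 [.bwd 0, .bwd 327] [0] (.free), .derive 494 [.bwd 734, .fwd 0] [] (.free), .derive 582 [.bwd 0] [] (.free), .derive 494 [.bwd 0, .fwd 417, .fwd 243] [3] (.free), .derive 494 [.bwd 1, .fwd 558] [6] (.free), .derive 494 [.bwd 2, .fwd 561, .fwd 378] [7] (.free), .derive 499 [.fwd 9] [] (.free),
  .derive 498 [.bwd 0, .fwd 742] [0] (.free), .derive 493 [.bwd 745, .fwd 0] [] (.free), .derive 495 [.bwd 0] [] (.free), .derive 497 [.fwd 15] [] (.free), .derive 469 [.bwd 0, .bwd 733] [7] (.free), .derive 538 [.bwd 197, .fwd 0] [] (.free), .derive 538 [.fwd 0] [] (.free), .derive 506 [.bwd 0, .fwd 308, .fwd 273] [0] (.free),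
  .derive 501 [.bwd 738, .fwd 0] [] (.free), .derive 506 [.bwd 2, .fwd 680, .fwd 146] [6] (.free), .derive 506 [.bwd 3, .fwd 682, .fwd 100] [9] (.free), .derive 501 [.fwd 2] [] (.free)]
def ph9_10 : List Aux := [
  .derive 425 [.bwd 0, .fwd 750] [7] (.free), .derive 417 [.bwd 876, .fwd 0] [] (.free), .derive 492 [.bwd 0] [] (.free), .derive 493 [.bwd 765, .bwd 48, .bwd 76, .bwd 584, .fwd 328, .bwd 869, .fwd 871] [8] (.rel 257), .derive 493 [.bwd 13, .bwd 764, .bwd 49, .bwd 77, .fwd 890, .bwd 587, .fwd 332, .fwd 263, .fwd 262, .fwd 719, .fwd 34] [1] (.rel 734), .derive 506 [.bwd 10, .bwd 690, .bwd 386, .bwd 896, .fwd 892, .bwd 47, .bwd 769, .edge 7, .fwd 756, .fwd 5, .fwd 81] [1] (.rel 740), .derive 470 [.bwd 0, .fwd 8, .fwd 152] [6] (.rel 10), .derive 470 [.bwd 1, .fwd 8, .fwd 108] [8] (.rel 18),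
  .derive 369 [.bwd 980, .edge 6, .edge 4, .bwd 227, .fwd 440, .bwd 22, .fwd 23, .fwd 265] [6] (.rel 1425), .derive 379 [.bwd 937, .bwd 0, .fwd 980] [6] (.rel 33), .derive 367 [.bwd 983, .bwd 0, .fwd 966] [6] (.rel 2), .derive 412 [.bwd 912, .edge 3, .edge 4, .fwd 760, .bwd 44, .fwd 45, .edge 6, .edge 4, .edge 3, .edge 4, .fwd 856] [2] (.rel 1480), .derive 443 [.bwd 857, .edge 4, .bwd 440, .fwd 666, .bwd 404, .bwd 447, .bwd 441, .bwd 664, .edge 4, .fwd 857, .bwd 0, .fwd 912] [] (.rel 1337), .derive 443 [.fwd 0] [] (.free), .derive 406 [.bwd 0, .bwd 2] [2] (.free), .derive 384 [.bwd 914, .bwd 0, .fwd 929] [1] (.rel 13),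
  .derive 355 [.fwd 1013, .edge 3, .edge 4, .edge 6, .bwd 45, .bwd 11, .bwd 778, .edge 4, .edge 3, .fwd 967, .fwd 0] [2] (.rel 1480), .derive 400 [.bwd 941, .edge 1, .edge 2, .edge 0, .edge 1, .fwd 967, .bwd 1, .bwd 966, .bwd 0] [1] (.rel 1343), .derive 409 [.bwd 927, .edge 1, .edge 0, .edge 2, .edge 1, .fwd 969, .fwd 2, .bwd 1, .bwd 1010] [1] (.rel 1338), .derive 446 [.bwd 858, .bwd 1010, .bwd 0, .fwd 926] [] (.rel 14), .derive 446 [.fwd 0] [] (.free), .derive 388 [.bwd 0, .fwd 859] [6] (.free), .derive 395 [.bwd 945, .fwd 4, .bwd 1014, .bwd 3, .fwd 930] [1] (.rel 68), .derive 441 [.bwd 872, .bwd 1018, .bwd 1015, .bwd 4, .fwd 931, .bwd 0, .bwd 946] [6] (.rel 468),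
  .derive 375 [.bwd 957, .bwd 947, .fwd 6, .bwd 1016, .bwd 5, .fwd 932, .fwd 963] [2] (.rel 477), .derive 444 [.bwd 869, .bwd 1021, .bwd 1017, .bwd 6, .fwd 933, .bwd 2, .bwd 948, .fwd 947] [] (.rel 476), .derive 444 [.fwd 0] [] (.free), .derive 374 [.bwd 0, .bwd 871] [2] (.free), .derive 374 [.bwd 1, .fwd 871] [6] (.free), .derive 395 [.bwd 952, .fwd 11, .fwd 1026, .bwd 321, .bwd 740, .bwd 293, .bwd 656, .bwd 1022, .bwd 10] [2] (.rel 1336), .derive 388 [.bwd 937, .bwd 0, .fwd 963] [1] (.rel 13), .derive 437 [.bwd 2, .bwd 994, .edge 3, .fwd 1021, .fwd 259, .edge 3, .fwd 993] [3] (.rel 1387),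
  .derive 438 [.bwd 873, .bwd 874, .bwd 4, .bwd 5, .fwd 875, .fwd 0, .fwd 7] [] (.rel 228), .derive 438 [.fwd 0] [] (.free), .derive 380 [.bwd 0, .bwd 868] [7] (.free), .derive 392 [.fwd 974, .fwd 0] [] (.free), .derive 447 [.bwd 0] [] (.free), .derive 392 [.bwd 0, .fwd 873] [0] (.free), .derive 409 [.fwd 946, .fwd 0] [] (.free), .derive 445 [.bwd 0] [] (.free),
  .derive 409 [.bwd 0, .fwd 880] [7] (.free), .derive 388 [.bwd 948, .fwd 0] [] (.free), .derive 440 [.bwd 0] [] (.free), .derive 388 [.bwd 0, .bwd 878, .fwd 6] [6] (.free), .derive 439 [.bwd 22, .fwd 0] [] (.free), .derive 439 [.fwd 0] [] (.free), .derive 392 [.bwd 0, .bwd 892] [7] (.free), .derive 380 [.bwd 986, .fwd 0] [] (.free),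
  .derive 442 [.bwd 0] [] (.free), .derive 380 [.bwd 0, .bwd 896] [1] (.free), .derive 400 [.fwd 32, .fwd 1045, .edge 0, .bwd 0, .bwd 995, .fwd 19, .fwd 1011, .bwd 23, .fwd 893] [] (.rel 468), .derive 437 [.bwd 0] [] (.free), .derive 400 [.bwd 0, .bwd 900] [7] (.free), .derive 374 [.bwd 975, .fwd 0] [] (.free), .derive 441 [.bwd 0] [] (.free), .derive 376 [.bwd 1015, .edge 6, .fwd 1018, .bwd 0, .fwd 31, .bwd 979, .edge 6] [] (.rel 1355),
  .derive 376 [.fwd 0] [] (.free), .derive 139 [.bwd 0, .bwd 982] [7] (.free), .derive 117 [.edge 7, .fwd 0] [] (.free), .derive 399 [.bwd 0] [] (.free), .derive 117 [.bwd 0, .fwd 986] [0] (.free), .derive 118 [.edge 0, .fwd 0] [] (.free), .derive 397 [.bwd 0] [] (.free), .derive 118 [.bwd 0, .fwd 993] [7] (.free),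
  .derive 138 [.edge 7, .fwd 0] [] (.free), .derive 378 [.bwd 0] [] (.free), .derive 379 [.bwd 1023, .bwd 3, .bwd 997, .edge 3, .edge 6, .edge 4, .fwd 873] [3] (.rel 1306), .derive 386 [.bwd 1015, .edge 1, .edge 2, .edge 0, .edge 1, .bwd 4, .bwd 998, .edge 1, .edge 0, .edge 2, .edge 1] [] (.rel 1343), .derive 386 [.fwd 0] [] (.free), .derive 132 [.bwd 0, .bwd 974] [7] (.free), .derive 124 [.edge 7, .fwd 0] [] (.free), .derive 410 [.bwd 0] [] (.free),
  .derive 124 [.bwd 0, .bwd 978] [4] (.free), .derive 382 [.bwd 1026, .fwd 0] [] (.free), .derive 382 [.fwd 0] [] (.free), .derive 609 [.bwd 601, .edge 5, .fwd 1049, .bwd 65, .bwd 1032, .bwd 12, .bwd 1006, .edge 6, .fwd 1007, .fwd 338, .fwd 91] [] (.rel 1367), .derive 609 [.fwd 0] [] (.free), .derive 494 [.bwd 0, .bwd 591] [7] (.free), .derive 531 [.bwd 91, .fwd 0] [] (.free), .derive 615 [.bwd 0] [] (.free),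
  .derive 531 [.bwd 0, .bwd 595] [6] (.free), .derive 527 [.bwd 777, .fwd 0] [] (.free), .derive 420 [.bwd 479, .fwd 0] [] (.free), .derive 290 [.bwd 0, .bwd 249, .fwd 246] [9] (.free), .derive 616 [.bwd 597, .fwd 0] [] (.free), .derive 616 [.fwd 0] [] (.free), .derive 245 [.bwd 0, .fwd 598] [0] (.free), .derive 244 [.edge 0, .fwd 0] [] (.free),
  .derive 612 [.bwd 0] [] (.free), .derive 244 [.bwd 0, .bwd 610] [8] (.free), .derive 472 [.bwd 887, .fwd 0] [] (.free), .derive 454 [.bwd 248, .fwd 0] [] (.free), .derive 289 [.bwd 0, .bwd 900] [7] (.free), .derive 287 [.edge 7, .fwd 0] [] (.free), .derive 465 [.bwd 0] [] (.free), .derive 287 [.bwd 0, .fwd 286, .fwd 125] [9] (.free),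
  .derive 606 [.bwd 626, .fwd 0] [] (.free), .derive 606 [.fwd 0] [] (.free), .derive 498 [.bwd 0, .bwd 622] [0] (.free), .derive 493 [.bwd 855, .fwd 0] [] (.free)]
def ph9_11 : List Aux := [
  .derive 610 [.bwd 0] [] (.free), .derive 493 [.bwd 0, .bwd 626] [8] (.free), .derive 430 [.bwd 98, .fwd 0] [] (.free), .derive 430 [.fwd 0] [] (.free), .derive 288 [.bwd 0, .bwd 536, .fwd 323] [3] (.free), .derive 607 [.bwd 634, .fwd 0] [] (.free), .derive 607 [.fwd 0] [] (.free), .derive 242 [.bwd 0, .bwd 625] [7] (.free),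
  .derive 240 [.edge 7, .fwd 0] [] (.free), .derive 613 [.bwd 0] [] (.free), .derive 240 [.bwd 0, .fwd 629] [0] (.free), .derive 241 [.edge 0, .fwd 0] [] (.free), .derive 611 [.bwd 0] [] (.free), .derive 241 [.bwd 0, .fwd 635] [7] (.free), .derive 243 [.edge 7, .fwd 0] [] (.free), .derive 604 [.bwd 0] [] (.free),
  .derive 614 [.fwd 306, .fwd 21] [] (.free), .derive 459 [.bwd 935, .fwd 934, .bwd 376, .bwd 379, .bwd 1046, .bwd 51, .bwd 1075, .fwd 1074, .fwd 50] [4] (.rel 1447), .derive 377 [.bwd 107, .bwd 1093, .edge 5, .bwd 23, .bwd 927, .fwd 925, .bwd 0] [3] (.rel 1302), .derive 455 [.bwd 349, .fwd 519, .fwd 0, .fwd 1, .bwd 926, .fwd 925] [5] (.rel 1292), .derive 488 [.bwd 229, .fwd 285, .bwd 226, .bwd 890, .bwd 229, .fwd 285, .bwd 0, .fwd 349, .fwd 222, .bwd 910, .bwd 197, .fwd 349, .fwd 222] [5] (.rel 1344), .derive 502 [.bwd 162, .bwd 405, .bwd 450, .bwd 477, .bwd 233, .bwd 230, .fwd 286, .bwd 1,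 .fwd 350, .fwd 223, .fwd 221, .edge 0, .fwd 789, .fwd 156] [5] (.rel 1349), .derive 623 [.bwd 625, .edge 5, .edge 6, .edge 4, .fwd 862, .bwd 0, .fwd 160] [] (.rel 1401), .derive 623 [.fwd 0] [] (.free),
  .derive 478 [.bwd 0, .fwd 626] [7] (.free), .derive 578 [.bwd 269, .fwd 0] [] (.free), .derive 619 [.bwd 0] [] (.free), .derive 578 [.bwd 0, .bwd 636] [6] (.free), .derive 417 [.bwd 714, .fwd 0] [] (.free), .derive 417 [.fwd 0] [] (.free), .derive 292 [.bwd 0, .fwd 402, .fwd 349] [8] (.free), .derive 620 [.bwd 639, .fwd 0] [] (.free),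
  .derive 620 [.fwd 0] [] (.free), .derive 242 [.bwd 0, .fwd 640] [0] (.free), .derive 243 [.edge 0, .fwd 0] [] (.free), .derive 617 [.bwd 0] [] (.free), .derive 243 [.bwd 0, .bwd 647] [9] (.free), .derive 469 [.bwd 938, .fwd 0] [] (.free), .derive 469 [.fwd 0] [] (.free), .derive 291 [.bwd 0, .fwd 343, .fwd 144] [7] (.free),
  .derive 293 [.edge 7, .fwd 0] [] (.free), .derive 506 [.bwd 0] [] (.free), .derive 293 [.bwd 0, .fwd 143] [9] (.free), .derive 621 [.bwd 649, .fwd 0] [] (.free), .derive 538 [.fwd 149, .fwd 2] [] (.free), .derive 621 [.fwd 1] [] (.free), .derive 471 [.bwd 0, .bwd 646] [0] (.free), .derive 477 [.fwd 937, .fwd 0] [] (.free),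
  .derive 624 [.bwd 0] [] (.free), .derive 477 [.bwd 0, .bwd 650] [8] (.free), .derive 425 [.fwd 224, .fwd 0] [] (.free), .derive 425 [.fwd 0] [] (.free), .derive 294 [.bwd 0, .fwd 228] [2] (.free), .derive 622 [.bwd 658, .fwd 0] [] (.free), .derive 492 [.fwd 151, .fwd 24] [] (.free), .derive 622 [.fwd 1] [] (.free),
  .derive 470 [.bwd 0, .fwd 660] [7] (.free), .derive 481 [.fwd 940, .fwd 0] [] (.free), .derive 618 [.bwd 0] [] (.free), .derive 481 [.bwd 0, .bwd 669, .edge 0, .bwd 20, .bwd 248, .fwd 249, .fwd 29, .edge 5, .edge 1, .edge 2, .edge 0, .edge 1, .edge 5] [] (.rel 1349), .derive 481 [.fwd 0] [] (.free), .derive 284 [.bwd 0, .fwd 249] [9] (.free), .derive 596 [.bwd 708, .fwd 0] [] (.free), .derive 596 [.fwd 0] [] (.free),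
  .derive 254 [.bwd 0, .fwd 709] [0] (.free), .derive 252 [.edge 0, .fwd 0] [] (.free), .derive 591 [.bwd 0] [] (.free), .derive 252 [.bwd 0, .bwd 719] [8] (.free), .derive 512 [.bwd 899, .fwd 0] [] (.free), .derive 421 [.bwd 467, .fwd 0] [] (.free), .derive 283 [.bwd 0, .bwd 1039] [7] (.free), .derive 285 [.edge 7, .fwd 0] [] (.free),
  .derive 283 [.bwd 2, .bwd 1055, .fwd 2] [9] (.free), .derive 592 [.bwd 724, .bwd 0] [] (.free), .derive 592 [.fwd 0] [] (.free), .derive 283 [.bwd 0, .bwd 722] [0] (.free), .derive 284 [.edge 0, .fwd 0] [] (.free), .derive 595 [.bwd 0] [] (.free), .derive 512 [.fwd 476, .fwd 8] [] (.free), .derive 429 [.bwd 7] [] (.free),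
  .derive 285 [.bwd 0, .bwd 1050] [1] (.free), .derive 597 [.bwd 725, .fwd 0] [] (.free), .derive 285 [.bwd 2, .fwd 638, .fwd 433] [9] (.free), .derive 599 [.bwd 723, .fwd 0] [] (.free), .derive 599 [.fwd 0] [] (.free), .derive 449 [.bwd 0, .bwd 719] [0] (.free), .derive 455 [.fwd 1010, .fwd 0] [] (.free), .derive 602 [.bwd 0] [] (.free),
  .derive 455 [.bwd 0, .bwd 723] [8] (.free), .derive 470 [.fwd 181, .fwd 0] [] (.free), .derive 470 [.fwd 0] [] (.free), .derive 286 [.bwd 0, .fwd 184] [6] (.free), .derive 601 [.bwd 729, .fwd 0] [] (.free), .derive 286 [.bwd 2, .fwd 239] [9] (.free), .derive 603 [.bwd 727, .fwd 0] [] (.free), .derive 603 [.fwd 0] [] (.free),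
  .derive 601 [.fwd 3] [] (.free), .derive 456 [.bwd 0, .fwd 733] [7] (.free), .derive 524 [.bwd 368, .fwd 0] [] (.free), .derive 594 [.bwd 0] [] (.free)]
def ph9_12 : List Aux := [
  .derive 597 [.fwd 18] [] (.free), .derive 190 [.bwd 0, .fwd 744] [7] (.free), .derive 188 [.edge 7, .fwd 0] [] (.free), .derive 589 [.bwd 0] [] (.free), .derive 593 [.bwd 754, .bwd 43, .bwd 988, .edge 4, .edge 6, .edge 2, .edge 1, .edge 6, .edge 4, .bwd 88, .bwd 736, .bwd 87, .bwd 721, .bwd 121, .bwd 1089, .bwd 0, .bwd 758] [] (.rel 1480), .derive 593 [.fwd 0] [] (.free), .derive 283 [.bwd 0, .bwd 744] [7] (.free), .derive 285 [.edge 7, .fwd 0] [] (.free),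
  .derive 600 [.bwd 0] [] (.free), .derive 285 [.bwd 0, .bwd 748] [4] (.free), .derive 598 [.bwd 752, .fwd 0] [] (.free), .derive 598 [.fwd 0] [] (.free), .derive 286 [.bwd 0, .fwd 753] [7] (.free), .derive 284 [.edge 7, .fwd 0] [] (.free), .derive 590 [.bwd 0] [] (.free), .derive 358 [.bwd 1204, .edge 9, .edge 8, .edge 5, .bwd 9, .bwd 765, .bwd 37, .bwd 763, .edge 7, .fwd 748, .fwd 19, .edge 4] [] (.rel 1321),
  .derive 358 [.fwd 0] [] (.free), .derive 66 [.bwd 0, .bwd 1201] [7] (.free), .derive 65 [.edge 7, .fwd 0] [] (.free), .derive 361 [.bwd 0] [] (.free), .derive 65 [.bwd 0, .bwd 1205] [5] (.free), .derive 359 [.bwd 1209, .fwd 0] [] (.free), .derive 359 [.fwd 0] [] (.free), .derive 67 [.bwd 0, .bwd 1209] [7] (.free),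
  .derive 63 [.edge 7, .fwd 0] [] (.free), .derive 360 [.bwd 0] [] (.free), .derive 372 [.bwd 1193, .edge 6, .bwd 9, .bwd 1215, .edge 3, .edge 6, .fwd 1168] [6] (.rel 1404), .derive 507 [.bwd 967, .edge 4, .bwd 10, .bwd 1216, .edge 6, .edge 3, .fwd 1169] [4] (.rel 1415), .derive 451 [.bwd 265, .fwd 976, .bwd 237, .bwd 988, .edge 4, .bwd 2, .bwd 1215, .edge 9, .edge 8, .fwd 1166] [4] (.rel 1317), .derive 370 [.bwd 1199, .edge 5, .bwd 74, .bwd 992, .edge 4, .bwd 3, .bwd 1216, .edge 6, .fwd 1196] [5] (.rel 1451), .derive 391 [.bwd 1171, .edge 3, .fwd 1200, .fwd 0, .fwd 3, .bwd 2, .bwd 108] [4] (.rel 1452), .derive 488 [.bwd 340, .bwd 854, .edge 7, .bwd 267, .bwd 0, .bwd 1172, .edge 9, .edge 8, .fwd 1183] [4] (.rel 1317),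
  .derive 381 [.bwd 1186, .edge 9, .edge 8, .fwd 1173, .fwd 1, .fwd 269, .fwd 476, .fwd 521] [4] (.rel 1321), .derive 524 [.fwd 944, .bwd 0, .bwd 1176] [4] (.rel 1326), .derive 389 [.bwd 0, .bwd 34, .bwd 783, .bwd 19, .bwd 787, .bwd 55, .bwd 958, .bwd 1] [6] (.rel 1355), .derive 411 [.bwd 1139, .bwd 160, .bwd 1188, .edge 6, .fwd 1189, .fwd 2, .fwd 959, .fwd 56, .edge 5, .fwd 1213] [6] (.rel 1365), .derive 371 [.fwd 1204, .bwd 0, .fwd 1139] [6] (.rel 2), .derive 366 [.fwd 1213, .bwd 1, .fwd 1139] [6] (.rel 33), .derive 365 [.bwd 2, .bwd 1142, .fwd 1144, .fwd 166, .edge 3, .fwd 1207] [5] (.rel 1290), .derive 144 [.edge 2, .edge 1, .edge 6, .fwd 1163, .bwd 187, .fwd 207, .bwd 1201, .edge 1, .edge 2, .bwd 170, .bwd 1187, .edge 3, .fwd 1217, .bwd 3] [] (.rel 1484),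
  .derive 411 [.bwd 0] [] (.free), .derive 144 [.bwd 0, .fwd 1143] [7] (.free), .derive 155 [.edge 7, .fwd 0] [] (.free), .derive 387 [.bwd 0] [] (.free), .derive 155 [.bwd 0, .bwd 6] [6] (.free), .derive 157 [.edge 6, .fwd 0] [] (.free), .derive 366 [.bwd 0] [] (.free), .derive 157 [.bwd 0, .fwd 1223] [7] (.free),
  .derive 145 [.edge 7, .fwd 0] [] (.free), .derive 365 [.bwd 0] [] (.free), .derive 145 [.bwd 0, .fwd 11] [5] (.free), .derive 405 [.bwd 1167, .fwd 0] [] (.free), .derive 405 [.fwd 0] [] (.free), .derive 371 [.bwd 0, .bwd 1147] [7] (.free), .derive 373 [.fwd 1218, .fwd 0] [] (.free), .derive 414 [.bwd 0] [] (.free),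
  .derive 373 [.bwd 0, .fwd 1151] [0] (.free), .derive 366 [.bwd 1222, .fwd 0] [] (.free), .derive 408 [.bwd 0, .fwd 11] [] (.free), .derive 157 [.bwd 0, .fwd 1169] [7] (.free), .derive 145 [.edge 7, .fwd 0] [] (.free), .derive 403 [.bwd 0] [] (.free), .derive 145 [.bwd 0, .bwd 1181] [5] (.free), .derive 405 [.bwd 1179, .fwd 0] [] (.free),
  .derive 371 [.bwd 11, .fwd 0] [] (.free), .derive 142 [.bwd 0, .fwd 28] [6] (.free), .derive 141 [.edge 6, .fwd 0] [] (.free), .derive 142 [.bwd 2, .bwd 1231] [7] (.free), .derive 148 [.edge 7, .fwd 0] [] (.free), .derive 373 [.bwd 0] [] (.free), .derive 148 [.bwd 0, .bwd 1236] [4] (.free), .derive 407 [.bwd 1184, .fwd 0] [] (.free),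
  .derive 407 [.fwd 0] [] (.free), .derive 110 [.bwd 0, .fwd 1185] [7] (.free), .derive 107 [.edge 7, .fwd 0] [] (.free), .derive 402 [.bwd 0] [] (.free), .derive 107 [.bwd 0, .bwd 1193] [0] (.free), .derive 94 [.edge 0, .fwd 0] [] (.free), .derive 404 [.bwd 0] [] (.free), .derive 94 [.bwd 0, .bwd 1176] [7] (.free),
  .derive 95 [.edge 7, .fwd 0] [] (.free), .derive 413 [.bwd 0] [] (.free), .derive 394 [.bwd 15] [] (.free), .derive 141 [.bwd 0, .fwd 1218] [7] (.free), .derive 150 [.edge 7, .fwd 0] [] (.free), .derive 383 [.bwd 0] [] (.free), .derive 150 [.bwd 0, .bwd 54] [4] (.free), .derive 305 [.edge 4, .fwd 0] [] (.free),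
  .derive 488 [.bwd 0] [] (.free), .derive 305 [.bwd 0, .fwd 399] [9] (.free), .derive 631 [.bwd 780, .fwd 0] [] (.free), .derive 631 [.fwd 0] [] (.free), .derive 247 [.bwd 0, .bwd 779] [0] (.free), .derive 246 [.edge 0, .fwd 0] [] (.free), .derive 633 [.bwd 0] [] (.free), .derive 246 [.bwd 0, .bwd 783] [8] (.free),
  .derive 483 [.bwd 1076, .fwd 0] [] (.free), .derive 482 [.bwd 405, .fwd 0] [] (.free), .derive 306 [.bwd 0, .fwd 1079] [7] (.free), .derive 304 [.edge 7, .fwd 0] [] (.free)]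
def ph9_13 : List Aux := [
  .derive 471 [.bwd 0] [] (.free), .derive 304 [.bwd 0, .bwd 180, .fwd 12] [5] (.free), .derive 630 [.bwd 794, .bwd 0] [] (.free), .derive 304 [.bwd 2, .fwd 402, .fwd 158] [9] (.free), .derive 628 [.bwd 800, .fwd 0] [] (.free), .derive 628 [.fwd 0] [] (.free), .derive 293 [.bwd 0, .fwd 801] [0] (.free), .derive 294 [.edge 0, .fwd 0] [] (.free),
  .derive 627 [.bwd 0] [] (.free), .derive 294 [.bwd 0, .bwd 806] [8] (.free), .derive 624 [.bwd 811, .fwd 0] [] (.free), .derive 477 [.bwd 162, .fwd 0] [] (.free), .derive 303 [.bwd 0, .fwd 387] [3] (.free), .derive 625 [.bwd 812, .fwd 0] [] (.free), .derive 625 [.fwd 0] [] (.free), .derive 451 [.bwd 0, .bwd 808] [7] (.free),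
  .derive 516 [.bwd 560, .fwd 0] [] (.free), .derive 629 [.bwd 0] [] (.free), .derive 630 [.fwd 15] [] (.free), .derive 304 [.bwd 0, .fwd 810] [7] (.free), .derive 306 [.edge 7, .fwd 0] [] (.free), .derive 626 [.bwd 0] [] (.free), .derive 306 [.bwd 0, .bwd 820] [5] (.free), .derive 632 [.bwd 812, .fwd 0] [] (.free),
  .derive 632 [.fwd 0] [] (.free), .derive 636 [.bwd 809, .edge 4, .edge 1, .edge 2, .bwd 253, .bwd 1231, .edge 3, .bwd 43, .bwd 1223, .edge 6, .edge 2, .edge 1, .edge 6, .edge 4] [] (.rel 1476), .derive 636 [.fwd 0] [] (.free), .derive 304 [.bwd 0, .bwd 804] [7] (.free), .derive 306 [.edge 7, .fwd 0] [] (.free), .derive 640 [.bwd 0] [] (.free), .derive 306 [.bwd 0, .fwd 806] [5] (.free), .derive 632 [.bwd 820, .fwd 0] [] (.free),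
  .derive 634 [.bwd 0, .fwd 7] [] (.free), .derive 303 [.bwd 0, .bwd 813] [7] (.free), .derive 305 [.edge 7, .fwd 0] [] (.free), .derive 638 [.bwd 0] [] (.free), .derive 305 [.bwd 0, .bwd 817] [3] (.free), .derive 629 [.bwd 831, .fwd 0] [] (.free), .derive 516 [.bwd 20, .fwd 0] [] (.free), .derive 309 [.bwd 0, .bwd 1064] [8] (.free),
  .derive 639 [.bwd 819, .fwd 0] [] (.free), .derive 639 [.fwd 0] [] (.free), .derive 253 [.bwd 0, .bwd 816] [0] (.free), .derive 255 [.edge 0, .fwd 0] [] (.free), .derive 641 [.bwd 0] [] (.free), .derive 255 [.bwd 0, .bwd 820] [9] (.free), .derive 524 [.bwd 1058, .fwd 0] [] (.free), .derive 524 [.fwd 0] [] (.free),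
  .derive 310 [.bwd 0, .bwd 518] [7] (.free), .derive 308 [.edge 7, .fwd 0] [] (.free), .derive 456 [.bwd 0] [] (.free), .derive 308 [.bwd 0, .bwd 520, .fwd 386] [9] (.free), .derive 637 [.bwd 835, .fwd 0] [] (.free), .derive 637 [.fwd 0] [] (.free), .derive 507 [.bwd 0, .fwd 836] [0] (.free), .derive 502 [.bwd 1094, .fwd 0] [] (.free),
  .derive 635 [.bwd 0] [] (.free), .derive 502 [.bwd 0, .bwd 842] [8] (.free), .derive 451 [.bwd 395, .fwd 0] [] (.free), .derive 451 [.fwd 0] [] (.free), .derive 307 [.bwd 0, .fwd 131] [4] (.free), .derive 159 [.edge 4, .fwd 0] [] (.free), .derive 393 [.bwd 0] [] (.free), .derive 159 [.bwd 0, .fwd 1300] [7] (.free),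
  .derive 160 [.edge 7, .fwd 0] [] (.free), .derive 381 [.bwd 0] [] (.free), .derive 160 [.bwd 0, .bwd 131] [6] (.free), .derive 162 [.edge 6, .fwd 0] [] (.free), .derive 389 [.bwd 0] [] (.free), .derive 128 [.fwd 1313, .fwd 0] [5] (.free), .commit 0]
def ph9 : List Aux :=
  (((ph9_0 ++ (ph9_1 ++ ph9_2)) ++ ((ph9_3 ++ ph9_4) ++ (ph9_5 ++ ph9_6))) ++ ((ph9_7 ++ (ph9_8 ++ ph9_9)) ++ ((ph9_10 ++ ph9_11) ++ (ph9_12 ++ ph9_13))))

def ph10_0 : List ℕ := [
  505136, 619828, 603456, 476485, 234832, 1160574, 1163266, 1167393,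
  1160522, 1008904, 1168690, 1000712, 1262923, 652685, 689472, 677189,
  263504, 1160555, 521597, 509230, 611638, 484667, 480558, 1176942,
  988528, 755100, 1176985, 1179650, 991304, 222542, 1185037, 673042,
  1062182, 988456, 288052, 271685, 275760, 685392, 697648, 1283452,
  533885, 1287580, 1277985, 1017102, 1205578, 1205512, 1201454, 1021192,
  1201416, 1201483, 681280, 763260, 1176967, 984328, 1049894, 1064966,
  1052706, 1180968, 1175560, 757796, 749576, 754355, 1004912]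

def ph11_0 : List Aux := [
  .node 35 4, .node 35 5, .derive 644 [.bwd 0, .edge 6, .edge 5, .edge 4, .edge 3] [4] (.rel 1289), .derive 644 [.bwd 1, .edge 7, .edge 5] [7] (.rel 1333), .derive 644 [.bwd 2, .edge 3, .edge 6, .edge 5, .edge 6, .edge 4] [6] (.rel 1406), .node 39 5, .derive 645 [.bwd 0, .edge 6, .edge 5, .edge 4, .edge 3] [4] (.rel 1289), .derive 645 [.bwd 1, .edge 0, .fwd 5] [0] (.rel 1329),
  .derive 645 [.bwd 2, .edge 7, .edge 5] [7] (.rel 1333), .node 53 5, .node 63 5, .node 65 5, .node 66 5, .derive 649 [.bwd 0, .edge 7, .fwd 1] [7] (.rel 1333), .node 67 5, .derive 650 [.bwd 0, .edge 7, .fwd 4] [7] (.rel 1333),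
  .node 69 5, .derive 651 [.bwd 0, .edge 7, .fwd 7] [7] (.rel 1333), .node 70 5, .node 76 4, .derive 653 [.bwd 0, .edge 5, .edge 4, .edge 5, .fwd 0] [5] (.rel 1286), .node 94 4, .node 95 4, .derive 655 [.bwd 0, .edge 7, .fwd 1] [7] (.rel 1331),
  .node 99 4, .node 100 4, .derive 657 [.bwd 0, .edge 0, .fwd 1] [0] (.rel 1327), .node 103 4, .derive 658 [.bwd 0, .edge 7, .fwd 2] [7] (.rel 1331), .node 106 4, .node 107 4, .derive 660 [.bwd 0, .edge 0, .fwd 9] [0] (.rel 1327),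
  .node 108 4, .node 110 4, .derive 662 [.bwd 0, .edge 0, .fwd 11] [0] (.rel 1327), .derive 662 [.bwd 1, .edge 7, .fwd 4] [7] (.rel 1331), .node 115 4, .node 116 4, .derive 664 [.bwd 0, .edge 0, .fwd 1] [0] (.rel 1327), .node 117 4,
  .node 117 5, .node 118 4, .node 118 5, .derive 668 [.bwd 0, .edge 0, .fwd 2] [0] (.rel 1329), .node 123 4, .node 123 5, .node 124 4, .node 124 5,
  .node 125 4, .node 126 4, .derive 674 [.bwd 0, .edge 0, .fwd 1] [0] (.rel 1327), .node 127 4, .node 127 5, .node 128 4, .derive 677 [.bwd 0, .edge 0, .fwd 9] [0] (.rel 1327), .node 129 5,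
  .node 130 5, .node 131 4, .derive 680 [.bwd 0, .edge 7, .fwd 13] [7] (.rel 1331), .node 132 5, .derive 681 [.bwd 0, .edge 7, .fwd 12] [7] (.rel 1333), .node 137 4, .derive 682 [.bwd 0, .edge 7, .fwd 24] [7] (.rel 1331), .node 137 5,
  .node 138 4, .derive 684 [.bwd 0, .edge 7, .fwd 23] [7] (.rel 1331), .node 138 5, .derive 685 [.bwd 0, .edge 7, .fwd 24] [7] (.rel 1333), .node 139 4, .derive 686 [.bwd 0, .edge 0, .fwd 4] [0] (.rel 1327), .derive 686 [.bwd 1, .edge 7, .fwd 30] [7] (.rel 1331), .node 140 4,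
  .derive 687 [.bwd 0, .edge 0, .fwd 10] [0] (.rel 1327), .derive 687 [.bwd 1, .edge 7, .fwd 36] [7] (.rel 1331), .node 140 5, .node 142 4, .node 142 5, .node 145 4, .derive 691 [.bwd 0, .edge 0, .fwd 2] [0] (.rel 1327), .node 145 5,
  .node 147 4, .derive 693 [.bwd 0, .edge 7, .fwd 31] [7] (.rel 1331), .node 148 4, .derive 694 [.bwd 0, .edge 7, .fwd 7] [7] (.rel 1331), .node 148 5, .derive 695 [.bwd 0, .edge 7, .fwd 8] [7] (.rel 1333), .node 151 4, .derive 696 [.bwd 0, .edge 0, .fwd 29] [0] (.rel 1327),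
  .derive 696 [.bwd 1, .edge 7, .fwd 34] [7] (.rel 1331), .node 152 4, .derive 697 [.bwd 0, .edge 7, .fwd 38] [7] (.rel 1331), .node 152 5, .derive 698 [.bwd 0, .edge 0, .fwd 32] [0] (.rel 1329), .derive 698 [.bwd 1, .edge 7, .fwd 40] [7] (.rel 1333), .node 156 4, .derive 699 [.bwd 0, .edge 0, .fwd 14] [0] (.rel 1327),
  .derive 699 [.bwd 1, .edge 7, .fwd 47] [7] (.rel 1331), .node 157 4, .derive 700 [.bwd 0, .edge 7, .fwd 20] [7] (.rel 1331), .node 157 5]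
def ph11_1 : List Aux := [
  .derive 701 [.bwd 0, .edge 0, .fwd 15] [0] (.rel 1329), .derive 701 [.bwd 1, .edge 7, .fwd 21] [7] (.rel 1333), .node 177 4, .derive 702 [.bwd 0, .edge 5, .bwd 100, .bwd 101, .fwd 102] [5] (.rel 1286), .node 187 1, .node 187 2, .derive 704 [.bwd 0, .edge 3, .fwd 0] [9] (.rel 20), .node 187 8,
  .node 187 9, .derive 706 [.bwd 0, .edge 4, .edge 5, .edge 9, .edge 8, .edge 5, .edge 4, .fwd 1] [7] (.rel 1319), .node 188 1, .node 188 2, .derive 708 [.bwd 0, .edge 3, .fwd 0] [9] (.rel 20), .node 188 5, .derive 709 [.bwd 0, .edge 4, .edge 3, .edge 6, .fwd 94, .bwd 93] [3] (.rel 1306), .node 188 8,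
  .derive 710 [.bwd 0, .edge 0, .fwd 7] [0] (.rel 7), .node 188 9, .derive 711 [.bwd 0, .edge 0, .fwd 10, .bwd 8, .bwd 1] [7] (.rel 121), .node 189 1, .derive 712 [.bwd 0, .edge 7, .fwd 14] [7] (.rel 12), .node 189 2, .derive 713 [.bwd 0, .edge 7, .fwd 17] [7] (.rel 14), .node 189 8,
  .node 189 9, .node 190 1, .derive 716 [.bwd 0, .edge 7, .fwd 14] [7] (.rel 12), .node 190 2, .derive 717 [.bwd 0, .edge 7, .fwd 17] [7] (.rel 14), .node 190 8, .derive 718 [.bwd 0, .edge 0, .fwd 5] [0] (.rel 7), .node 190 9,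
  .derive 719 [.bwd 0, .edge 0, .fwd 8] [0] (.rel 9), .node 198 5, .derive 720 [.bwd 0, .edge 4, .edge 3, .edge 6, .fwd 133, .bwd 30] [3] (.rel 1306), .node 198 6, .derive 721 [.bwd 0, .edge 3, .bwd 131] [3] (.rel 29), .derive 721 [.bwd 1, .edge 4, .edge 6, .edge 4, .edge 6] [4] (.rel 1354), .derive 721 [.bwd 2, .edge 4, .edge 6, .edge 5, .edge 3, .edge 6] [5] (.rel 1403), .node 207 4,
  .node 209 4, .derive 723 [.bwd 0, .edge 5, .edge 3, .edge 5, .fwd 121, .bwd 26] [6] (.rel 1303), .node 217 2, .node 217 9, .node 218 2, .node 218 8, .node 219 1, .derive 728 [.bwd 0, .edge 7, .fwd 4] [7] (.rel 12),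
  .node 220 1, .derive 729 [.bwd 0, .edge 7, .fwd 4] [7] (.rel 12), .node 234 1, .node 234 2, .derive 731 [.bwd 0, .edge 6, .fwd 9] [6] (.rel 24), .node 234 9, .derive 732 [.bwd 0, .edge 6, .fwd 10] [6] (.rel 37), .derive 732 [.bwd 1, .edge 4, .edge 5, .edge 9, .edge 8, .edge 5, .edge 4, .fwd 9] [7] (.rel 1319),
  .node 235 2, .derive 733 [.bwd 0, .edge 6, .fwd 12] [6] (.rel 24), .node 235 8, .derive 734 [.bwd 0, .edge 0, .fwd 5] [0] (.rel 7), .derive 734 [.bwd 1, .edge 6, .fwd 14] [6] (.rel 35), .derive 734 [.bwd 2, .edge 6, .fwd 15, .bwd 5, .fwd 6] [7] (.rel 284), .node 240 3, .node 240 6,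
  .node 240 8, .node 240 9, .node 241 1, .node 241 2, .node 241 3, .derive 741 [.bwd 0, .edge 0, .fwd 6] [0] (.rel 1), .node 241 6, .derive 742 [.bwd 0, .edge 0, .fwd 7] [0] (.rel 3),
  .node 241 8, .node 241 9, .derive 744 [.bwd 0, .edge 0, .fwd 9] [0] (.rel 9), .node 242 3, .derive 745 [.bwd 0, .edge 7, .fwd 13] [7] (.rel 30), .node 242 5, .node 242 6, .derive 747 [.bwd 0, .edge 7, .fwd 15] [7] (.rel 32),
  .node 242 8, .node 242 9, .node 243 1, .derive 750 [.bwd 0, .edge 7, .fwd 15] [7] (.rel 12), .node 243 2, .derive 751 [.bwd 0, .edge 7, .fwd 18] [7] (.rel 14), .node 243 3, .derive 752 [.bwd 0, .edge 7, .fwd 18] [7] (.rel 30),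
  .node 243 5, .node 243 6, .derive 754 [.bwd 0, .edge 0, .fwd 11] [0] (.rel 3), .derive 754 [.bwd 1, .edge 7, .fwd 20] [7] (.rel 32), .node 243 8, .derive 755 [.bwd 0, .edge 0, .fwd 11] [0] (.rel 7), .node 243 9, .derive 756 [.bwd 0, .edge 0, .fwd 14] [0] (.rel 9),
  .node 244 3, .node 244 6, .node 244 8, .node 244 9]
def ph11_2 : List Aux := [
  .node 245 1, .node 245 2, .node 245 3, .derive 763 [.bwd 0, .edge 0, .fwd 6] [0] (.rel 1), .node 245 6, .derive 764 [.bwd 0, .edge 0, .fwd 7] [0] (.rel 3), .node 245 8, .derive 765 [.bwd 0, .edge 0, .fwd 7] [0] (.rel 7),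
  .node 245 9, .derive 766 [.bwd 0, .edge 0, .fwd 10] [0] (.rel 9), .node 246 2, .node 246 3, .derive 768 [.bwd 0, .edge 7, .fwd 15] [7] (.rel 30), .node 246 6, .derive 769 [.bwd 0, .edge 7, .fwd 16] [7] (.rel 32), .node 246 8,
  .node 246 9, .node 247 1, .derive 772 [.bwd 0, .edge 7, .fwd 16] [7] (.rel 12), .node 247 2, .derive 773 [.bwd 0, .edge 7, .fwd 19] [7] (.rel 14), .node 247 3, .derive 774 [.bwd 0, .edge 0, .fwd 10] [0] (.rel 1), .derive 774 [.bwd 1, .edge 7, .fwd 20] [7] (.rel 30),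
  .node 247 6, .derive 775 [.bwd 0, .edge 0, .fwd 11] [0] (.rel 3), .derive 775 [.bwd 1, .edge 7, .fwd 21] [7] (.rel 32), .node 247 8, .derive 776 [.bwd 0, .edge 0, .fwd 11] [0] (.rel 7), .node 247 9, .derive 777 [.bwd 0, .edge 0, .fwd 14] [0] (.rel 9), .node 248 2,
  .node 248 3, .node 248 6, .node 248 8, .node 248 9, .node 249 1, .node 249 3, .node 249 6, .derive 785 [.bwd 0, .edge 0, .fwd 5] [0] (.rel 3),
  .node 249 8, .derive 786 [.bwd 0, .edge 0, .fwd 5] [0] (.rel 7), .node 249 9, .derive 787 [.bwd 0, .edge 0, .fwd 8] [0] (.rel 9), .node 250 3, .derive 788 [.bwd 0, .edge 7, .fwd 12] [7] (.rel 30), .node 250 6, .node 250 8,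
  .node 250 9, .node 251 2, .derive 792 [.bwd 0, .edge 7, .fwd 13] [7] (.rel 14), .node 251 3, .derive 793 [.bwd 0, .edge 0, .fwd 7] [0] (.rel 1), .derive 793 [.bwd 1, .edge 7, .fwd 15] [7] (.rel 30), .node 251 6, .derive 794 [.bwd 0, .edge 0, .fwd 8] [0] (.rel 3),
  .derive 794 [.bwd 1, .edge 7, .fwd 17] [7] (.rel 32), .node 251 8, .derive 795 [.bwd 0, .edge 0, .fwd 9] [0] (.rel 7), .node 251 9, .derive 796 [.bwd 0, .edge 0, .fwd 12] [0] (.rel 9), .node 252 1, .node 252 2, .node 252 8,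
  .node 252 9, .node 253 1, .derive 801 [.bwd 0, .edge 6, .fwd 4] [6] (.rel 10), .node 253 2, .derive 802 [.bwd 0, .edge 6, .fwd 5] [6] (.rel 24), .node 253 8, .derive 803 [.bwd 0, .edge 6, .fwd 6] [6] (.rel 35), .node 254 1,
  .node 254 2, .node 254 8, .derive 806 [.bwd 0, .edge 0, .fwd 9] [0] (.rel 7), .node 254 9, .derive 807 [.bwd 0, .edge 0, .fwd 12] [0] (.rel 9), .node 255 1, .derive 808 [.bwd 0, .edge 6, .fwd 6] [6] (.rel 10), .node 255 2,
  .derive 809 [.bwd 0, .edge 6, .fwd 7] [6] (.rel 24), .node 255 8, .node 255 9, .derive 811 [.bwd 0, .edge 0, .fwd 13] [0] (.rel 9), .derive 811 [.bwd 1, .edge 6, .fwd 8] [6] (.rel 37), .node 256 1, .derive 812 [.bwd 0, .edge 7, .fwd 23] [7] (.rel 12), .node 256 2,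
  .derive 813 [.bwd 0, .edge 7, .fwd 26] [7] (.rel 14), .node 256 8, .node 256 9, .node 257 1, .derive 816 [.bwd 0, .edge 6, .fwd 6] [6] (.rel 10), .derive 816 [.bwd 1, .edge 7, .fwd 25] [7] (.rel 12), .node 257 2, .derive 817 [.bwd 0, .edge 7, .fwd 29] [7] (.rel 14),
  .derive 817 [.bwd 1, .edge 6, .fwd 8] [6] (.rel 24), .node 257 8, .derive 818 [.bwd 0, .edge 6, .fwd 8] [6] (.rel 35), .node 257 9]
def ph11_3 : List Aux := [
  .derive 819 [.bwd 0, .edge 6, .fwd 9] [6] (.rel 37), .node 258 1, .node 258 2, .derive 821 [.bwd 0, .edge 3, .fwd 15] [9] (.rel 20), .node 258 8, .derive 822 [.bwd 0, .edge 6, .edge 3, .fwd 7] [3] (.rel 45), .node 258 9, .derive 823 [.bwd 0, .edge 6, .edge 3, .fwd 7] [3] (.rel 55),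
  .node 259 1, .node 259 2, .derive 825 [.bwd 0, .edge 3, .fwd 15] [9] (.rel 20), .derive 825 [.bwd 1, .edge 6, .fwd 8] [6] (.rel 24), .node 259 8, .derive 826 [.bwd 0, .edge 6, .fwd 8] [6] (.rel 35), .derive 826 [.bwd 1, .edge 6, .edge 3, .fwd 24] [3] (.rel 45), .node 259 9,
  .derive 827 [.bwd 0, .edge 6, .fwd 9] [6] (.rel 37), .derive 827 [.bwd 1, .edge 6, .edge 3, .fwd 26] [3] (.rel 55), .node 260 1, .derive 828 [.bwd 0, .edge 7, .fwd 46] [7] (.rel 12), .node 260 2, .derive 829 [.bwd 0, .edge 7, .fwd 49] [7] (.rel 14), .node 260 8, .derive 830 [.bwd 0, .edge 0, .fwd 32] [0] (.rel 7),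
  .node 260 9, .derive 831 [.bwd 0, .edge 0, .fwd 35] [0] (.rel 9), .node 261 1, .derive 832 [.bwd 0, .edge 6, .fwd 8] [6] (.rel 10), .derive 832 [.bwd 1, .edge 7, .fwd 48] [7] (.rel 12), .node 261 2, .derive 833 [.bwd 0, .edge 7, .fwd 52] [7] (.rel 14), .derive 833 [.bwd 1, .edge 6, .fwd 10] [6] (.rel 24),
  .node 261 5, .derive 834 [.bwd 0, .edge 4, .edge 5, .edge 4, .fwd 219] [4] (.rel 1287), .derive 834 [.bwd 1, .edge 4, .edge 6, .edge 5, .edge 4, .edge 6, .edge 5, .fwd 194] [6] (.rel 1365), .derive 834 [.bwd 2, .edge 6, .edge 3, .edge 5, .edge 6, .edge 3, .edge 5, .edge 6, .edge 3, .edge 5, .edge 6, .edge 3, .fwd 2, .fwd 0] [3] (.rel 1378), .node 261 8, .derive 835 [.bwd 0, .edge 0, .fwd 37] [0] (.rel 7), .derive 835 [.bwd 1, .edge 6, .fwd 15] [6] (.rel 35), .node 261 9,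
  .derive 836 [.bwd 0, .edge 0, .fwd 42] [0] (.rel 9), .derive 836 [.bwd 1, .edge 6, .fwd 16] [6] (.rel 37), .node 262 1, .node 262 2, .derive 838 [.bwd 0, .edge 3, .fwd 23] [9] (.rel 20), .node 262 8, .derive 839 [.bwd 0, .edge 0, .fwd 39] [0] (.rel 7), .node 262 9,
  .derive 840 [.bwd 0, .edge 0, .fwd 43] [0] (.rel 9), .node 263 1, .derive 841 [.bwd 0, .edge 6, .fwd 7] [6] (.rel 10), .node 263 2, .derive 842 [.bwd 0, .edge 3, .fwd 22] [9] (.rel 20), .node 263 8, .derive 843 [.bwd 0, .edge 6, .fwd 8] [6] (.rel 35), .node 263 9,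
  .derive 844 [.bwd 0, .edge 6, .fwd 8] [6] (.rel 37), .node 266 1, .derive 845 [.bwd 0, .edge 6, .fwd 247] [6] (.rel 10), .node 266 2, .derive 846 [.bwd 0, .edge 3, .fwd 0] [9] (.rel 20), .derive 846 [.bwd 1, .edge 6, .fwd 249] [6] (.rel 24), .node 266 8, .derive 847 [.bwd 0, .edge 6, .fwd 247] [6] (.rel 35),
  .derive 847 [.bwd 1, .edge 6, .edge 3, .fwd 248] [3] (.rel 45), .node 266 9, .derive 848 [.bwd 0, .edge 6, .fwd 248, .fwd 247, .bwd 2] [7] (.rel 290), .node 268 1, .node 268 2, .derive 850 [.bwd 0, .edge 7, .fwd 67] [7] (.rel 14), .derive 850 [.bwd 1, .edge 3, .fwd 107] [9] (.rel 20), .node 268 8,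
  .derive 851 [.bwd 0, .edge 6, .edge 3, .fwd 102] [3] (.rel 45), .node 269 1, .derive 852 [.bwd 0, .edge 7, .fwd 30] [7] (.rel 12), .node 269 2, .derive 853 [.bwd 0, .edge 7, .fwd 33] [7] (.rel 14), .derive 853 [.bwd 1, .edge 3, .fwd 104] [9] (.rel 20), .node 269 8, .derive 854 [.bwd 0, .edge 6, .edge 3, .fwd 97] [3] (.rel 45),
  .node 269 9, .derive 855 [.bwd 0, .edge 0, .fwd 9] [0] (.rel 9), .derive 855 [.bwd 1, .edge 6, .edge 3, .fwd 99] [3] (.rel 55), .node 270 1, .derive 856 [.bwd 0, .edge 6, .fwd 16] [6] (.rel 10), .derive 856 [.bwd 1, .edge 7, .fwd 75] [7] (.rel 12), .node 270 2, .derive 857 [.bwd 0, .edge 7, .fwd 78] [7] (.rel 14),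
  .derive 857 [.bwd 1, .edge 3, .fwd 120] [9] (.rel 20), .node 270 8, .derive 858 [.bwd 0, .edge 6, .fwd 18] [6] (.rel 35), .derive 858 [.bwd 1, .edge 6, .edge 3, .fwd 127] [3] (.rel 45), .node 271 1, .derive 859 [.bwd 0, .edge 6, .fwd 19] [6] (.rel 10), .derive 859 [.bwd 1, .edge 7, .fwd 42] [7] (.rel 12), .node 271 2,
  .derive 860 [.bwd 0, .edge 7, .fwd 46] [7] (.rel 14), .derive 860 [.bwd 1, .edge 3, .fwd 117] [9] (.rel 20), .derive 860 [.bwd 2, .edge 6, .fwd 22] [6] (.rel 24), .node 271 5]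
def ph11_4 : List Aux := [
  .derive 861 [.bwd 0, .edge 4, .edge 5, .edge 4, .fwd 266] [4] (.rel 1287), .derive 861 [.bwd 1, .edge 4, .edge 3, .fwd 298, .fwd 297] [6] (.rel 1291), .node 271 8, .derive 862 [.bwd 0, .edge 6, .fwd 24] [6] (.rel 35), .node 271 9, .derive 863 [.bwd 0, .edge 6, .fwd 24] [6] (.rel 37), .node 272 1, .node 272 2,
  .derive 865 [.bwd 0, .edge 6, .fwd 302] [6] (.rel 24), .node 272 8, .derive 866 [.bwd 0, .edge 0, .fwd 44] [0] (.rel 7), .derive 866 [.bwd 1, .edge 6, .edge 3, .fwd 303] [3] (.rel 45), .node 272 9, .derive 867 [.bwd 0, .edge 6, .fwd 304] [6] (.rel 37), .derive 867 [.bwd 1, .edge 0, .fwd 51, .bwd 47, .bwd 3] [7] (.rel 121), .node 273 1,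
  .derive 868 [.bwd 0, .edge 6, .fwd 290] [6] (.rel 10), .derive 868 [.bwd 1, .edge 7, .fwd 57] [7] (.rel 12), .node 273 2, .derive 869 [.bwd 0, .edge 7, .fwd 61] [7] (.rel 14), .derive 869 [.bwd 1, .edge 3, .fwd 1] [9] (.rel 20), .derive 869 [.bwd 2, .edge 6, .fwd 293] [6] (.rel 24), .node 273 8, .derive 870 [.bwd 0, .edge 6, .fwd 293] [6] (.rel 35),
  .derive 870 [.bwd 1, .edge 6, .edge 3, .fwd 294] [3] (.rel 45), .derive 719 [.bwd 293, .edge 4, .edge 5, .edge 9, .edge 8, .bwd 286, .fwd 287, .fwd 2] [7] (.rel 1319), .node 273 9, .derive 871 [.bwd 0, .edge 6, .fwd 295, .fwd 1, .fwd 3] [7] (.rel 290), .node 274 1, .derive 872 [.bwd 0, .edge 6, .fwd 309] [6] (.rel 10), .derive 872 [.bwd 1, .edge 7, .fwd 22] [7] (.rel 12), .node 274 2,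
  .derive 873 [.bwd 0, .edge 7, .fwd 25] [7] (.rel 14), .derive 873 [.bwd 1, .edge 6, .fwd 311] [6] (.rel 24), .node 274 8, .derive 874 [.bwd 0, .edge 0, .fwd 8] [0] (.rel 7), .derive 874 [.bwd 1, .edge 6, .fwd 312] [6] (.rel 35), .derive 874 [.bwd 2, .edge 3, .edge 0, .edge 3, .fwd 10, .fwd 9, .fwd 306] [7] (.rel 595), .node 274 9, .derive 875 [.bwd 0, .edge 0, .fwd 16, .bwd 13, .fwd 306] [7] (.rel 121),
  .node 283 2, .node 283 8, .node 283 9, .node 284 4, .node 284 8, .derive 880 [.bwd 0, .edge 0, .fwd 2] [0] (.rel 7), .node 284 9, .derive 881 [.bwd 0, .edge 0, .fwd 5] [0] (.rel 9),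
  .node 285 1, .derive 882 [.bwd 0, .edge 7, .fwd 8] [7] (.rel 12), .node 285 9, .node 286 8, .derive 884 [.bwd 0, .edge 0, .fwd 1] [0] (.rel 7), .node 286 9, .node 287 3, .node 287 4,
  .node 287 9, .node 288 3, .node 288 4, .derive 890 [.bwd 0, .edge 0, .fwd 3] [0] (.rel 1327), .node 288 6, .node 288 8, .derive 892 [.bwd 0, .edge 0, .fwd 5] [0] (.rel 7), .node 289 3,
  .derive 893 [.bwd 0, .edge 7, .fwd 9] [7] (.rel 30), .node 289 8, .node 290 3, .derive 895 [.bwd 0, .edge 0, .fwd 3] [0] (.rel 1), .derive 895 [.bwd 1, .edge 7, .fwd 10] [7] (.rel 30), .node 290 4, .derive 896 [.bwd 0, .edge 7, .fwd 11] [7] (.rel 1331), .node 290 6,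
  .derive 897 [.bwd 0, .edge 7, .fwd 11] [7] (.rel 32), .node 290 9, .derive 898 [.bwd 0, .edge 0, .fwd 8] [0] (.rel 9), .node 291 9, .node 292 1, .node 292 6, .node 292 8, .derive 902 [.bwd 0, .edge 0, .fwd 3] [0] (.rel 7),
  .node 293 9, .node 294 2, .derive 904 [.bwd 0, .edge 7, .fwd 5] [7] (.rel 14), .node 294 6, .derive 905 [.bwd 0, .edge 7, .fwd 6] [7] (.rel 32), .node 294 8, .derive 906 [.bwd 0, .edge 0, .fwd 5] [0] (.rel 7), .node 303 3,
  .node 303 5, .node 303 8, .node 304 9, .derive 910 [.bwd 0, .edge 0, .fwd 1] [0] (.rel 9), .node 305 3, .derive 911 [.bwd 0, .edge 7, .fwd 5] [7] (.rel 30), .node 305 5, .derive 912 [.bwd 0, .edge 7, .fwd 6] [7] (.rel 1333),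
  .node 305 9, .node 306 5, .node 306 8, .derive 915 [.bwd 0, .edge 0, .fwd 2] [0] (.rel 7)]
def ph11_5 : List Aux := [
  .node 307 3, .node 307 8, .node 308 3, .node 308 9, .derive 919 [.bwd 0, .edge 0, .fwd 2] [0] (.rel 9), .node 309 3, .derive 920 [.bwd 0, .edge 7, .fwd 5] [7] (.rel 30), .node 309 8,
  .node 310 3, .derive 922 [.bwd 0, .edge 7, .fwd 6] [7] (.rel 30), .derive 922 [.bwd 1, .edge 4, .edge 3, .edge 6, .edge 4, .fwd 9] [5] (.rel 1391), .node 310 9, .derive 923 [.bwd 0, .edge 0, .fwd 4] [0] (.rel 9), .node 643 1, .derive 924 [.bwd 0, .bwd 112, .fwd 113, .fwd 379, .bwd 411, .edge 1, .edge 2, .fwd 374, .bwd 178, .fwd 180, .bwd 372] [2] (.rel 1485), .derive 868 [.bwd 99, .edge 6, .edge 4, .edge 3, .fwd 514, .fwd 1, .fwd 0, .bwd 374, .edge 3, .edge 4, .edge 6, .fwd 171] [] (.rel 1485),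
  .derive 868 [.fwd 0] [] (.free), .derive 838 [.bwd 0, .bwd 101] [1] (.free), .derive 838 [.bwd 1, .fwd 100] [7] (.free), .derive 852 [.fwd 144, .fwd 0] [] (.free), .derive 852 [.fwd 0] [] (.free), .derive 846 [.bwd 0, .bwd 147] [1] (.free), .derive 846 [.bwd 1, .bwd 128] [6] (.free), .derive 708 [.bwd 161, .fwd 0] [] (.free),
  .derive 859 [.bwd 0] [] (.free), .derive 708 [.bwd 0, .bwd 132] [1] (.free), .derive 708 [.bwd 1, .fwd 131] [7] (.free), .derive 716 [.fwd 400, .fwd 0] [] (.free), .derive 842 [.bwd 0] [] (.free), .derive 716 [.bwd 0, .bwd 177] [2] (.free), .derive 716 [.bwd 1, .fwd 177] [9] (.free), .derive 829 [.bwd 199, .bwd 0, .bwd 405, .fwd 401, .bwd 107] [1] (.rel 174),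
  .derive 841 [.bwd 182, .edge 3, .fwd 202, .bwd 1, .fwd 405, .bwd 420, .fwd 421] [2] (.rel 789), .derive 808 [.bwd 202, .bwd 2, .bwd 407, .fwd 403, .bwd 108, .bwd 1, .fwd 211] [9] (.rel 912), .derive 862 [.bwd 131, .edge 3, .fwd 256, .bwd 203, .bwd 3, .fwd 407, .bwd 421, .fwd 8] [] (.rel 915), .derive 862 [.fwd 0] [] (.free), .derive 271 [.bwd 0, .fwd 132] [6] (.free), .derive 269 [.edge 6, .fwd 0] [] (.free), .derive 854 [.bwd 0] [] (.free), .derive 269 [.bwd 0, .fwd 159] [3] (.free),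
  .derive 254 [.edge 3, .fwd 0] [] (.free), .derive 810 [.bwd 0] [] (.free), .derive 254 [.bwd 0, .bwd 260] [8] (.free), .derive 806 [.bwd 269, .fwd 0] [] (.free), .derive 806 [.fwd 0] [] (.free), .derive 255 [.bwd 0, .fwd 270] [0] (.free), .derive 253 [.edge 0, .fwd 0] [] (.free), .derive 800 [.bwd 0] [] (.free),
  .derive 871 [.fwd 120, .bwd 418, .fwd 422, .bwd 19, .fwd 195, .fwd 217] [2] (.rel 213), .derive 717 [.bwd 421, .fwd 423, .bwd 20, .fwd 196, .fwd 218, .bwd 271, .edge 3, .fwd 153] [1] (.rel 724), .derive 845 [.bwd 192, .edge 7, .fwd 123, .fwd 122, .bwd 420, .fwd 424, .bwd 21, .fwd 197] [3] (.rel 949), .derive 836 [.bwd 211, .edge 3, .edge 7, .bwd 25, .bwd 424, .bwd 22, .fwd 198, .bwd 0] [2] (.rel 1010), .derive 719 [.fwd 126, .fwd 127, .bwd 422, .fwd 426, .bwd 23, .fwd 199, .fwd 221, .fwd 18] [2] (.rel 1070), .derive 869 [.bwd 134, .fwd 126, .fwd 125, .bwd 423, .fwd 427, .bwd 24, .fwd 200,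 .fwd 222] [3] (.rel 1133), .derive 804 [.bwd 275, .bwd 0, .fwd 132] [3] (.rel 29), .derive 853 [.bwd 179, .bwd 33, .bwd 195, .fwd 197, .fwd 4, .fwd 224, .bwd 1] [1] (.rel 695),
  .derive 836 [.bwd 216, .edge 7, .fwd 278, .bwd 2, .bwd 137, .fwd 140, .fwd 39, .bwd 212, .fwd 213] [] (.rel 718), .derive 837 [.bwd 0] [] (.free), .derive 836 [.bwd 0, .bwd 215] [1] (.free), .derive 836 [.bwd 1, .bwd 208] [6] (.free), .derive 831 [.bwd 218, .fwd 0] [] (.free), .derive 836 [.bwd 3, .bwd 184] [7] (.free), .derive 841 [.bwd 1] [] (.free), .derive 831 [.bwd 0, .bwd 213] [1] (.free),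
  .derive 831 [.bwd 1, .fwd 31] [2] (.free), .derive 831 [.bwd 2, .bwd 168] [7] (.free), .derive 832 [.fwd 237, .bwd 286, .fwd 288, .bwd 12, .bwd 147, .fwd 150, .fwd 49, .bwd 222, .fwd 220] [] (.rel 816), .derive 839 [.bwd 0] [] (.free), .derive 832 [.bwd 0, .bwd 213] [6] (.free), .derive 828 [.bwd 241, .fwd 0] [] (.free), .derive 843 [.bwd 0] [] (.free), .derive 828 [.bwd 0, .bwd 217] [8] (.free),
  .derive 809 [.bwd 174, .bwd 22, .bwd 17, .bwd 38, .bwd 18, .bwd 16, .fwd 194] [8] (.rel 957), .derive 811 [.bwd 290, .fwd 295, .bwd 19, .bwd 152, .fwd 19, .bwd 295, .fwd 290] [8] (.rel 957), .derive 853 [.fwd 18, .fwd 153, .fwd 20, .bwd 296, .edge 7, .fwd 234, .fwd 12] [8] (.rel 946), .derive 853 [.fwd 0, .fwd 198, .fwd 17, .bwd 235, .edge 4, .edge 5, .edge 9, .edge 8, .fwd 500] [4] (.rel 1317), .derive 896 [.bwd 106, .edge 5, .edge 6, .edge 3, .fwd 501, .bwd 0, .bwd 177] [] (.rel 1416), .derive 896 [.fwd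 0] [] (.free), .derive 860 [.bwd 0, .fwd 107] [7] (.free), .derive 841 [.bwd 182, .fwd 0] [] (.free),
  .derive 890 [.bwd 0, .fwd 17] [] (.free), .derive 831 [.bwd 0, .fwd 121] [0] (.free), .derive 814 [.bwd 256, .fwd 0] [] (.free), .derive 887 [.bwd 0] [] (.free), .derive 814 [.bwd 0, .bwd 128] [4] (.free), .derive 668 [.bwd 542, .edge 3, .edge 5, .bwd 0, .bwd 270, .fwd 271] [4] (.rel 1304), .derive 840 [.fwd 237, .bwd 0, .fwd 542] [4] (.rel 1326), .derive 646 [.bwd 577, .edge 6, .edge 3, .fwd 546, .bwd 0, .bwd 230] [4] (.rel 1417),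
  .derive 707 [.bwd 23, .bwd 25, .bwd 238, .edge 4, .edge 1, .edge 2, .edge 0, .edge 1, .edge 4, .bwd 24, .fwd 262] [] (.rel 1341), .derive 814 [.bwd 0] [] (.free), .derive 707 [.bwd 0, .bwd 264] [0] (.free), .derive 707 [.bwd 1, .bwd 292] [6] (.free), .derive 845 [.fwd 233, .fwd 0] [] (.free), .derive 707 [.bwd 3, .bwd 303] [8] (.free), .derive 845 [.fwd 1] [] (.free), .derive 818 [.bwd 0, .fwd 44] [3] (.free),
  .derive 822 [.fwd 290, .fwd 0] [] (.free), .derive 818 [.bwd 2, .bwd 177] [7] (.free), .derive 833 [.bwd 1] [] (.free), .derive 822 [.bwd 0, .fwd 267] [6] (.free)]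
def ph11_6 : List Aux := [
  .derive 826 [.fwd 286, .fwd 0] [] (.free), .derive 829 [.bwd 0] [] (.free), .derive 826 [.bwd 0, .fwd 280] [7] (.free), .derive 826 [.bwd 1, .bwd 258] [9] (.free), .derive 703 [.bwd 499, .edge 0, .fwd 493, .bwd 14, .bwd 278, .fwd 40, .edge 0] [] (.rel 69), .derive 703 [.fwd 0] [] (.free), .derive 259 [.bwd 0, .bwd 483] [7] (.free), .derive 270 [.edge 7, .fwd 0] [] (.free),
  .derive 713 [.bwd 0] [] (.free), .derive 270 [.bwd 0, .bwd 175] [6] (.free), .derive 268 [.edge 6, .fwd 0] [] (.free), .derive 873 [.bwd 0] [] (.free), .derive 268 [.bwd 0, .fwd 179] [7] (.free), .derive 258 [.edge 7, .fwd 0] [] (.free), .derive 864 [.bwd 0] [] (.free), .derive 258 [.bwd 0, .bwd 208] [1] (.free),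
  .derive 820 [.bwd 314, .fwd 0] [] (.free), .derive 820 [.fwd 0] [] (.free), .derive 272 [.bwd 0, .bwd 248] [7] (.free), .derive 274 [.edge 7, .fwd 0] [] (.free), .derive 850 [.bwd 0] [] (.free), .derive 274 [.bwd 0, .fwd 250] [9] (.free), .derive 875 [.bwd 183, .fwd 0] [] (.free), .derive 875 [.fwd 0] [] (.free),
  .derive 798 [.bwd 0, .fwd 184] [7] (.free), .derive 812 [.fwd 338, .fwd 0] [] (.free), .derive 812 [.fwd 0] [] (.free), .derive 714 [.bwd 0, .bwd 334] [6] (.free), .derive 874 [.fwd 191, .fwd 0] [] (.free), .derive 874 [.fwd 0] [] (.free), .derive 816 [.bwd 0, .fwd 194] [0] (.free), .derive 816 [.bwd 1, .fwd 193] [7] (.free),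
  .derive 802 [.bwd 338, .fwd 0] [] (.free), .derive 802 [.fwd 0] [] (.free), .derive 715 [.bwd 0, .bwd 245] [9] (.free), .derive 189 [.fwd 510, .fwd 0] [] (.free), .derive 857 [.bwd 0] [] (.free), .derive 189 [.bwd 0, .fwd 249] [7] (.free), .derive 187 [.edge 7, .fwd 0] [] (.free), .derive 824 [.bwd 0] [] (.free),
  .derive 869 [.bwd 42, .bwd 45, .fwd 281, .bwd 50, .bwd 314, .bwd 298, .fwd 78] [0] (.rel 100), .derive 705 [.bwd 533, .edge 0, .fwd 530, .bwd 51, .bwd 315, .fwd 77, .edge 0, .fwd 325] [1] (.rel 488), .derive 714 [.bwd 15, .bwd 356, .bwd 48, .bwd 52, .bwd 316, .fwd 78, .edge 0, .fwd 333, .fwd 2, .edge 0, .fwd 524] [] (.rel 487), .derive 714 [.fwd 0] [] (.free), .derive 711 [.bwd 0, .bwd 204, .fwd 20] [7] (.free), .derive 710 [.bwd 526, .fwd 0] [] (.free), .derive 812 [.fwd 19, .fwd 2] [] (.free), .derive 798 [.bwd 1] [] (.free),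
  .derive 710 [.bwd 0, .bwd 385] [2] (.free), .derive 710 [.bwd 1, .bwd 380, .fwd 15] [6] (.free), .derive 847 [.fwd 286, .fwd 0] [] (.free), .derive 847 [.fwd 0] [] (.free), .derive 715 [.bwd 0, .bwd 285] [7] (.free), .derive 874 [.fwd 215, .fwd 0] [] (.free), .derive 848 [.bwd 0, .fwd 24] [] (.free), .derive 816 [.bwd 0, .bwd 244] [0] (.free),
  .derive 871 [.bwd 25, .fwd 0] [] (.free), .derive 871 [.fwd 0] [] (.free), .derive 866 [.bwd 0, .fwd 109] [2] (.free), .derive 866 [.bwd 1, .fwd 231] [7] (.free), .derive 867 [.fwd 245, .fwd 0] [] (.free), .derive 867 [.fwd 0] [] (.free), .derive 718 [.bwd 0, .fwd 248] [6] (.free), .derive 870 [.fwd 239, .fwd 0] [] (.free),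
  .derive 870 [.fwd 0] [] (.free), .derive 706 [.bwd 0, .bwd 239] [7] (.free), .derive 705 [.bwd 556, .fwd 0] [] (.free), .derive 719 [.bwd 0] [] (.free), .derive 705 [.bwd 0, .bwd 536] [9] (.free), .derive 813 [.bwd 381, .bwd 75, .bwd 79, .bwd 343, .bwd 106, .fwd 136, .bwd 79, .bwd 343, .bwd 106, .fwd 136, .bwd 79, .bwd 343] [8] (.rel 556), .derive 844 [.bwd 314, .bwd 106, .bwd 0] [1] (.rel 19), .derive 830 [.bwd 348, .fwd 346, .bwd 1, .bwd 374, .bwd 360] [] (.rel 64),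
  .derive 830 [.fwd 0] [] (.free), .derive 825 [.bwd 0, .fwd 349] [0] (.free), .derive 825 [.bwd 1, .bwd 335] [6] (.free), .derive 821 [.bwd 363, .fwd 0] [] (.free), .derive 835 [.bwd 0] [] (.free), .derive 821 [.bwd 0, .fwd 339] [0] (.free), .derive 840 [.bwd 321, .bwd 322, .bwd 114, .bwd 8, .bwd 381] [1] (.rel 174), .derive 855 [.bwd 298, .edge 7, .edge 3, .fwd 354, .bwd 9, .fwd 390] [8] (.rel 431),
  .derive 801 [.bwd 414, .bwd 132, .bwd 415, .edge 7, .bwd 86, .bwd 115, .bwd 10, .fwd 391, .bwd 0] [] (.rel 1121), .derive 855 [.bwd 0] [] (.free), .derive 801 [.bwd 0, .fwd 299] [3] (.free), .derive 801 [.bwd 1, .bwd 277] [6] (.free), .derive 797 [.bwd 417, .fwd 0] [] (.free), .derive 863 [.bwd 0] [] (.free), .derive 797 [.bwd 0, .bwd 281] [9] (.free), .derive 708 [.bwd 162, .bwd 294, .bwd 0, .bwd 398, .fwd 17, .fwd 122, .fwd 93, .edge 7, .fwd 423] [] (.rel 1121),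
  .derive 799 [.bwd 0] [] (.free), .derive 708 [.bwd 0, .bwd 412] [0] (.free), .derive 708 [.bwd 1, .bwd 298] [3] (.free), .derive 708 [.bwd 2, .bwd 420] [6] (.free), .derive 846 [.fwd 330, .fwd 0] [] (.free), .derive 846 [.fwd 0] [] (.free), .derive 803 [.bwd 0, .fwd 172] [1] (.free), .derive 803 [.bwd 1, .bwd 335] [2] (.free),
  .derive 803 [.bwd 2, .bwd 278, .fwd 179] [7] (.free), .derive 803 [.bwd 3, .bwd 336, .fwd 3] [9] (.free), .derive 852 [.fwd 177, .fwd 4] [] (.free), .derive 851 [.fwd 326, .bwd 1, .fwd 428, .fwd 10, .fwd 8] [9] (.rel 54)]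
def ph11_7 : List Aux := [
  .derive 816 [.bwd 45, .bwd 334, .edge 3, .bwd 4, .bwd 2, .bwd 327] [2] (.rel 249), .derive 823 [.fwd 393, .bwd 401, .edge 7, .fwd 431, .bwd 3, .fwd 4] [8] (.rel 447), .derive 866 [.bwd 44, .bwd 275, .edge 3, .bwd 184, .bwd 5, .bwd 4, .fwd 5, .bwd 0] [1] (.rel 947), .derive 832 [.bwd 135, .bwd 357, .edge 7, .bwd 164, .bwd 324, .bwd 8, .bwd 5, .fwd 6, .bwd 1] [2] (.rel 1118), .derive 716 [.fwd 577, .fwd 591, .bwd 15, .bwd 433, .bwd 6, .fwd 7, .bwd 2, .bwd 387] [8] (.rel 1280), .derive 827 [.bwd 0, .fwd 175, .fwd 351, .fwd 134] [2] (.rel 27), .derive 856 [.bwd 322, .edge 7, .fwd 390, .bwd 1, .fwd 176, .fwd 352, .fwd 135, .fwd 386] [3] (.rel 885), .derive 815 [.bwd 389, .bwd 2, .bwd 581, .fwd 575, .fwd 39, .bwd 597, .bwd 598, .fwd 601, .bwd 586] [] (.rel 1071),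
  .derive 815 [.fwd 0] [] (.free), .derive 712 [.bwd 0, .bwd 408] [6] (.free), .derive 872 [.fwd 280, .fwd 0] [] (.free), .derive 712 [.bwd 2, .bwd 420] [9] (.free), .derive 872 [.fwd 1] [] (.free), .derive 819 [.bwd 0, .fwd 282] [7] (.free), .derive 704 [.fwd 607, .bwd 593, .bwd 5, .bwd 396, .bwd 9, .bwd 297, .fwd 197, .fwd 369, .fwd 112, .fwd 111] [8] (.rel 1247), .derive 858 [.bwd 24, .bwd 588, .fwd 10, .bwd 73, .fwd 46, .edge 7, .fwd 597] [2] (.rel 1086),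
  .derive 807 [.bwd 440, .fwd 444, .bwd 1] [1] (.rel 19), .derive 856 [.bwd 333, .edge 0, .bwd 191, .bwd 28, .bwd 440, .bwd 441, .fwd 445, .bwd 2] [0] (.rel 490), .derive 807 [.bwd 28, .bwd 606, .edge 0, .fwd 610, .bwd 50, .fwd 165, .bwd 3, .bwd 0] [2] (.rel 552), .derive 804 [.bwd 4, .bwd 598, .fwd 7, .edge 4, .edge 5, .edge 9, .edge 8, .fwd 700] [4] (.rel 1317), .derive 807 [.fwd 3, .fwd 613, .fwd 5, .bwd 448, .fwd 444] [8] (.rel 221), .derive 856 [.bwd 2, .fwd 0, .fwd 2] [8] (.rel 26), .derive 849 [.bwd 337, .fwd 0, .bwd 3, .fwd 1, .bwd 437] [2] (.rel 253), .derive 683 [.bwd 659, .edge 3, .fwd 704, .bwd 3, .fwd 168, .bwd 301] [4] (.rel 1304),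
  .derive 685 [.bwd 657, .edge 6, .edge 3, .fwd 705, .bwd 4, .bwd 445] [4] (.rel 1417), .derive 688 [.bwd 149, .fwd 169, .bwd 306, .bwd 587, .fwd 588, .fwd 722, .edge 6, .fwd 329, .bwd 175, .bwd 303, .bwd 1] [3] (.rel 1477), .derive 747 [.bwd 547, .edge 4, .edge 3, .fwd 651, .fwd 0, .fwd 2, .fwd 172] [] (.rel 1387), .derive 808 [.bwd 0] [] (.free), .derive 747 [.bwd 0, .bwd 450] [1] (.free), .derive 747 [.bwd 1, .bwd 4] [4] (.free), .derive 747 [.bwd 2, .bwd 399, .fwd 131] [7] (.free), .derive 736 [.bwd 551, .fwd 0] [] (.free),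
  .derive 822 [.bwd 0] [] (.free), .derive 736 [.bwd 0, .bwd 419] [6] (.free), .derive 240 [.fwd 570, .fwd 0] [] (.free), .derive 833 [.fwd 136, .fwd 2] [] (.free), .derive 826 [.bwd 1] [] (.free), .derive 240 [.bwd 0, .bwd 424] [8] (.free), .derive 737 [.bwd 573, .fwd 0] [] (.free), .derive 240 [.bwd 2, .fwd 135] [9] (.free),
  .derive 738 [.bwd 574, .fwd 0] [] (.free), .derive 838 [.bwd 0] [] (.free), .derive 738 [.bwd 0, .bwd 367, .fwd 43] [7] (.free), .derive 868 [.fwd 226, .fwd 1] [] (.free), .derive 737 [.fwd 5] [] (.free), .derive 259 [.bwd 0, .bwd 570] [0] (.free), .derive 263 [.edge 0, .fwd 0] [] (.free), .derive 744 [.bwd 0] [] (.free),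
  .derive 263 [.bwd 0, .bwd 574] [9] (.free), .derive 844 [.bwd 393, .fwd 0] [] (.free), .derive 844 [.fwd 0] [] (.free), .derive 241 [.bwd 0, .fwd 80] [1] (.free), .derive 739 [.bwd 585, .fwd 0] [] (.free), .derive 241 [.bwd 2, .bwd 165] [4] (.free), .derive 54 [.edge 4, .fwd 0] [] (.free), .derive 241 [.bwd 4, .fwd 398] [6] (.free),
  .derive 742 [.bwd 585, .fwd 0] [] (.free), .derive 840 [.bwd 0] [] (.free), .derive 742 [.bwd 0, .fwd 79] [1] (.free), .derive 646 [.bwd 4] [] (.free), .derive 54 [.bwd 0, .bwd 742] [7] (.free), .derive 70 [.edge 7, .fwd 0] [] (.free), .derive 651 [.bwd 0] [] (.free), .derive 70 [.bwd 0, .bwd 746] [5] (.free),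
  .derive 652 [.bwd 745, .fwd 0] [] (.free), .derive 652 [.fwd 0] [] (.free), .derive 69 [.bwd 0, .bwd 46] [4] (.free), .derive 242 [.edge 4, .fwd 0] [] (.free), .derive 804 [.bwd 0] [] (.free), .derive 242 [.bwd 0, .fwd 214] [3] (.free), .derive 745 [.bwd 594, .fwd 0] [] (.free), .derive 242 [.bwd 2, .bwd 56] [8] (.free),
  .derive 748 [.bwd 591, .fwd 0] [] (.free), .derive 242 [.bwd 4, .bwd 239, .fwd 45] [9] (.free), .derive 749 [.bwd 592, .fwd 0] [] (.free), .derive 749 [.fwd 0] [] (.free), .derive 747 [.bwd 0, .bwd 582] [0] (.free), .derive 754 [.fwd 586, .fwd 0] [] (.free), .derive 755 [.bwd 0] [] (.free), .derive 748 [.fwd 6] [] (.free),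
  .derive 704 [.bwd 0, .bwd 584] [0] (.free), .derive 856 [.fwd 63, .fwd 0] [] (.free), .derive 856 [.fwd 0] [] (.free), .derive 756 [.bwd 0, .fwd 397] [7] (.free), .derive 745 [.fwd 13] [] (.free), .derive 717 [.bwd 0, .fwd 608] [7] (.free), .derive 707 [.bwd 657, .fwd 0] [] (.free), .derive 735 [.bwd 0] [] (.free),
  .derive 707 [.bwd 0, .bwd 618] [0] (.free), .derive 831 [.bwd 198, .fwd 0] [] (.free), .derive 831 [.fwd 0] [] (.free), .derive 741 [.bwd 0, .fwd 225] [7] (.free), .derive 752 [.fwd 604, .fwd 0] [] (.free), .derive 741 [.bwd 2, .bwd 123] [8] (.free), .derive 841 [.fwd 231, .fwd 3] [] (.free), .derive 860 [.bwd 2] [] (.free),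
  .derive 752 [.bwd 0, .fwd 398] [9] (.free), .derive 896 [.fwd 219, .fwd 1] [] (.free), .derive 813 [.bwd 45] [] (.free), .derive 739 [.bwd 0, .bwd 511] [2] (.free)]
def ph11_8 : List Aux := [
  .derive 739 [.bwd 1, .fwd 511] [7] (.free), .derive 751 [.fwd 615, .fwd 0] [] (.free), .derive 739 [.bwd 3, .bwd 498] [9] (.free), .derive 797 [.bwd 1] [] (.free), .derive 751 [.bwd 0, .bwd 542] [1] (.free), .derive 751 [.bwd 1, .bwd 538] [6] (.free), .derive 751 [.bwd 2, .bwd 126, .fwd 124] [8] (.free), .derive 751 [.bwd 3, .fwd 120] [9] (.free),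
  .derive 863 [.fwd 122, .fwd 4] [] (.free), .derive 754 [.bwd 30, .bwd 616, .fwd 622, .bwd 13, .bwd 413, .bwd 1, .fwd 2] [2] (.rel 243), .derive 743 [.bwd 637, .bwd 59, .bwd 454, .edge 7, .bwd 2, .fwd 3, .bwd 514] [3] (.rel 413), .derive 750 [.bwd 628, .fwd 624, .bwd 15, .bwd 415, .bwd 3, .fwd 625, .fwd 11, .fwd 525, .fwd 164, .bwd 95] [] (.rel 789), .derive 858 [.bwd 0] [] (.free), .derive 750 [.bwd 0, .fwd 97] [2] (.free), .derive 750 [.bwd 1, .fwd 422, .fwd 125] [3] (.free), .derive 750 [.bwd 2, .bwd 115] [9] (.free),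
  .derive 743 [.bwd 643, .bwd 65, .bwd 460, .edge 7, .bwd 8, .fwd 10, .fwd 133, .bwd 242] [7] (.rel 1212), .derive 832 [.fwd 489, .bwd 246, .bwd 463, .edge 7, .bwd 9, .fwd 10, .bwd 521, .bwd 6] [9] (.rel 1227), .derive 710 [.bwd 170, .bwd 555, .bwd 13, .bwd 9, .bwd 413, .edge 7, .fwd 468, .fwd 23, .bwd 649, .fwd 650] [1] (.rel 724), .derive 716 [.fwd 692, .bwd 130, .bwd 555, .bwd 14, .bwd 10, .bwd 414, .edge 7, .fwd 463, .fwd 68, .fwd 651] [3] (.rel 1087), .derive 740 [.bwd 0, .fwd 289, .fwd 84, .bwd 656, .fwd 657, .fwd 32] [9] (.rel 54), .derive 851 [.bwd 5, .fwd 637, .bwd 1, .fwd 291, .fwd 465, .fwd 70, .edge 7, .fwd 628, .fwd 42] [1] (.rel 1130), .derive 740 [.bwd 3, .fwd 173, .edge 0, .fwd 550, .fwd 53, .edge 4, .edge 1, .edge 0, .edge 2, .edge 1, .edge 4] [] (.rel 1334), .derive 740 [.fwd 0] [] (.free),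
  .derive 245 [.bwd 0, .fwd 3] [9] (.free), .derive 766 [.bwd 616, .fwd 0] [] (.free), .derive 766 [.fwd 0] [] (.free), .derive 707 [.bwd 0, .fwd 617] [0] (.free), .derive 831 [.bwd 237, .fwd 0] [] (.free), .derive 759 [.bwd 0, .fwd 38] [] (.free), .derive 741 [.bwd 0, .bwd 631] [8] (.free), .derive 813 [.bwd 37, .fwd 0] [] (.free),
  .derive 739 [.bwd 33, .fwd 0] [] (.free), .derive 244 [.bwd 0, .bwd 647] [7] (.free), .derive 246 [.edge 7, .fwd 0] [] (.free), .derive 244 [.bwd 2, .fwd 32] [9] (.free), .derive 760 [.bwd 636, .fwd 0] [] (.free), .derive 821 [.bwd 0] [] (.free), .derive 760 [.bwd 0, .fwd 160] [0] (.free), .derive 765 [.fwd 631, .fwd 0] [] (.free),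
  .derive 819 [.bwd 0] [] (.free), .derive 765 [.bwd 0, .fwd 127] [7] (.free), .derive 751 [.bwd 7] [] (.free), .derive 246 [.bwd 0, .bwd 658] [2] (.free), .derive 767 [.bwd 633, .fwd 0] [] (.free), .derive 246 [.bwd 2, .fwd 37] [9] (.free), .derive 771 [.bwd 629, .fwd 0] [] (.free), .derive 771 [.fwd 0] [] (.free),
  .derive 271 [.bwd 0, .bwd 619] [0] (.free), .derive 270 [.edge 0, .fwd 0] [] (.free), .derive 776 [.bwd 0] [] (.free), .derive 270 [.bwd 0, .bwd 623] [8] (.free), .derive 858 [.bwd 462, .fwd 0] [] (.free), .derive 750 [.bwd 40, .fwd 0] [] (.free), .derive 247 [.bwd 0, .bwd 671] [1] (.free), .derive 772 [.bwd 637, .fwd 0] [] (.free),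
  .derive 247 [.bwd 2, .fwd 42] [2] (.free), .derive 773 [.bwd 637, .fwd 0] [] (.free), .derive 247 [.bwd 4, .fwd 43] [3] (.free), .derive 774 [.bwd 637, .fwd 0] [] (.free), .derive 247 [.bwd 6, .fwd 44] [9] (.free), .derive 777 [.bwd 631, .fwd 0] [] (.free), .derive 858 [.fwd 49, .fwd 8] [] (.free), .derive 851 [.bwd 1] [] (.free),
  .derive 777 [.bwd 0, .bwd 482, .fwd 182] [0] (.free), .derive 770 [.bwd 634, .fwd 0] [] (.free), .derive 777 [.bwd 2, .bwd 165] [2] (.free), .derive 777 [.bwd 3, .fwd 494] [3] (.free), .derive 777 [.bwd 4, .bwd 477, .fwd 5] [6] (.free), .derive 775 [.bwd 644, .bwd 0] [] (.free), .derive 777 [.bwd 0] [] (.free), .derive 775 [.bwd 0, .fwd 640] [0] (.free),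
  .derive 769 [.bwd 646, .fwd 0] [] (.free), .derive 775 [.bwd 2, .fwd 6] [2] (.free), .derive 775 [.bwd 3, .fwd 6] [3] (.free), .derive 775 [.bwd 4, .bwd 645] [9] (.free), .derive 851 [.fwd 12, .fwd 5] [] (.free), .derive 770 [.bwd 4] [] (.free), .derive 801 [.bwd 12, .fwd 0] [] (.free), .derive 769 [.bwd 0, .bwd 69] [2] (.free),
  .derive 797 [.fwd 76, .fwd 37] [] (.free), .derive 769 [.bwd 2, .bwd 585] [7] (.free), .derive 758 [.bwd 667, .fwd 0] [] (.free), .derive 817 [.bwd 0] [] (.free), .derive 758 [.bwd 0, .bwd 205, .fwd 126] [1] (.free), .derive 758 [.bwd 1, .bwd 590] [2] (.free), .derive 758 [.bwd 2, .bwd 575] [9] (.free), .derive 774 [.fwd 27] [] (.free),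
  .derive 708 [.bwd 0, .fwd 665] [0] (.free), .derive 807 [.bwd 199, .fwd 0] [] (.free), .derive 708 [.bwd 2, .fwd 666] [7] (.free), .derive 716 [.fwd 764, .fwd 0] [] (.free), .derive 763 [.bwd 0] [] (.free), .derive 716 [.bwd 0, .fwd 689] [0] (.free), .derive 807 [.fwd 4] [] (.free), .derive 768 [.bwd 0, .fwd 178] [1] (.free),
  .derive 768 [.bwd 1, .fwd 177, .fwd 113] [2] (.free), .derive 768 [.bwd 2, .bwd 621] [9] (.free), .derive 773 [.fwd 40] [] (.free), .derive 711 [.bwd 0, .fwd 678] [7] (.free)]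
def ph11_9 : List Aux := [
  .derive 710 [.bwd 781, .fwd 0] [] (.free), .derive 761 [.bwd 0] [] (.free), .derive 772 [.fwd 46] [] (.free), .derive 243 [.bwd 0, .fwd 684] [7] (.free), .derive 241 [.edge 7, .fwd 0] [] (.free), .derive 762 [.bwd 0] [] (.free), .derive 767 [.fwd 61] [] (.free), .derive 715 [.bwd 255, .fwd 543, .bwd 5, .bwd 706, .fwd 702] [1] (.rel 11),
  .derive 742 [.bwd 716, .bwd 718, .bwd 1, .bwd 697, .bwd 27, .bwd 646, .bwd 259, .bwd 6, .bwd 707, .fwd 703] [2] (.rel 752), .derive 712 [.bwd 200, .bwd 618, .edge 7, .bwd 260, .bwd 7, .bwd 708, .fwd 707, .fwd 3, .fwd 742, .fwd 76, .fwd 712] [2] (.rel 784), .derive 764 [.bwd 2, .bwd 258, .fwd 545, .bwd 8, .bwd 709, .edge 7, .fwd 680, .fwd 39, .fwd 35, .fwd 213, .fwd 168] [3] (.rel 843), .derive 712 [.bwd 791, .fwd 786, .bwd 259, .fwd 546, .bwd 9, .bwd 710, .edge 7, .fwd 681, .fwd 40, .fwd 684] [8] (.rel 946), .derive 706 [.bwd 795, .bwd 10,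 .bwd 711, .edge 4, .edge 1, .edge 0, .edge 2, .edge 1, .edge 4, .fwd 675] [2] (.rel 1336), .derive 792 [.fwd 662, .bwd 0, .fwd 803, .fwd 271] [] (.rel 13), .derive 827 [.bwd 0] [] (.free), .derive 792 [.bwd 0, .fwd 209] [2] (.free),
  .derive 251 [.fwd 666, .fwd 0] [] (.free), .derive 792 [.bwd 2, .fwd 600] [6] (.free), .derive 792 [.bwd 3, .bwd 213] [8] (.free), .derive 828 [.bwd 2] [] (.free), .derive 251 [.bwd 0, .fwd 348] [8] (.free), .derive 795 [.bwd 663, .fwd 0] [] (.free), .derive 795 [.fwd 0] [] (.free), .derive 263 [.bwd 0, .fwd 664] [0] (.free),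
  .derive 259 [.edge 0, .fwd 0] [] (.free), .derive 791 [.bwd 0] [] (.free), .derive 259 [.bwd 0, .bwd 677] [9] (.free), .derive 827 [.bwd 611, .fwd 0] [] (.free), .derive 792 [.bwd 13, .fwd 0] [] (.free), .derive 250 [.bwd 0, .fwd 11] [6] (.free), .derive 789 [.bwd 683, .fwd 0] [] (.free), .derive 250 [.bwd 2, .fwd 680] [7] (.free),
  .derive 248 [.edge 7, .fwd 0] [] (.free), .derive 250 [.bwd 4, .fwd 14] [8] (.free), .derive 790 [.bwd 686, .fwd 0] [] (.free), .derive 790 [.fwd 0] [] (.free), .derive 716 [.bwd 0, .bwd 675] [0] (.free), .derive 757 [.bwd 43, .fwd 0] [] (.free), .derive 796 [.bwd 0] [] (.free), .derive 757 [.bwd 0, .bwd 679] [9] (.free),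
  .derive 783 [.bwd 7] [] (.free), .derive 248 [.bwd 0, .bwd 28] [2] (.free), .derive 778 [.bwd 710, .fwd 0] [] (.free), .derive 778 [.fwd 0] [] (.free), .derive 823 [.bwd 13] [] (.free), .derive 789 [.bwd 0, .bwd 598, .fwd 377] [0] (.free), .derive 794 [.fwd 690, .fwd 0] [] (.free), .derive 789 [.bwd 2, .fwd 639, .fwd 106] [3] (.free),
  .derive 789 [.bwd 3, .fwd 246, .fwd 206] [8] (.free), .derive 789 [.bwd 4, .bwd 642] [9] (.free), .derive 832 [.bwd 3] [] (.free), .derive 794 [.bwd 0, .bwd 624] [1] (.free), .derive 794 [.bwd 1, .fwd 248, .fwd 7] [2] (.free), .derive 794 [.bwd 2, .fwd 624] [7] (.free), .derive 785 [.bwd 697, .fwd 0] [] (.free), .derive 809 [.bwd 0] [] (.free),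
  .derive 785 [.bwd 0, .bwd 676] [2] (.free), .derive 785 [.bwd 1, .fwd 676] [6] (.free), .derive 249 [.fwd 719, .fwd 0] [] (.free), .derive 805 [.bwd 0] [] (.free), .derive 249 [.bwd 0, .bwd 253, .fwd 177] [3] (.free), .derive 784 [.bwd 723, .fwd 0] [] (.free), .derive 249 [.bwd 2, .bwd 389, .fwd 6] [8] (.free), .derive 786 [.bwd 722, .fwd 0] [] (.free),
  .derive 249 [.bwd 4, .bwd 586] [9] (.free), .derive 787 [.bwd 722, .fwd 0] [] (.free), .derive 853 [.bwd 0] [] (.free), .derive 787 [.bwd 0, .bwd 326] [0] (.free), .derive 781 [.bwd 724, .fwd 0] [] (.free), .derive 869 [.bwd 0] [] (.free), .derive 781 [.bwd 0, .fwd 416, .fwd 242] [3] (.free), .derive 781 [.bwd 1, .fwd 549] [6] (.free),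
  .derive 781 [.bwd 2, .fwd 552, .fwd 377] [7] (.free), .derive 786 [.fwd 9] [] (.free), .derive 785 [.bwd 0, .fwd 732] [0] (.free), .derive 780 [.bwd 735, .fwd 0] [] (.free), .derive 782 [.bwd 0] [] (.free), .derive 784 [.fwd 15] [] (.free), .derive 756 [.bwd 0, .bwd 724] [7] (.free), .derive 825 [.bwd 195, .fwd 0] [] (.free),
  .derive 825 [.fwd 0] [] (.free), .derive 793 [.bwd 0, .fwd 307, .fwd 272] [0] (.free), .derive 788 [.bwd 729, .fwd 0] [] (.free), .derive 793 [.bwd 2, .fwd 672, .fwd 99] [9] (.free), .derive 788 [.fwd 1] [] (.free), .derive 712 [.bwd 0, .fwd 739] [7] (.free), .derive 704 [.bwd 865, .fwd 0] [] (.free), .derive 779 [.bwd 0] [] (.free),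
  .derive 780 [.bwd 754, .bwd 47, .bwd 75, .bwd 574, .fwd 326, .bwd 858, .fwd 860] [8] (.rel 257), .derive 780 [.bwd 12, .bwd 753, .bwd 48, .bwd 76, .fwd 879, .bwd 577, .fwd 330, .fwd 261, .fwd 260, .fwd 709, .fwd 33] [1] (.rel 734), .derive 793 [.bwd 9, .bwd 680, .bwd 384, .bwd 885, .fwd 881, .bwd 46, .bwd 758, .edge 7, .fwd 745, .fwd 5, .fwd 80] [1] (.rel 740), .derive 757 [.bwd 0, .fwd 7, .fwd 106] [8] (.rel 18), .derive 658 [.bwd 964, .edge 6, .edge 4, .bwd 223, .fwd 437, .bwd 20, .fwd 21, .fwd 262] [6] (.rel 1425), .derive 668 [.bwd 925, .bwd 0, .fwd 964] [6] (.rel 33), .derive 656 [.bwd 967, .bwd 0, .fwd 950] [6] (.rel 2), .derive 699 [.bwd 900, .edge 3, .edge 4, .fwd 748, .bwd 42, .fwd 43, .edge 6, .edge 4, .edge 3, .edge 4, .fwd 844] [2] (.rel 1480),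
  .derive 730 [.bwd 845, .edge 4, .bwd 437, .fwd 655, .bwd 401, .bwd 444, .bwd 438, .bwd 653, .edge 4, .fwd 845, .bwd 0, .fwd 900] [] (.rel 1337), .derive 730 [.fwd 0] [] (.free), .derive 693 [.bwd 0, .bwd 2] [2] (.free), .derive 673 [.bwd 902, .bwd 0, .fwd 917] [1] (.rel 13)]
def ph11_10 : List Aux := [
  .derive 644 [.fwd 997, .edge 3, .edge 4, .edge 6, .bwd 43, .bwd 10, .bwd 766, .edge 4, .edge 3, .fwd 951, .fwd 0] [2] (.rel 1480), .derive 687 [.bwd 929, .edge 1, .edge 2, .edge 0, .edge 1, .fwd 951, .bwd 1, .bwd 950, .bwd 0] [1] (.rel 1343), .derive 696 [.bwd 915, .edge 1, .edge 0, .edge 2, .edge 1, .fwd 953, .fwd 2, .bwd 1, .bwd 994] [1] (.rel 1338), .derive 733 [.bwd 846, .bwd 994, .bwd 0, .fwd 914] [] (.rel 14), .derive 733 [.fwd 0] [] (.free), .derive 677 [.bwd 0, .fwd 847] [6] (.free), .derive 682 [.bwd 933, .fwd 4, .bwd 998, .bwd 3, .fwd 918] [1] (.rel 68), .derive 728 [.bwd 860, .bwd 1002, .bwd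 999, .bwd 4, .fwd 919, .bwd 0, .bwd 934] [6] (.rel 468),
  .derive 664 [.bwd 945, .bwd 935, .fwd 6, .bwd 1000, .bwd 5, .fwd 920, .fwd 949] [2] (.rel 477), .derive 731 [.bwd 857, .bwd 1005, .bwd 1001, .bwd 6, .fwd 921, .bwd 2, .bwd 936, .fwd 935] [] (.rel 476), .derive 731 [.fwd 0] [] (.free), .derive 663 [.bwd 0, .bwd 859] [2] (.free), .derive 663 [.bwd 1, .fwd 859] [6] (.free), .derive 682 [.bwd 940, .fwd 11, .fwd 1010, .bwd 318, .bwd 729, .bwd 290, .bwd 645, .bwd 1006, .bwd 10] [2] (.rel 1336), .derive 677 [.bwd 925, .bwd 0, .fwd 951] [1] (.rel 13), .derive 724 [.bwd 2, .bwd 978, .edge 3, .fwd 1005, .fwd 255, .edge 3, .fwd 977] [3] (.rel 1387),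
  .derive 725 [.bwd 861, .bwd 862, .bwd 4, .bwd 5, .fwd 863, .fwd 0, .fwd 7] [] (.rel 228), .derive 725 [.fwd 0] [] (.free), .derive 669 [.bwd 0, .bwd 856] [7] (.free), .derive 680 [.fwd 960, .fwd 0] [] (.free), .derive 734 [.bwd 0] [] (.free), .derive 680 [.bwd 0, .fwd 861] [0] (.free), .derive 696 [.fwd 934, .fwd 0] [] (.free), .derive 732 [.bwd 0] [] (.free),
  .derive 696 [.bwd 0, .fwd 868] [7] (.free), .derive 677 [.bwd 936, .fwd 0] [] (.free), .derive 727 [.bwd 0] [] (.free), .derive 677 [.bwd 0, .bwd 866, .fwd 6] [6] (.free), .derive 726 [.bwd 22, .fwd 0] [] (.free), .derive 726 [.fwd 0] [] (.free), .derive 680 [.bwd 0, .bwd 880] [7] (.free), .derive 669 [.bwd 972, .fwd 0] [] (.free),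
  .derive 729 [.bwd 0] [] (.free), .derive 669 [.bwd 0, .bwd 884] [1] (.free), .derive 687 [.fwd 32, .fwd 1029, .edge 0, .bwd 0, .bwd 979, .fwd 19, .fwd 995, .bwd 23, .fwd 881] [] (.rel 468), .derive 724 [.bwd 0] [] (.free), .derive 687 [.bwd 0, .bwd 888] [7] (.free), .derive 663 [.bwd 963, .fwd 0] [] (.free), .derive 728 [.bwd 0] [] (.free), .derive 665 [.bwd 999, .edge 6, .fwd 1002, .bwd 0, .fwd 31, .bwd 967, .edge 6] [] (.rel 1355),
  .derive 665 [.fwd 0] [] (.free), .derive 139 [.bwd 0, .bwd 970] [7] (.free), .derive 117 [.edge 7, .fwd 0] [] (.free), .derive 686 [.bwd 0] [] (.free), .derive 117 [.bwd 0, .fwd 974] [0] (.free), .derive 118 [.edge 0, .fwd 0] [] (.free), .derive 684 [.bwd 0] [] (.free), .derive 118 [.bwd 0, .fwd 981] [7] (.free),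
  .derive 138 [.edge 7, .fwd 0] [] (.free), .derive 667 [.bwd 0] [] (.free), .derive 668 [.bwd 1007, .bwd 3, .bwd 985, .edge 3, .edge 6, .edge 4, .fwd 861] [3] (.rel 1306), .derive 675 [.bwd 999, .edge 1, .edge 2, .edge 0, .edge 1, .bwd 4, .bwd 986, .edge 1, .edge 0, .edge 2, .edge 1] [] (.rel 1343), .derive 675 [.fwd 0] [] (.free), .derive 132 [.bwd 0, .bwd 962] [7] (.free), .derive 124 [.edge 7, .fwd 0] [] (.free), .derive 697 [.bwd 0] [] (.free),
  .derive 124 [.bwd 0, .bwd 966] [4] (.free), .derive 671 [.bwd 1010, .fwd 0] [] (.free), .derive 671 [.fwd 0] [] (.free), .derive 891 [.bwd 598, .edge 5, .fwd 1033, .bwd 65, .bwd 1016, .bwd 12, .bwd 994, .edge 6, .fwd 995, .fwd 335, .fwd 89] [] (.rel 1367), .derive 891 [.fwd 0] [] (.free), .derive 781 [.bwd 0, .bwd 588] [7] (.free), .derive 818 [.bwd 89, .fwd 0] [] (.free), .derive 897 [.bwd 0] [] (.free),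
  .derive 818 [.bwd 0, .bwd 592] [6] (.free), .derive 814 [.bwd 766, .fwd 0] [] (.free), .derive 707 [.bwd 476, .fwd 0] [] (.free), .derive 290 [.bwd 0, .bwd 246, .fwd 243] [9] (.free), .derive 898 [.bwd 594, .fwd 0] [] (.free), .derive 898 [.fwd 0] [] (.free), .derive 245 [.bwd 0, .fwd 595] [0] (.free), .derive 244 [.edge 0, .fwd 0] [] (.free),
  .derive 894 [.bwd 0] [] (.free), .derive 244 [.bwd 0, .bwd 607] [8] (.free), .derive 759 [.bwd 875, .fwd 0] [] (.free), .derive 741 [.bwd 245, .fwd 0] [] (.free), .derive 289 [.bwd 0, .bwd 888] [7] (.free), .derive 287 [.edge 7, .fwd 0] [] (.free), .derive 752 [.bwd 0] [] (.free), .derive 287 [.bwd 0, .fwd 282, .fwd 123] [9] (.free),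
  .derive 888 [.bwd 623, .fwd 0] [] (.free), .derive 888 [.fwd 0] [] (.free), .derive 785 [.bwd 0, .bwd 619] [0] (.free), .derive 780 [.bwd 843, .fwd 0] [] (.free), .derive 892 [.bwd 0] [] (.free), .derive 780 [.bwd 0, .bwd 623] [8] (.free), .derive 717 [.bwd 97, .fwd 0] [] (.free), .derive 717 [.fwd 0] [] (.free),
  .derive 288 [.bwd 0, .bwd 533, .fwd 319] [3] (.free), .derive 889 [.bwd 631, .fwd 0] [] (.free), .derive 889 [.fwd 0] [] (.free), .derive 242 [.bwd 0, .bwd 622] [7] (.free), .derive 240 [.edge 7, .fwd 0] [] (.free), .derive 895 [.bwd 0] [] (.free), .derive 240 [.bwd 0, .fwd 626] [0] (.free), .derive 241 [.edge 0, .fwd 0] [] (.free),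
  .derive 893 [.bwd 0] [] (.free), .derive 241 [.bwd 0, .fwd 632] [7] (.free), .derive 243 [.edge 7, .fwd 0] [] (.free), .derive 886 [.bwd 0] [] (.free)]
def ph11_11 : List Aux := [
  .derive 896 [.fwd 302, .fwd 21] [] (.free), .derive 746 [.bwd 923, .fwd 922, .bwd 373, .bwd 376, .bwd 1034, .bwd 51, .bwd 1059, .fwd 1058, .fwd 50] [4] (.rel 1447), .derive 666 [.bwd 107, .bwd 1077, .edge 5, .bwd 23, .bwd 915, .fwd 913, .bwd 0] [3] (.rel 1302), .derive 742 [.bwd 345, .fwd 516, .fwd 0, .fwd 1, .bwd 914, .fwd 913] [5] (.rel 1292), .derive 775 [.bwd 227, .fwd 282, .bwd 224, .bwd 878, .bwd 227, .fwd 282, .bwd 0, .fwd 345, .fwd 220, .bwd 898, .bwd 195, .fwd 345, .fwd 220] [5] (.rel 1344), .derive 789 [.bwd 160, .bwd 402, .bwd 447, .bwd 474, .bwd 231, .bwd 228, .fwd 283, .bwd 1, .fwd 346, .fwd 221, .fwd 219, .edge 0, .fwd 778, .fwd 154] [5] (.rel 1349), .derive 905 [.bwd 622, .edge 5, .edge 6, .edge 4, .fwd 851,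 .bwd 0, .fwd 158] [] (.rel 1401), .derive 905 [.fwd 0] [] (.free),
  .derive 765 [.bwd 0, .fwd 623] [7] (.free), .derive 865 [.bwd 267, .fwd 0] [] (.free), .derive 901 [.bwd 0] [] (.free), .derive 865 [.bwd 0, .bwd 633] [6] (.free), .derive 704 [.bwd 703, .fwd 0] [] (.free), .derive 704 [.fwd 0] [] (.free), .derive 292 [.bwd 0, .fwd 399, .fwd 345] [8] (.free), .derive 902 [.bwd 636, .fwd 0] [] (.free),
  .derive 902 [.fwd 0] [] (.free), .derive 242 [.bwd 0, .fwd 637] [0] (.free), .derive 243 [.edge 0, .fwd 0] [] (.free), .derive 899 [.bwd 0] [] (.free), .derive 243 [.bwd 0, .bwd 644] [9] (.free), .derive 756 [.bwd 926, .fwd 0] [] (.free), .derive 756 [.fwd 0] [] (.free), .derive 291 [.bwd 0, .fwd 339, .fwd 142] [7] (.free),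
  .derive 293 [.edge 7, .fwd 0] [] (.free), .derive 793 [.bwd 0] [] (.free), .derive 293 [.bwd 0, .fwd 142] [9] (.free), .derive 903 [.bwd 646, .fwd 0] [] (.free), .derive 825 [.fwd 147, .fwd 2] [] (.free), .derive 903 [.fwd 1] [] (.free), .derive 758 [.bwd 0, .bwd 643] [0] (.free), .derive 764 [.fwd 925, .fwd 0] [] (.free),
  .derive 906 [.bwd 0] [] (.free), .derive 764 [.bwd 0, .bwd 647] [8] (.free), .derive 712 [.fwd 222, .fwd 0] [] (.free), .derive 712 [.fwd 0] [] (.free), .derive 294 [.bwd 0, .fwd 226] [2] (.free), .derive 904 [.bwd 655, .fwd 0] [] (.free), .derive 779 [.fwd 150, .fwd 24] [] (.free), .derive 904 [.fwd 1] [] (.free),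
  .derive 757 [.bwd 0, .fwd 657] [7] (.free), .derive 768 [.fwd 928, .fwd 0] [] (.free), .derive 900 [.bwd 0] [] (.free), .derive 768 [.bwd 0, .bwd 666, .edge 0, .bwd 20, .bwd 246, .fwd 247, .fwd 29, .edge 5, .edge 1, .edge 2, .edge 0, .edge 1, .edge 5] [] (.rel 1349), .derive 768 [.fwd 0] [] (.free), .derive 284 [.bwd 0, .fwd 247] [9] (.free), .derive 881 [.bwd 699, .fwd 0] [] (.free), .derive 881 [.fwd 0] [] (.free),
  .derive 254 [.bwd 0, .fwd 700] [0] (.free), .derive 252 [.edge 0, .fwd 0] [] (.free), .derive 877 [.bwd 0] [] (.free), .derive 252 [.bwd 0, .bwd 709] [8] (.free), .derive 799 [.bwd 888, .fwd 0] [] (.free), .derive 708 [.bwd 464, .fwd 0] [] (.free), .derive 283 [.bwd 0, .bwd 1027] [7] (.free), .derive 285 [.edge 7, .fwd 0] [] (.free),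
  .derive 283 [.bwd 2, .bwd 1043, .fwd 2] [9] (.free), .derive 878 [.bwd 714, .bwd 0] [] (.free), .derive 878 [.fwd 0] [] (.free), .derive 283 [.bwd 0, .bwd 713] [0] (.free), .derive 284 [.edge 0, .fwd 0] [] (.free), .derive 880 [.bwd 0] [] (.free), .derive 799 [.fwd 473, .fwd 8] [] (.free), .derive 716 [.bwd 7] [] (.free),
  .derive 285 [.bwd 0, .bwd 1038] [1] (.free), .derive 882 [.bwd 716, .fwd 0] [] (.free), .derive 285 [.bwd 2, .fwd 635, .fwd 430] [9] (.free), .derive 883 [.bwd 716, .fwd 0] [] (.free), .derive 883 [.fwd 0] [] (.free), .derive 736 [.bwd 0, .bwd 716] [0] (.free), .derive 742 [.fwd 998, .fwd 0] [] (.free), .derive 884 [.bwd 0] [] (.free),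
  .derive 742 [.bwd 0, .bwd 720] [8] (.free), .derive 757 [.fwd 181, .fwd 0] [] (.free), .derive 757 [.fwd 0] [] (.free), .derive 286 [.bwd 0, .fwd 235] [9] (.free), .derive 885 [.bwd 722, .fwd 0] [] (.free), .derive 885 [.fwd 0] [] (.free), .derive 882 [.fwd 12] [] (.free), .derive 190 [.bwd 0, .fwd 729] [7] (.free),
  .derive 188 [.edge 7, .fwd 0] [] (.free), .derive 876 [.bwd 0] [] (.free), .derive 879 [.bwd 738, .bwd 37, .bwd 970, .edge 4, .edge 6, .edge 2, .edge 1, .edge 6, .edge 4, .bwd 82, .bwd 727, .bwd 81, .bwd 712, .bwd 115, .bwd 1071, .bwd 0, .bwd 741] [] (.rel 1480), .derive 879 [.fwd 0] [] (.free), .derive 647 [.bwd 1173, .edge 9, .edge 8, .edge 5, .bwd 0, .bwd 740, .bwd 22, .bwd 739, .edge 7, .fwd 730, .fwd 6, .edge 4] [] (.rel 1321), .derive 647 [.fwd 0] [] (.free), .derive 66 [.bwd 0, .bwd 1170] [7] (.free), .derive 65 [.edge 7, .fwd 0] [] (.free),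
  .derive 650 [.bwd 0] [] (.free), .derive 65 [.bwd 0, .bwd 1174] [5] (.free), .derive 648 [.bwd 1178, .fwd 0] [] (.free), .derive 648 [.fwd 0] [] (.free), .derive 67 [.bwd 0, .bwd 1178] [7] (.free), .derive 63 [.edge 7, .fwd 0] [] (.free), .derive 649 [.bwd 0] [] (.free), .derive 661 [.bwd 1162, .edge 6, .bwd 9, .bwd 1184, .edge 3, .edge 6, .fwd 1139] [6] (.rel 1404),
  .derive 794 [.bwd 941, .edge 4, .bwd 10, .bwd 1185, .edge 6, .edge 3, .fwd 1140] [4] (.rel 1415), .derive 659 [.bwd 1167, .edge 5, .bwd 58, .bwd 964, .edge 4, .bwd 2, .bwd 1184, .edge 6, .fwd 1164] [5] (.rel 1451), .derive 679 [.bwd 1141, .edge 3, .fwd 1168, .fwd 0, .fwd 2, .bwd 1, .bwd 92] [4] (.rel 1452), .derive 775 [.bwd 322, .bwd 827, .edge 7, .bwd 249, .bwd 0, .bwd 1142, .edge 9, .edge 8, .fwd 1151] [4] (.rel 1317)]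
def ph11_12 : List Aux := [
  .derive 670 [.bwd 1154, .edge 9, .edge 8, .fwd 1143, .fwd 1, .fwd 251, .fwd 457, .fwd 502] [4] (.rel 1321), .derive 698 [.bwd 1109, .bwd 142, .bwd 1154, .edge 6, .fwd 1155, .fwd 0, .fwd 930, .fwd 38, .edge 5, .fwd 1179] [6] (.rel 1365), .derive 660 [.fwd 1170, .bwd 0, .fwd 1109] [6] (.rel 2), .derive 655 [.fwd 1179, .bwd 1, .fwd 1109] [6] (.rel 33), .derive 654 [.bwd 2, .bwd 1112, .fwd 1114, .fwd 148, .edge 3, .fwd 1173] [5] (.rel 1290), .derive 144 [.edge 2, .edge 1, .edge 6, .fwd 1133, .bwd 169, .fwd 189, .bwd 1167, .edge 1, .edge 2, .bwd 152, .bwd 1153, .edge 3, .fwd 1183, .bwd 3] [] (.rel 1484), .derive 698 [.bwd 0] [] (.free), .derive 144 [.bwd 0, .fwd 1113] [7] (.free),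
  .derive 155 [.edge 7, .fwd 0] [] (.free), .derive 676 [.bwd 0] [] (.free), .derive 155 [.bwd 0, .bwd 6] [6] (.free), .derive 157 [.edge 6, .fwd 0] [] (.free), .derive 655 [.bwd 0] [] (.free), .derive 157 [.bwd 0, .fwd 1189] [7] (.free), .derive 145 [.edge 7, .fwd 0] [] (.free), .derive 654 [.bwd 0] [] (.free),
  .derive 145 [.bwd 0, .fwd 11] [5] (.free), .derive 692 [.bwd 1137, .fwd 0] [] (.free), .derive 692 [.fwd 0] [] (.free), .derive 660 [.bwd 0, .bwd 1117] [7] (.free), .derive 662 [.fwd 1184, .fwd 0] [] (.free), .derive 701 [.bwd 0] [] (.free), .derive 662 [.bwd 0, .fwd 1121] [0] (.free), .derive 655 [.bwd 1188, .fwd 0] [] (.free),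
  .derive 695 [.bwd 0, .fwd 11] [] (.free), .derive 157 [.bwd 0, .fwd 1139] [7] (.free), .derive 145 [.edge 7, .fwd 0] [] (.free), .derive 690 [.bwd 0] [] (.free), .derive 145 [.bwd 0, .bwd 1151] [5] (.free), .derive 692 [.bwd 1149, .fwd 0] [] (.free), .derive 660 [.bwd 11, .fwd 0] [] (.free), .derive 142 [.bwd 0, .fwd 28] [6] (.free),
  .derive 141 [.edge 6, .fwd 0] [] (.free), .derive 142 [.bwd 2, .bwd 1197] [7] (.free), .derive 148 [.edge 7, .fwd 0] [] (.free), .derive 662 [.bwd 0] [] (.free), .derive 148 [.bwd 0, .bwd 1202] [4] (.free), .derive 694 [.bwd 1154, .fwd 0] [] (.free), .derive 694 [.fwd 0] [] (.free), .derive 110 [.bwd 0, .fwd 1155] [7] (.free),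
  .derive 107 [.edge 7, .fwd 0] [] (.free), .derive 689 [.bwd 0] [] (.free), .derive 107 [.bwd 0, .bwd 1163] [0] (.free), .derive 94 [.edge 0, .fwd 0] [] (.free), .derive 691 [.bwd 0] [] (.free), .derive 94 [.bwd 0, .bwd 1146] [7] (.free), .derive 95 [.edge 7, .fwd 0] [] (.free), .derive 700 [.bwd 0] [] (.free),
  .derive 681 [.bwd 15] [] (.free), .derive 141 [.bwd 0, .fwd 1188] [7] (.free), .derive 150 [.edge 7, .fwd 0] [] (.free), .derive 672 [.bwd 0] [] (.free), .derive 150 [.bwd 0, .bwd 52] [4] (.free), .derive 305 [.edge 4, .fwd 0] [] (.free), .derive 775 [.bwd 0] [] (.free), .derive 305 [.bwd 0, .fwd 379] [9] (.free),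
  .derive 913 [.bwd 759, .fwd 0] [] (.free), .derive 913 [.fwd 0] [] (.free), .derive 247 [.bwd 0, .bwd 758] [0] (.free), .derive 246 [.edge 0, .fwd 0] [] (.free), .derive 915 [.bwd 0] [] (.free), .derive 246 [.bwd 0, .bwd 762] [8] (.free), .derive 770 [.bwd 1046, .fwd 0] [] (.free), .derive 769 [.bwd 385, .fwd 0] [] (.free),
  .derive 306 [.bwd 0, .fwd 1049] [7] (.free), .derive 304 [.edge 7, .fwd 0] [] (.free), .derive 758 [.bwd 0] [] (.free), .derive 304 [.bwd 0, .bwd 162, .fwd 12] [5] (.free), .derive 912 [.bwd 773, .bwd 0] [] (.free), .derive 304 [.bwd 2, .fwd 382, .fwd 140] [9] (.free), .derive 910 [.bwd 779, .fwd 0] [] (.free), .derive 910 [.fwd 0] [] (.free),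
  .derive 293 [.bwd 0, .fwd 780] [0] (.free), .derive 294 [.edge 0, .fwd 0] [] (.free), .derive 909 [.bwd 0] [] (.free), .derive 294 [.bwd 0, .bwd 785] [8] (.free), .derive 906 [.bwd 790, .fwd 0] [] (.free), .derive 764 [.bwd 144, .fwd 0] [] (.free), .derive 303 [.bwd 0, .fwd 367] [3] (.free), .derive 907 [.bwd 791, .fwd 0] [] (.free),
  .derive 907 [.fwd 0] [] (.free), .derive 738 [.bwd 0, .bwd 787] [7] (.free), .derive 803 [.bwd 539, .fwd 0] [] (.free), .derive 911 [.bwd 0] [] (.free), .derive 912 [.fwd 15] [] (.free), .derive 304 [.bwd 0, .fwd 789] [7] (.free), .derive 306 [.edge 7, .fwd 0] [] (.free), .derive 908 [.bwd 0] [] (.free),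
  .derive 306 [.bwd 0, .bwd 799] [5] (.free), .derive 914 [.bwd 791, .fwd 0] [] (.free), .derive 914 [.fwd 0] [] (.free), .derive 918 [.bwd 788, .edge 4, .edge 1, .edge 2, .bwd 235, .bwd 1201, .edge 3, .bwd 43, .bwd 1193, .edge 6, .edge 2, .edge 1, .edge 6, .edge 4] [] (.rel 1476), .derive 918 [.fwd 0] [] (.free), .derive 304 [.bwd 0, .bwd 783] [7] (.free), .derive 306 [.edge 7, .fwd 0] [] (.free), .derive 922 [.bwd 0] [] (.free),
  .derive 306 [.bwd 0, .fwd 785] [5] (.free), .derive 914 [.bwd 799, .fwd 0] [] (.free), .derive 916 [.bwd 0, .fwd 7] [] (.free), .derive 303 [.bwd 0, .bwd 792] [7] (.free)]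
def ph11_13 : List Aux := [
  .derive 305 [.edge 7, .fwd 0] [] (.free), .derive 920 [.bwd 0] [] (.free), .derive 305 [.bwd 0, .bwd 796] [3] (.free), .derive 911 [.bwd 810, .fwd 0] [] (.free), .derive 803 [.bwd 20, .fwd 0] [] (.free), .derive 309 [.bwd 0, .bwd 1035] [8] (.free), .derive 921 [.bwd 798, .fwd 0] [] (.free), .derive 921 [.fwd 0] [] (.free),
  .derive 253 [.bwd 0, .bwd 795] [0] (.free), .derive 255 [.edge 0, .fwd 0] [] (.free), .derive 923 [.bwd 0] [] (.free), .derive 255 [.bwd 0, .bwd 799] [9] (.free), .derive 811 [.bwd 1029, .fwd 0] [] (.free), .derive 811 [.fwd 0] [] (.free), .derive 310 [.bwd 0, .bwd 497] [7] (.free), .derive 308 [.edge 7, .fwd 0] [] (.free),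
  .derive 743 [.bwd 0] [] (.free), .derive 308 [.bwd 0, .bwd 499, .fwd 366] [9] (.free), .derive 919 [.bwd 814, .fwd 0] [] (.free), .derive 919 [.fwd 0] [] (.free), .derive 794 [.bwd 0, .fwd 815] [0] (.free), .derive 789 [.bwd 1065, .fwd 0] [] (.free), .derive 917 [.bwd 0] [] (.free), .derive 789 [.bwd 0, .bwd 821] [8] (.free),
  .derive 738 [.bwd 375, .fwd 0] [] (.free), .derive 738 [.fwd 0] [] (.free), .derive 868 [.fwd 582, .fwd 0] [] (.free), .derive 273 [.fwd 911, .fwd 0] [1] (.free), .commit 0]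
def ph11 : List Aux :=
  (((ph11_0 ++ (ph11_1 ++ ph11_2)) ++ ((ph11_3 ++ ph11_4) ++ (ph11_5 ++ ph11_6))) ++ ((ph11_7 ++ (ph11_8 ++ ph11_9)) ++ ((ph11_10 ++ ph11_11) ++ (ph11_12 ++ ph11_13))))

def ph12_0 : List ℕ := [
  778251, 1089551, 1265813, 770214, 1270277, 1160020, 1099063, 1074498,
  1119693, 1089549, 778265, 1101894, 749709, 1265805, 770211, 1073624,
  1110557, 1184493, 1168109, 754451, 1123644, 1279301, 1258816, 144841,
  1160642, 1183877, 1179785, 1011857, 1003679, 1163728, 1270226, 1200605,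
  1192427, 1172002, 1188550, 983821, 1258332, 1164600, 1197374, 1205577,
  1200196, 1196181, 1286310, 1274325, 1192453, 1270512, 1274605, 1278701,
  1164033, 1200886, 1286996, 214475, 230849, 251186, 165196, 165231,
  316785, 324987, 230818, 775436, 808219, 382250, 533805, 226608,
  251188, 1037650, 324977, 34171, 1144190, 1144201, 292231, 1144218,
  1146880, 1151007, 1126475, 1134625, 1134854, 38240, 128381, 91544,
  1127856, 300294, 357641, 38157, 1135924, 1148247, 210311, 128281,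
  238898, 243003, 91503, 1156553, 255435, 255238, 341258, 95513,
  378133, 415018, 939293, 189772, 394578, 189807, 394631, 46480,
  46342, 492830, 42286, 923085, 905228, 1081481, 922109, 914109,
  905918, 811757, 923084, 118795, 819225, 921629, 909345, 118950,
  811201, 917765, 110883, 123225, 819664, 811635, 963422, 922899,
  800090, 923003, 79227, 193908, 767348, 193927, 337286, 337325,
  882081, 1152279, 1054038, 42400, 501034, 1221894, 1221896, 419097,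
  1221911, 1221916, 546112, 636229, 496974, 496983, 935294, 935305,
  1217951, 1216540, 1208351, 1216550, 1015900, 1216601, 1282135, 1044730,
  1208580, 1012020, 1208648, 1069418, 995695, 1020316, 1217024, 1217040,
  1057345, 1278524, 758369, 1209056, 1278793, 1069900, 1262405, 1024852,
  1028962, 1258353, 1020819, 1160089, 1020898, 1041408, 1029111, 1029304,
  1262815, 415052, 488850, 402715, 488749, 455986, 558390, 582971,
  398730, 447901, 1209762, 136606, 153033, 845259, 845062, 914731,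
  877874, 742710, 853307, 398666, 1213785, 869743, 931212, 925696,
  929820, 929840, 909399, 917591, 934137, 930062, 897300, 930096,
  925990, 934221, 917856, 897390, 958978, 930320, 123489, 934719,
  897883, 918386, 931085, 926995, 464224, 755141, 1238474, 1232896,
  1237020, 995374, 1237046, 991307, 991324, 1286231, 1229060, 1229142,
  1057338, 1196641, 1045318, 1172721, 1275128, 599308, 353612, 1238352,
  353647, 140657, 996728, 628102, 587154, 587163, 632235, 627978,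
  374041, 976169, 365854, 1230108, 591168, 554318, 951689, 550296,
  988584, 943530, 374174, 1234186, 320822, 185674, 763213, 562519,
  943511, 984524, 1004983, 1070525, 1167380, 1040547, 1024242, 999664,
  1008494, 1111147, 1246522, 1127870, 959933, 913421, 921620, 897161,
  888970, 942242, 889047, 815308, 959280, 972100, 978959, 966724,
  979129, 975325, 967145, 967134, 950771, 971265, 975365, 971541,
  967445, 819980, 946956, 820000, 971552, 1082141, 979741, 893768,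
  975689, 955218, 971598, 967524, 971666, 476470, 972091, 1152456,
  1054136, 1036301, 1200148, 1261590, 999448, 753690, 1228870, 1269921,
  1007778, 1007831, 1048803, 762097, 1278191, 1183999, 1237464, 1257996,
  1004060, 1204780, 1053415, 1139459, 996093, 1102604, 1012492, 1139488,
  1131293, 1037104, 1250100, 1250093, 1151805, 1131834, 1213764, 1024011,
  1220623, 1118224, 1114130, 1233032, 1114261, 1015962, 778416, 766123,
  778441, 1036765, 1090023, 991955, 766804, 1119082, 1143698, 1033319,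
  1246533, 509190, 1013003, 1242416, 1254722, 1000782, 595282, 451977,
  595335, 320941, 1009056, 345351, 619789, 1148230, 644475, 390535,
  542112, 181580, 1271046, 173336, 177437, 197938, 1262934, 968094,
  840966, 918972, 918790, 910605, 914725, 906530, 918842, 910703]
def ph12_1 : List ℕ := [
  1152294, 906526, 1131811, 770106, 1143050, 987616, 955842, 914713,
  1275169, 54726, 54534]

/-- known edges at a check point -/
def mask0 : ℕ := 0x100401004010040100401004010040100401004010040100402008020080200802008020080200802008020080100401004080100c01000812008020400200802008120c80401004020040a80602804010040100401004010040100401008020080200c0280802008020080200802000a004020040008020080200100401100015000300c0200c0300904018200c0180601806004008980c0a80c0c0040d0140100401004082a00826020240a004020240b00c0210842108409084290048902489024880400804409020080200908020080190402102290064080800802008024280a408020100a02806000822280220922089020088020882219026088220a02822268220681a068180a02a86a180a2080c8220222a0a0204200066a2800120024280a42a0a0184290806809a260a82ba1264290242128619866082a019002008a4280601186600a020a0a8022a020228220e81a00a28042aa268024022acea1a840042d831004308ce30ae2188ac3d8e23b0723607616041920e0302e234896b4adfb34cfb28df830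

/-- known edges at a check point -/
def mask1 : ℕ := 0x91244912449124491244912449124491244912449124491244a1284a1284a1284a1284a1284a1284a1284a12849124491244c9324c9324c9324c9f3cd9fbc78364d9364f9364d9364f9364f9364f9244912449124491244912449124491284a1284a11c479284a1284a1284a1284a100a094260942489224d936743d0f43d1f43d1f47d0f43d0f47d0f77ddf77ddcd926499267cff3ffffffffffcd9364d9364b12c4b12c7ebfa7ebfa74bd2f49d274bd2f49d27dff7fdff7fdff7fdff7fdff7fdff7fcff3fcff7fdff3fcff3fdff3fcff3fdff3fdff3fcff7fcff3fcff3fcff7fcff7fcff3fcff3fcff3fcff3fcff3fdff3fdff3fcff3fcff3fdff7fcff3feffbfeffbfeffbfeffbfcff3feffbfcff3fcffbfeff3feff3fcff3fcffbfcff3fcff7fcff7feff3fcffbfeffbfdff7feffbfdff7fdff7fdff7fdff7fcff3fdff3fcff7fcff3fdff7fcff3feffbfeff3fcffbfeffbfeffbfcff3feffbfeff3feffbfeff3cdbfe7f93e7fbfeffbf3fcffffdff3ffff3ffff7ffff3ffff3fcff3fcffffffffffffffe9fffff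

/-- known edges at a check point -/
def mask2 : ℕ := 0x91244912449124491244912449124491244912449124491244a1284a1284a1284a1284a1284a1284a1284a12849124491244ed3a4eb766dd7a6edf3cf9fbc78364f9364f936cfb364f9765f9b66f9244912449124491244912449124491284a1284a11c479284a1284a1284a1284a120a094268f43c99264d9367effbfcff3fcff3fcffbfcffbfcff3ffffffffffcd926499267cff3ffffffffffcd9374d936cb12c4b12c7effbfeffbfeffbffffffeffbffffffdff7fdff7fdff7fdff7fdff7fdff7fcff3fcff7fdff3fcff3fdff3fcff3fdff3fdff3fcff7fcff3fcff3fcff7fcff7fcff3fcff3fcff3fcff3fcff3fdff3fdff3fcff3fcff3fdff7fcff3feffbfeffbfeffbfeffbfcff3feffbfcff3fcffbfeff3feff3fcff3fcffbfcff3fcff7fcff7feff3fcffbfeffbfdff7feffbfdff7fdff7fdff7fdff7fcff3fdff3fcff7fcff3fdff7fcff3feffbfeff3fcffbfeffbfeffbfcff3feffbfeff3feffbfeff3cdffe7ff3ffffffffff3fcfffffff3ffff3fffffffff3ffff3fcff3fcffffffffffffffeffffff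

theorem treeRun_ok : stIs (runList (treeStep P) tree ⟨1, 0, []⟩) 315 mask0 = true := by decide +kernel

def seg0 : List Phase := [.scans ph0_0, .scans ph0_1, .aux ph1, .scans ph2_0, .aux ph3]

theorem seg0_ok : stIs (runList (phaseStep P) seg0 ⟨315, mask0, []⟩) 319 mask1 = true := by decide +kernel

def seg1 : List Phase := [.scans ph4_0, .aux ph5, .scans ph6_0, .aux ph7, .scans ph8_0]

theorem seg1_ok : stIs (runList (phaseStep P) seg1 ⟨319, mask1, []⟩) 354 mask2 = true := by decide +kernel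

def seg2 : List Phase := [.aux ph9, .scans ph10_0, .aux ph11, .scans ph12_0, .scans ph12_1]

theorem seg2_ok : stIs (runList (phaseStep P) seg2 ⟨354, mask2, []⟩) 925 (2 ^ (315 * P.k) - 1) = true := by decide +kernel

/-- the certificate -/
def phases : List Phase :=
  seg0 ++ (seg1 ++ (seg2))

theorem cert_ok : checkCert P 315 tree phases = true :=
  checkCert_of_run P treeRun_ok (run_append P seg0_ok (run_append P seg1_ok (run_last P seg2_ok)))

theorem gen0_ok : genOK P 315 0 = true := by decide +kernel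

theorem gen1_ok : genOK P 315 1 = true := by decide +kernel

theorem gen2_ok : genOK P 315 2 = true := by decide +kernel

theorem gen3_ok : genOK P 315 3 = true := by decide +kernel

theorem gen4_ok : genOK P 315 4 = true := by decide +kernel

theorem gen5_ok : genOK P 315 5 = true := by decide +kernel

theorem gen6_ok : genOK P 315 6 = true := by decide +kernel

theorem gen7_ok : genOK P 315 7 = true := by decide +kernel

theorem gen8_ok : genOK P 315 8 = true := by decide +kernel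

theorem gen9_ok : genOK P 315 9 = true := by decide +kernel

theorem tab_ok : tableOK P 315 = true := tableOK_of_gens P (by decide +kernel) (by decide +kernel) fun x hx =>
  match x, hx with
  | 0, _ => gen0_ok
  | 1, _ => gen1_ok
  | 2, _ => gen2_ok
  | 3, _ => gen3_ok
  | 4, _ => gen4_ok
  | 5, _ => gen5_ok
  | 6, _ => gen6_ok
  | 7, _ => gen7_ok
  | 8, _ => gen8_ok
  | 9, _ => gen9_ok
  | _ + 10, hx => absurd (show _ + 10 < 10 from hx) (by omega)

theorem base0_ok : Fixes P 315 [0, 3, 0, 3] :=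
  fixes_of_powFix P (u := [0, 3]) (e := 2) (by decide +kernel) (by decide +kernel)

theorem base1_ok : Fixes P 315 [0, 6, 0, 6] :=
  fixes_of_powFix P (u := [0, 6]) (e := 2) (by decide +kernel) (by decide +kernel)

theorem base2_ok : Fixes P 315 [0, 7, 0, 7] :=
  fixes_of_powFix P (u := [0, 7]) (e := 2) (by decide +kernel) (by decide +kernel)

theorem base3_ok : Fixes P 315 [0, 8, 0, 9] := fixes_of_wordFix P (by decide +kernel)

theorem base4_ok : Fixes P 315 [1, 6, 1, 6] :=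
  fixes_of_powFix P (u := [1, 6]) (e := 2) (by decide +kernel) (by decide +kernel)

theorem base5_ok : Fixes P 315 [1, 7, 2, 7] := fixes_of_wordFix P (by decide +kernel)

theorem base6_ok : Fixes P 315 [1, 8, 1, 9] := fixes_of_wordFix P (by decide +kernel)

theorem base7_ok : Fixes P 315 [2, 3, 2, 9] := fixes_of_wordFix P (by decide +kernel)

theorem base8_ok : Fixes P 315 [2, 6, 2, 6] :=
  fixes_of_powFix P (u := [2, 6]) (e := 2) (by decide +kernel) (by decide +kernel)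

theorem base9_ok : Fixes P 315 [2, 8, 2, 8] :=
  fixes_of_powFix P (u := [2, 8]) (e := 2) (by decide +kernel) (by decide +kernel)

theorem base10_ok : Fixes P 315 [3, 6, 3, 6] :=
  fixes_of_powFix P (u := [3, 6]) (e := 2) (by decide +kernel) (by decide +kernel)

theorem base11_ok : Fixes P 315 [3, 7, 3, 7] :=
  fixes_of_powFix P (u := [3, 7]) (e := 2) (by decide +kernel) (by decide +kernel)

theorem base12_ok : Fixes P 315 [6, 7, 6, 7] :=
  fixes_of_powFix P (u := [6, 7]) (e := 2) (by decide +kernel) (by decide +kernel)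

theorem base13_ok : Fixes P 315 [6, 8, 6, 8] :=
  fixes_of_powFix P (u := [6, 8]) (e := 2) (by decide +kernel) (by decide +kernel)

theorem base14_ok : Fixes P 315 [6, 9, 6, 9] :=
  fixes_of_powFix P (u := [6, 9]) (e := 2) (by decide +kernel) (by decide +kernel)

theorem base15_ok : Fixes P 315 [3, 6, 8, 3, 8] := fixes_of_wordFix P (by decide +kernel)

theorem base16_ok : Fixes P 315 [3, 6, 9, 3, 9] := fixes_of_wordFix P (by decide +kernel)

theorem base17_ok : Fixes P 315 [6, 8, 9, 8, 9] := fixes_of_wordFix P (by decide +kernel)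

theorem base18_ok : Fixes P 315 [0, 1, 0, 1, 0, 1] :=
  fixes_of_powFix P (u := [0, 1]) (e := 3) (by decide +kernel) (by decide +kernel)

theorem base19_ok : Fixes P 315 [0, 2, 0, 2, 0, 2] :=
  fixes_of_powFix P (u := [0, 2]) (e := 3) (by decide +kernel) (by decide +kernel)

theorem base20_ok : Fixes P 315 [0, 3, 6, 0, 6, 3] := fixes_of_wordFix P (by decide +kernel)

theorem base21_ok : Fixes P 315 [0, 3, 7, 0, 7, 3] := fixes_of_wordFix P (by decide +kernel)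

theorem base22_ok : Fixes P 315 [0, 3, 8, 0, 9, 3] := fixes_of_wordFix P (by decide +kernel)

theorem base23_ok : Fixes P 315 [0, 6, 7, 0, 7, 6] := fixes_of_wordFix P (by decide +kernel)

theorem base24_ok : Fixes P 315 [0, 6, 8, 0, 9, 6] := fixes_of_wordFix P (by decide +kernel)

theorem base25_ok : Fixes P 315 [0, 7, 8, 0, 9, 7] := fixes_of_wordFix P (by decide +kernel)

theorem base26_ok : Fixes P 315 [0, 8, 9, 0, 8, 9] :=
  fixes_of_powFix P (u := [0, 8, 9]) (e := 2) (by decide +kernel) (by decide +kernel)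

theorem base27_ok : Fixes P 315 [1, 2, 1, 2, 1, 7] := fixes_of_wordFix P (by decide +kernel)

theorem base28_ok : Fixes P 315 [1, 2, 1, 2, 7, 2] := fixes_of_wordFix P (by decide +kernel)

theorem base29_ok : Fixes P 315 [1, 3, 1, 7, 9, 7] := fixes_of_wordFix P (by decide +kernel)

theorem base30_ok : Fixes P 315 [1, 3, 7, 2, 9, 7] := fixes_of_wordFix P (by decide +kernel)

theorem base31_ok : Fixes P 315 [1, 6, 7, 2, 7, 6] := fixes_of_wordFix P (by decide +kernel)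

theorem base32_ok : Fixes P 315 [1, 6, 8, 1, 9, 6] := fixes_of_wordFix P (by decide +kernel)

theorem base33_ok : Fixes P 315 [1, 7, 3, 2, 9, 7] := fixes_of_wordFix P (by decide +kernel)

theorem base34_ok : Fixes P 315 [1, 7, 6, 2, 6, 7] := fixes_of_wordFix P (by decide +kernel)

theorem base35_ok : Fixes P 315 [1, 7, 8, 2, 8, 7] := fixes_of_wordFix P (by decide +kernel)

theorem base36_ok : Fixes P 315 [1, 8, 7, 2, 7, 9] := fixes_of_wordFix P (by decide +kernel)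

theorem base37_ok : Fixes P 315 [1, 8, 9, 1, 8, 9] :=
  fixes_of_powFix P (u := [1, 8, 9]) (e := 2) (by decide +kernel) (by decide +kernel)

theorem base38_ok : Fixes P 315 [2, 3, 6, 2, 9, 6] := fixes_of_wordFix P (by decide +kernel)

theorem base39_ok : Fixes P 315 [2, 3, 8, 2, 8, 9] := fixes_of_wordFix P (by decide +kernel)

theorem base40_ok : Fixes P 315 [2, 3, 9, 2, 3, 9] :=
  fixes_of_powFix P (u := [2, 3, 9]) (e := 2) (by decide +kernel) (by decide +kernel)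

theorem base41_ok : Fixes P 315 [2, 6, 8, 2, 8, 6] := fixes_of_wordFix P (by decide +kernel)

theorem base42_ok : Fixes P 315 [3, 6, 7, 3, 7, 6] := fixes_of_wordFix P (by decide +kernel)

theorem base43_ok : Fixes P 315 [3, 8, 3, 9, 8, 9] := fixes_of_wordFix P (by decide +kernel)

theorem base44_ok : Fixes P 315 [3, 8, 9, 3, 9, 8] := fixes_of_wordFix P (by decide +kernel)

theorem base45_ok : Fixes P 315 [3, 8, 9, 8, 3, 9] := fixes_of_wordFix P (by decide +kernel)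

theorem base46_ok : Fixes P 315 [6, 7, 8, 6, 8, 7] := fixes_of_wordFix P (by decide +kernel)

theorem base47_ok : Fixes P 315 [6, 7, 9, 6, 9, 7] := fixes_of_wordFix P (by decide +kernel)

theorem base48_ok : Fixes P 315 [1, 3, 8, 3, 1, 6, 9] := fixes_of_wordFix P (by decide +kernel)

theorem base49_ok : Fixes P 315 [1, 3, 9, 3, 1, 6, 8] := fixes_of_wordFix P (by decide +kernel)

theorem base50_ok : Fixes P 315 [3, 6, 7, 8, 3, 8, 7] := fixes_of_wordFix P (by decide +kernel)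

theorem base51_ok : Fixes P 315 [3, 6, 7, 9, 3, 9, 7] := fixes_of_wordFix P (by decide +kernel)

theorem base52_ok : Fixes P 315 [3, 6, 8, 7, 3, 7, 8] := fixes_of_wordFix P (by decide +kernel)

theorem base53_ok : Fixes P 315 [3, 6, 9, 7, 3, 7, 9] := fixes_of_wordFix P (by decide +kernel)

theorem base54_ok : Fixes P 315 [3, 7, 6, 7, 8, 3, 8] := fixes_of_wordFix P (by decide +kernel)

theorem base55_ok : Fixes P 315 [3, 7, 6, 7, 9, 3, 9] := fixes_of_wordFix P (by decide +kernel)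

theorem base56_ok : Fixes P 315 [3, 7, 8, 9, 7, 9, 8] := fixes_of_wordFix P (by decide +kernel)

theorem base57_ok : Fixes P 315 [3, 7, 9, 8, 7, 8, 9] := fixes_of_wordFix P (by decide +kernel)

theorem base58_ok : Fixes P 315 [3, 8, 7, 9, 8, 7, 9] := fixes_of_wordFix P (by decide +kernel)

theorem base59_ok : Fixes P 315 [6, 7, 8, 9, 8, 9, 7] := fixes_of_wordFix P (by decide +kernel)

theorem base60_ok : Fixes P 315 [0, 1, 0, 1, 0, 6, 1, 6] := fixes_of_wordFix P (by decide +kernel)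

theorem base61_ok : Fixes P 315 [0, 1, 0, 1, 0, 7, 2, 7] := fixes_of_wordFix P (by decide +kernel)

theorem base62_ok : Fixes P 315 [0, 1, 0, 1, 0, 8, 1, 9] := fixes_of_wordFix P (by decide +kernel)

theorem base63_ok : Fixes P 315 [0, 1, 0, 1, 3, 0, 3, 1] := fixes_of_wordFix P (by decide +kernel)

theorem base64_ok : Fixes P 315 [0, 1, 2, 1, 2, 1, 0, 7] := fixes_of_wordFix P (by decide +kernel)

theorem base65_ok : Fixes P 315 [0, 1, 3, 1, 0, 7, 8, 7] := fixes_of_wordFix P (by decide +kernel)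

theorem base66_ok : Fixes P 315 [0, 2, 0, 2, 0, 3, 2, 9] := fixes_of_wordFix P (by decide +kernel)

theorem base67_ok : Fixes P 315 [0, 2, 0, 2, 0, 6, 2, 6] := fixes_of_wordFix P (by decide +kernel)

theorem base68_ok : Fixes P 315 [0, 2, 0, 2, 0, 7, 1, 7] := fixes_of_wordFix P (by decide +kernel)

theorem base69_ok : Fixes P 315 [0, 2, 0, 2, 0, 8, 2, 8] := fixes_of_wordFix P (by decide +kernel)

theorem base70_ok : Fixes P 315 [0, 3, 6, 7, 0, 7, 6, 3] := fixes_of_wordFix P (by decide +kernel)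

theorem base71_ok : Fixes P 315 [0, 3, 7, 8, 0, 9, 7, 3] := fixes_of_wordFix P (by decide +kernel)

theorem base72_ok : Fixes P 315 [0, 3, 8, 7, 0, 7, 9, 3] := fixes_of_wordFix P (by decide +kernel)

theorem base73_ok : Fixes P 315 [0, 3, 8, 9, 0, 8, 9, 3] := fixes_of_wordFix P (by decide +kernel)

theorem base74_ok : Fixes P 315 [0, 6, 7, 8, 0, 9, 7, 6] := fixes_of_wordFix P (by decide +kernel)

theorem base75_ok : Fixes P 315 [0, 6, 8, 7, 0, 7, 9, 6] := fixes_of_wordFix P (by decide +kernel)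

theorem base76_ok : Fixes P 315 [0, 7, 3, 8, 0, 9, 3, 7] := fixes_of_wordFix P (by decide +kernel)

theorem base77_ok : Fixes P 315 [0, 7, 8, 9, 0, 8, 9, 7] := fixes_of_wordFix P (by decide +kernel)

theorem base78_ok : Fixes P 315 [0, 8, 7, 8, 0, 9, 7, 9] := fixes_of_wordFix P (by decide +kernel)

theorem base79_ok : Fixes P 315 [0, 8, 7, 9, 0, 8, 7, 9] :=
  fixes_of_powFix P (u := [0, 8, 7, 9]) (e := 2) (by decide +kernel) (by decide +kernel)

theorem base80_ok : Fixes P 315 [1, 2, 1, 2, 1, 3, 7, 3] := fixes_of_wordFix P (by decide +kernel)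

theorem base81_ok : Fixes P 315 [1, 2, 1, 2, 1, 6, 7, 6] := fixes_of_wordFix P (by decide +kernel)

theorem base82_ok : Fixes P 315 [1, 2, 1, 2, 3, 1, 7, 9] := fixes_of_wordFix P (by decide +kernel)

theorem base83_ok : Fixes P 315 [1, 2, 1, 2, 3, 7, 2, 9] := fixes_of_wordFix P (by decide +kernel)

theorem base84_ok : Fixes P 315 [1, 2, 1, 2, 6, 7, 2, 6] := fixes_of_wordFix P (by decide +kernel)

theorem base85_ok : Fixes P 315 [1, 2, 1, 2, 7, 8, 2, 8] := fixes_of_wordFix P (by decide +kernel)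

theorem base86_ok : Fixes P 315 [1, 2, 1, 2, 7, 9, 2, 3] := fixes_of_wordFix P (by decide +kernel)

theorem base87_ok : Fixes P 315 [1, 2, 1, 3, 2, 1, 8, 7] := fixes_of_wordFix P (by decide +kernel)

theorem base88_ok : Fixes P 315 [1, 2, 3, 1, 2, 7, 8, 2] := fixes_of_wordFix P (by decide +kernel)

theorem base89_ok : Fixes P 315 [1, 2, 7, 8, 7, 2, 1, 3] := fixes_of_wordFix P (by decide +kernel)

theorem base90_ok : Fixes P 315 [1, 3, 1, 3, 7, 3, 9, 7] := fixes_of_wordFix P (by decide +kernel)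

theorem base91_ok : Fixes P 315 [1, 3, 1, 6, 7, 9, 7, 6] := fixes_of_wordFix P (by decide +kernel)

theorem base92_ok : Fixes P 315 [1, 3, 6, 7, 2, 9, 7, 6] := fixes_of_wordFix P (by decide +kernel)

theorem base93_ok : Fixes P 315 [1, 3, 7, 8, 2, 8, 9, 7] := fixes_of_wordFix P (by decide +kernel)

theorem base94_ok : Fixes P 315 [1, 3, 7, 9, 2, 3, 9, 7] := fixes_of_wordFix P (by decide +kernel)

theorem base95_ok : Fixes P 315 [1, 3, 8, 1, 9, 7, 9, 7] := fixes_of_wordFix P (by decide +kernel)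

theorem base96_ok : Fixes P 315 [1, 3, 8, 3, 1, 3, 9, 3] := fixes_of_wordFix P (by decide +kernel)

theorem base97_ok : Fixes P 315 [1, 3, 8, 3, 1, 8, 9, 8] := fixes_of_wordFix P (by decide +kernel)

theorem base98_ok : Fixes P 315 [1, 3, 9, 1, 8, 7, 9, 7] := fixes_of_wordFix P (by decide +kernel)

theorem base99_ok : Fixes P 315 [1, 3, 9, 3, 1, 9, 8, 9] := fixes_of_wordFix P (by decide +kernel)

theorem base100_ok : Fixes P 315 [1, 6, 7, 8, 2, 8, 7, 6] := fixes_of_wordFix P (by decide +kernel)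

theorem base101_ok : Fixes P 315 [1, 6, 8, 7, 2, 7, 9, 6] := fixes_of_wordFix P (by decide +kernel)

theorem base102_ok : Fixes P 315 [1, 7, 3, 8, 2, 8, 9, 7] := fixes_of_wordFix P (by decide +kernel)

theorem base103_ok : Fixes P 315 [1, 7, 3, 9, 2, 3, 9, 7] := fixes_of_wordFix P (by decide +kernel)

theorem base104_ok : Fixes P 315 [1, 7, 6, 3, 2, 6, 9, 7] := fixes_of_wordFix P (by decide +kernel)

theorem base105_ok : Fixes P 315 [1, 7, 8, 3, 2, 9, 8, 7] := fixes_of_wordFix P (by decide +kernel)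

theorem base106_ok : Fixes P 315 [1, 7, 8, 6, 2, 6, 8, 7] := fixes_of_wordFix P (by decide +kernel)

theorem base107_ok : Fixes P 315 [1, 7, 8, 7, 1, 7, 8, 7] :=
  fixes_of_powFix P (u := [1, 7, 8, 7]) (e := 2) (by decide +kernel) (by decide +kernel)

theorem base108_ok : Fixes P 315 [1, 8, 3, 7, 2, 9, 7, 9] := fixes_of_wordFix P (by decide +kernel)

theorem base109_ok : Fixes P 315 [1, 8, 7, 3, 2, 9, 7, 9] := fixes_of_wordFix P (by decide +kernel)

theorem base110_ok : Fixes P 315 [1, 8, 7, 6, 2, 6, 7, 9] := fixes_of_wordFix P (by decide +kernel)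

theorem base111_ok : Fixes P 315 [1, 8, 7, 8, 2, 8, 7, 9] := fixes_of_wordFix P (by decide +kernel)

theorem base112_ok : Fixes P 315 [1, 8, 7, 9, 2, 3, 7, 9] := fixes_of_wordFix P (by decide +kernel)

theorem base113_ok : Fixes P 315 [1, 8, 7, 9, 2, 7, 3, 9] := fixes_of_wordFix P (by decide +kernel)

theorem base114_ok : Fixes P 315 [1, 8, 9, 7, 2, 7, 8, 9] := fixes_of_wordFix P (by decide +kernel)

theorem base115_ok : Fixes P 315 [2, 3, 8, 9, 2, 8, 9, 3] := fixes_of_wordFix P (by decide +kernel)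

theorem base116_ok : Fixes P 315 [3, 6, 8, 7, 8, 9, 7, 9] := fixes_of_wordFix P (by decide +kernel)

theorem base117_ok : Fixes P 315 [3, 6, 9, 7, 9, 8, 7, 8] := fixes_of_wordFix P (by decide +kernel)

theorem base118_ok : Fixes P 315 [3, 7, 8, 9, 7, 8, 6, 9] := fixes_of_wordFix P (by decide +kernel)

theorem base119_ok : Fixes P 315 [3, 7, 9, 8, 7, 9, 6, 8] := fixes_of_wordFix P (by decide +kernel)

theorem base120_ok : Fixes P 315 [3, 8, 7, 8, 3, 8, 7, 8] :=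
  fixes_of_powFix P (u := [3, 8, 7, 8]) (e := 2) (by decide +kernel) (by decide +kernel)

theorem base121_ok : Fixes P 315 [3, 8, 7, 8, 6, 9, 7, 9] := fixes_of_wordFix P (by decide +kernel)

theorem base122_ok : Fixes P 315 [3, 9, 7, 9, 3, 9, 7, 9] :=
  fixes_of_powFix P (u := [3, 9, 7, 9]) (e := 2) (by decide +kernel) (by decide +kernel)

theorem base123_ok : Fixes P 315 [6, 7, 8, 7, 6, 7, 8, 7] :=
  fixes_of_powFix P (u := [6, 7, 8, 7]) (e := 2) (by decide +kernel) (by decide +kernel)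

theorem base124_ok : Fixes P 315 [6, 8, 7, 9, 6, 9, 7, 8] := fixes_of_wordFix P (by decide +kernel)

theorem base125_ok : Fixes P 315 [4, 5, 4, 5, 4, 5] :=
  fixes_of_powFix P (u := [4, 5]) (e := 3) (by decide +kernel) (by decide +kernel)

theorem base126_ok : Fixes P 315 [4, 5, 6, 5, 4, 3] := fixes_of_wordFix P (by decide +kernel)

theorem base127_ok : Fixes P 315 [4, 5, 3, 5, 4, 6, 3] := fixes_of_wordFix P (by decide +kernel)

theorem base128_ok : Fixes P 315 [4, 5, 8, 9, 5, 4, 9, 7, 8] := fixes_of_wordFix P (by decide +kernel)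

theorem base129_ok : Fixes P 315 [0, 4, 0, 4] :=
  fixes_of_powFix P (u := [0, 4]) (e := 2) (by decide +kernel) (by decide +kernel)

theorem base130_ok : Fixes P 315 [0, 5, 0, 5] :=
  fixes_of_powFix P (u := [0, 5]) (e := 2) (by decide +kernel) (by decide +kernel)

theorem base131_ok : Fixes P 315 [7, 4, 7, 4] :=
  fixes_of_powFix P (u := [7, 4]) (e := 2) (by decide +kernel) (by decide +kernel)

theorem base132_ok : Fixes P 315 [7, 5, 7, 5] :=
  fixes_of_powFix P (u := [7, 5]) (e := 2) (by decide +kernel) (by decide +kernel)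

theorem base133_ok : Fixes P 315 [1, 2, 0, 1, 4, 1, 0, 2, 1, 4] := fixes_of_wordFix P (by decide +kernel)

theorem base134_ok : Fixes P 315 [1, 2, 0, 1, 5, 1, 0, 2, 1, 5] := fixes_of_wordFix P (by decide +kernel)

theorem base135_ok : Fixes P 315 [6, 4, 6, 4, 6, 4] :=
  fixes_of_powFix P (u := [6, 4]) (e := 3) (by decide +kernel) (by decide +kernel)

theorem base136_ok : Fixes P 315 [3, 4, 3, 4, 3, 4, 3, 4, 3, 4] :=
  fixes_of_powFix P (u := [3, 4]) (e := 5) (by decide +kernel) (by decide +kernel)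

theorem base137_ok : Fixes P 315 [6, 5, 6, 5, 6, 5, 6, 5, 6, 5] :=
  fixes_of_powFix P (u := [6, 5]) (e := 5) (by decide +kernel) (by decide +kernel)

theorem base138_ok : Fixes P 315 [3, 5, 3, 5, 3, 5] :=
  fixes_of_powFix P (u := [3, 5]) (e := 3) (by decide +kernel) (by decide +kernel)

theorem base139_ok : Fixes P 315 [6, 4, 5, 6, 4, 5, 6, 4, 5] :=
  fixes_of_powFix P (u := [6, 4, 5]) (e := 3) (by decide +kernel) (by decide +kernel)

theorem base140_ok : Fixes P 315 [6, 4, 3, 6, 4, 3, 6, 4, 3, 6, 4, 3, 6, 4, 3] :=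
  fixes_of_powFix P (u := [6, 4, 3]) (e := 5) (by decide +kernel) (by decide +kernel)

theorem base141_ok : Fixes P 315 [6, 5, 3, 6, 5, 3, 6, 5, 3, 6, 5, 3, 6, 5, 3] :=
  fixes_of_powFix P (u := [6, 5, 3]) (e := 5) (by decide +kernel) (by decide +kernel)

theorem base142_ok : Fixes P 315 [3, 4, 3, 5, 3, 4, 6] := fixes_of_wordFix P (by decide +kernel)

theorem base143_ok : Fixes P 315 [3, 5, 6, 4, 6, 5, 6] := fixes_of_wordFix P (by decide +kernel)

theorem base144_ok : Fixes P 315 [4, 5, 3, 6, 5, 4, 6] := fixes_of_wordFix P (by decide +kernel)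

theorem base145_ok : Fixes P 315 [3, 4, 6, 4, 6, 4, 3, 6] := fixes_of_wordFix P (by decide +kernel)

theorem base146_ok : Fixes P 315 [3, 4, 6, 5, 3, 4, 6, 5] :=
  fixes_of_powFix P (u := [3, 4, 6, 5]) (e := 2) (by decide +kernel) (by decide +kernel)

theorem base147_ok : Fixes P 315 [3, 5, 4, 5, 4, 6, 5, 4] := fixes_of_wordFix P (by decide +kernel)

theorem base148_ok : Fixes P 315 [3, 5, 6, 3, 6, 5, 3, 5] := fixes_of_wordFix P (by decide +kernel)

theorem base149_ok : Fixes P 315 [1, 2, 6, 4, 3, 4, 2, 1, 4, 3, 4, 6] := fixes_of_wordFix P (by decide +kernel)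

theorem base_ok : ∀ w ∈ base, Fixes P 315 w := by
  intro w hw
  rw [base] at hw
  rcases List.mem_cons.1 hw with rfl | hw
  · exact base0_ok
  rcases List.mem_cons.1 hw with rfl | hw
  · exact base1_ok
  rcases List.mem_cons.1 hw with rfl | hw
  · exact base2_ok
  rcases List.mem_cons.1 hw with rfl | hw
  · exact base3_ok
  rcases List.mem_cons.1 hw with rfl | hw
  · exact base4_ok
  rcases List.mem_cons.1 hw with rfl | hw
  · exact base5_ok
  rcases List.mem_cons.1 hw with rfl | hw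
  · exact base6_ok
  rcases List.mem_cons.1 hw with rfl | hw
  · exact base7_ok
  rcases List.mem_cons.1 hw with rfl | hw
  · exact base8_ok
  rcases List.mem_cons.1 hw with rfl | hw
  · exact base9_ok
  rcases List.mem_cons.1 hw with rfl | hw
  · exact base10_ok
  rcases List.mem_cons.1 hw with rfl | hw
  · exact base11_ok
  rcases List.mem_cons.1 hw with rfl | hw
  · exact base12_ok
  rcases List.mem_cons.1 hw with rfl | hw
  · exact base13_ok
  rcases List.mem_cons.1 hw with rfl | hw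
  · exact base14_ok
  rcases List.mem_cons.1 hw with rfl | hw
  · exact base15_ok
  rcases List.mem_cons.1 hw with rfl | hw
  · exact base16_ok
  rcases List.mem_cons.1 hw with rfl | hw
  · exact base17_ok
  rcases List.mem_cons.1 hw with rfl | hw
  · exact base18_ok
  rcases List.mem_cons.1 hw with rfl | hw
  · exact base19_ok
  rcases List.mem_cons.1 hw with rfl | hw
  · exact base20_ok
  rcases List.mem_cons.1 hw with rfl | hw
  · exact base21_ok
  rcases List.mem_cons.1 hw with rfl | hw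
  · exact base22_ok
  rcases List.mem_cons.1 hw with rfl | hw
  · exact base23_ok
  rcases List.mem_cons.1 hw with rfl | hw
  · exact base24_ok
  rcases List.mem_cons.1 hw with rfl | hw
  · exact base25_ok
  rcases List.mem_cons.1 hw with rfl | hw
  · exact base26_ok
  rcases List.mem_cons.1 hw with rfl | hw
  · exact base27_ok
  rcases List.mem_cons.1 hw with rfl | hw
  · exact base28_ok
  rcases List.mem_cons.1 hw with rfl | hw
  · exact base29_ok
  rcases List.mem_cons.1 hw with rfl | hw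
  · exact base30_ok
  rcases List.mem_cons.1 hw with rfl | hw
  · exact base31_ok
  rcases List.mem_cons.1 hw with rfl | hw
  · exact base32_ok
  rcases List.mem_cons.1 hw with rfl | hw
  · exact base33_ok
  rcases List.mem_cons.1 hw with rfl | hw
  · exact base34_ok
  rcases List.mem_cons.1 hw with rfl | hw
  · exact base35_ok
  rcases List.mem_cons.1 hw with rfl | hw
  · exact base36_ok
  rcases List.mem_cons.1 hw with rfl | hw
  · exact base37_ok
  rcases List.mem_cons.1 hw with rfl | hw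
  · exact base38_ok
  rcases List.mem_cons.1 hw with rfl | hw
  · exact base39_ok
  rcases List.mem_cons.1 hw with rfl | hw
  · exact base40_ok
  rcases List.mem_cons.1 hw with rfl | hw
  · exact base41_ok
  rcases List.mem_cons.1 hw with rfl | hw
  · exact base42_ok
  rcases List.mem_cons.1 hw with rfl | hw
  · exact base43_ok
  rcases List.mem_cons.1 hw with rfl | hw
  · exact base44_ok
  rcases List.mem_cons.1 hw with rfl | hw
  · exact base45_ok
  rcases List.mem_cons.1 hw with rfl | hw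
  · exact base46_ok
  rcases List.mem_cons.1 hw with rfl | hw
  · exact base47_ok
  rcases List.mem_cons.1 hw with rfl | hw
  · exact base48_ok
  rcases List.mem_cons.1 hw with rfl | hw
  · exact base49_ok
  rcases List.mem_cons.1 hw with rfl | hw
  · exact base50_ok
  rcases List.mem_cons.1 hw with rfl | hw
  · exact base51_ok
  rcases List.mem_cons.1 hw with rfl | hw
  · exact base52_ok
  rcases List.mem_cons.1 hw with rfl | hw
  · exact base53_ok
  rcases List.mem_cons.1 hw with rfl | hw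
  · exact base54_ok
  rcases List.mem_cons.1 hw with rfl | hw
  · exact base55_ok
  rcases List.mem_cons.1 hw with rfl | hw
  · exact base56_ok
  rcases List.mem_cons.1 hw with rfl | hw
  · exact base57_ok
  rcases List.mem_cons.1 hw with rfl | hw
  · exact base58_ok
  rcases List.mem_cons.1 hw with rfl | hw
  · exact base59_ok
  rcases List.mem_cons.1 hw with rfl | hw
  · exact base60_ok
  rcases List.mem_cons.1 hw with rfl | hw
  · exact base61_ok
  rcases List.mem_cons.1 hw with rfl | hw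
  · exact base62_ok
  rcases List.mem_cons.1 hw with rfl | hw
  · exact base63_ok
  rcases List.mem_cons.1 hw with rfl | hw
  · exact base64_ok
  rcases List.mem_cons.1 hw with rfl | hw
  · exact base65_ok
  rcases List.mem_cons.1 hw with rfl | hw
  · exact base66_ok
  rcases List.mem_cons.1 hw with rfl | hw
  · exact base67_ok
  rcases List.mem_cons.1 hw with rfl | hw
  · exact base68_ok
  rcases List.mem_cons.1 hw with rfl | hw
  · exact base69_ok
  rcases List.mem_cons.1 hw with rfl | hw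
  · exact base70_ok
  rcases List.mem_cons.1 hw with rfl | hw
  · exact base71_ok
  rcases List.mem_cons.1 hw with rfl | hw
  · exact base72_ok
  rcases List.mem_cons.1 hw with rfl | hw
  · exact base73_ok
  rcases List.mem_cons.1 hw with rfl | hw
  · exact base74_ok
  rcases List.mem_cons.1 hw with rfl | hw
  · exact base75_ok
  rcases List.mem_cons.1 hw with rfl | hw
  · exact base76_ok
  rcases List.mem_cons.1 hw with rfl | hw
  · exact base77_ok
  rcases List.mem_cons.1 hw with rfl | hw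
  · exact base78_ok
  rcases List.mem_cons.1 hw with rfl | hw
  · exact base79_ok
  rcases List.mem_cons.1 hw with rfl | hw
  · exact base80_ok
  rcases List.mem_cons.1 hw with rfl | hw
  · exact base81_ok
  rcases List.mem_cons.1 hw with rfl | hw
  · exact base82_ok
  rcases List.mem_cons.1 hw with rfl | hw
  · exact base83_ok
  rcases List.mem_cons.1 hw with rfl | hw
  · exact base84_ok
  rcases List.mem_cons.1 hw with rfl | hw
  · exact base85_ok
  rcases List.mem_cons.1 hw with rfl | hw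
  · exact base86_ok
  rcases List.mem_cons.1 hw with rfl | hw
  · exact base87_ok
  rcases List.mem_cons.1 hw with rfl | hw
  · exact base88_ok
  rcases List.mem_cons.1 hw with rfl | hw
  · exact base89_ok
  rcases List.mem_cons.1 hw with rfl | hw
  · exact base90_ok
  rcases List.mem_cons.1 hw with rfl | hw
  · exact base91_ok
  rcases List.mem_cons.1 hw with rfl | hw
  · exact base92_ok
  rcases List.mem_cons.1 hw with rfl | hw
  · exact base93_ok
  rcases List.mem_cons.1 hw with rfl | hw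
  · exact base94_ok
  rcases List.mem_cons.1 hw with rfl | hw
  · exact base95_ok
  rcases List.mem_cons.1 hw with rfl | hw
  · exact base96_ok
  rcases List.mem_cons.1 hw with rfl | hw
  · exact base97_ok
  rcases List.mem_cons.1 hw with rfl | hw
  · exact base98_ok
  rcases List.mem_cons.1 hw with rfl | hw
  · exact base99_ok
  rcases List.mem_cons.1 hw with rfl | hw
  · exact base100_ok
  rcases List.mem_cons.1 hw with rfl | hw
  · exact base101_ok
  rcases List.mem_cons.1 hw with rfl | hw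
  · exact base102_ok
  rcases List.mem_cons.1 hw with rfl | hw
  · exact base103_ok
  rcases List.mem_cons.1 hw with rfl | hw
  · exact base104_ok
  rcases List.mem_cons.1 hw with rfl | hw
  · exact base105_ok
  rcases List.mem_cons.1 hw with rfl | hw
  · exact base106_ok
  rcases List.mem_cons.1 hw with rfl | hw
  · exact base107_ok
  rcases List.mem_cons.1 hw with rfl | hw
  · exact base108_ok
  rcases List.mem_cons.1 hw with rfl | hw
  · exact base109_ok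
  rcases List.mem_cons.1 hw with rfl | hw
  · exact base110_ok
  rcases List.mem_cons.1 hw with rfl | hw
  · exact base111_ok
  rcases List.mem_cons.1 hw with rfl | hw
  · exact base112_ok
  rcases List.mem_cons.1 hw with rfl | hw
  · exact base113_ok
  rcases List.mem_cons.1 hw with rfl | hw
  · exact base114_ok
  rcases List.mem_cons.1 hw with rfl | hw
  · exact base115_ok
  rcases List.mem_cons.1 hw with rfl | hw
  · exact base116_ok
  rcases List.mem_cons.1 hw with rfl | hw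
  · exact base117_ok
  rcases List.mem_cons.1 hw with rfl | hw
  · exact base118_ok
  rcases List.mem_cons.1 hw with rfl | hw
  · exact base119_ok
  rcases List.mem_cons.1 hw with rfl | hw
  · exact base120_ok
  rcases List.mem_cons.1 hw with rfl | hw
  · exact base121_ok
  rcases List.mem_cons.1 hw with rfl | hw
  · exact base122_ok
  rcases List.mem_cons.1 hw with rfl | hw
  · exact base123_ok
  rcases List.mem_cons.1 hw with rfl | hw
  · exact base124_ok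
  rcases List.mem_cons.1 hw with rfl | hw
  · exact base125_ok
  rcases List.mem_cons.1 hw with rfl | hw
  · exact base126_ok
  rcases List.mem_cons.1 hw with rfl | hw
  · exact base127_ok
  rcases List.mem_cons.1 hw with rfl | hw
  · exact base128_ok
  rcases List.mem_cons.1 hw with rfl | hw
  · exact base129_ok
  rcases List.mem_cons.1 hw with rfl | hw
  · exact base130_ok
  rcases List.mem_cons.1 hw with rfl | hw
  · exact base131_ok
  rcases List.mem_cons.1 hw with rfl | hw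
  · exact base132_ok
  rcases List.mem_cons.1 hw with rfl | hw
  · exact base133_ok
  rcases List.mem_cons.1 hw with rfl | hw
  · exact base134_ok
  rcases List.mem_cons.1 hw with rfl | hw
  · exact base135_ok
  rcases List.mem_cons.1 hw with rfl | hw
  · exact base136_ok
  rcases List.mem_cons.1 hw with rfl | hw
  · exact base137_ok
  rcases List.mem_cons.1 hw with rfl | hw
  · exact base138_ok
  rcases List.mem_cons.1 hw with rfl | hw
  · exact base139_ok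
  rcases List.mem_cons.1 hw with rfl | hw
  · exact base140_ok
  rcases List.mem_cons.1 hw with rfl | hw
  · exact base141_ok
  rcases List.mem_cons.1 hw with rfl | hw
  · exact base142_ok
  rcases List.mem_cons.1 hw with rfl | hw
  · exact base143_ok
  rcases List.mem_cons.1 hw with rfl | hw
  · exact base144_ok
  rcases List.mem_cons.1 hw with rfl | hw
  · exact base145_ok
  rcases List.mem_cons.1 hw with rfl | hw
  · exact base146_ok
  rcases List.mem_cons.1 hw with rfl | hw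
  · exact base147_ok
  rcases List.mem_cons.1 hw with rfl | hw
  · exact base148_ok
  rcases List.mem_cons.1 hw with rfl | hw
  · exact base149_ok
  exact absurd hw List.not_mem_nil

theorem rots_ok : rotsOK base rots.entries hints = true := by decide +kernel

theorem fix_ok : wordsFixBase P sw = true := by decide +kernel

theorem tree_ok : treeOK P tree 0 = true := by decide +kernel

theorem tree_len : tree.length + 1 = 315 := by decide +kernel

end Cfsg.Agent.CosetData.HJGA
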