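import Cfsg.Agent.Lib.Compute.CosetOrbit

/-! Coset enumeration certificate data (S1720). -/

set_option autoImplicit false
set_option maxRecDepth 100000
set_option Elab.async false

namespace Cfsg.Agent.CosetData.HJGB

open Cfsg.Agent.CosetCert

/-- the coset table -/
def tab : Tab :=
  .node (.leaf 0x13a00dc00d901120139011e00db00d600cd013a012200de00d801170137010d00dd00d40115013800ff00ff00d0012001350119010000cf00c901360115010100d2010d0133010f010200d1011b013400ca00ce00e30104013100fa00cd00e400db013200f800cc00f5010a012f00f900cb00ea00fe01300111011f00a900f7012d0120012000a800ff012e0108012100aa012b012b00de012200a7012c012c010c010c00a60126012900fe010b00a500f9012a0118010e00a40123012700dd010d00a301010128011d011d00a2012a012500db011e00a000fa01260105011b00a1010201230116011c009f012801240138012b0120012101210117012c011f01220122012d012d01220136011f0104012e012100ca012001390125011d00c7011d01260126011e010c011e00fc0123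011b010e011b01100124011c0133011c011a0109009a011301190135010a008500cc011a0128010700920116011701210108008701380118012300fc009b01180115013400fb009601370116010b00fe009000cb0113011300fd008d011a011401120103007a013a0111012e0104007800ce0112011b01050072010f010f0133010600710110011001070128010b011c010d01370127010c0134010e012a012a010d011d010b01140129010e00c8010c010001190042013001090109011a004300fd010a012c0117004100de0107010e0118003f00fc01080102010f00440105010501240110003c01060106011f011100400132010301030112003900dc01040106013300c30124010100fb013400c401270102010a013500b400f800ff0136013600b3012d0100012901140046012f00fd00fd01130045010900fe011c01160036010700fb01010115003500dd00fc013100c700ab012500f9012f00c800ac012900fa013000c900ad010000f700ce00ca00b0012e00f800e400f0005400f000f000f100eb013000f100ea00d200ef006500f200f100e900ee005500ea00f200d100e7005600f400f300f500e8006600f500f400e600f6004e00f600f600e000f4006100e700e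800ea00f3005b00e900e7001c00e3003300ec00e600cf00e5005900ed00e500e800f5003a00e800e900ee00e9012f00f300f500f300ea003b00ee00eb00eb00f1006200eb00ef00df00f2005a00ef00ee00f000e4003400e400ed00e100ec005800e300ec00f600e6013100e600e3001b00ed013200e500e4001d00d000b800e200e100e500cf00b9001b00e200ef00d200bd00df00df00e700d100be00e000e0012b013800de010800dd0127013700dd00fb00de00dc013a00dc010300db0125013900db013100dc00da00da001f00da00d500d900d9013a00d900d600d700d8013800d400d400d800d7002e00d300d300d500d60139000d00d900d600d50028000c00da00d300d4013700d800d800d400d3002f00d700d700f400e0013400d100d100f200df013300d200d2001e00e2013600d000cf00ec00e10135001c00d000f701320049011100cd00c70131004a013900ce00c901300053011900cb00c8012f0051011400cc013200f70006011f00c900cc00f80005013500ca00cb00f90004010b00c700cd00fa0003011e00c800b400c5009800c500c500b900c6008400c600c600bf00bd010100bf00c300bc00be010200c200c400be00bc007500c300c000b100bb00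8100c000bf00ae00ba007600c100c200c400b7008200c400c100c200c300df00bc00bd00b700c400e000b700be00c300c2008a00be00ba00ac00c1009e00ba00b700ab00c0008b00bb00bc00c500b400e100b400b8001a00b300e200b600b900bd00bf009500bd00bb00af00b5007c00b800b500ad00b6007f00b300b600c600b9010000b900b3000200b800ff00b500b4001900b0001400b200af00c100ac001500ae00ae001800b200f700b000ad00b600ad000f001a00b200c000ab001200b100b100b500af00f8000200b000bb00b100f900ab00ab00ba00ae00fa00ac00ac006000a9012c009b00a7003e00aa012e009d00a8002e00a7012d009c00a9005c00a8012b009e00aa002f00a3012a009800a5005200a40129009900a6003d00a50128009a00a3005000a60127009700a4002800a00126007200a0004f009f01240074009f004d00a20125007000a2003800a10123007600a1005b009c00bb00a70095003c009b006300a90094002d009e007d00a80093005f009d011600aa009600430099011a00a40085006d009a006d00a500860032009700c600a6008400590098008300a300830093009401150095009b0094009300b70096009e0095009600640093009d0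0960095007e0094009c0068008f0118008e0087004b00900068008b008e002900910114008c008d004600920069008d00880067008d0067009200910045008e0113008f0090002c008b0074009000890054008c00ba0091008a0022008900bc0087008b0056008a00730088008c004c0087006a0089008f002400880117008a009200840085006c008400990083008601190083009a0086008300c500860098008500840097008500970025007e00bf00800081003b007d00c1007700820026007f007b0082007b0066008000b5007e007c006500820093007f007d00510081009c0078007e003a007b00b6007a007f0053007c008000790080003900790112007c0078005e007a005e007b0077006a00770111007d007a00410078006b008100790034007400c0009f0075006f007300c200730076004a0076008c00a100730071007500890075007400270070011000a200710073006f010f006f007200470072005f00a0006f00750071006e00710070005a0044006f006c005f0099004300990052006c005800420086006e006d000b004000770069005e00780041008800510069000a003f008f006b006a00920046009100670067008e0045008e00680068007f002600f1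00650065007e002500f4006600660061003500940049006300080036009d005d0064000f002000e8005700610064002100ef0048006200aa003e000b005f0052009b003c00700060006e0079003900790053006b0007003700090063004f00a7002e005c005b0050009e002d00ee005c005a006e003100e70058005b0097003200ec00500058006c003000e5005a0059000e001f00570062004d0089002200f2004c00550015002b00f3004e0056008b002c00f6004b004e007b003a00cc005e005100a5003d000a006d0060007d003b00cb006a005300a3002f00500059005c00a100380008004a005d0012002a00f00055005400a00028004d0047005700880024003e0056004b00910029003d0054004c0074003400cd004f00490048003300ce0064004a00490023003700610047007000270038004d0048008f006800fe00450045008d006700fd004600460031006e01060042003c009a006d0109003d00420030006c010a004400430077006a0108003b003f0017006b0104003f00390013006901070040004100a90060004c003c003d00a40052004b0043003e009d005f0105003e00440081005100e90041003a007c005300eb0039003b007a005e0103003a0040009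f004f0047003400370010005d0048003600380011006300fc003700350021006400fb003300360076004a00e6003800330023004900ed00350034009800590030002f00300044005a00220030002d0042005800320031003200a6005000d30032002e00a8005c00d7002d002f009c005b002b002e0031008c0054002a0029002a00040055002d002a00220003004e002c002b002c0090004b0013002c002400a2004d00d50027001f0072004700110028002300800066002000250025008200650021002600260087004c00170022002900330048001600210027008a005600310024002b00350061002500230020000500620026001f00210001005700da0020002800d0001d000c001e001e00e2001e001d001d001d00ed001b001900cf001c00e3001c000700e1001b00b80002001a00af001a00b20018001c0019001900b000190010001800180040000b002400130013001400090023001600110055000400b1001200120016000600b20014000f003f000a002900170017004e000300ae0015001500360008002700100016003700070018001100100062000500af000e001400570001000e000f000e000c000d000200d6000d000d000c001e00d5000c006b00170060000a000a006900130052000b000b00060016005d0009000800630011004f00070009005d0010001b000800070009001400ca000600050020000f00c900010006002b001500c800030003002a001200c70004000400b3001a000d00ad0002001f000e00000005000100000000000100000000)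 (.leaf 0x11d013800ca00ff01190139013700c901000113010e013a00c8010101100121013900c7010200cb011a013400b200dc010b0100013300af00db011d0110013600b100de01220116013500ae00dd00c700f9013000b00132010800c9012f00ad013100fc00fa013200ac0130010600f7013100ab012f00dd011f012c00ba00fe012d0112012b00bc00fd012e00dd012e00c200fc00f90107012d00c000fb010100fd012800c601030125010b012700c5010400ff00de012a00b5010501240117012900b6010600f700dc012400bf01090100011e012300c1010a012a0115012600b7010701280106012500bb010800f801180120009d011501340137011f0094011600c80103012200910113011f012e0121008e011401200125011c008f0119010c013a011b0088011a0135010f011e0099011700c900fb011d00860118010e013601180093011d011401190117009c011e013a0122011a007e011b011501270119007d011c00ce013301140089012100cd01240113008c01220118011401160074011f011a010c0115007301200139012d01100083010c01110111010f0097010b011201340112007b010e0138011c01110080010d00cc0138010c00790110011b01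08010b0077010f00ca0113010e00700112011e0129010d006f01110136010a01080107012500dc00ff01070108012600fe010d010a010901230132012b0109010a012400fb01230104010401270130010101030103012800de01040106010601290103012001050105012a010400fc0100003d013700fa010500ff003e0138012b01350102003801390126010901010037013a012900fe00fc00fd012e0109012a00fb00fe012d00db010200fe00fb012c0131011b00fd00fc012b0107013000f8002f00c70102013200f7002e00c8012c00cd00fa002800c90123012f00f9001f00ca012700ed00e5007500e500f500e700e300d700d200f600ea00ef009800e800f300d200e7008100f200f400eb00ee008200f300e600d100e8008400ef00ed00e300ec007600ec00eb00e900f4007f00f100ee00e000f2009500e700ef00f600eb004800e200f100e200f0008a00f000e500f200ed004c00e000f000f400e400d300d100e900ef00e6004b00df00ea00df00f1007c00f400e300f500f3009e00ee00e4001c00e9004700e100f200d000f6008b00f600ec001b00ea00d500cf00e700f000f500da00d000e800ec00e0005700ed00e1001d00df004d00e600e200ee00e2005c0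0eb00e000e800e1005000e9001b012800dc001701340105012c00db00130133012f012600de00160136010a00db00dd0011013500fd00d900d700e300d900d500da00d8004900da00d600d700d9005300d700d800d800da00f500d800d700d600d4004a00d500d900d500d300e400d600da00d300d6005100d3000d00d400d500ea00d4000c00f300d0000b00f500d200f100cf000a00ea001c00e500d2000900e300cf001e00d1000800e400d000c800cc000600ce011700f800cb000500cd011600c700ce000400cc010f00ca00cd000300cb013700cb00c8013a00f7010d013100c7013900f8011c00ce00ca013800f9012100cc00c9013700fa013300b800b5012a00b500c400b300b6012900b600bd00ba00b3003a00b100c600c100b4003b00ae00be00b100ba012c00c000c100c300bb012500b700c200bd00bc012b00c200b900ae00b7012600bb00b800bb00b900be00ab00c300c000b800bd00ac00c500ac00c0012d00ba00bb00be00c1012300bf00bc00c400c2012e00bc00b4001a00be00b900ad00c000c600bd00b800b000bf00ab00bf012400c100b300b000c5012700c500b500b200c6012800c600b6000200c3003400af00ba00c500c4003300b200b700b5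00b1013600b300af00c200b2013400c400b100b600ac013200b800ad001900ae013500b400b200bf00af013300c3001a001800ab013100b900b000bc00b0013000bd00ac00b700ad012f00be0002005000a9005400a80091002f00aa005800a70090003d00a7005900aa0081005200a8004e00a9007d006000a4006500a50092002e00a3006600a60080005c00a6006100a3007f003e00a5006200a4008f005700a1005600a10089003700a2005b00a2007a001f009f0055009f008a005d00a0005a00a00079009d008100e7006d006f009e0091012200320075009b007d011900430071009c0090008d00590073009700920092005b00940098008f011c002d00960099007f00f4005f0093009a00800111003c0095006e008d009000580099005a008200ee006c00970044008e01210030009a0031007e011a004200980029009a009a005600a60068009d0120002a00aa0046009b0096004e00a9004b0099011e002200a3004c0094011f002c007e00240096009b005400820055007301150045008b002b007500e50067008c004e007600ec006800a0002a00740116004600a200450086011d002b007c0067008500850055007b006c0088011b00310074004200870087005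a00760030007c00f1006e00720058007b011200440070003a009500f2006a008d0026009e00f3006900a800510097010f003900a5003b009800ef005e00a40053009301180041008e0066009c0117003f00a70065008400e8006b008800250083011000400087006900720078006600a1003f0070010e0026009f00400071007a00650077006b006f010d002500780070008a00f0006300850033008b00f60064009d007200890114003600860049008c01130035009b0074007a0071006200840023007800720061009c00760079010c0020008300480077010b0021009e0096006b005e0084006d00590069006c009e006e0086006a006d0095004a0077006e005f007c006a000b006c00690082006b007a006d006a0081004f009100630063008a0060008700640064008b0053007d006200a5007a005c007c006100a60078004c00090067006700750063006200680068007600640063006600a3007200610014006500a40071006200a6005d0015005c0068005b005e006b00980049000a005f006e007f005d009f006000140057005e00a4005700e000600066005f005600a1009a004800950055009f00850059006d004e00a8009b005a0083005400a90096004700a200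5c00e2005d00560012005b00a200920057008c005a00a0008700540015005800aa008d0055007e004900d8000b006700a7004f0012005000510080004a00d4000a005200aa004d00df0052004b00070052000f004d0069008a005900a70090004d000e005000e1004f004e008e004800eb00150065008f004700e9001200500047005100d60008006c0073005300d90009005f006f004c00ed0014005b004a004b00e6000f00580090003600300089003e008800350032008c003a009400400020008300430032003f0022009c004400850041002b00930034001700420031007e0040007800440026007b004100790043002d007d003800a300370101002e004600a800380102002f003b002d0039002100970033007f003400c30013003d0082003300c4001700450013003c0025008000370010003d01000028003f00a1003e00ff001f003900200046002c0074003500160045002a007300360027003b00b4001100420075003a00b30016003c0043002a0045009d00310093002b0041008600320084002c00460094002700a9002800fa003d002900a5001f00f9003e0026003c0022003f00990023000400300036008e002b008b003100420088002c00890032003500910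0280092002700290003002f0001002f00f80038002a003400290027000500300081002000400079002e007b0021003900770024008d00230024000400250071002400230006002d0003002d0043008f001f00060025003c006f00200036002600440070002100a0002e00f70037002200cf001e000d001c001e00e1001d0010001b001d00e6001c001c001e00d100e4001b001a001d00df00b9001a001b001900ae00af0019000e001a001900ad00180018000200180041001600de003a00170035001700dc00330011005400140060004c001500610015005d0048000f0039001100dd003b00100056000f0052004b000e000f001300db0034001600380010001d000e001300110012004f00470014004d000e001900100012000c000d001e000d00d4000d000c0001000c00d3006a000900d20053000b005e000800d1005100070064000b00d0004900080005000a00cf004a0009004f000700070001000a0021000400ce002300050008000300cd00270006002c000600cc002400040022000500cb0029000100b400020000001800ab00280001000c0007000300000000000200000000)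

/-- base relators -/
def base : List (List ℕ) := [
  [0, 3, 0, 3],
  [0, 6, 0, 6],
  [0, 7, 0, 7],
  [0, 8, 0, 9],
  [1, 6, 1, 6],
  [1, 7, 2, 7],
  [1, 8, 1, 9],
  [2, 3, 2, 9],
  [2, 6, 2, 6],
  [2, 8, 2, 8],
  [3, 6, 3, 6],
  [3, 7, 3, 7],
  [6, 7, 6, 7],
  [6, 8, 6, 8],
  [6, 9, 6, 9],
  [3, 6, 8, 3, 8],
  [3, 6, 9, 3, 9],
  [6, 8, 9, 8, 9],
  [0, 1, 0, 1, 0, 1],
  [0, 2, 0, 2, 0, 2],
  [0, 3, 6, 0, 6, 3],
  [0, 3, 7, 0, 7, 3],
  [0, 3, 8, 0, 9, 3],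
  [0, 6, 7, 0, 7, 6],
  [0, 6, 8, 0, 9, 6],
  [0, 7, 8, 0, 9, 7],
  [0, 8, 9, 0, 8, 9],
  [1, 2, 1, 2, 1, 7],
  [1, 2, 1, 2, 7, 2],
  [1, 3, 1, 7, 9, 7],
  [1, 3, 7, 2, 9, 7],
  [1, 6, 7, 2, 7, 6],
  [1, 6, 8, 1, 9, 6],
  [1, 7, 3, 2, 9, 7],
  [1, 7, 6, 2, 6, 7],
  [1, 7, 8, 2, 8, 7],
  [1, 8, 7, 2, 7, 9],
  [1, 8, 9, 1, 8, 9],
  [2, 3, 6, 2, 9, 6],
  [2, 3, 8, 2, 8, 9],
  [2, 3, 9, 2, 3, 9],
  [2, 6, 8, 2, 8, 6],
  [3, 6, 7, 3, 7, 6],
  [3, 8, 3, 9, 8, 9],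
  [3, 8, 9, 3, 9, 8],
  [3, 8, 9, 8, 3, 9],
  [6, 7, 8, 6, 8, 7],
  [6, 7, 9, 6, 9, 7],
  [1, 3, 8, 3, 1, 6, 9],
  [1, 3, 9, 3, 1, 6, 8],
  [3, 6, 7, 8, 3, 8, 7],
  [3, 6, 7, 9, 3, 9, 7],
  [3, 6, 8, 7, 3, 7, 8],
  [3, 6, 9, 7, 3, 7, 9],
  [3, 7, 6, 7, 8, 3, 8],
  [3, 7, 6, 7, 9, 3, 9],
  [3, 7, 8, 9, 7, 9, 8],
  [3, 7, 9, 8, 7, 8, 9],
  [3, 8, 7, 9, 8, 7, 9],
  [6, 7, 8, 9, 8, 9, 7],
  [0, 1, 0, 1, 0, 6, 1, 6],
  [0, 1, 0, 1, 0, 7, 2, 7],
  [0, 1, 0, 1, 0, 8, 1, 9],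
  [0, 1, 0, 1, 3, 0, 3, 1],
  [0, 1, 2, 1, 2, 1, 0, 7],
  [0, 1, 3, 1, 0, 7, 8, 7],
  [0, 2, 0, 2, 0, 3, 2, 9],
  [0, 2, 0, 2, 0, 6, 2, 6],
  [0, 2, 0, 2, 0, 7, 1, 7],
  [0, 2, 0, 2, 0, 8, 2, 8],
  [0, 3, 6, 7, 0, 7, 6, 3],
  [0, 3, 7, 8, 0, 9, 7, 3],
  [0, 3, 8, 7, 0, 7, 9, 3],
  [0, 3, 8, 9, 0, 8, 9, 3],
  [0, 6, 7, 8, 0, 9, 7, 6],
  [0, 6, 8, 7, 0, 7, 9, 6],
  [0, 7, 3, 8, 0, 9, 3, 7],
  [0, 7, 8, 9, 0, 8, 9, 7],
  [0, 8, 7, 8, 0, 9, 7, 9],
  [0, 8, 7, 9, 0, 8, 7, 9],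
  [1, 2, 1, 2, 1, 3, 7, 3],
  [1, 2, 1, 2, 1, 6, 7, 6],
  [1, 2, 1, 2, 3, 1, 7, 9],
  [1, 2, 1, 2, 3, 7, 2, 9],
  [1, 2, 1, 2, 6, 7, 2, 6],
  [1, 2, 1, 2, 7, 8, 2, 8],
  [1, 2, 1, 2, 7, 9, 2, 3],
  [1, 2, 1, 3, 2, 1, 8, 7],
  [1, 2, 3, 1, 2, 7, 8, 2],
  [1, 2, 7, 8, 7, 2, 1, 3],
  [1, 3, 1, 3, 7, 3, 9, 7],
  [1, 3, 1, 6, 7, 9, 7, 6],
  [1, 3, 6, 7, 2, 9, 7, 6],
  [1, 3, 7, 8, 2, 8, 9, 7],
  [1, 3, 7, 9, 2, 3, 9, 7],
  [1, 3, 8, 1, 9, 7, 9, 7],
  [1, 3, 8, 3, 1, 3, 9, 3],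
  [1, 3, 8, 3, 1, 8, 9, 8],
  [1, 3, 9, 1, 8, 7, 9, 7],
  [1, 3, 9, 3, 1, 9, 8, 9],
  [1, 6, 7, 8, 2, 8, 7, 6],
  [1, 6, 8, 7, 2, 7, 9, 6],
  [1, 7, 3, 8, 2, 8, 9, 7],
  [1, 7, 3, 9, 2, 3, 9, 7],
  [1, 7, 6, 3, 2, 6, 9, 7],
  [1, 7, 8, 3, 2, 9, 8, 7],
  [1, 7, 8, 6, 2, 6, 8, 7],
  [1, 7, 8, 7, 1, 7, 8, 7],
  [1, 8, 3, 7, 2, 9, 7, 9],
  [1, 8, 7, 3, 2, 9, 7, 9],
  [1, 8, 7, 6, 2, 6, 7, 9],
  [1, 8, 7, 8, 2, 8, 7, 9],
  [1, 8, 7, 9, 2, 3, 7, 9],
  [1, 8, 7, 9, 2, 7, 3, 9],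
  [1, 8, 9, 7, 2, 7, 8, 9],
  [2, 3, 8, 9, 2, 8, 9, 3],
  [3, 6, 8, 7, 8, 9, 7, 9],
  [3, 6, 9, 7, 9, 8, 7, 8],
  [3, 7, 8, 9, 7, 8, 6, 9],
  [3, 7, 9, 8, 7, 9, 6, 8],
  [3, 8, 7, 8, 3, 8, 7, 8],
  [3, 8, 7, 8, 6, 9, 7, 9],
  [3, 9, 7, 9, 3, 9, 7, 9],
  [6, 7, 8, 7, 6, 7, 8, 7],
  [6, 8, 7, 9, 6, 9, 7, 8],
  [4, 5, 4, 5, 4, 5],
  [4, 5, 6, 5, 4, 3],
  [4, 5, 3, 5, 4, 6, 3],
  [4, 5, 8, 9, 5, 4, 9, 7, 8],
  [0, 4, 0, 4],
  [0, 5, 0, 5],
  [7, 4, 7, 4],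
  [7, 5, 7, 5],
  [1, 2, 0, 1, 4, 1, 0, 2, 1, 4],
  [1, 2, 0, 1, 5, 1, 0, 2, 1, 5],
  [6, 4, 6, 4, 6, 4],
  [3, 4, 3, 4, 3, 4, 3, 4, 3, 4],
  [6, 5, 6, 5, 6, 5, 6, 5, 6, 5],
  [3, 5, 3, 5, 3, 5],
  [6, 4, 5, 6, 4, 5, 6, 4, 5],
  [6, 4, 3, 6, 4, 3, 6, 4, 3, 6, 4, 3, 6, 4, 3],
  [6, 5, 3, 6, 5, 3, 6, 5, 3, 6, 5, 3, 6, 5, 3],
  [3, 4, 3, 5, 3, 4, 6],
  [3, 5, 6, 4, 6, 5, 6],
  [4, 5, 3, 6, 5, 4, 6],
  [3, 4, 6, 4, 6, 4, 3, 6],
  [3, 4, 6, 5, 3, 4, 6, 5],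
  [3, 5, 4, 5, 4, 6, 5, 4],
  [3, 5, 6, 3, 6, 5, 3, 5],
  [1, 2, 4, 5, 4, 6, 2, 1, 6, 4, 5, 4]]

/-- rotations of the relators -/
def rots : WTab :=
  (.node (.node (.node (.node (.node (.node (.node (.node (.node (.node (.node (.leaf [0, 3, 0, 3]) (.leaf [6, 2, 3, 6, 7, 1, 7, 9])) (.node (.leaf [3, 1, 0, 7, 8, 7, 0, 1]) (.leaf [0, 3, 0, 3]))) (.node (.node (.leaf [8, 6, 2, 6, 8, 2]) (.leaf [7, 9, 6, 9, 7, 8, 6, 8])) (.node (.leaf [8, 7, 2, 1, 2, 1, 8, 2]) (.leaf [0, 3, 0, 3])))) (.node (.node (.node (.leaf [9, 0, 8, 9, 0, 8]) (.leaf [8, 1, 9, 3, 7, 2, 9, 7])) (.node (.leaf [7, 0, 7, 8, 6, 0, 6, 9]) (.leaf [0, 3, 0, 3]))) (.node (.node (.leaf [8, 3, 7, 6, 7, 8, 3]) (.leaf [4, 5, 3, 6, 5, 4, 6])) (.node (.leaf [3, 2, 9, 7, 3, 1, 7, 9]) (.leaf [0, 3, 0, 3]))))) (.node (.node (.node (.node (.leaf [8, 9, 8, 6, 9]) (.leaf [8, 1, 9, 7, 9, 2, 3, 7])) (.node (.leaf [9, 0, 8, 7, 3, 0, 3, 7]) (.leaf [0, 3, 0,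 3]))) (.node (.node (.leaf [3, 1, 8, 6, 1, 3, 9]) (.leaf [1, 2, 0, 1, 5, 1, 0, 2, 1, 5])) (.node (.leaf [1, 3, 7, 3, 9, 7, 1, 3]) (.leaf [0, 3, 0, 3])))) (.node (.node (.node (.leaf [1, 7, 6, 2, 6, 7]) (.leaf [6, 3, 8, 7, 8, 9, 7, 9])) (.node (.leaf [1, 2, 1, 6, 7, 6, 1, 2]) (.leaf [0, 3, 0, 3]))) (.node (.node (.leaf [6, 7, 8, 9, 8, 9, 7]) (.leaf [5, 4, 1, 2, 4, 5, 4, 6, 2, 1, 6, 4])) (.node (.leaf [7, 8, 2, 8, 7, 6, 1, 6]) (.leaf [0, 3, 0, 3])))))) (.node (.node (.node (.node (.node (.leaf [6, 7, 6, 7]) (.leaf [8, 7, 1, 7, 8, 7, 1, 7])) (.node (.leaf [0, 2, 0, 7, 1, 7, 0, 2]) (.leaf [0, 3, 0, 3]))) (.node (.node (.leaf [6, 7, 9, 6, 9, 7]) (.leaf [5, 4, 9, 7, 8, 4, 5, 8, 9])) (.node (.leaf [1, 2, 3, 1, 2, 1, 7, 8]) (.leaf [0, 3, 0, 3])))) (.node (.node (.node (.leaf [3, 1, 7, 9, 2, 7]) (.leaf [3, 2, 3, 9, 8, 2, 9, 8])) (.node (.leaf [8, 0, 9, 8, 7, 0, 7, 9]) (.leaf [0, 3, 0, 3]))) (.node (.node (.leaf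 [9, 8, 7, 3, 8, 9, 7]) (.leaf [4, 5, 4, 6, 5, 4, 3, 5])) (.node (.leaf [8, 3, 1, 8, 9, 8, 1, 3]) (.leaf [0, 3, 0, 3]))))) (.node (.node (.node (.node (.leaf [0, 6, 7, 0, 7, 6]) (.leaf [8, 1, 9, 7, 8, 2, 8, 7])) (.node (.leaf [8, 0, 9, 8, 3, 0, 3, 9]) (.leaf [0, 3, 0, 3]))) (.node (.node (.leaf [8, 7, 3, 7, 8, 3, 6]) (.leaf [3, 6, 5, 3, 6, 5, 3, 6, 5, 3, 6, 5, 3, 6, 5])) (.node (.leaf [9, 2, 7, 6, 3, 1, 6, 7]) (.leaf [0, 3, 0, 3])))) (.node (.node (.node (.leaf [6, 2, 9, 6, 2, 3]) (.leaf [7, 3, 8, 6, 9, 7, 8, 9])) (.node (.leaf [7, 3, 2, 1, 2, 1, 9, 2]) (.leaf [0, 3, 0, 3]))) (.node (.node (.leaf [0, 1, 0, 8, 1, 9, 0, 1]) (.leaf [0, 3, 0, 3])) (.node (.leaf [8, 2, 8, 3, 7, 1, 7, 9]) (.leaf [0, 3, 0, 3]))))))) (.node (.node (.node (.node (.node (.node (.leaf [1, 8, 1, 9]) (.leaf [9, 2, 3, 8, 7, 1, 7, 8])) (.node (.leaf [3, 0, 2, 0, 2, 0, 9, 2]) (.leaf [0, 3, 0, 3]))) (.node (.node (.leaf [9, 3, 9, 8,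 3, 8]) (.leaf [3, 5, 4, 6, 3, 4, 5])) (.node (.leaf [9, 7, 2, 1, 2, 1, 3, 2]) (.leaf [0, 3, 0, 3])))) (.node (.node (.node (.leaf [1, 3, 1, 7, 9, 7]) (.leaf [8, 1, 9, 8, 7, 2, 7, 9])) (.node (.leaf [9, 0, 8, 3, 7, 0, 7, 3]) (.leaf [0, 3, 0, 3]))) (.node (.node (.leaf [3, 9, 7, 6, 7, 3, 9]) (.leaf [6, 4, 6, 4, 3, 6, 3, 4])) (.node (.leaf [7, 9, 1, 8, 3, 1, 7, 9]) (.leaf [0, 3, 0, 3]))))) (.node (.node (.node (.node (.leaf [7, 0, 7, 3, 0, 3]) (.leaf [8, 1, 9, 7, 6, 2, 6, 7])) (.node (.leaf [7, 0, 7, 8, 3, 0, 3, 9]) (.leaf [0, 3, 0, 3]))) (.node (.node (.leaf [3, 6, 7, 9, 3, 9, 7]) (.leaf [3, 5, 3, 5, 3, 5])) (.node (.leaf [1, 6, 7, 9, 7, 6, 1, 3]) (.leaf [0, 3, 0, 3])))) (.node (.node (.node (.leaf [7, 9, 1, 8, 7, 2]) (.leaf [7, 3, 9, 6, 8, 7, 9, 8])) (.node (.leaf [1, 3, 2, 1, 2, 1, 9, 7]) (.leaf [0, 3, 0, 3]))) (.node (.node (.leaf [0, 1, 0, 6, 1, 6, 0, 1]) (.leaf [0, 3, 0, 3])) (.node (.leaf [7, 2,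 7, 8, 6, 1, 6, 9]) (.leaf [0, 3, 0, 3])))))) (.node (.node (.node (.node (.node (.leaf [3, 6, 9, 3, 9]) (.leaf [8, 1, 9, 7, 9, 2, 7, 3])) (.node (.leaf [6, 7, 0, 7, 6, 3, 0, 3]) (.leaf [0, 3, 0, 3]))) (.node (.node (.leaf [3, 8, 3, 1, 9, 6, 1]) (.leaf [0, 5, 0, 5])) (.node (.leaf [7, 2, 1, 3, 2, 1, 2, 8]) (.leaf [0, 3, 0, 3])))) (.node (.node (.node (.leaf [1, 8, 6, 1, 6, 9]) (.leaf [6, 3, 9, 7, 9, 8, 7, 8])) (.node (.leaf [7, 9, 0, 8, 7, 9, 0, 8]) (.leaf [0, 3, 0, 3]))) (.node (.node (.leaf [7, 3, 9, 8, 7, 8, 9]) (.leaf [6, 3, 6, 5, 3, 5, 3, 5])) (.node (.leaf [7, 8, 1, 9, 3, 1, 7, 9]) (.leaf [0, 3, 0, 3]))))) (.node (.node (.node (.node (.leaf [6, 0, 6, 9, 0, 8]) (.leaf [8, 1, 9, 7, 3, 2, 9, 7])) (.node (.leaf [9, 0, 8, 7, 6, 0, 6, 7]) (.leaf [0, 3, 0, 3]))) (.node (.node (.leaf [3, 7, 9, 3, 6, 9, 7]) (.leaf [4, 3, 6, 4, 3, 5, 3])) (.node (.leaf [8, 2, 8, 7, 3, 1, 7, 9]) (.leaf [0, 3, 0, 3])))) (.node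 (.node (.node (.leaf [9, 8, 2, 8, 3, 2]) (.leaf [9, 6, 8, 7, 8, 3, 9, 7])) (.node (.leaf [7, 6, 2, 1, 2, 1, 6, 2]) (.leaf [0, 3, 0, 3]))) (.node (.node (.leaf [0, 1, 3, 0, 3, 1, 0, 1]) (.leaf [0, 3, 0, 3])) (.node (.leaf [3, 2, 9, 3, 7, 1, 7, 9]) (.leaf [0, 3, 0, 3])))))))) (.node (.node (.node (.node (.node (.node (.node (.leaf [0, 9, 0, 8]) (.leaf [8, 3, 2, 9, 8, 7, 1, 7])) (.node (.leaf [0, 2, 0, 3, 2, 9, 0, 2]) (.leaf [0, 3, 0, 3]))) (.node (.node (.leaf [3, 8, 3, 9, 8, 9]) (.leaf [4, 5, 6, 5, 4, 3])) (.node (.leaf [1, 2, 7, 9, 2, 3, 1, 2]) (.leaf [0, 3, 0, 3])))) (.node (.node (.node (.leaf [1, 7, 1, 2, 1, 2]) (.leaf [8, 9, 1, 8, 9, 7, 2, 7])) (.node (.leaf [3, 8, 0, 9, 3, 7, 0, 7]) (.leaf [0, 3, 0, 3]))) (.node (.node (.leaf [3, 7, 6, 7, 9, 3, 9]) (.leaf [4, 5, 6, 3, 5, 4, 6])) (.node (.leaf [8, 1, 9, 7, 9, 7, 1, 3]) (.leaf [0, 3, 0, 3]))))) (.node (.node (.node (.node (.leaf [0, 3, 6, 0, 6,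 3]) (.leaf [7, 9, 1, 8, 7, 6, 2, 6])) (.node (.leaf [8, 7, 0, 7, 9, 3, 0, 3]) (.leaf [0, 3, 0, 3]))) (.node (.node (.leaf [7, 3, 6, 7, 8, 3, 8]) (.leaf [1, 5, 1, 2, 0, 1, 5, 1, 0, 2])) (.node (.leaf [3, 7, 3, 1, 3, 1, 7, 9]) (.leaf [0, 3, 0, 3])))) (.node (.node (.node (.leaf [8, 2, 8, 7, 1, 7]) (.leaf [6, 9, 3, 7, 8, 9, 7, 8])) (.node (.leaf [1, 2, 3, 1, 7, 9, 1, 2]) (.leaf [0, 3, 0, 3]))) (.node (.node (.leaf [9, 8, 9, 8, 7, 6, 7]) (.leaf [6, 4, 5, 4, 2, 1, 4, 5, 4, 6, 1, 2])) (.node (.leaf [8, 7, 2, 7, 9, 6, 1, 6]) (.leaf [0, 3, 0, 3])))))) (.node (.node (.node (.node (.node (.leaf [8, 3, 8, 3, 6]) (.leaf [7, 9, 1, 8, 3, 7, 2, 9])) (.node (.leaf [0, 2, 0, 8, 2, 8, 0, 2]) (.leaf [0, 3, 0, 3]))) (.node (.node (.leaf [8, 3, 1, 6, 9, 1, 3]) (.leaf [4, 5, 9, 8, 5, 4, 8, 7, 9])) (.node (.leaf [3, 1, 2, 7, 8, 2, 1, 2]) (.leaf [0, 3, 0, 3])))) (.node (.node (.node (.leaf [1, 6, 8, 1, 9, 6]) (.leaf [7, 9,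 3, 6, 8, 7, 8, 9])) (.node (.leaf [7, 8, 0, 9, 7, 9, 0, 8]) (.leaf [0, 3, 0, 3]))) (.node (.node (.leaf [7, 8, 9, 3, 7, 9, 8]) (.leaf [6, 4, 5, 4, 5, 3, 4, 5])) (.node (.leaf [9, 1, 8, 7, 9, 7, 1, 3]) (.leaf [0, 3, 0, 3]))))) (.node (.node (.node (.node (.leaf [8, 0, 9, 6, 0, 6]) (.leaf [7, 9, 1, 8, 7, 9, 2, 3])) (.node (.leaf [7, 8, 0, 9, 7, 6, 0, 6]) (.leaf [0, 3, 0, 3]))) (.node (.node (.leaf [7, 8, 6, 3, 8, 7, 3]) (.leaf [3, 4, 6, 3, 4, 3, 5])) (.node (.leaf [7, 8, 2, 8, 9, 7, 1, 3]) (.leaf [0, 3, 0, 3])))) (.node (.node (.node (.leaf [3, 2, 6, 9, 2, 6]) (.leaf [7, 8, 6, 9, 7, 9, 3, 8])) (.node (.leaf [1, 2, 6, 7, 2, 6, 1, 2]) (.leaf [0, 3, 0, 3]))) (.node (.node (.leaf [8, 0, 1, 0, 1, 0, 9, 1]) (.leaf [0, 3, 0, 3])) (.node (.leaf [3, 9, 2, 3, 9, 7, 1, 7]) (.leaf [0, 3, 0, 3]))))))) (.node (.node (.node (.node (.node (.node (.leaf [2, 6, 2, 6]) (.leaf [8, 6, 2, 6, 8, 7, 1, 7])) (.node (.leaf [0,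 2, 0, 6, 2, 6, 0, 2]) (.leaf [0, 3, 0, 3]))) (.node (.node (.leaf [3, 9, 3, 8, 9, 8]) (.leaf [5, 3, 5, 4, 3, 6, 4])) (.node (.leaf [1, 3, 2, 1, 8, 7, 1, 2]) (.leaf [0, 3, 0, 3])))) (.node (.node (.node (.leaf [7, 2, 9, 7, 1, 3]) (.leaf [9, 3, 2, 3, 8, 9, 2, 8])) (.node (.leaf [8, 9, 0, 8, 9, 7, 0, 7]) (.leaf [0, 3, 0, 3]))) (.node (.node (.leaf [8, 9, 7, 9, 8, 3, 7]) (.leaf [6, 5, 3, 4, 6, 5, 3, 4])) (.node (.leaf [8, 3, 1, 3, 9, 3, 1, 3]) (.leaf [0, 3, 0, 3]))))) (.node (.node (.node (.node (.leaf [9, 3, 0, 3, 8, 0]) (.leaf [7, 9, 1, 8, 7, 8, 2, 8])) (.node (.leaf [8, 9, 0, 8, 9, 3, 0, 3]) (.leaf [0, 3, 0, 3]))) (.node (.node (.leaf [9, 3, 9, 7, 6, 3, 7]) (.leaf [6, 4, 3, 6, 4, 3, 6, 4, 3, 6, 4, 3, 6, 4, 3])) (.node (.leaf [6, 7, 2, 9, 7, 6, 1, 3]) (.leaf [0, 3, 0, 3])))) (.node (.node (.node (.leaf [1, 8, 9, 1, 8, 9]) (.leaf [6, 8, 3, 7, 9, 8, 7, 9])) (.node (.leaf [1, 2, 3, 7, 2, 9, 1, 2]) (.leaf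 [0, 3, 0, 3]))) (.node (.node (.leaf [0, 1, 0, 7, 2, 7, 0, 1]) (.leaf [0, 3, 0, 3])) (.node (.leaf [3, 8, 2, 8, 9, 7, 1, 7]) (.leaf [0, 3, 0, 3])))))) (.node (.node (.node (.node (.node (.leaf [6, 3, 9, 3, 9]) (.leaf [7, 9, 1, 8, 7, 3, 2, 9])) (.node (.leaf [7, 8, 0, 9, 7, 3, 0, 3]) (.leaf [0, 3, 0, 3]))) (.node (.node (.leaf [1, 6, 8, 1, 3, 9, 3]) (.leaf [0, 1, 4, 1, 0, 2, 1, 4, 1, 2])) (.node (.leaf [7, 8, 7, 2, 1, 3, 1, 2]) (.leaf [0, 3, 0, 3])))) (.node (.node (.node (.leaf [9, 7, 1, 7, 3, 2]) (.leaf [7, 8, 3, 6, 9, 7, 9, 8])) (.node (.leaf [1, 2, 1, 3, 7, 3, 1, 2]) (.leaf [0, 3, 0, 3]))) (.node (.node (.leaf [9, 3, 8, 7, 9, 8, 7]) (.leaf [4, 5, 4, 6, 2, 1, 6, 4, 5, 4, 1, 2])) (.node (.leaf [9, 3, 1, 9, 8, 9, 1, 3]) (.leaf [0, 3, 0, 3]))))) (.node (.node (.node (.node (.leaf [7, 9, 0, 8, 7, 0]) (.leaf [3, 9, 1, 8, 7, 9, 2, 7])) (.node (.leaf [8, 7, 0, 7, 9, 6, 0, 6]) (.leaf [0, 3, 0, 3]))) (.node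 (.node (.leaf [6, 3, 9, 7, 3, 7, 9]) (.leaf [6, 3, 5, 6, 4, 6, 5])) (.node (.leaf [7, 9, 2, 3, 9, 7, 1, 3]) (.leaf [0, 3, 0, 3])))) (.node (.node (.node (.leaf [9, 2, 3, 9, 2, 3]) (.leaf [7, 9, 3, 9, 7, 9, 3, 9])) (.node (.leaf [1, 2, 7, 8, 2, 8, 1, 2]) (.leaf [0, 3, 0, 3]))) (.node (.node (.leaf [2, 1, 2, 1, 0, 7, 0, 1]) (.leaf [0, 3, 0, 3])) (.node (.leaf [6, 3, 2, 6, 9, 7, 1, 7]) (.leaf [0, 3, 0, 3]))))))))) (.node (.node (.node (.node (.node (.node (.node (.node (.leaf [0, 7, 0, 7]) (.leaf [7, 1, 7, 9, 6, 2, 3, 6])) (.node (.leaf [8, 7, 0, 1, 3, 1, 0, 7]) (.leaf [0, 3, 0, 3]))) (.node (.node (.leaf [7, 3, 7, 6, 3, 6]) (.leaf [7, 8, 6, 8, 7, 9, 6, 9])) (.node (.leaf [2, 1, 8, 2, 8, 7, 2, 1]) (.leaf [0, 3, 0, 3])))) (.node (.node (.node (.leaf [1, 2, 1, 2, 1, 7]) (.leaf [9, 7, 2, 7, 8, 9, 1, 8])) (.node (.leaf [6, 0, 6, 9, 7, 0, 7, 8]) (.leaf [0, 3, 0, 3]))) (.node (.node (.leaf [7, 6, 7, 3, 8, 3,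 8]) (.leaf [5, 4, 6, 4, 5, 3, 6])) (.node (.leaf [3, 1, 7, 9, 3, 2, 9, 7]) (.leaf [0, 3, 0, 3]))))) (.node (.node (.node (.node (.leaf [0, 1, 0, 1, 0, 1]) (.leaf [7, 6, 2, 6, 7, 9, 1, 8])) (.node (.leaf [3, 0, 3, 7, 9, 0, 8, 7]) (.leaf [0, 3, 0, 3]))) (.node (.node (.leaf [7, 8, 3, 8, 7, 3, 6]) (.leaf [5, 1, 0, 2, 1, 5, 1, 2, 0, 1])) (.node (.leaf [9, 7, 1, 3, 1, 3, 7, 3]) (.leaf [0, 3, 0, 3])))) (.node (.node (.node (.leaf [6, 7, 1, 7, 6, 2]) (.leaf [8, 9, 7, 8, 6, 9, 3, 7])) (.node (.leaf [7, 6, 1, 2, 1, 2, 1, 6]) (.leaf [0, 3, 0, 3]))) (.node (.node (.leaf [8, 9, 7, 6, 7, 8, 9]) (.leaf [4, 6, 1, 2, 6, 4, 5, 4, 2, 1, 4, 5])) (.node (.leaf [7, 6, 1, 6, 7, 8, 2, 8]) (.leaf [0, 3, 0, 3])))))) (.node (.node (.node (.node (.node (.leaf [6, 9, 6, 9]) (.leaf [3, 7, 2, 9, 7, 9, 1, 8])) (.node (.leaf [1, 7, 0, 2, 0, 2, 0, 7]) (.leaf [0, 3, 0, 3]))) (.node (.node (.leaf [9, 7, 6, 7, 9, 6]) (.leaf [8, 4, 5,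 8, 9, 5, 4, 9, 7])) (.node (.leaf [2, 1, 7, 8, 1, 2, 3, 1]) (.leaf [0, 3, 0, 3])))) (.node (.node (.node (.leaf [7, 2, 7, 6, 1, 6]) (.leaf [8, 7, 8, 9, 7, 9, 3, 6])) (.node (.leaf [7, 0, 7, 9, 8, 0, 9, 8]) (.leaf [0, 3, 0, 3]))) (.node (.node (.leaf [3, 7, 9, 8, 7, 8, 9]) (.leaf [5, 4, 3, 5, 4, 5, 4, 6])) (.node (.leaf [9, 8, 1, 3, 8, 3, 1, 8]) (.leaf [0, 3, 0, 3]))))) (.node (.node (.node (.node (.leaf [7, 6, 0, 6, 7, 0]) (.leaf [7, 9, 2, 3, 7, 9, 1, 8])) (.node (.leaf [3, 0, 3, 9, 8, 0, 9, 8]) (.leaf [0, 3, 0, 3]))) (.node (.node (.leaf [8, 3, 6, 8, 7, 3, 7]) (.leaf [3, 4, 3, 5, 3, 4, 6])) (.node (.leaf [3, 1, 6, 7, 9, 2, 7, 6]) (.leaf [0, 3, 0, 3])))) (.node (.node (.node (.leaf [6, 9, 2, 6, 3, 2]) (.leaf [7, 8, 3, 8, 7, 8, 3, 8])) (.node (.leaf [2, 1, 9, 2, 7, 3, 2, 1]) (.leaf [0, 3, 0, 3]))) (.node (.node (.leaf [1, 9, 0, 1, 0, 1, 0, 8]) (.leaf [0, 3, 0, 3])) (.node (.leaf [7, 1, 7, 9, 8, 2, 8,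 3]) (.leaf [0, 3, 0, 3]))))))) (.node (.node (.node (.node (.node (.node (.leaf [2, 3, 2, 9]) (.leaf [7, 1, 7, 8, 9, 2, 3, 8])) (.node (.leaf [2, 0, 9, 2, 3, 0, 2, 0]) (.leaf [0, 3, 0, 3]))) (.node (.node (.leaf [3, 8, 9, 8, 3, 9]) (.leaf [3, 4, 5, 3, 5, 4, 6])) (.node (.leaf [2, 1, 3, 2, 9, 7, 2, 1]) (.leaf [0, 3, 0, 3])))) (.node (.node (.node (.leaf [9, 7, 1, 3, 1, 7]) (.leaf [8, 9, 2, 8, 9, 3, 2, 3])) (.node (.leaf [7, 0, 7, 3, 9, 0, 8, 3]) (.leaf [0, 3, 0, 3]))) (.node (.node (.leaf [7, 3, 9, 3, 9, 7, 6]) (.leaf [3, 6, 3, 4, 6, 4, 6, 4])) (.node (.leaf [3, 1, 7, 9, 7, 9, 1, 8]) (.leaf [0, 3, 0, 3]))))) (.node (.node (.node (.node (.leaf [0, 3, 8, 0, 9, 3]) (.leaf [7, 8, 2, 8, 7, 9, 1, 8])) (.node (.leaf [3, 0, 3, 9, 7, 0, 7, 8]) (.leaf [0, 3, 0, 3]))) (.node (.node (.leaf [3, 9, 7, 3, 6, 7, 9]) (.leaf [5, 6, 4, 5, 6, 4, 5, 6, 4])) (.node (.leaf [7, 6, 1, 3, 1, 6, 7, 9]) (.leaf [0, 3, 0, 3]))))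 (.node (.node (.node (.leaf [2, 7, 8, 1, 9, 7]) (.leaf [9, 8, 7, 9, 6, 8, 3, 7])) (.node (.leaf [2, 1, 9, 7, 1, 3, 2, 1]) (.leaf [0, 3, 0, 3]))) (.node (.node (.leaf [1, 6, 0, 1, 0, 1, 0, 6]) (.leaf [0, 3, 0, 3])) (.node (.leaf [6, 1, 6, 9, 7, 2, 7, 8]) (.leaf [0, 3, 0, 3])))))) (.node (.node (.node (.node (.node (.leaf [9, 3, 6, 9, 3]) (.leaf [7, 3, 2, 9, 7, 9, 1, 8])) (.node (.leaf [6, 3, 0, 3, 6, 7, 0, 7]) (.leaf [0, 3, 0, 3]))) (.node (.node (.leaf [1, 3, 9, 3, 1, 6, 8]) (.leaf [7, 5, 7, 5])) (.node (.leaf [2, 1, 2, 8, 7, 2, 1, 3]) (.leaf [0, 3, 0, 3])))) (.node (.node (.node (.leaf [1, 7, 3, 2, 9, 7]) (.leaf [9, 7, 9, 8, 7, 8, 3, 6])) (.node (.leaf [8, 0, 9, 7, 8, 0, 9, 7]) (.leaf [0, 3, 0, 3]))) (.node (.node (.leaf [7, 9, 8, 7, 9, 3, 8]) (.leaf [3, 5, 3, 5, 6, 3, 6, 5])) (.node (.leaf [3, 1, 7, 9, 7, 8, 1, 9]) (.leaf [0, 3, 0, 3]))))) (.node (.node (.node (.node (.leaf [8, 0, 9, 7, 0, 7]) (.leaf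 [7, 9, 2, 7, 3, 9, 1, 8])) (.node (.leaf [6, 0, 6, 7, 9, 0, 8, 7]) (.leaf [0, 3, 0, 3]))) (.node (.node (.leaf [7, 3, 7, 9, 6, 3, 9]) (.leaf [6, 4, 6, 5, 6, 3, 5])) (.node (.leaf [3, 1, 7, 9, 8, 2, 8, 7]) (.leaf [0, 3, 0, 3])))) (.node (.node (.node (.leaf [3, 2, 9, 8, 2, 8]) (.leaf [8, 3, 9, 7, 9, 6, 8, 7])) (.node (.leaf [2, 1, 6, 2, 7, 6, 2, 1]) (.leaf [0, 3, 0, 3]))) (.node (.node (.leaf [3, 1, 0, 1, 0, 1, 3, 0]) (.leaf [0, 3, 0, 3])) (.node (.leaf [7, 1, 7, 9, 3, 2, 9, 3]) (.leaf [0, 3, 0, 3])))))))) (.node (.node (.node (.node (.node (.node (.node (.leaf [1, 7, 2, 7]) (.leaf [8, 7, 1, 7, 8, 3, 2, 9])) (.node (.leaf [2, 9, 0, 2, 0, 2, 0, 3]) (.leaf [0, 3, 0, 3]))) (.node (.node (.leaf [8, 9, 3, 8, 3, 9]) (.leaf [4, 3, 4, 5, 6, 5])) (.node (.leaf [2, 3, 1, 2, 1, 2, 7, 9]) (.leaf [0, 3, 0, 3])))) (.node (.node (.node (.leaf [1, 2, 7, 2, 1, 2]) (.leaf [7, 2, 7, 9, 8, 1, 9, 8])) (.node (.leaf [3,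 7, 0, 7, 3, 8, 0, 9]) (.leaf [0, 3, 0, 3]))) (.node (.node (.leaf [9, 3, 9, 3, 7, 6, 7]) (.leaf [5, 4, 6, 4, 5, 6, 3])) (.node (.leaf [9, 7, 1, 3, 8, 1, 9, 7]) (.leaf [0, 3, 0, 3]))))) (.node (.node (.node (.node (.leaf [6, 3, 0, 3, 6, 0]) (.leaf [6, 2, 6, 7, 8, 1, 9, 7])) (.node (.leaf [9, 3, 0, 3, 8, 7, 0, 7]) (.leaf [0, 3, 0, 3]))) (.node (.node (.leaf [8, 7, 6, 3, 7, 8, 3]) (.leaf [3, 4, 3, 4, 3, 4, 3, 4, 3, 4])) (.node (.leaf [3, 1, 7, 9, 3, 7, 3, 1]) (.leaf [0, 3, 0, 3])))) (.node (.node (.node (.leaf [1, 8, 7, 2, 7, 9]) (.leaf [8, 7, 9, 8, 7, 3, 9, 6])) (.node (.leaf [7, 9, 1, 2, 1, 2, 3, 1]) (.leaf [0, 3, 0, 3]))) (.node (.node (.leaf [7, 6, 7, 9, 8, 9, 8]) (.leaf [2, 1, 4, 5, 4, 6, 1, 2, 6, 4, 5, 4])) (.node (.leaf [9, 6, 1, 6, 8, 7, 2, 7]) (.leaf [0, 3, 0, 3])))))) (.node (.node (.node (.node (.node (.leaf [3, 8, 6, 3, 8]) (.leaf [9, 2, 7, 3, 8, 1, 9, 7])) (.node (.leaf [2, 8, 0, 2, 0, 2,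 0, 8]) (.leaf [0, 3, 0, 3]))) (.node (.node (.leaf [9, 1, 3, 8, 3, 1, 6]) (.leaf [5, 4, 8, 7, 9, 4, 5, 9, 8])) (.node (.leaf [8, 2, 1, 2, 3, 1, 2, 7]) (.leaf [0, 3, 0, 3])))) (.node (.node (.node (.leaf [9, 6, 1, 6, 8, 1]) (.leaf [9, 8, 7, 8, 6, 3, 9, 7])) (.node (.leaf [7, 9, 0, 8, 7, 8, 0, 9]) (.leaf [0, 3, 0, 3]))) (.node (.node (.leaf [8, 7, 8, 9, 7, 3, 9]) (.leaf [5, 3, 4, 5, 6, 4, 5, 4])) (.node (.leaf [9, 7, 1, 3, 9, 1, 8, 7]) (.leaf [0, 3, 0, 3]))))) (.node (.node (.node (.node (.leaf [6, 9, 0, 8, 6, 0]) (.leaf [3, 2, 9, 7, 8, 1, 9, 7])) (.node (.leaf [7, 6, 0, 6, 7, 8, 0, 9]) (.leaf [0, 3, 0, 3]))) (.node (.node (.leaf [3, 6, 9, 7, 3, 7, 9]) (.leaf [4, 3, 5, 3, 4, 3, 6])) (.node (.leaf [9, 7, 1, 3, 7, 8, 2, 8]) (.leaf [0, 3, 0, 3])))) (.node (.node (.node (.leaf [8, 2, 8, 9, 2, 3]) (.leaf [7, 9, 3, 8, 7, 8, 6, 9])) (.node (.leaf [2, 6, 1, 2, 1, 2, 6, 7]) (.leaf [0, 3, 0, 3]))) (.node (.node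 (.leaf [1, 0, 9, 1, 8, 0, 1, 0]) (.leaf [0, 3, 0, 3])) (.node (.leaf [9, 7, 1, 7, 3, 9, 2, 3]) (.leaf [0, 3, 0, 3]))))))) (.node (.node (.node (.node (.node (.node (.leaf [3, 6, 3, 6]) (.leaf [8, 7, 1, 7, 8, 6, 2, 6])) (.node (.leaf [2, 6, 0, 2, 0, 2, 0, 6]) (.leaf [0, 3, 0, 3]))) (.node (.node (.leaf [8, 6, 8, 7, 6, 7]) (.leaf [4, 5, 8, 9, 5, 4, 9, 7, 8])) (.node (.leaf [8, 7, 1, 2, 1, 3, 2, 1]) (.leaf [0, 3, 0, 3])))) (.node (.node (.node (.leaf [7, 9, 2, 7, 3, 1]) (.leaf [8, 2, 9, 8, 3, 2, 3, 9])) (.node (.leaf [9, 7, 0, 7, 8, 9, 0, 8]) (.leaf [0, 3, 0, 3]))) (.node (.node (.leaf [8, 3, 7, 8, 9, 7, 9]) (.leaf [4, 3, 5, 6, 4, 3, 5, 6])) (.node (.leaf [9, 3, 1, 3, 8, 3, 1, 3]) (.leaf [0, 3, 0, 3]))))) (.node (.node (.node (.node (.leaf [0, 8, 3, 0, 3, 9]) (.leaf [8, 2, 8, 7, 8, 1, 9, 7])) (.node (.leaf [9, 3, 0, 3, 8, 9, 0, 8]) (.leaf [0, 3, 0, 3]))) (.node (.node (.leaf [6, 3, 7, 9, 3, 9, 7]) (.leaf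 [4, 6, 3, 4, 6, 3, 4, 6, 3, 4, 6, 3, 4, 6, 3])) (.node (.leaf [7, 6, 1, 3, 6, 7, 2, 9]) (.leaf [0, 3, 0, 3])))) (.node (.node (.node (.leaf [8, 1, 9, 8, 1, 9]) (.leaf [9, 7, 8, 9, 7, 3, 8, 6])) (.node (.leaf [2, 9, 1, 2, 1, 2, 3, 7]) (.leaf [0, 3, 0, 3]))) (.node (.node (.leaf [2, 7, 0, 1, 0, 1, 0, 7]) (.leaf [0, 3, 0, 3])) (.node (.leaf [9, 7, 1, 7, 3, 8, 2, 8]) (.leaf [0, 3, 0, 3])))))) (.node (.node (.node (.node (.node (.leaf [9, 8, 9, 6, 8]) (.leaf [9, 2, 3, 7, 8, 1, 9, 7])) (.node (.leaf [7, 3, 0, 3, 7, 8, 0, 9]) (.leaf [0, 3, 0, 3]))) (.node (.node (.leaf [6, 1, 3, 9, 3, 1, 8]) (.leaf [0, 2, 1, 4, 1, 2, 0, 1, 4, 1])) (.node (.leaf [1, 3, 1, 2, 7, 8, 7, 2]) (.leaf [0, 3, 0, 3])))) (.node (.node (.node (.leaf [2, 3, 7, 1, 7, 9]) (.leaf [8, 9, 7, 9, 6, 3, 8, 7])) (.node (.leaf [7, 3, 1, 2, 1, 2, 1, 3]) (.leaf [0, 3, 0, 3]))) (.node (.node (.leaf [9, 7, 8, 3, 9, 7, 8]) (.leaf [2, 1, 6, 4, 5, 4,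 1, 2, 4, 5, 4, 6])) (.node (.leaf [8, 9, 1, 3, 9, 3, 1, 9]) (.leaf [0, 3, 0, 3]))))) (.node (.node (.node (.node (.leaf [7, 0, 7, 9, 0, 8]) (.leaf [7, 2, 9, 7, 8, 1, 9, 3])) (.node (.leaf [9, 6, 0, 6, 8, 7, 0, 7]) (.leaf [0, 3, 0, 3]))) (.node (.node (.leaf [6, 7, 8, 3, 8, 3, 7]) (.leaf [4, 6, 5, 3, 6, 5, 6])) (.node (.leaf [9, 7, 1, 3, 7, 9, 2, 3]) (.leaf [0, 3, 0, 3])))) (.node (.node (.node (.leaf [2, 6, 8, 2, 8, 6]) (.leaf [8, 7, 6, 7, 8, 7, 6, 7])) (.node (.leaf [2, 8, 1, 2, 1, 2, 7, 8]) (.leaf [0, 3, 0, 3]))) (.node (.node (.leaf [0, 7, 0, 1, 2, 1, 2, 1]) (.leaf [0, 3, 0, 3])) (.node (.leaf [9, 7, 1, 7, 6, 3, 2, 6]) (.leaf [0, 3, 0, 3])))))))))) (.node (.node (.node (.node (.node (.node (.node (.node (.node (.leaf [0, 6, 0, 6]) (.leaf [3, 6, 7, 1, 7, 9, 6, 2])) (.node (.leaf [0, 7, 8, 7, 0, 1, 3, 1]) (.leaf [0, 3, 0, 3]))) (.node (.node (.leaf [3, 6, 7, 3, 7, 6]) (.leaf [6, 9, 7, 8, 6, 8, 7,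 9])) (.node (.leaf [2, 1, 2, 1, 8, 2, 8, 7]) (.leaf [0, 3, 0, 3])))) (.node (.node (.node (.leaf [8, 0, 9, 8, 0, 9]) (.leaf [1, 8, 9, 7, 2, 7, 8, 9])) (.node (.leaf [7, 8, 6, 0, 6, 9, 7, 0]) (.leaf [0, 3, 0, 3]))) (.node (.node (.leaf [3, 8, 7, 6, 7, 3, 8]) (.leaf [3, 6, 5, 4, 6, 4, 5])) (.node (.leaf [9, 7, 3, 1, 7, 9, 3, 2]) (.leaf [0, 3, 0, 3]))))) (.node (.node (.node (.node (.leaf [8, 6, 9, 8, 9]) (.leaf [1, 8, 7, 6, 2, 6, 7, 9])) (.node (.leaf [8, 7, 3, 0, 3, 7, 9, 0]) (.leaf [0, 3, 0, 3]))) (.node (.node (.leaf [3, 6, 7, 8, 3, 8, 7]) (.leaf [0, 1, 5, 1, 0, 2, 1, 5, 1, 2])) (.node (.leaf [7, 3, 9, 7, 1, 3, 1, 3]) (.leaf [0, 3, 0, 3])))) (.node (.node (.node (.leaf [6, 2, 6, 7, 1, 7]) (.leaf [3, 7, 8, 9, 7, 8, 6, 9])) (.node (.leaf [1, 6, 7, 6, 1, 2, 1, 2]) (.leaf [0, 3, 0, 3]))) (.node (.node (.leaf [8, 9, 8, 9, 7, 6, 7]) (.leaf [4, 5, 4, 6, 1, 2, 6, 4, 5, 4, 2, 1])) (.node (.leaf [2, 8, 7, 6,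 1, 6, 7, 8]) (.leaf [0, 3, 0, 3])))))) (.node (.node (.node (.node (.node (.leaf [6, 8, 6, 8]) (.leaf [1, 8, 3, 7, 2, 9, 7, 9])) (.node (.leaf [0, 7, 1, 7, 0, 2, 0, 2]) (.leaf [0, 3, 0, 3]))) (.node (.node (.leaf [9, 6, 9, 7, 6, 7]) (.leaf [9, 7, 8, 4, 5, 8, 9, 5, 4])) (.node (.leaf [3, 1, 2, 1, 7, 8, 1, 2]) (.leaf [0, 3, 0, 3])))) (.node (.node (.node (.leaf [1, 6, 7, 2, 7, 6]) (.leaf [3, 6, 8, 7, 8, 9, 7, 9])) (.node (.leaf [9, 8, 7, 0, 7, 9, 8, 0]) (.leaf [0, 3, 0, 3]))) (.node (.node (.leaf [7, 3, 8, 9, 7, 9, 8]) (.leaf [4, 6, 5, 4, 3, 5, 4, 5])) (.node (.leaf [1, 8, 9, 8, 1, 3, 8, 3]) (.leaf [0, 3, 0, 3]))))) (.node (.node (.node (.node (.leaf [7, 0, 7, 6, 0, 6]) (.leaf [1, 8, 7, 9, 2, 3, 7, 9])) (.node (.leaf [9, 8, 3, 0, 3, 9, 8, 0]) (.leaf [0, 3, 0, 3]))) (.node (.node (.leaf [3, 7, 8, 3, 6, 8, 7]) (.leaf [5, 6, 3, 5, 6, 3, 5, 6, 3, 5, 6, 3, 5, 6, 3])) (.node (.leaf [7, 6, 3, 1, 6, 7, 9, 2])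 (.leaf [0, 3, 0, 3])))) (.node (.node (.node (.leaf [9, 6, 2, 3, 6, 2]) (.leaf [3, 8, 7, 8, 3, 8, 7, 8])) (.node (.leaf [2, 1, 2, 1, 9, 2, 7, 3]) (.leaf [0, 3, 0, 3]))) (.node (.node (.leaf [0, 8, 1, 9, 0, 1, 0, 1]) (.leaf [0, 3, 0, 3])) (.node (.leaf [8, 3, 7, 1, 7, 9, 8, 2]) (.leaf [0, 3, 0, 3]))))))) (.node (.node (.node (.node (.node (.node (.leaf [1, 9, 1, 8]) (.leaf [3, 8, 7, 1, 7, 8, 9, 2])) (.node (.leaf [2, 0, 2, 0, 9, 2, 3, 0]) (.leaf [0, 3, 0, 3]))) (.node (.node (.leaf [9, 8, 3, 8, 9, 3]) (.leaf [4, 6, 3, 4, 5, 3, 5])) (.node (.leaf [2, 1, 2, 1, 3, 2, 9, 7]) (.leaf [0, 3, 0, 3])))) (.node (.node (.node (.leaf [1, 7, 9, 7, 1, 3]) (.leaf [2, 3, 8, 9, 2, 8, 9, 3])) (.node (.leaf [8, 3, 7, 0, 7, 3, 9, 0]) (.leaf [0, 3, 0, 3]))) (.node (.node (.leaf [7, 6, 7, 3, 9, 3, 9]) (.leaf [6, 4, 3, 6, 3, 4, 6, 4])) (.node (.leaf [1, 8, 3, 1, 7, 9, 7, 9]) (.leaf [0, 3, 0, 3]))))) (.node (.node (.node (.node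 (.leaf [7, 3, 0, 3, 7, 0]) (.leaf [1, 8, 7, 8, 2, 8, 7, 9])) (.node (.leaf [7, 8, 3, 0, 3, 9, 7, 0]) (.leaf [0, 3, 0, 3]))) (.node (.node (.leaf [7, 9, 3, 9, 7, 3, 6]) (.leaf [6, 4, 5, 6, 4, 5, 6, 4, 5])) (.node (.leaf [7, 9, 7, 6, 1, 3, 1, 6]) (.leaf [0, 3, 0, 3])))) (.node (.node (.node (.leaf [9, 7, 2, 7, 8, 1]) (.leaf [3, 7, 9, 8, 7, 9, 6, 8])) (.node (.leaf [2, 1, 2, 1, 9, 7, 1, 3]) (.leaf [0, 3, 0, 3]))) (.node (.node (.leaf [0, 6, 1, 6, 0, 1, 0, 1]) (.leaf [0, 3, 0, 3])) (.node (.leaf [7, 8, 6, 1, 6, 9, 7, 2]) (.leaf [0, 3, 0, 3])))))) (.node (.node (.node (.node (.node (.leaf [9, 3, 9, 3, 6]) (.leaf [1, 8, 7, 3, 2, 9, 7, 9])) (.node (.leaf [0, 7, 6, 3, 0, 3, 6, 7]) (.leaf [0, 3, 0, 3]))) (.node (.node (.leaf [3, 1, 9, 6, 1, 3, 8]) (.leaf [7, 4, 7, 4])) (.node (.leaf [1, 3, 2, 1, 2, 8, 7, 2]) (.leaf [0, 3, 0, 3])))) (.node (.node (.node (.leaf [6, 1, 6, 9, 1, 8]) (.leaf [3, 6, 9, 7, 9, 8, 7,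 8])) (.node (.leaf [9, 7, 8, 0, 9, 7, 8, 0]) (.leaf [0, 3, 0, 3]))) (.node (.node (.leaf [3, 8, 7, 9, 8, 7, 9]) (.leaf [6, 5, 3, 5, 3, 5, 6, 3])) (.node (.leaf [1, 9, 3, 1, 7, 9, 7, 8]) (.leaf [0, 3, 0, 3]))))) (.node (.node (.node (.node (.leaf [0, 7, 8, 0, 9, 7]) (.leaf [1, 8, 7, 9, 2, 7, 3, 9])) (.node (.leaf [8, 7, 6, 0, 6, 7, 9, 0]) (.leaf [0, 3, 0, 3]))) (.node (.node (.leaf [9, 3, 6, 9, 7, 3, 7]) (.leaf [3, 5, 6, 4, 6, 5, 6])) (.node (.leaf [8, 7, 3, 1, 7, 9, 8, 2]) (.leaf [0, 3, 0, 3])))) (.node (.node (.node (.leaf [2, 8, 3, 2, 9, 8]) (.leaf [8, 7, 8, 3, 9, 7, 9, 6])) (.node (.leaf [2, 1, 2, 1, 6, 2, 7, 6]) (.leaf [0, 3, 0, 3]))) (.node (.node (.leaf [3, 0, 3, 1, 0, 1, 0, 1]) (.leaf [0, 3, 0, 3])) (.node (.leaf [9, 3, 7, 1, 7, 9, 3, 2]) (.leaf [0, 3, 0, 3])))))))) (.node (.node (.node (.node (.node (.node (.node (.leaf [1, 6, 1, 6]) (.leaf [2, 9, 8, 7, 1, 7, 8, 3])) (.node (.leaf [0, 3, 2,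 9, 0, 2, 0, 2]) (.leaf [0, 3, 0, 3]))) (.node (.node (.leaf [3, 9, 8, 9, 3, 8]) (.leaf [6, 5, 4, 3, 4, 5])) (.node (.leaf [7, 9, 2, 3, 1, 2, 1, 2]) (.leaf [0, 3, 0, 3])))) (.node (.node (.node (.leaf [1, 2, 1, 2, 7, 2]) (.leaf [9, 8, 7, 2, 7, 9, 8, 1])) (.node (.leaf [0, 9, 3, 7, 0, 7, 3, 8]) (.leaf [0, 3, 0, 3]))) (.node (.node (.leaf [6, 7, 9, 3, 9, 3, 7]) (.leaf [6, 3, 5, 4, 6, 4, 5])) (.node (.leaf [9, 7, 9, 7, 1, 3, 8, 1]) (.leaf [0, 3, 0, 3]))))) (.node (.node (.node (.node (.leaf [6, 0, 6, 3, 0, 3]) (.leaf [9, 7, 6, 2, 6, 7, 8, 1])) (.node (.leaf [0, 7, 9, 3, 0, 3, 8, 7]) (.leaf [0, 3, 0, 3]))) (.node (.node (.leaf [8, 3, 8, 7, 6, 3, 7]) (.leaf [6, 4, 6, 4, 6, 4])) (.node (.leaf [3, 1, 3, 1, 7, 9, 3, 7]) (.leaf [0, 3, 0, 3])))) (.node (.node (.node (.leaf [8, 7, 1, 7, 8, 2]) (.leaf [9, 6, 8, 7, 9, 8, 7, 3])) (.node (.leaf [3, 1, 7, 9, 1, 2, 1, 2]) (.leaf [0, 3, 0, 3]))) (.node (.node (.leaf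 [9, 8, 7, 6, 7, 9, 8]) (.leaf [5, 4, 2, 1, 4, 5, 4, 6, 1, 2, 6, 4])) (.node (.leaf [2, 7, 9, 6, 1, 6, 8, 7]) (.leaf [0, 3, 0, 3])))))) (.node (.node (.node (.node (.node (.leaf [8, 3, 6, 8, 3]) (.leaf [9, 7, 9, 2, 7, 3, 8, 1])) (.node (.leaf [0, 8, 2, 8, 0, 2, 0, 2]) (.leaf [0, 3, 0, 3]))) (.node (.node (.leaf [1, 6, 9, 1, 3, 8, 3]) (.leaf [9, 8, 5, 4, 8, 7, 9, 4, 5])) (.node (.leaf [2, 7, 8, 2, 1, 2, 3, 1]) (.leaf [0, 3, 0, 3])))) (.node (.node (.node (.leaf [8, 1, 9, 6, 1, 6]) (.leaf [9, 7, 9, 8, 7, 8, 6, 3])) (.node (.leaf [0, 9, 7, 9, 0, 8, 7, 8]) (.leaf [0, 3, 0, 3]))) (.node (.node (.leaf [9, 3, 7, 9, 8, 7, 8]) (.leaf [5, 4, 5, 3, 4, 5, 6, 4])) (.node (.leaf [8, 7, 9, 7, 1, 3, 9, 1]) (.leaf [0, 3, 0, 3]))))) (.node (.node (.node (.node (.leaf [9, 6, 0, 6, 8, 0]) (.leaf [9, 7, 3, 2, 9, 7, 8, 1])) (.node (.leaf [0, 9, 7, 6, 0, 6, 7, 8]) (.leaf [0, 3, 0, 3]))) (.node (.node (.leaf [6, 3, 8, 7, 3,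 7, 8]) (.leaf [6, 3, 4, 3, 5, 3, 4])) (.node (.leaf [2, 8, 9, 7, 1, 3, 7, 8]) (.leaf [0, 3, 0, 3])))) (.node (.node (.node (.leaf [2, 3, 8, 2, 8, 9]) (.leaf [6, 9, 7, 9, 3, 8, 7, 8])) (.node (.leaf [6, 7, 2, 6, 1, 2, 1, 2]) (.leaf [0, 3, 0, 3]))) (.node (.node (.leaf [1, 0, 1, 0, 9, 1, 8, 0]) (.leaf [0, 3, 0, 3])) (.node (.leaf [2, 3, 9, 7, 1, 7, 3, 9]) (.leaf [0, 3, 0, 3]))))))) (.node (.node (.node (.node (.node (.node (.leaf [2, 8, 2, 8]) (.leaf [2, 6, 8, 7, 1, 7, 8, 6])) (.node (.leaf [0, 6, 2, 6, 0, 2, 0, 2]) (.leaf [0, 3, 0, 3]))) (.node (.node (.leaf [6, 7, 8, 6, 8, 7]) (.leaf [5, 4, 3, 6, 4, 5, 3])) (.node (.leaf [2, 1, 8, 7, 1, 2, 1, 3]) (.leaf [0, 3, 0, 3])))) (.node (.node (.node (.leaf [9, 7, 1, 3, 7, 2]) (.leaf [3, 9, 8, 2, 9, 8, 3, 2])) (.node (.leaf [0, 8, 9, 7, 0, 7, 8, 9]) (.leaf [0, 3, 0, 3]))) (.node (.node (.leaf [7, 9, 8, 3, 7, 8, 9]) (.leaf [5, 6, 4, 3, 5, 6, 4, 3])) (.node (.leaf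 [1, 3, 9, 3, 1, 3, 8, 3]) (.leaf [0, 3, 0, 3]))))) (.node (.node (.node (.node (.leaf [3, 9, 0, 8, 3, 0]) (.leaf [9, 7, 8, 2, 8, 7, 8, 1])) (.node (.leaf [0, 8, 9, 3, 0, 3, 8, 9]) (.leaf [0, 3, 0, 3]))) (.node (.node (.leaf [9, 7, 6, 3, 7, 9, 3]) (.leaf [3, 6, 4, 3, 6, 4, 3, 6, 4, 3, 6, 4, 3, 6, 4])) (.node (.leaf [2, 9, 7, 6, 1, 3, 6, 7]) (.leaf [0, 3, 0, 3])))) (.node (.node (.node (.leaf [9, 1, 8, 9, 1, 8]) (.leaf [8, 6, 9, 7, 8, 9, 7, 3])) (.node (.leaf [3, 7, 2, 9, 1, 2, 1, 2]) (.leaf [0, 3, 0, 3]))) (.node (.node (.leaf [0, 7, 2, 7, 0, 1, 0, 1]) (.leaf [0, 3, 0, 3])) (.node (.leaf [2, 8, 9, 7, 1, 7, 3, 8]) (.leaf [0, 3, 0, 3])))))) (.node (.node (.node (.node (.node (.leaf [6, 8, 9, 8, 9]) (.leaf [9, 7, 9, 2, 3, 7, 8, 1])) (.node (.leaf [0, 9, 7, 3, 0, 3, 7, 8]) (.leaf [0, 3, 0, 3]))) (.node (.node (.leaf [8, 1, 3, 9, 3, 1, 6]) (.leaf [4, 1, 0, 2, 1, 4, 1, 2, 0, 1])) (.node (.leaf [7, 2, 1, 3,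 1, 2, 7, 8]) (.leaf [0, 3, 0, 3])))) (.node (.node (.node (.leaf [7, 9, 2, 3, 7, 1]) (.leaf [8, 7, 8, 9, 7, 9, 6, 3])) (.node (.leaf [1, 3, 7, 3, 1, 2, 1, 2]) (.leaf [0, 3, 0, 3]))) (.node (.node (.leaf [7, 8, 9, 7, 8, 3, 9]) (.leaf [4, 6, 2, 1, 6, 4, 5, 4, 1, 2, 4, 5])) (.node (.leaf [1, 9, 8, 9, 1, 3, 9, 3]) (.leaf [0, 3, 0, 3]))))) (.node (.node (.node (.node (.leaf [0, 8, 7, 0, 7, 9]) (.leaf [9, 3, 7, 2, 9, 7, 8, 1])) (.node (.leaf [0, 7, 9, 6, 0, 6, 8, 7]) (.leaf [0, 3, 0, 3]))) (.node (.node (.leaf [3, 7, 6, 7, 8, 3, 8]) (.leaf [5, 6, 4, 6, 5, 3, 6])) (.node (.leaf [2, 3, 9, 7, 1, 3, 7, 9]) (.leaf [0, 3, 0, 3])))) (.node (.node (.node (.leaf [3, 2, 9, 3, 2, 9]) (.leaf [6, 7, 8, 7, 6, 7, 8, 7])) (.node (.leaf [7, 8, 2, 8, 1, 2, 1, 2]) (.leaf [0, 3, 0, 3]))) (.node (.node (.leaf [2, 1, 0, 7, 0, 1, 2, 1]) (.leaf [0, 3, 0, 3])) (.node (.leaf [2, 6, 9, 7, 1, 7, 6, 3]) (.leaf [0, 3, 0, 3])))))))))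 (.node (.node (.node (.node (.node (.node (.node (.node (.leaf [0, 8, 0, 9]) (.leaf [1, 7, 8, 3, 2, 9, 8, 7])) (.node (.leaf [0, 2, 0, 2, 0, 3, 2, 9]) (.leaf [0, 3, 0, 3]))) (.node (.node (.leaf [7, 6, 3, 6, 7, 3]) (.leaf [4, 5, 4, 5, 4, 5])) (.node (.leaf [1, 2, 1, 2, 7, 9, 2, 3]) (.leaf [0, 3, 0, 3])))) (.node (.node (.node (.leaf [1, 2, 1, 7, 1, 2]) (.leaf [2, 7, 8, 9, 1, 8, 9, 7])) (.node (.leaf [0, 7, 3, 8, 0, 9, 3, 7]) (.leaf [0, 3, 0, 3]))) (.node (.node (.leaf [7, 3, 8, 3, 8, 7, 6]) (.leaf [6, 4, 5, 3, 6, 5, 4])) (.node (.leaf [1, 3, 8, 1, 9, 7, 9, 7]) (.leaf [0, 3, 0, 3]))))) (.node (.node (.node (.node (.leaf [0, 2, 0, 2, 0, 2]) (.leaf [2, 6, 7, 9, 1, 8, 7, 6])) (.node (.leaf [0, 3, 8, 7, 0, 7, 9, 3]) (.leaf [0, 3, 0, 3]))) (.node (.node (.leaf [3, 8, 7, 3, 6, 7, 8]) (.leaf [0, 2, 1, 5, 1, 2, 0, 1, 5, 1])) (.node (.leaf [7, 9, 3, 7, 3, 1, 3, 1]) (.leaf [0, 3, 0, 3])))) (.node (.node (.node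 (.leaf [1, 7, 8, 2, 8, 7]) (.leaf [7, 8, 6, 9, 3, 7, 8, 9])) (.node (.leaf [1, 2, 1, 2, 3, 1, 7, 9]) (.leaf [0, 3, 0, 3]))) (.node (.node (.leaf [7, 6, 7, 8, 9, 8, 9]) (.leaf [1, 2, 6, 4, 5, 4, 2, 1, 4, 5, 4, 6])) (.node (.leaf [1, 6, 8, 7, 2, 7, 9, 6]) (.leaf [0, 3, 0, 3])))))) (.node (.node (.node (.node (.node (.leaf [3, 6, 8, 3, 8]) (.leaf [2, 9, 7, 9, 1, 8, 3, 7])) (.node (.leaf [0, 2, 0, 2, 0, 8, 2, 8]) (.leaf [0, 3, 0, 3]))) (.node (.node (.leaf [1, 3, 8, 3, 1, 6, 9]) (.leaf [7, 9, 4, 5, 9, 8, 5, 4, 8])) (.node (.leaf [1, 2, 3, 1, 2, 7, 8, 2]) (.leaf [0, 3, 0, 3])))) (.node (.node (.node (.leaf [7, 6, 1, 6, 7, 2]) (.leaf [8, 9, 7, 9, 3, 6, 8, 7])) (.node (.leaf [0, 8, 7, 8, 0, 9, 7, 9]) (.leaf [0, 3, 0, 3]))) (.node (.node (.leaf [9, 8, 7, 8, 9, 3, 7]) (.leaf [4, 5, 6, 4, 5, 4, 5, 3])) (.node (.leaf [1, 3, 9, 1, 8, 7, 9, 7]) (.leaf [0, 3, 0, 3]))))) (.node (.node (.node (.node (.leaf [0, 6,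 8, 0, 9, 6]) (.leaf [2, 3, 7, 9, 1, 8, 7, 9])) (.node (.leaf [0, 6, 7, 8, 0, 9, 7, 6]) (.leaf [0, 3, 0, 3]))) (.node (.node (.leaf [7, 3, 7, 8, 6, 3, 8]) (.leaf [3, 5, 3, 4, 6, 3, 4])) (.node (.leaf [1, 3, 7, 8, 2, 8, 9, 7]) (.leaf [0, 3, 0, 3])))) (.node (.node (.node (.leaf [2, 6, 3, 2, 6, 9]) (.leaf [3, 8, 7, 8, 6, 9, 7, 9])) (.node (.leaf [1, 2, 1, 2, 6, 7, 2, 6]) (.leaf [0, 3, 0, 3]))) (.node (.node (.leaf [9, 1, 8, 0, 1, 0, 1, 0]) (.leaf [0, 3, 0, 3])) (.node (.leaf [1, 7, 3, 9, 2, 3, 9, 7]) (.leaf [0, 3, 0, 3]))))))) (.node (.node (.node (.node (.node (.node (.leaf [2, 9, 2, 3]) (.leaf [1, 7, 8, 6, 2, 6, 8, 7])) (.node (.leaf [0, 2, 0, 2, 0, 6, 2, 6]) (.leaf [0, 3, 0, 3]))) (.node (.node (.leaf [9, 8, 3, 9, 3, 8]) (.leaf [6, 4, 5, 3, 5, 4, 3])) (.node (.leaf [1, 2, 1, 3, 2, 1, 8, 7]) (.leaf [0, 3, 0, 3])))) (.node (.node (.node (.leaf [1, 3, 7, 2, 9, 7]) (.leaf [2, 8, 9, 3, 2, 3, 8, 9])) (.node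 (.leaf [0, 7, 8, 9, 0, 8, 9, 7]) (.leaf [0, 3, 0, 3]))) (.node (.node (.leaf [3, 7, 8, 9, 7, 9, 8]) (.leaf [3, 4, 6, 5, 3, 4, 6, 5])) (.node (.leaf [1, 3, 8, 3, 1, 3, 9, 3]) (.leaf [0, 3, 0, 3]))))) (.node (.node (.node (.node (.leaf [8, 0, 9, 3, 0, 3]) (.leaf [2, 8, 7, 9, 1, 8, 7, 8])) (.node (.leaf [0, 3, 8, 9, 0, 8, 9, 3]) (.leaf [0, 3, 0, 3]))) (.node (.node (.leaf [7, 3, 6, 7, 9, 3, 9]) (.leaf [4, 6, 5, 4, 6, 5, 4, 6, 5])) (.node (.leaf [1, 3, 6, 7, 2, 9, 7, 6]) (.leaf [0, 3, 0, 3])))) (.node (.node (.node (.leaf [8, 1, 9, 7, 2, 7]) (.leaf [7, 9, 6, 8, 3, 7, 9, 8])) (.node (.leaf [1, 2, 1, 2, 3, 7, 2, 9]) (.leaf [0, 3, 0, 3]))) (.node (.node (.leaf [0, 1, 0, 1, 0, 7, 2, 7]) (.leaf [0, 3, 0, 3])) (.node (.leaf [1, 7, 3, 8, 2, 8, 9, 7]) (.leaf [0, 3, 0, 3])))))) (.node (.node (.node (.node (.node (.leaf [3, 9, 6, 3, 9]) (.leaf [2, 9, 7, 9, 1, 8, 7, 3])) (.node (.leaf [0, 3, 7, 8, 0, 9, 7, 3]) (.leaf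 [0, 3, 0, 3]))) (.node (.node (.leaf [9, 3, 1, 6, 8, 1, 3]) (.leaf [1, 2, 0, 1, 4, 1, 0, 2, 1, 4])) (.node (.leaf [1, 2, 7, 8, 7, 2, 1, 3]) (.leaf [0, 3, 0, 3])))) (.node (.node (.node (.leaf [3, 2, 9, 7, 1, 7]) (.leaf [9, 8, 7, 8, 3, 6, 9, 7])) (.node (.leaf [1, 2, 1, 2, 1, 3, 7, 3]) (.leaf [0, 3, 0, 3]))) (.node (.node (.leaf [8, 7, 9, 3, 8, 7, 9]) (.leaf [1, 2, 4, 5, 4, 6, 2, 1, 6, 4, 5, 4])) (.node (.leaf [1, 3, 9, 3, 1, 9, 8, 9]) (.leaf [0, 3, 0, 3]))))) (.node (.node (.node (.node (.leaf [9, 7, 0, 7, 8, 0]) (.leaf [2, 7, 3, 9, 1, 8, 7, 9])) (.node (.leaf [0, 6, 8, 7, 0, 7, 9, 6]) (.leaf [0, 3, 0, 3]))) (.node (.node (.leaf [7, 9, 6, 3, 9, 7, 3]) (.leaf [6, 5, 6, 3, 5, 6, 4])) (.node (.leaf [1, 3, 7, 9, 2, 3, 9, 7]) (.leaf [0, 3, 0, 3])))) (.node (.node (.node (.leaf [2, 3, 9, 2, 3, 9]) (.leaf [3, 9, 7, 9, 3, 9, 7, 9])) (.node (.leaf [1, 2, 1, 2, 7, 8, 2, 8]) (.leaf [0, 3, 0, 3]))) (.node (.node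 (.leaf [0, 1, 2, 1, 2, 1, 0, 7]) (.leaf [0, 3, 0, 3])) (.node (.leaf [1, 7, 6, 3, 2, 6, 9, 7]) (.leaf [0, 3, 0, 3])))))))) (.node (.node (.node (.node (.node (.node (.node (.leaf [2, 7, 1, 7]) (.leaf [7, 8, 9, 2, 3, 8, 7, 1])) (.node (.leaf [9, 2, 3, 0, 2, 0, 2, 0]) (.leaf [0, 3, 0, 3]))) (.node (.node (.leaf [3, 8, 9, 3, 9, 8]) (.leaf [4, 5, 3, 5, 4, 6, 3])) (.node (.leaf [3, 2, 9, 7, 2, 1, 2, 1]) (.leaf [0, 3, 0, 3])))) (.node (.node (.node (.leaf [7, 2, 1, 2, 1, 2]) (.leaf [7, 9, 8, 1, 9, 8, 7, 2])) (.node (.leaf [7, 3, 9, 0, 8, 3, 7, 0]) (.leaf [0, 3, 0, 3]))) (.node (.node (.leaf [9, 3, 7, 6, 7, 9, 3]) (.leaf [3, 4, 6, 4, 6, 4, 3, 6])) (.node (.leaf [7, 9, 7, 9, 1, 8, 3, 1]) (.leaf [0, 3, 0, 3]))))) (.node (.node (.node (.node (.leaf [0, 3, 7, 0, 7, 3]) (.leaf [6, 7, 8, 1, 9, 7, 6, 2])) (.node (.leaf [3, 9, 7, 0, 7, 8, 3, 0]) (.leaf [0, 3, 0, 3]))) (.node (.node (.leaf [6, 3, 7, 8, 3, 8, 7]) (.leaf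 [6, 5, 6, 5, 6, 5, 6, 5, 6, 5])) (.node (.leaf [1, 3, 1, 6, 7, 9, 7, 6]) (.leaf [0, 3, 0, 3])))) (.node (.node (.node (.leaf [7, 2, 7, 9, 1, 8]) (.leaf [9, 8, 7, 3, 9, 6, 8, 7])) (.node (.leaf [9, 7, 1, 3, 2, 1, 2, 1]) (.leaf [0, 3, 0, 3]))) (.node (.node (.leaf [0, 1, 0, 1, 0, 6, 1, 6]) (.leaf [0, 3, 0, 3])) (.node (.leaf [6, 9, 7, 2, 7, 8, 6, 1]) (.leaf [0, 3, 0, 3])))))) (.node (.node (.node (.node (.node (.leaf [6, 3, 8, 3, 8]) (.leaf [7, 3, 8, 1, 9, 7, 9, 2])) (.node (.leaf [0, 3, 6, 7, 0, 7, 6, 3]) (.leaf [0, 3, 0, 3]))) (.node (.node (.leaf [6, 1, 3, 8, 3, 1, 9]) (.leaf [0, 4, 0, 4])) (.node (.leaf [2, 8, 7, 2, 1, 3, 2, 1]) (.leaf [0, 3, 0, 3])))) (.node (.node (.node (.leaf [6, 9, 1, 8, 6, 1]) (.leaf [7, 8, 6, 3, 9, 7, 9, 8])) (.node (.leaf [0, 8, 7, 9, 0, 8, 7, 9]) (.leaf [0, 3, 0, 3]))) (.node (.node (.leaf [8, 9, 7, 3, 9, 8, 7]) (.leaf [3, 5, 6, 3, 6, 5, 3, 5])) (.node (.leaf [7, 9, 7, 8,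 1, 9, 3, 1]) (.leaf [0, 3, 0, 3]))))) (.node (.node (.node (.node (.leaf [0, 8, 6, 0, 6, 9]) (.leaf [9, 7, 8, 1, 9, 7, 3, 2])) (.node (.leaf [6, 7, 9, 0, 8, 7, 6, 0]) (.leaf [0, 3, 0, 3]))) (.node (.node (.leaf [9, 7, 3, 7, 9, 3, 6]) (.leaf [5, 3, 4, 3, 6, 4, 3])) (.node (.leaf [7, 9, 8, 2, 8, 7, 3, 1]) (.leaf [0, 3, 0, 3])))) (.node (.node (.node (.leaf [8, 9, 2, 3, 8, 2]) (.leaf [9, 7, 9, 6, 8, 7, 8, 3])) (.node (.leaf [6, 2, 7, 6, 2, 1, 2, 1]) (.leaf [0, 3, 0, 3]))) (.node (.node (.leaf [0, 1, 0, 1, 3, 0, 3, 1]) (.leaf [0, 3, 0, 3])) (.node (.leaf [7, 9, 3, 2, 9, 3, 7, 1]) (.leaf [0, 3, 0, 3]))))))) (.node (.node (.node (.node (.node (.node (.leaf [3, 7, 3, 7]) (.leaf [1, 7, 8, 7, 1, 7, 8, 7])) (.node (.leaf [0, 2, 0, 2, 0, 7, 1, 7]) (.leaf [0, 3, 0, 3]))) (.node (.node (.leaf [8, 7, 6, 7, 8, 6]) (.leaf [8, 9, 5, 4, 9, 7, 8, 4, 5])) (.node (.leaf [7, 8, 1, 2, 3, 1, 2, 1]) (.leaf [0, 3, 0, 3]))))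 (.node (.node (.node (.leaf [2, 7, 3, 1, 7, 9]) (.leaf [9, 8, 3, 2, 3, 9, 8, 2])) (.node (.leaf [7, 9, 8, 0, 9, 8, 7, 0]) (.leaf [0, 3, 0, 3]))) (.node (.node (.leaf [9, 7, 9, 8, 7, 3, 8]) (.leaf [3, 5, 4, 5, 4, 6, 5, 4])) (.node (.leaf [1, 3, 8, 3, 1, 8, 9, 8]) (.leaf [0, 3, 0, 3]))))) (.node (.node (.node (.node (.leaf [3, 0, 3, 9, 0, 8]) (.leaf [8, 7, 8, 1, 9, 7, 8, 2])) (.node (.leaf [3, 9, 8, 0, 9, 8, 3, 0]) (.leaf [0, 3, 0, 3]))) (.node (.node (.leaf [3, 6, 8, 7, 3, 7, 8]) (.leaf [6, 5, 3, 6, 5, 3, 6, 5, 3, 6, 5, 3, 6, 5, 3])) (.node (.leaf [6, 7, 9, 2, 7, 6, 3, 1]) (.leaf [0, 3, 0, 3])))) (.node (.node (.node (.leaf [2, 3, 6, 2, 9, 6]) (.leaf [8, 9, 7, 3, 8, 6, 9, 7])) (.node (.leaf [9, 2, 7, 3, 2, 1, 2, 1]) (.leaf [0, 3, 0, 3]))) (.node (.node (.leaf [0, 1, 0, 1, 0, 8, 1, 9]) (.leaf [0, 3, 0, 3])) (.node (.leaf [7, 9, 8, 2, 8, 3, 7, 1]) (.leaf [0, 3, 0, 3])))))) (.node (.node (.node (.node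 (.node (.leaf [9, 6, 8, 9, 8]) (.leaf [3, 7, 8, 1, 9, 7, 9, 2])) (.node (.leaf [3, 7, 9, 0, 8, 7, 3, 0]) (.leaf [0, 3, 0, 3]))) (.node (.node (.leaf [3, 9, 3, 1, 8, 6, 1]) (.leaf [1, 4, 1, 2, 0, 1, 4, 1, 0, 2])) (.node (.leaf [1, 3, 1, 3, 7, 3, 9, 7]) (.leaf [0, 3, 0, 3])))) (.node (.node (.node (.leaf [7, 1, 7, 9, 2, 3]) (.leaf [7, 9, 6, 3, 8, 7, 8, 9])) (.node (.leaf [1, 2, 1, 2, 1, 6, 7, 6]) (.leaf [0, 3, 0, 3]))) (.node (.node (.leaf [8, 3, 9, 7, 8, 9, 7]) (.leaf [6, 4, 5, 4, 1, 2, 4, 5, 4, 6, 2, 1])) (.node (.leaf [1, 6, 7, 8, 2, 8, 7, 6]) (.leaf [0, 3, 0, 3]))))) (.node (.node (.node (.node (.leaf [0, 8, 9, 0, 8, 9]) (.leaf [9, 7, 8, 1, 9, 3, 7, 2])) (.node (.leaf [6, 9, 7, 0, 7, 8, 6, 0]) (.leaf [0, 3, 0, 3]))) (.node (.node (.leaf [8, 3, 8, 3, 7, 6, 7]) (.leaf [5, 3, 6, 5, 6, 4, 6])) (.node (.leaf [7, 9, 3, 2, 9, 7, 3, 1]) (.leaf [0, 3, 0, 3])))) (.node (.node (.node (.leaf [8, 2, 8, 6, 2,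 6]) (.leaf [6, 8, 7, 9, 6, 9, 7, 8])) (.node (.leaf [8, 2, 8, 7, 2, 1, 2, 1]) (.leaf [0, 3, 0, 3]))) (.node (.node (.leaf [0, 1, 3, 1, 0, 7, 8, 7]) (.leaf [0, 3, 0, 3])) (.node (.leaf [7, 9, 6, 2, 3, 6, 7, 1]) (.leaf [0, 3, 0, 3]))))))))))) (.node (.node (.node (.node (.node (.node (.node (.node (.node (.node (.leaf [3, 0, 3, 0]) (.leaf [2, 3, 6, 7, 1, 7, 9, 6])) (.node (.leaf [1, 0, 7, 8, 7, 0, 1, 3]) (.leaf [0, 3, 0, 3]))) (.node (.node (.leaf [6, 2, 6, 8, 2, 8]) (.leaf [9, 6, 9, 7, 8, 6, 8, 7])) (.node (.leaf [7, 2, 1, 2, 1, 8, 2, 8]) (.leaf [0, 3, 0, 3])))) (.node (.node (.node (.leaf [9, 8, 0, 9, 8, 0]) (.leaf [1, 9, 3, 7, 2, 9, 7, 8])) (.node (.leaf [0, 7, 8, 6, 0, 6, 9, 7]) (.leaf [0, 3, 0, 3]))) (.node (.node (.leaf [8, 3, 8, 7, 6, 7, 3]) (.leaf [5, 3, 6, 5, 4, 6, 4])) (.node (.leaf [2, 9, 7, 3, 1, 7, 9, 3]) (.leaf [0, 3, 0, 3]))))) (.node (.node (.node (.node (.leaf [9, 8, 6, 9, 8]) (.leaf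 [1, 9, 7, 9, 2, 3, 7, 8])) (.node (.leaf [0, 8, 7, 3, 0, 3, 7, 9]) (.leaf [0, 3, 0, 3]))) (.node (.node (.leaf [1, 8, 6, 1, 3, 9, 3]) (.leaf [2, 0, 1, 5, 1, 0, 2, 1, 5, 1])) (.node (.leaf [3, 7, 3, 9, 7, 1, 3, 1]) (.leaf [0, 3, 0, 3])))) (.node (.node (.node (.leaf [7, 6, 2, 6, 7, 1]) (.leaf [3, 8, 7, 8, 9, 7, 9, 6])) (.node (.leaf [2, 1, 6, 7, 6, 1, 2, 1]) (.leaf [0, 3, 0, 3]))) (.node (.node (.leaf [7, 8, 9, 8, 9, 7, 6]) (.leaf [4, 1, 2, 4, 5, 4, 6, 2, 1, 6, 4, 5])) (.node (.leaf [8, 2, 8, 7, 6, 1, 6, 7]) (.leaf [0, 3, 0, 3])))))) (.node (.node (.node (.node (.node (.leaf [7, 6, 7, 6]) (.leaf [7, 1, 7, 8, 7, 1, 7, 8])) (.node (.leaf [2, 0, 7, 1, 7, 0, 2, 0]) (.leaf [0, 3, 0, 3]))) (.node (.node (.leaf [7, 9, 6, 9, 7, 6]) (.leaf [4, 9, 7, 8, 4, 5, 8, 9, 5])) (.node (.leaf [2, 3, 1, 2, 1, 7, 8, 1]) (.leaf [0, 3, 0, 3])))) (.node (.node (.node (.leaf [1, 7, 9, 2, 7, 3]) (.leaf [2, 3, 9, 8, 2, 9, 8,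 3])) (.node (.leaf [0, 9, 8, 7, 0, 7, 9, 8]) (.leaf [0, 3, 0, 3]))) (.node (.node (.leaf [8, 7, 3, 8, 9, 7, 9]) (.leaf [5, 4, 6, 5, 4, 3, 5, 4])) (.node (.leaf [3, 1, 8, 9, 8, 1, 3, 8]) (.leaf [0, 3, 0, 3]))))) (.node (.node (.node (.node (.leaf [6, 7, 0, 7, 6, 0]) (.leaf [1, 9, 7, 8, 2, 8, 7, 8])) (.node (.leaf [0, 9, 8, 3, 0, 3, 9, 8]) (.leaf [0, 3, 0, 3]))) (.node (.node (.leaf [7, 3, 7, 8, 3, 6, 8]) (.leaf [3, 5, 6, 3, 5, 6, 3, 5, 6, 3, 5, 6, 3, 5, 6])) (.node (.leaf [2, 7, 6, 3, 1, 6, 7, 9]) (.leaf [0, 3, 0, 3])))) (.node (.node (.node (.leaf [2, 9, 6, 2, 3, 6]) (.leaf [3, 8, 6, 9, 7, 8, 9, 7])) (.node (.leaf [3, 2, 1, 2, 1, 9, 2, 7]) (.leaf [0, 3, 0, 3]))) (.node (.node (.leaf [1, 0, 8, 1, 9, 0, 1, 0]) (.leaf [0, 3, 0, 3])) (.node (.leaf [2, 8, 3, 7, 1, 7, 9, 8]) (.leaf [0, 3, 0, 3]))))))) (.node (.node (.node (.node (.node (.node (.leaf [8, 1, 9, 1]) (.leaf [2, 3, 8, 7, 1, 7, 8, 9])) (.node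 (.leaf [0, 2, 0, 2, 0, 9, 2, 3]) (.leaf [0, 3, 0, 3]))) (.node (.node (.leaf [3, 9, 8, 3, 8, 9]) (.leaf [5, 4, 6, 3, 4, 5, 3])) (.node (.leaf [7, 2, 1, 2, 1, 3, 2, 9]) (.leaf [0, 3, 0, 3])))) (.node (.node (.node (.leaf [3, 1, 7, 9, 7, 1]) (.leaf [1, 9, 8, 7, 2, 7, 9, 8])) (.node (.leaf [0, 8, 3, 7, 0, 7, 3, 9]) (.leaf [0, 3, 0, 3]))) (.node (.node (.leaf [9, 7, 6, 7, 3, 9, 3]) (.leaf [4, 6, 4, 3, 6, 3, 4, 6])) (.node (.leaf [9, 1, 8, 3, 1, 7, 9, 7]) (.leaf [0, 3, 0, 3]))))) (.node (.node (.node (.node (.leaf [0, 7, 3, 0, 3, 7]) (.leaf [1, 9, 7, 6, 2, 6, 7, 8])) (.node (.leaf [0, 7, 8, 3, 0, 3, 9, 7]) (.leaf [0, 3, 0, 3]))) (.node (.node (.leaf [6, 7, 9, 3, 9, 7, 3]) (.leaf [5, 3, 5, 3, 5, 3])) (.node (.leaf [6, 7, 9, 7, 6, 1, 3, 1]) (.leaf [0, 3, 0, 3])))) (.node (.node (.node (.leaf [9, 1, 8, 7, 2, 7]) (.leaf [3, 9, 6, 8, 7, 9, 8, 7])) (.node (.leaf [3, 2, 1, 2, 1, 9, 7, 1]) (.leaf [0, 3, 0, 3])))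 (.node (.node (.leaf [1, 0, 6, 1, 6, 0, 1, 0]) (.leaf [0, 3, 0, 3])) (.node (.leaf [2, 7, 8, 6, 1, 6, 9, 7]) (.leaf [0, 3, 0, 3])))))) (.node (.node (.node (.node (.node (.leaf [6, 9, 3, 9, 3]) (.leaf [1, 9, 7, 9, 2, 7, 3, 8])) (.node (.leaf [7, 0, 7, 6, 3, 0, 3, 6]) (.leaf [0, 3, 0, 3]))) (.node (.node (.leaf [8, 3, 1, 9, 6, 1, 3]) (.leaf [5, 0, 5, 0])) (.node (.leaf [2, 1, 3, 2, 1, 2, 8, 7]) (.leaf [0, 3, 0, 3])))) (.node (.node (.node (.leaf [8, 6, 1, 6, 9, 1]) (.leaf [3, 9, 7, 9, 8, 7, 8, 6])) (.node (.leaf [9, 0, 8, 7, 9, 0, 8, 7]) (.leaf [0, 3, 0, 3]))) (.node (.node (.leaf [3, 9, 8, 7, 8, 9, 7]) (.leaf [3, 6, 5, 3, 5, 3, 5, 6])) (.node (.leaf [8, 1, 9, 3, 1, 7, 9, 7]) (.leaf [0, 3, 0, 3]))))) (.node (.node (.node (.node (.leaf [0, 6, 9, 0, 8, 6]) (.leaf [1, 9, 7, 3, 2, 9, 7, 8])) (.node (.leaf [0, 8, 7, 6, 0, 6, 7, 9]) (.leaf [0, 3, 0, 3]))) (.node (.node (.leaf [7, 9, 3, 6, 9, 7, 3]) (.leaf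 [3, 6, 4, 3, 5, 3, 4])) (.node (.leaf [2, 8, 7, 3, 1, 7, 9, 8]) (.leaf [0, 3, 0, 3])))) (.node (.node (.node (.leaf [8, 2, 8, 3, 2, 9]) (.leaf [6, 8, 7, 8, 3, 9, 7, 9])) (.node (.leaf [6, 2, 1, 2, 1, 6, 2, 7]) (.leaf [0, 3, 0, 3]))) (.node (.node (.leaf [1, 3, 0, 3, 1, 0, 1, 0]) (.leaf [0, 3, 0, 3])) (.node (.leaf [2, 9, 3, 7, 1, 7, 9, 3]) (.leaf [0, 3, 0, 3])))))))) (.node (.node (.node (.node (.node (.node (.node (.leaf [9, 0, 8, 0]) (.leaf [3, 2, 9, 8, 7, 1, 7, 8])) (.node (.leaf [2, 0, 3, 2, 9, 0, 2, 0]) (.leaf [0, 3, 0, 3]))) (.node (.node (.leaf [8, 3, 9, 8, 9, 3]) (.leaf [5, 6, 5, 4, 3, 4])) (.node (.leaf [2, 7, 9, 2, 3, 1, 2, 1]) (.leaf [0, 3, 0, 3])))) (.node (.node (.node (.leaf [7, 1, 2, 1, 2, 1]) (.leaf [9, 1, 8, 9, 7, 2, 7, 8])) (.node (.leaf [8, 0, 9, 3, 7, 0, 7, 3]) (.leaf [0, 3, 0, 3]))) (.node (.node (.leaf [7, 6, 7, 9, 3, 9, 3]) (.leaf [5, 6, 3, 5, 4, 6, 4])) (.node (.leaf [1, 9,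 7, 9, 7, 1, 3, 8]) (.leaf [0, 3, 0, 3]))))) (.node (.node (.node (.node (.leaf [3, 6, 0, 6, 3, 0]) (.leaf [9, 1, 8, 7, 6, 2, 6, 7])) (.node (.leaf [7, 0, 7, 9, 3, 0, 3, 8]) (.leaf [0, 3, 0, 3]))) (.node (.node (.leaf [7, 8, 3, 8, 7, 6, 3]) (.leaf [5, 1, 2, 0, 1, 5, 1, 0, 2, 1])) (.node (.leaf [7, 3, 1, 3, 1, 7, 9, 3]) (.leaf [0, 3, 0, 3])))) (.node (.node (.node (.leaf [2, 8, 7, 1, 7, 8]) (.leaf [9, 3, 7, 8, 9, 7, 8, 6])) (.node (.leaf [2, 3, 1, 7, 9, 1, 2, 1]) (.leaf [0, 3, 0, 3]))) (.node (.node (.leaf [8, 9, 8, 7, 6, 7, 9]) (.leaf [4, 5, 4, 2, 1, 4, 5, 4, 6, 1, 2, 6])) (.node (.leaf [7, 2, 7, 9, 6, 1, 6, 8]) (.leaf [0, 3, 0, 3])))))) (.node (.node (.node (.node (.node (.leaf [3, 8, 3, 6, 8]) (.leaf [9, 1, 8, 3, 7, 2, 9, 7])) (.node (.leaf [2, 0, 8, 2, 8, 0, 2, 0]) (.leaf [0, 3, 0, 3]))) (.node (.node (.leaf [3, 1, 6, 9, 1, 3, 8]) (.leaf [5, 9, 8, 5, 4, 8, 7, 9, 4])) (.node (.leaf [1, 2, 7, 8, 2,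 1, 2, 3]) (.leaf [0, 3, 0, 3])))) (.node (.node (.node (.leaf [6, 8, 1, 9, 6, 1]) (.leaf [9, 3, 6, 8, 7, 8, 9, 7])) (.node (.leaf [8, 0, 9, 7, 9, 0, 8, 7]) (.leaf [0, 3, 0, 3]))) (.node (.node (.leaf [8, 9, 3, 7, 9, 8, 7]) (.leaf [4, 5, 4, 5, 3, 4, 5, 6])) (.node (.leaf [1, 8, 7, 9, 7, 1, 3, 9]) (.leaf [0, 3, 0, 3]))))) (.node (.node (.node (.node (.leaf [0, 9, 6, 0, 6, 8]) (.leaf [9, 1, 8, 7, 9, 2, 3, 7])) (.node (.leaf [8, 0, 9, 7, 6, 0, 6, 7]) (.leaf [0, 3, 0, 3]))) (.node (.node (.leaf [8, 6, 3, 8, 7, 3, 7]) (.leaf [4, 6, 3, 4, 3, 5, 3])) (.node (.leaf [8, 2, 8, 9, 7, 1, 3, 7]) (.leaf [0, 3, 0, 3])))) (.node (.node (.node (.leaf [2, 6, 9, 2, 6, 3]) (.leaf [8, 6, 9, 7, 9, 3, 8, 7])) (.node (.leaf [2, 6, 7, 2, 6, 1, 2, 1]) (.leaf [0, 3, 0, 3]))) (.node (.node (.leaf [0, 1, 0, 1, 0, 9, 1, 8]) (.leaf [0, 3, 0, 3])) (.node (.leaf [9, 2, 3, 9, 7, 1, 7, 3]) (.leaf [0, 3, 0, 3]))))))) (.node (.node (.node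 (.node (.node (.node (.leaf [6, 2, 6, 2]) (.leaf [6, 2, 6, 8, 7, 1, 7, 8])) (.node (.leaf [2, 0, 6, 2, 6, 0, 2, 0]) (.leaf [0, 3, 0, 3]))) (.node (.node (.leaf [9, 3, 8, 9, 8, 3]) (.leaf [3, 5, 4, 3, 6, 4, 5])) (.node (.leaf [3, 2, 1, 8, 7, 1, 2, 1]) (.leaf [0, 3, 0, 3])))) (.node (.node (.node (.leaf [2, 9, 7, 1, 3, 7]) (.leaf [3, 2, 3, 8, 9, 2, 8, 9])) (.node (.leaf [9, 0, 8, 9, 7, 0, 7, 8]) (.leaf [0, 3, 0, 3]))) (.node (.node (.leaf [9, 7, 9, 8, 3, 7, 8]) (.leaf [5, 3, 4, 6, 5, 3, 4, 6])) (.node (.leaf [3, 1, 3, 9, 3, 1, 3, 8]) (.leaf [0, 3, 0, 3]))))) (.node (.node (.node (.node (.leaf [3, 0, 3, 8, 0, 9]) (.leaf [9, 1, 8, 7, 8, 2, 8, 7])) (.node (.leaf [9, 0, 8, 9, 3, 0, 3, 8]) (.leaf [0, 3, 0, 3]))) (.node (.node (.leaf [3, 9, 7, 6, 3, 7, 9]) (.leaf [4, 3, 6, 4, 3, 6, 4, 3, 6, 4, 3, 6, 4, 3, 6])) (.node (.leaf [7, 2, 9, 7, 6, 1, 3, 6]) (.leaf [0, 3, 0, 3])))) (.node (.node (.node (.leaf [8, 9,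 1, 8, 9, 1]) (.leaf [8, 3, 7, 9, 8, 7, 9, 6])) (.node (.leaf [2, 3, 7, 2, 9, 1, 2, 1]) (.leaf [0, 3, 0, 3]))) (.node (.node (.leaf [1, 0, 7, 2, 7, 0, 1, 0]) (.leaf [0, 3, 0, 3])) (.node (.leaf [8, 2, 8, 9, 7, 1, 7, 3]) (.leaf [0, 3, 0, 3])))))) (.node (.node (.node (.node (.node (.leaf [3, 9, 3, 9, 6]) (.leaf [9, 1, 8, 7, 3, 2, 9, 7])) (.node (.leaf [8, 0, 9, 7, 3, 0, 3, 7]) (.leaf [0, 3, 0, 3]))) (.node (.node (.leaf [6, 8, 1, 3, 9, 3, 1]) (.leaf [1, 4, 1, 0, 2, 1, 4, 1, 2, 0])) (.node (.leaf [8, 7, 2, 1, 3, 1, 2, 7]) (.leaf [0, 3, 0, 3])))) (.node (.node (.node (.leaf [7, 1, 7, 3, 2, 9]) (.leaf [8, 3, 6, 9, 7, 9, 8, 7])) (.node (.leaf [2, 1, 3, 7, 3, 1, 2, 1]) (.leaf [0, 3, 0, 3]))) (.node (.node (.leaf [9, 7, 8, 9, 7, 8, 3]) (.leaf [5, 4, 6, 2, 1, 6, 4, 5, 4, 1, 2, 4])) (.node (.leaf [3, 1, 9, 8, 9, 1, 3, 9]) (.leaf [0, 3, 0, 3]))))) (.node (.node (.node (.node (.leaf [9, 0, 8, 7, 0, 7]) (.leaf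 [9, 1, 8, 7, 9, 2, 7, 3])) (.node (.leaf [7, 0, 7, 9, 6, 0, 6, 8]) (.leaf [0, 3, 0, 3]))) (.node (.node (.leaf [3, 9, 7, 3, 7, 9, 6]) (.leaf [6, 5, 6, 4, 6, 5, 3])) (.node (.leaf [9, 2, 3, 9, 7, 1, 3, 7]) (.leaf [0, 3, 0, 3])))) (.node (.node (.node (.leaf [9, 3, 2, 9, 3, 2]) (.leaf [9, 3, 9, 7, 9, 3, 9, 7])) (.node (.leaf [2, 7, 8, 2, 8, 1, 2, 1]) (.leaf [0, 3, 0, 3]))) (.node (.node (.leaf [1, 2, 1, 0, 7, 0, 1, 2]) (.leaf [0, 3, 0, 3])) (.node (.leaf [3, 2, 6, 9, 7, 1, 7, 6]) (.leaf [0, 3, 0, 3]))))))))) (.node (.node (.node (.node (.node (.node (.node (.node (.leaf [7, 0, 7, 0]) (.leaf [1, 7, 9, 6, 2, 3, 6, 7])) (.node (.leaf [7, 0, 1, 3, 1, 0, 7, 8]) (.leaf [0, 3, 0, 3]))) (.node (.node (.leaf [3, 7, 6, 3, 6, 7]) (.leaf [8, 6, 8, 7, 9, 6, 9, 7])) (.node (.leaf [1, 8, 2, 8, 7, 2, 1, 2]) (.leaf [0, 3, 0, 3])))) (.node (.node (.node (.leaf [2, 1, 2, 1, 7, 1]) (.leaf [7, 2, 7, 8, 9, 1, 8, 9])) (.node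 (.leaf [0, 6, 9, 7, 0, 7, 8, 6]) (.leaf [0, 3, 0, 3]))) (.node (.node (.leaf [6, 7, 3, 8, 3, 8, 7]) (.leaf [4, 6, 4, 5, 3, 6, 5])) (.node (.leaf [1, 7, 9, 3, 2, 9, 7, 3]) (.leaf [0, 3, 0, 3]))))) (.node (.node (.node (.node (.leaf [1, 0, 1, 0, 1, 0]) (.leaf [6, 2, 6, 7, 9, 1, 8, 7])) (.node (.leaf [0, 3, 7, 9, 0, 8, 7, 3]) (.leaf [0, 3, 0, 3]))) (.node (.node (.leaf [8, 3, 8, 7, 3, 6, 7]) (.leaf [1, 0, 2, 1, 5, 1, 2, 0, 1, 5])) (.node (.leaf [7, 1, 3, 1, 3, 7, 3, 9]) (.leaf [0, 3, 0, 3])))) (.node (.node (.node (.leaf [7, 1, 7, 6, 2, 6]) (.leaf [9, 7, 8, 6, 9, 3, 7, 8])) (.node (.leaf [6, 1, 2, 1, 2, 1, 6, 7]) (.leaf [0, 3, 0, 3]))) (.node (.node (.leaf [9, 7, 6, 7, 8, 9, 8]) (.leaf [6, 1, 2, 6, 4, 5, 4, 2, 1, 4, 5, 4])) (.node (.leaf [6, 1, 6, 7, 8, 2, 8, 7]) (.leaf [0, 3, 0, 3])))))) (.node (.node (.node (.node (.node (.leaf [9, 6, 9, 6]) (.leaf [7, 2, 9, 7, 9, 1, 8, 3])) (.node (.leaf [7, 0, 2,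 0, 2, 0, 7, 1]) (.leaf [0, 3, 0, 3]))) (.node (.node (.leaf [7, 6, 7, 9, 6, 9]) (.leaf [8, 7, 9, 4, 5, 9, 8, 5, 4])) (.node (.leaf [1, 7, 8, 1, 2, 3, 1, 2]) (.leaf [0, 3, 0, 3])))) (.node (.node (.node (.leaf [2, 7, 6, 1, 6, 7]) (.leaf [7, 8, 9, 7, 9, 3, 6, 8])) (.node (.leaf [0, 7, 9, 8, 0, 9, 8, 7]) (.leaf [0, 3, 0, 3]))) (.node (.node (.leaf [7, 9, 8, 7, 8, 9, 3]) (.leaf [4, 3, 5, 4, 5, 4, 6, 5])) (.node (.leaf [8, 1, 3, 8, 3, 1, 8, 9]) (.leaf [0, 3, 0, 3]))))) (.node (.node (.node (.node (.leaf [6, 0, 6, 7, 0, 7]) (.leaf [9, 2, 3, 7, 9, 1, 8, 7])) (.node (.leaf [0, 3, 9, 8, 0, 9, 8, 3]) (.leaf [0, 3, 0, 3]))) (.node (.node (.leaf [8, 7, 3, 7, 8, 6, 3]) (.leaf [4, 3, 5, 3, 4, 6, 3])) (.node (.leaf [1, 6, 7, 9, 2, 7, 6, 3]) (.leaf [0, 3, 0, 3])))) (.node (.node (.node (.leaf [9, 2, 6, 3, 2, 6]) (.leaf [8, 3, 8, 7, 8, 3, 8, 7])) (.node (.leaf [1, 9, 2, 7, 3, 2, 1, 2]) (.leaf [0, 3, 0, 3]))) (.node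 (.node (.leaf [9, 0, 1, 0, 1, 0, 8, 1]) (.leaf [0, 3, 0, 3])) (.node (.leaf [1, 7, 9, 8, 2, 8, 3, 7]) (.leaf [0, 3, 0, 3]))))))) (.node (.node (.node (.node (.node (.node (.leaf [3, 2, 9, 2]) (.leaf [1, 7, 8, 9, 2, 3, 8, 7])) (.node (.leaf [0, 9, 2, 3, 0, 2, 0, 2]) (.leaf [0, 3, 0, 3]))) (.node (.node (.leaf [8, 9, 8, 3, 9, 3]) (.leaf [3, 6, 4, 5, 3, 5, 4])) (.node (.leaf [1, 3, 2, 9, 7, 2, 1, 2]) (.leaf [0, 3, 0, 3])))) (.node (.node (.node (.leaf [7, 1, 3, 1, 7, 9]) (.leaf [9, 2, 8, 9, 3, 2, 3, 8])) (.node (.leaf [0, 7, 3, 9, 0, 8, 3, 7]) (.leaf [0, 3, 0, 3]))) (.node (.node (.leaf [3, 9, 3, 9, 7, 6, 7]) (.leaf [6, 3, 4, 6, 4, 6, 4, 3])) (.node (.leaf [1, 7, 9, 7, 9, 1, 8, 3]) (.leaf [0, 3, 0, 3]))))) (.node (.node (.node (.node (.leaf [3, 8, 0, 9, 3, 0]) (.leaf [8, 2, 8, 7, 9, 1, 8, 7])) (.node (.leaf [0, 3, 9, 7, 0, 7, 8, 3]) (.leaf [0, 3, 0, 3]))) (.node (.node (.leaf [9, 7, 3, 6, 7, 9, 3]) (.leaf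 [5, 4, 6, 5, 4, 6, 5, 4, 6])) (.node (.leaf [6, 1, 3, 1, 6, 7, 9, 7]) (.leaf [0, 3, 0, 3])))) (.node (.node (.node (.leaf [7, 8, 1, 9, 7, 2]) (.leaf [8, 7, 9, 6, 8, 3, 7, 9])) (.node (.leaf [1, 9, 7, 1, 3, 2, 1, 2]) (.leaf [0, 3, 0, 3]))) (.node (.node (.leaf [6, 0, 1, 0, 1, 0, 6, 1]) (.leaf [0, 3, 0, 3])) (.node (.leaf [1, 6, 9, 7, 2, 7, 8, 6]) (.leaf [0, 3, 0, 3])))))) (.node (.node (.node (.node (.node (.leaf [9, 3, 9, 6, 3]) (.leaf [3, 2, 9, 7, 9, 1, 8, 7])) (.node (.leaf [3, 0, 3, 6, 7, 0, 7, 6]) (.leaf [0, 3, 0, 3]))) (.node (.node (.leaf [3, 9, 3, 1, 6, 8, 1]) (.leaf [5, 7, 5, 7])) (.node (.leaf [1, 2, 8, 7, 2, 1, 3, 2]) (.leaf [0, 3, 0, 3])))) (.node (.node (.node (.leaf [7, 3, 2, 9, 7, 1]) (.leaf [7, 9, 8, 7, 8, 3, 6, 9])) (.node (.leaf [0, 9, 7, 8, 0, 9, 7, 8]) (.leaf [0, 3, 0, 3]))) (.node (.node (.leaf [9, 8, 7, 9, 3, 8, 7]) (.leaf [5, 3, 5, 6, 3, 6, 5, 3])) (.node (.leaf [1, 7, 9, 7, 8,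 1, 9, 3]) (.leaf [0, 3, 0, 3]))))) (.node (.node (.node (.node (.leaf [0, 9, 7, 0, 7, 8]) (.leaf [9, 2, 7, 3, 9, 1, 8, 7])) (.node (.leaf [0, 6, 7, 9, 0, 8, 7, 6]) (.leaf [0, 3, 0, 3]))) (.node (.node (.leaf [3, 7, 9, 6, 3, 9, 7]) (.leaf [4, 6, 5, 6, 3, 5, 6])) (.node (.leaf [1, 7, 9, 8, 2, 8, 7, 3]) (.leaf [0, 3, 0, 3])))) (.node (.node (.node (.leaf [2, 9, 8, 2, 8, 3]) (.leaf [3, 9, 7, 9, 6, 8, 7, 8])) (.node (.leaf [1, 6, 2, 7, 6, 2, 1, 2]) (.leaf [0, 3, 0, 3]))) (.node (.node (.leaf [1, 0, 1, 0, 1, 3, 0, 3]) (.leaf [0, 3, 0, 3])) (.node (.leaf [1, 7, 9, 3, 2, 9, 3, 7]) (.leaf [0, 3, 0, 3])))))))) (.node (.node (.node (.node (.node (.node (.node (.leaf [7, 2, 7, 1]) (.leaf [7, 1, 7, 8, 3, 2, 9, 8])) (.node (.leaf [9, 0, 2, 0, 2, 0, 3, 2]) (.leaf [0, 3, 0, 3]))) (.node (.node (.leaf [9, 3, 8, 3, 9, 8]) (.leaf [3, 4, 5, 6, 5, 4])) (.node (.leaf [3, 1, 2, 1, 2, 7, 9, 2]) (.leaf [0, 3, 0, 3])))) (.node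 (.node (.node (.leaf [2, 7, 2, 1, 2, 1]) (.leaf [2, 7, 9, 8, 1, 9, 8, 7])) (.node (.leaf [7, 0, 7, 3, 8, 0, 9, 3]) (.leaf [0, 3, 0, 3]))) (.node (.node (.leaf [3, 9, 3, 7, 6, 7, 9]) (.leaf [4, 6, 4, 5, 6, 3, 5])) (.node (.leaf [7, 1, 3, 8, 1, 9, 7, 9]) (.leaf [0, 3, 0, 3]))))) (.node (.node (.node (.node (.leaf [3, 0, 3, 6, 0, 6]) (.leaf [2, 6, 7, 8, 1, 9, 7, 6])) (.node (.leaf [3, 0, 3, 8, 7, 0, 7, 9]) (.leaf [0, 3, 0, 3]))) (.node (.node (.leaf [7, 6, 3, 7, 8, 3, 8]) (.leaf [4, 3, 4, 3, 4, 3, 4, 3, 4, 3])) (.node (.leaf [1, 7, 9, 3, 7, 3, 1, 3]) (.leaf [0, 3, 0, 3])))) (.node (.node (.node (.leaf [8, 7, 2, 7, 9, 1]) (.leaf [7, 9, 8, 7, 3, 9, 6, 8])) (.node (.leaf [9, 1, 2, 1, 2, 3, 1, 7]) (.leaf [0, 3, 0, 3]))) (.node (.node (.leaf [6, 7, 9, 8, 9, 8, 7]) (.leaf [1, 4, 5, 4, 6, 1, 2, 6, 4, 5, 4, 2])) (.node (.leaf [6, 1, 6, 8, 7, 2, 7, 9]) (.leaf [0, 3, 0, 3])))))) (.node (.node (.node (.node (.node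 (.leaf [8, 6, 3, 8, 3]) (.leaf [2, 7, 3, 8, 1, 9, 7, 9])) (.node (.leaf [8, 0, 2, 0, 2, 0, 8, 2]) (.leaf [0, 3, 0, 3]))) (.node (.node (.leaf [9, 6, 1, 3, 8, 3, 1]) (.leaf [4, 8, 7, 9, 4, 5, 9, 8, 5])) (.node (.leaf [2, 1, 2, 3, 1, 2, 7, 8]) (.leaf [0, 3, 0, 3])))) (.node (.node (.node (.leaf [6, 1, 6, 8, 1, 9]) (.leaf [8, 7, 8, 6, 3, 9, 7, 9])) (.node (.leaf [9, 0, 8, 7, 8, 0, 9, 7]) (.leaf [0, 3, 0, 3]))) (.node (.node (.leaf [7, 8, 9, 7, 3, 9, 8]) (.leaf [3, 4, 5, 6, 4, 5, 4, 5])) (.node (.leaf [7, 1, 3, 9, 1, 8, 7, 9]) (.leaf [0, 3, 0, 3]))))) (.node (.node (.node (.node (.leaf [9, 0, 8, 6, 0, 6]) (.leaf [2, 9, 7, 8, 1, 9, 7, 3])) (.node (.leaf [6, 0, 6, 7, 8, 0, 9, 7]) (.leaf [0, 3, 0, 3]))) (.node (.node (.leaf [6, 9, 7, 3, 7, 9, 3]) (.leaf [3, 5, 3, 4, 3, 6, 4])) (.node (.leaf [7, 1, 3, 7, 8, 2, 8, 9]) (.leaf [0, 3, 0, 3])))) (.node (.node (.node (.leaf [2, 8, 9, 2, 3, 8]) (.leaf [9, 3, 8, 7,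 8, 6, 9, 7])) (.node (.leaf [6, 1, 2, 1, 2, 6, 7, 2]) (.leaf [0, 3, 0, 3]))) (.node (.node (.leaf [0, 9, 1, 8, 0, 1, 0, 1]) (.leaf [0, 3, 0, 3])) (.node (.leaf [7, 1, 7, 3, 9, 2, 3, 9]) (.leaf [0, 3, 0, 3]))))))) (.node (.node (.node (.node (.node (.node (.leaf [6, 3, 6, 3]) (.leaf [7, 1, 7, 8, 6, 2, 6, 8])) (.node (.leaf [6, 0, 2, 0, 2, 0, 6, 2]) (.leaf [0, 3, 0, 3]))) (.node (.node (.leaf [6, 8, 7, 6, 7, 8]) (.leaf [5, 8, 9, 5, 4, 9, 7, 8, 4])) (.node (.leaf [7, 1, 2, 1, 3, 2, 1, 8]) (.leaf [0, 3, 0, 3])))) (.node (.node (.node (.leaf [9, 2, 7, 3, 1, 7]) (.leaf [2, 9, 8, 3, 2, 3, 9, 8])) (.node (.leaf [7, 0, 7, 8, 9, 0, 8, 9]) (.leaf [0, 3, 0, 3]))) (.node (.node (.leaf [8, 9, 7, 9, 8, 7, 3]) (.leaf [3, 5, 6, 4, 3, 5, 6, 4])) (.node (.leaf [3, 1, 3, 8, 3, 1, 3, 9]) (.leaf [0, 3, 0, 3]))))) (.node (.node (.node (.node (.leaf [8, 3, 0, 3, 9, 0]) (.leaf [2, 8, 7, 8, 1, 9, 7, 8])) (.node (.leaf [3, 0,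 3, 8, 9, 0, 8, 9]) (.leaf [0, 3, 0, 3]))) (.node (.node (.leaf [3, 7, 9, 3, 9, 7, 6]) (.leaf [6, 3, 4, 6, 3, 4, 6, 3, 4, 6, 3, 4, 6, 3, 4])) (.node (.leaf [6, 1, 3, 6, 7, 2, 9, 7]) (.leaf [0, 3, 0, 3])))) (.node (.node (.node (.leaf [1, 9, 8, 1, 9, 8]) (.leaf [7, 8, 9, 7, 3, 8, 6, 9])) (.node (.leaf [9, 1, 2, 1, 2, 3, 7, 2]) (.leaf [0, 3, 0, 3]))) (.node (.node (.leaf [7, 0, 1, 0, 1, 0, 7, 2]) (.leaf [0, 3, 0, 3])) (.node (.leaf [7, 1, 7, 3, 8, 2, 8, 9]) (.leaf [0, 3, 0, 3])))))) (.node (.node (.node (.node (.node (.leaf [8, 9, 6, 8, 9]) (.leaf [2, 3, 7, 8, 1, 9, 7, 9])) (.node (.leaf [3, 0, 3, 7, 8, 0, 9, 7]) (.leaf [0, 3, 0, 3]))) (.node (.node (.leaf [1, 3, 9, 3, 1, 8, 6]) (.leaf [2, 1, 4, 1, 2, 0, 1, 4, 1, 0])) (.node (.leaf [3, 1, 2, 7, 8, 7, 2, 1]) (.leaf [0, 3, 0, 3])))) (.node (.node (.node (.leaf [3, 7, 1, 7, 9, 2]) (.leaf [9, 7, 9, 6, 3, 8, 7, 8])) (.node (.leaf [3, 1, 2, 1, 2, 1, 3, 7])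 (.leaf [0, 3, 0, 3]))) (.node (.node (.leaf [7, 8, 3, 9, 7, 8, 9]) (.leaf [1, 6, 4, 5, 4, 1, 2, 4, 5, 4, 6, 2])) (.node (.leaf [9, 1, 3, 9, 3, 1, 9, 8]) (.leaf [0, 3, 0, 3]))))) (.node (.node (.node (.node (.leaf [0, 7, 9, 0, 8, 7]) (.leaf [2, 9, 7, 8, 1, 9, 3, 7])) (.node (.leaf [6, 0, 6, 8, 7, 0, 7, 9]) (.leaf [0, 3, 0, 3]))) (.node (.node (.leaf [7, 8, 3, 8, 3, 7, 6]) (.leaf [6, 5, 3, 6, 5, 6, 4])) (.node (.leaf [7, 1, 3, 7, 9, 2, 3, 9]) (.leaf [0, 3, 0, 3])))) (.node (.node (.node (.leaf [6, 8, 2, 8, 6, 2]) (.leaf [7, 6, 7, 8, 7, 6, 7, 8])) (.node (.leaf [8, 1, 2, 1, 2, 7, 8, 2]) (.leaf [0, 3, 0, 3]))) (.node (.node (.leaf [7, 0, 1, 2, 1, 2, 1, 0]) (.leaf [0, 3, 0, 3])) (.node (.leaf [7, 1, 7, 6, 3, 2, 6, 9]) (.leaf [0, 3, 0, 3])))))))))) (.node (.node (.node (.node (.node (.node (.node (.node (.node (.leaf [6, 0, 6, 0]) (.leaf [6, 7, 1, 7, 9, 6, 2, 3])) (.node (.leaf [7, 8, 7, 0, 1, 3, 1, 0])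 (.leaf [0, 3, 0, 3]))) (.node (.node (.leaf [6, 7, 3, 7, 6, 3]) (.leaf [9, 7, 8, 6, 8, 7, 9, 6])) (.node (.leaf [1, 2, 1, 8, 2, 8, 7, 2]) (.leaf [0, 3, 0, 3])))) (.node (.node (.node (.leaf [0, 9, 8, 0, 9, 8]) (.leaf [8, 9, 7, 2, 7, 8, 9, 1])) (.node (.leaf [8, 6, 0, 6, 9, 7, 0, 7]) (.leaf [0, 3, 0, 3]))) (.node (.node (.leaf [8, 7, 6, 7, 3, 8, 3]) (.leaf [6, 5, 4, 6, 4, 5, 3])) (.node (.leaf [7, 3, 1, 7, 9, 3, 2, 9]) (.leaf [0, 3, 0, 3]))))) (.node (.node (.node (.node (.leaf [6, 9, 8, 9, 8]) (.leaf [8, 7, 6, 2, 6, 7, 9, 1])) (.node (.leaf [7, 3, 0, 3, 7, 9, 0, 8]) (.leaf [0, 3, 0, 3]))) (.node (.node (.leaf [6, 7, 8, 3, 8, 7, 3]) (.leaf [1, 5, 1, 0, 2, 1, 5, 1, 2, 0])) (.node (.leaf [3, 9, 7, 1, 3, 1, 3, 7]) (.leaf [0, 3, 0, 3])))) (.node (.node (.node (.leaf [2, 6, 7, 1, 7, 6]) (.leaf [7, 8, 9, 7, 8, 6, 9, 3])) (.node (.leaf [6, 7, 6, 1, 2, 1, 2, 1]) (.leaf [0, 3, 0, 3]))) (.node (.node (.leaf [9,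 8, 9, 7, 6, 7, 8]) (.leaf [5, 4, 6, 1, 2, 6, 4, 5, 4, 2, 1, 4])) (.node (.leaf [8, 7, 6, 1, 6, 7, 8, 2]) (.leaf [0, 3, 0, 3])))))) (.node (.node (.node (.node (.node (.leaf [8, 6, 8, 6]) (.leaf [8, 3, 7, 2, 9, 7, 9, 1])) (.node (.leaf [7, 1, 7, 0, 2, 0, 2, 0]) (.leaf [0, 3, 0, 3]))) (.node (.node (.leaf [6, 9, 7, 6, 7, 9]) (.leaf [7, 8, 4, 5, 8, 9, 5, 4, 9])) (.node (.leaf [1, 2, 1, 7, 8, 1, 2, 3]) (.leaf [0, 3, 0, 3])))) (.node (.node (.node (.leaf [6, 7, 2, 7, 6, 1]) (.leaf [6, 8, 7, 8, 9, 7, 9, 3])) (.node (.leaf [8, 7, 0, 7, 9, 8, 0, 9]) (.leaf [0, 3, 0, 3]))) (.node (.node (.leaf [3, 8, 9, 7, 9, 8, 7]) (.leaf [6, 5, 4, 3, 5, 4, 5, 4])) (.node (.leaf [8, 9, 8, 1, 3, 8, 3, 1]) (.leaf [0, 3, 0, 3]))))) (.node (.node (.node (.node (.leaf [0, 7, 6, 0, 6, 7]) (.leaf [8, 7, 9, 2, 3, 7, 9, 1])) (.node (.leaf [8, 3, 0, 3, 9, 8, 0, 9]) (.leaf [0, 3, 0, 3]))) (.node (.node (.leaf [7, 8, 3, 6, 8, 7, 3]) (.leaf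 [6, 3, 5, 6, 3, 5, 6, 3, 5, 6, 3, 5, 6, 3, 5])) (.node (.leaf [6, 3, 1, 6, 7, 9, 2, 7]) (.leaf [0, 3, 0, 3])))) (.node (.node (.node (.leaf [6, 2, 3, 6, 2, 9]) (.leaf [8, 7, 8, 3, 8, 7, 8, 3])) (.node (.leaf [1, 2, 1, 9, 2, 7, 3, 2]) (.leaf [0, 3, 0, 3]))) (.node (.node (.leaf [8, 1, 9, 0, 1, 0, 1, 0]) (.leaf [0, 3, 0, 3])) (.node (.leaf [3, 7, 1, 7, 9, 8, 2, 8]) (.leaf [0, 3, 0, 3]))))))) (.node (.node (.node (.node (.node (.node (.leaf [9, 1, 8, 1]) (.leaf [8, 7, 1, 7, 8, 9, 2, 3])) (.node (.leaf [0, 2, 0, 9, 2, 3, 0, 2]) (.leaf [0, 3, 0, 3]))) (.node (.node (.leaf [8, 3, 8, 9, 3, 9]) (.leaf [6, 3, 4, 5, 3, 5, 4])) (.node (.leaf [1, 2, 1, 3, 2, 9, 7, 2]) (.leaf [0, 3, 0, 3])))) (.node (.node (.node (.leaf [7, 9, 7, 1, 3, 1]) (.leaf [3, 8, 9, 2, 8, 9, 3, 2])) (.node (.leaf [3, 7, 0, 7, 3, 9, 0, 8]) (.leaf [0, 3, 0, 3]))) (.node (.node (.leaf [6, 7, 3, 9, 3, 9, 7]) (.leaf [4, 3, 6, 3, 4, 6, 4, 6]))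 (.node (.leaf [8, 3, 1, 7, 9, 7, 9, 1]) (.leaf [0, 3, 0, 3]))))) (.node (.node (.node (.node (.leaf [3, 0, 3, 7, 0, 7]) (.leaf [8, 7, 8, 2, 8, 7, 9, 1])) (.node (.leaf [8, 3, 0, 3, 9, 7, 0, 7]) (.leaf [0, 3, 0, 3]))) (.node (.node (.leaf [9, 3, 9, 7, 3, 6, 7]) (.leaf [4, 5, 6, 4, 5, 6, 4, 5, 6])) (.node (.leaf [9, 7, 6, 1, 3, 1, 6, 7]) (.leaf [0, 3, 0, 3])))) (.node (.node (.node (.leaf [7, 2, 7, 8, 1, 9]) (.leaf [7, 9, 8, 7, 9, 6, 8, 3])) (.node (.leaf [1, 2, 1, 9, 7, 1, 3, 2]) (.leaf [0, 3, 0, 3]))) (.node (.node (.leaf [6, 1, 6, 0, 1, 0, 1, 0]) (.leaf [0, 3, 0, 3])) (.node (.leaf [8, 6, 1, 6, 9, 7, 2, 7]) (.leaf [0, 3, 0, 3])))))) (.node (.node (.node (.node (.node (.leaf [3, 9, 3, 6, 9]) (.leaf [8, 7, 3, 2, 9, 7, 9, 1])) (.node (.leaf [7, 6, 3, 0, 3, 6, 7, 0]) (.leaf [0, 3, 0, 3]))) (.node (.node (.leaf [1, 9, 6, 1, 3, 8, 3]) (.leaf [4, 7, 4, 7])) (.node (.leaf [3, 2, 1, 2, 8, 7, 2, 1]) (.leaf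 [0, 3, 0, 3])))) (.node (.node (.node (.leaf [1, 6, 9, 1, 8, 6]) (.leaf [6, 9, 7, 9, 8, 7, 8, 3])) (.node (.leaf [7, 8, 0, 9, 7, 8, 0, 9]) (.leaf [0, 3, 0, 3]))) (.node (.node (.leaf [8, 7, 9, 8, 7, 9, 3]) (.leaf [5, 3, 5, 3, 5, 6, 3, 6])) (.node (.leaf [9, 3, 1, 7, 9, 7, 8, 1]) (.leaf [0, 3, 0, 3]))))) (.node (.node (.node (.node (.leaf [7, 8, 0, 9, 7, 0]) (.leaf [8, 7, 9, 2, 7, 3, 9, 1])) (.node (.leaf [7, 6, 0, 6, 7, 9, 0, 8]) (.leaf [0, 3, 0, 3]))) (.node (.node (.leaf [9, 7, 3, 7, 9, 6, 3]) (.leaf [5, 6, 4, 6, 5, 6, 3])) (.node (.leaf [7, 3, 1, 7, 9, 8, 2, 8]) (.leaf [0, 3, 0, 3])))) (.node (.node (.node (.leaf [8, 3, 2, 9, 8, 2]) (.leaf [7, 8, 3, 9, 7, 9, 6, 8])) (.node (.leaf [1, 2, 1, 6, 2, 7, 6, 2]) (.leaf [0, 3, 0, 3]))) (.node (.node (.leaf [0, 3, 1, 0, 1, 0, 1, 3]) (.leaf [0, 3, 0, 3])) (.node (.leaf [3, 7, 1, 7, 9, 3, 2, 9]) (.leaf [0, 3, 0, 3])))))))) (.node (.node (.node (.node (.node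 (.node (.node (.leaf [6, 1, 6, 1]) (.leaf [9, 8, 7, 1, 7, 8, 3, 2])) (.node (.leaf [3, 2, 9, 0, 2, 0, 2, 0]) (.leaf [0, 3, 0, 3]))) (.node (.node (.leaf [9, 8, 9, 3, 8, 3]) (.leaf [5, 4, 3, 4, 5, 6])) (.node (.leaf [9, 2, 3, 1, 2, 1, 2, 7]) (.leaf [0, 3, 0, 3])))) (.node (.node (.node (.leaf [2, 1, 2, 7, 2, 1]) (.leaf [8, 7, 2, 7, 9, 8, 1, 9])) (.node (.leaf [9, 3, 7, 0, 7, 3, 8, 0]) (.leaf [0, 3, 0, 3]))) (.node (.node (.leaf [7, 9, 3, 9, 3, 7, 6]) (.leaf [3, 5, 4, 6, 4, 5, 6])) (.node (.leaf [7, 9, 7, 1, 3, 8, 1, 9]) (.leaf [0, 3, 0, 3]))))) (.node (.node (.node (.node (.leaf [0, 6, 3, 0, 3, 6]) (.leaf [7, 6, 2, 6, 7, 8, 1, 9])) (.node (.leaf [7, 9, 3, 0, 3, 8, 7, 0]) (.leaf [0, 3, 0, 3]))) (.node (.node (.leaf [3, 8, 7, 6, 3, 7, 8]) (.leaf [4, 6, 4, 6, 4, 6])) (.node (.leaf [1, 3, 1, 7, 9, 3, 7, 3]) (.leaf [0, 3, 0, 3])))) (.node (.node (.node (.leaf [7, 1, 7, 8, 2, 8]) (.leaf [6, 8, 7, 9, 8, 7,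 3, 9])) (.node (.leaf [1, 7, 9, 1, 2, 1, 2, 3]) (.leaf [0, 3, 0, 3]))) (.node (.node (.leaf [8, 7, 6, 7, 9, 8, 9]) (.leaf [4, 2, 1, 4, 5, 4, 6, 1, 2, 6, 4, 5])) (.node (.leaf [7, 9, 6, 1, 6, 8, 7, 2]) (.leaf [0, 3, 0, 3])))))) (.node (.node (.node (.node (.node (.leaf [8, 3, 8, 6, 3]) (.leaf [7, 9, 2, 7, 3, 8, 1, 9])) (.node (.leaf [8, 2, 8, 0, 2, 0, 2, 0]) (.leaf [0, 3, 0, 3]))) (.node (.node (.leaf [6, 9, 1, 3, 8, 3, 1]) (.leaf [8, 5, 4, 8, 7, 9, 4, 5, 9])) (.node (.leaf [7, 8, 2, 1, 2, 3, 1, 2]) (.leaf [0, 3, 0, 3])))) (.node (.node (.node (.leaf [1, 9, 6, 1, 6, 8]) (.leaf [7, 9, 8, 7, 8, 6, 3, 9])) (.node (.leaf [9, 7, 9, 0, 8, 7, 8, 0]) (.leaf [0, 3, 0, 3]))) (.node (.node (.leaf [9, 8, 7, 8, 9, 7, 3]) (.leaf [4, 5, 3, 4, 5, 6, 4, 5])) (.node (.leaf [7, 9, 7, 1, 3, 9, 1, 8]) (.leaf [0, 3, 0, 3]))))) (.node (.node (.node (.node (.leaf [6, 0, 6, 8, 0, 9]) (.leaf [7, 3, 2, 9, 7, 8, 1, 9])) (.node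 (.leaf [9, 7, 6, 0, 6, 7, 8, 0]) (.leaf [0, 3, 0, 3]))) (.node (.node (.leaf [3, 8, 7, 3, 7, 8, 6]) (.leaf [6, 4, 3, 5, 3, 4, 3])) (.node (.leaf [8, 9, 7, 1, 3, 7, 8, 2]) (.leaf [0, 3, 0, 3])))) (.node (.node (.node (.leaf [3, 8, 2, 8, 9, 2]) (.leaf [9, 7, 9, 3, 8, 7, 8, 6])) (.node (.leaf [7, 2, 6, 1, 2, 1, 2, 6]) (.leaf [0, 3, 0, 3]))) (.node (.node (.leaf [0, 1, 0, 9, 1, 8, 0, 1]) (.leaf [0, 3, 0, 3])) (.node (.leaf [3, 9, 7, 1, 7, 3, 9, 2]) (.leaf [0, 3, 0, 3]))))))) (.node (.node (.node (.node (.node (.node (.leaf [8, 2, 8, 2]) (.leaf [6, 8, 7, 1, 7, 8, 6, 2])) (.node (.leaf [6, 2, 6, 0, 2, 0, 2, 0]) (.leaf [0, 3, 0, 3]))) (.node (.node (.leaf [7, 8, 6, 8, 7, 6]) (.leaf [4, 3, 6, 4, 5, 3, 5])) (.node (.leaf [1, 8, 7, 1, 2, 1, 3, 2]) (.leaf [0, 3, 0, 3])))) (.node (.node (.node (.leaf [7, 1, 3, 7, 2, 9]) (.leaf [9, 8, 2, 9, 8, 3, 2, 3])) (.node (.leaf [8, 9, 7, 0, 7, 8, 9, 0]) (.leaf [0, 3, 0,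 3]))) (.node (.node (.leaf [9, 8, 3, 7, 8, 9, 7]) (.leaf [6, 4, 3, 5, 6, 4, 3, 5])) (.node (.leaf [3, 9, 3, 1, 3, 8, 3, 1]) (.leaf [0, 3, 0, 3]))))) (.node (.node (.node (.node (.leaf [9, 0, 8, 3, 0, 3]) (.leaf [7, 8, 2, 8, 7, 8, 1, 9])) (.node (.leaf [8, 9, 3, 0, 3, 8, 9, 0]) (.leaf [0, 3, 0, 3]))) (.node (.node (.leaf [7, 6, 3, 7, 9, 3, 9]) (.leaf [3, 4, 6, 3, 4, 6, 3, 4, 6, 3, 4, 6, 3, 4, 6])) (.node (.leaf [9, 7, 6, 1, 3, 6, 7, 2]) (.leaf [0, 3, 0, 3])))) (.node (.node (.node (.leaf [9, 8, 1, 9, 8, 1]) (.leaf [6, 9, 7, 8, 9, 7, 3, 8])) (.node (.leaf [7, 2, 9, 1, 2, 1, 2, 3]) (.leaf [0, 3, 0, 3]))) (.node (.node (.leaf [7, 2, 7, 0, 1, 0, 1, 0]) (.leaf [0, 3, 0, 3])) (.node (.leaf [8, 9, 7, 1, 7, 3, 8, 2]) (.leaf [0, 3, 0, 3])))))) (.node (.node (.node (.node (.node (.leaf [8, 9, 8, 9, 6]) (.leaf [7, 9, 2, 3, 7, 8, 1, 9])) (.node (.leaf [9, 7, 3, 0, 3, 7, 8, 0]) (.leaf [0, 3, 0, 3]))) (.node (.node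 (.leaf [8, 6, 1, 3, 9, 3, 1]) (.leaf [1, 0, 2, 1, 4, 1, 2, 0, 1, 4])) (.node (.leaf [2, 1, 3, 1, 2, 7, 8, 7]) (.leaf [0, 3, 0, 3])))) (.node (.node (.node (.leaf [9, 2, 3, 7, 1, 7]) (.leaf [7, 8, 9, 7, 9, 6, 3, 8])) (.node (.leaf [3, 7, 3, 1, 2, 1, 2, 1]) (.leaf [0, 3, 0, 3]))) (.node (.node (.leaf [8, 9, 7, 8, 3, 9, 7]) (.leaf [6, 2, 1, 6, 4, 5, 4, 1, 2, 4, 5, 4])) (.node (.leaf [9, 8, 9, 1, 3, 9, 3, 1]) (.leaf [0, 3, 0, 3]))))) (.node (.node (.node (.node (.leaf [8, 7, 0, 7, 9, 0]) (.leaf [3, 7, 2, 9, 7, 8, 1, 9])) (.node (.leaf [7, 9, 6, 0, 6, 8, 7, 0]) (.leaf [0, 3, 0, 3]))) (.node (.node (.leaf [7, 6, 7, 8, 3, 8, 3]) (.leaf [6, 4, 6, 5, 3, 6, 5])) (.node (.leaf [3, 9, 7, 1, 3, 7, 9, 2]) (.leaf [0, 3, 0, 3])))) (.node (.node (.node (.leaf [2, 9, 3, 2, 9, 3]) (.leaf [7, 8, 7, 6, 7, 8, 7, 6])) (.node (.leaf [8, 2, 8, 1, 2, 1, 2, 7]) (.leaf [0, 3, 0, 3]))) (.node (.node (.leaf [1, 0, 7, 0, 1, 2, 1,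 2]) (.leaf [0, 3, 0, 3])) (.node (.leaf [6, 9, 7, 1, 7, 6, 3, 2]) (.leaf [0, 3, 0, 3]))))))))) (.node (.node (.node (.node (.node (.node (.node (.node (.leaf [8, 0, 9, 0]) (.leaf [7, 8, 3, 2, 9, 8, 7, 1])) (.node (.leaf [2, 0, 2, 0, 3, 2, 9, 0]) (.leaf [0, 3, 0, 3]))) (.node (.node (.leaf [6, 3, 6, 7, 3, 7]) (.leaf [5, 4, 5, 4, 5, 4])) (.node (.leaf [2, 1, 2, 7, 9, 2, 3, 1]) (.leaf [0, 3, 0, 3])))) (.node (.node (.node (.leaf [2, 1, 7, 1, 2, 1]) (.leaf [7, 8, 9, 1, 8, 9, 7, 2])) (.node (.leaf [7, 3, 8, 0, 9, 3, 7, 0]) (.leaf [0, 3, 0, 3]))) (.node (.node (.leaf [3, 8, 3, 8, 7, 6, 7]) (.leaf [6, 4, 5, 6, 3, 5, 4])) (.node (.leaf [3, 8, 1, 9, 7, 9, 7, 1]) (.leaf [0, 3, 0, 3]))))) (.node (.node (.node (.node (.leaf [2, 0, 2, 0, 2, 0]) (.leaf [6, 7, 9, 1, 8, 7, 6, 2])) (.node (.leaf [3, 8, 7, 0, 7, 9, 3, 0]) (.leaf [0, 3, 0, 3]))) (.node (.node (.leaf [8, 7, 3, 6, 7, 8, 3]) (.leaf [2, 1, 5, 1, 2, 0, 1,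 5, 1, 0])) (.node (.leaf [9, 3, 7, 3, 1, 3, 1, 7]) (.leaf [0, 3, 0, 3])))) (.node (.node (.node (.leaf [7, 8, 2, 8, 7, 1]) (.leaf [8, 6, 9, 3, 7, 8, 9, 7])) (.node (.leaf [2, 1, 2, 3, 1, 7, 9, 1]) (.leaf [0, 3, 0, 3]))) (.node (.node (.leaf [7, 9, 8, 9, 8, 7, 6]) (.leaf [2, 6, 4, 5, 4, 2, 1, 4, 5, 4, 6, 1])) (.node (.leaf [6, 8, 7, 2, 7, 9, 6, 1]) (.leaf [0, 3, 0, 3])))))) (.node (.node (.node (.node (.node (.leaf [6, 8, 3, 8, 3]) (.leaf [9, 7, 9, 1, 8, 3, 7, 2])) (.node (.leaf [2, 0, 2, 0, 8, 2, 8, 0]) (.leaf [0, 3, 0, 3]))) (.node (.node (.leaf [3, 8, 3, 1, 6, 9, 1]) (.leaf [9, 4, 5, 9, 8, 5, 4, 8, 7])) (.node (.leaf [2, 3, 1, 2, 7, 8, 2, 1]) (.leaf [0, 3, 0, 3])))) (.node (.node (.node (.leaf [6, 1, 6, 7, 2, 7]) (.leaf [9, 7, 9, 3, 6, 8, 7, 8])) (.node (.leaf [8, 7, 8, 0, 9, 7, 9, 0]) (.leaf [0, 3, 0, 3]))) (.node (.node (.leaf [8, 7, 8, 9, 3, 7, 9]) (.leaf [5, 6, 4, 5, 4, 5, 3, 4])) (.node (.leaf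 [3, 9, 1, 8, 7, 9, 7, 1]) (.leaf [0, 3, 0, 3]))))) (.node (.node (.node (.node (.leaf [6, 8, 0, 9, 6, 0]) (.leaf [3, 7, 9, 1, 8, 7, 9, 2])) (.node (.leaf [6, 7, 8, 0, 9, 7, 6, 0]) (.leaf [0, 3, 0, 3]))) (.node (.node (.leaf [3, 7, 8, 6, 3, 8, 7]) (.leaf [5, 3, 4, 6, 3, 4, 3])) (.node (.leaf [3, 7, 8, 2, 8, 9, 7, 1]) (.leaf [0, 3, 0, 3])))) (.node (.node (.node (.leaf [6, 3, 2, 6, 9, 2]) (.leaf [8, 7, 8, 6, 9, 7, 9, 3])) (.node (.leaf [2, 1, 2, 6, 7, 2, 6, 1]) (.leaf [0, 3, 0, 3]))) (.node (.node (.leaf [1, 8, 0, 1, 0, 1, 0, 9]) (.leaf [0, 3, 0, 3])) (.node (.leaf [7, 3, 9, 2, 3, 9, 7, 1]) (.leaf [0, 3, 0, 3]))))))) (.node (.node (.node (.node (.node (.node (.leaf [9, 2, 3, 2]) (.leaf [7, 8, 6, 2, 6, 8, 7, 1])) (.node (.leaf [2, 0, 2, 0, 6, 2, 6, 0]) (.leaf [0, 3, 0, 3]))) (.node (.node (.leaf [8, 3, 9, 3, 8, 9]) (.leaf [4, 5, 3, 5, 4, 3, 6])) (.node (.leaf [2, 1, 3, 2, 1, 8, 7, 1]) (.leaf [0, 3, 0,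 3])))) (.node (.node (.node (.leaf [3, 7, 2, 9, 7, 1]) (.leaf [8, 9, 3, 2, 3, 8, 9, 2])) (.node (.leaf [7, 8, 9, 0, 8, 9, 7, 0]) (.leaf [0, 3, 0, 3]))) (.node (.node (.leaf [7, 8, 9, 7, 9, 8, 3]) (.leaf [4, 6, 5, 3, 4, 6, 5, 3])) (.node (.leaf [3, 8, 3, 1, 3, 9, 3, 1]) (.leaf [0, 3, 0, 3]))))) (.node (.node (.node (.node (.leaf [0, 9, 3, 0, 3, 8]) (.leaf [8, 7, 9, 1, 8, 7, 8, 2])) (.node (.leaf [3, 8, 9, 0, 8, 9, 3, 0]) (.leaf [0, 3, 0, 3]))) (.node (.node (.leaf [7, 9, 3, 9, 7, 6, 3]) (.leaf [6, 5, 4, 6, 5, 4, 6, 5, 4])) (.node (.leaf [3, 6, 7, 2, 9, 7, 6, 1]) (.leaf [0, 3, 0, 3])))) (.node (.node (.node (.leaf [1, 9, 7, 2, 7, 8]) (.leaf [9, 6, 8, 3, 7, 9, 8, 7])) (.node (.leaf [2, 1, 2, 3, 7, 2, 9, 1]) (.leaf [0, 3, 0, 3]))) (.node (.node (.leaf [1, 0, 1, 0, 7, 2, 7, 0]) (.leaf [0, 3, 0, 3])) (.node (.leaf [7, 3, 8, 2, 8, 9, 7, 1]) (.leaf [0, 3, 0, 3])))))) (.node (.node (.node (.node (.node (.leaf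 [9, 6, 3, 9, 3]) (.leaf [9, 7, 9, 1, 8, 7, 3, 2])) (.node (.leaf [3, 7, 8, 0, 9, 7, 3, 0]) (.leaf [0, 3, 0, 3]))) (.node (.node (.leaf [3, 1, 6, 8, 1, 3, 9]) (.leaf [2, 0, 1, 4, 1, 0, 2, 1, 4, 1])) (.node (.leaf [2, 7, 8, 7, 2, 1, 3, 1]) (.leaf [0, 3, 0, 3])))) (.node (.node (.node (.leaf [2, 9, 7, 1, 7, 3]) (.leaf [8, 7, 8, 3, 6, 9, 7, 9])) (.node (.leaf [2, 1, 2, 1, 3, 7, 3, 1]) (.leaf [0, 3, 0, 3]))) (.node (.node (.leaf [7, 9, 3, 8, 7, 9, 8]) (.leaf [2, 4, 5, 4, 6, 2, 1, 6, 4, 5, 4, 1])) (.node (.leaf [3, 9, 3, 1, 9, 8, 9, 1]) (.leaf [0, 3, 0, 3]))))) (.node (.node (.node (.node (.leaf [7, 0, 7, 8, 0, 9]) (.leaf [7, 3, 9, 1, 8, 7, 9, 2])) (.node (.leaf [6, 8, 7, 0, 7, 9, 6, 0]) (.leaf [0, 3, 0, 3]))) (.node (.node (.leaf [9, 6, 3, 9, 7, 3, 7]) (.leaf [5, 6, 3, 5, 6, 4, 6])) (.node (.leaf [3, 7, 9, 2, 3, 9, 7, 1]) (.leaf [0, 3, 0, 3])))) (.node (.node (.node (.leaf [3, 9, 2, 3, 9, 2]) (.leaf [9,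 7, 9, 3, 9, 7, 9, 3])) (.node (.leaf [2, 1, 2, 7, 8, 2, 8, 1]) (.leaf [0, 3, 0, 3]))) (.node (.node (.leaf [1, 2, 1, 2, 1, 0, 7, 0]) (.leaf [0, 3, 0, 3])) (.node (.leaf [7, 6, 3, 2, 6, 9, 7, 1]) (.leaf [0, 3, 0, 3])))))))) (.node (.node (.node (.node (.node (.node (.node (.leaf [7, 1, 7, 2]) (.leaf [8, 9, 2, 3, 8, 7, 1, 7])) (.node (.leaf [2, 3, 0, 2, 0, 2, 0, 9]) (.leaf [0, 3, 0, 3]))) (.node (.node (.leaf [8, 9, 3, 9, 8, 3]) (.leaf [5, 3, 5, 4, 6, 3, 4])) (.node (.leaf [2, 9, 7, 2, 1, 2, 1, 3]) (.leaf [0, 3, 0, 3])))) (.node (.node (.node (.leaf [2, 1, 2, 1, 2, 7]) (.leaf [9, 8, 1, 9, 8, 7, 2, 7])) (.node (.leaf [3, 9, 0, 8, 3, 7, 0, 7]) (.leaf [0, 3, 0, 3]))) (.node (.node (.leaf [9, 3, 9, 7, 6, 7, 3]) (.leaf [4, 6, 4, 6, 4, 3, 6, 3])) (.node (.leaf [9, 7, 9, 1, 8, 3, 1, 7]) (.leaf [0, 3, 0, 3]))))) (.node (.node (.node (.node (.leaf [3, 7, 0, 7, 3, 0]) (.leaf [7, 8, 1, 9, 7, 6, 2, 6])) (.node (.leaf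 [9, 7, 0, 7, 8, 3, 0, 3]) (.leaf [0, 3, 0, 3]))) (.node (.node (.leaf [3, 7, 8, 3, 8, 7, 6]) (.leaf [5, 6, 5, 6, 5, 6, 5, 6, 5, 6])) (.node (.leaf [3, 1, 6, 7, 9, 7, 6, 1]) (.leaf [0, 3, 0, 3])))) (.node (.node (.node (.leaf [2, 7, 9, 1, 8, 7]) (.leaf [8, 7, 3, 9, 6, 8, 7, 9])) (.node (.leaf [7, 1, 3, 2, 1, 2, 1, 9]) (.leaf [0, 3, 0, 3]))) (.node (.node (.leaf [1, 0, 1, 0, 6, 1, 6, 0]) (.leaf [0, 3, 0, 3])) (.node (.leaf [9, 7, 2, 7, 8, 6, 1, 6]) (.leaf [0, 3, 0, 3])))))) (.node (.node (.node (.node (.node (.leaf [3, 8, 3, 8, 6]) (.leaf [3, 8, 1, 9, 7, 9, 2, 7])) (.node (.leaf [3, 6, 7, 0, 7, 6, 3, 0]) (.leaf [0, 3, 0, 3]))) (.node (.node (.leaf [1, 3, 8, 3, 1, 9, 6]) (.leaf [4, 0, 4, 0])) (.node (.leaf [8, 7, 2, 1, 3, 2, 1, 2]) (.leaf [0, 3, 0, 3])))) (.node (.node (.node (.leaf [9, 1, 8, 6, 1, 6]) (.leaf [8, 6, 3, 9, 7, 9, 8, 7])) (.node (.leaf [8, 7, 9, 0, 8, 7, 9, 0]) (.leaf [0, 3, 0, 3]))) (.node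 (.node (.leaf [9, 7, 3, 9, 8, 7, 8]) (.leaf [5, 6, 3, 6, 5, 3, 5, 3])) (.node (.leaf [9, 7, 8, 1, 9, 3, 1, 7]) (.leaf [0, 3, 0, 3]))))) (.node (.node (.node (.node (.leaf [8, 6, 0, 6, 9, 0]) (.leaf [7, 8, 1, 9, 7, 3, 2, 9])) (.node (.leaf [7, 9, 0, 8, 7, 6, 0, 6]) (.leaf [0, 3, 0, 3]))) (.node (.node (.leaf [7, 3, 7, 9, 3, 6, 9]) (.leaf [3, 4, 3, 6, 4, 3, 5])) (.node (.leaf [9, 8, 2, 8, 7, 3, 1, 7]) (.leaf [0, 3, 0, 3])))) (.node (.node (.node (.leaf [9, 2, 3, 8, 2, 8]) (.leaf [7, 9, 6, 8, 7, 8, 3, 9])) (.node (.leaf [2, 7, 6, 2, 1, 2, 1, 6]) (.leaf [0, 3, 0, 3]))) (.node (.node (.leaf [1, 0, 1, 3, 0, 3, 1, 0]) (.leaf [0, 3, 0, 3])) (.node (.leaf [9, 3, 2, 9, 3, 7, 1, 7]) (.leaf [0, 3, 0, 3]))))))) (.node (.node (.node (.node (.node (.node (.leaf [7, 3, 7, 3]) (.leaf [7, 8, 7, 1, 7, 8, 7, 1])) (.node (.leaf [2, 0, 2, 0, 7, 1, 7, 0]) (.leaf [0, 3, 0, 3]))) (.node (.node (.leaf [7, 6, 7, 8, 6, 8]) (.leaf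 [9, 5, 4, 9, 7, 8, 4, 5, 8])) (.node (.leaf [8, 1, 2, 3, 1, 2, 1, 7]) (.leaf [0, 3, 0, 3])))) (.node (.node (.node (.leaf [7, 3, 1, 7, 9, 2]) (.leaf [8, 3, 2, 3, 9, 8, 2, 9])) (.node (.leaf [9, 8, 0, 9, 8, 7, 0, 7]) (.leaf [0, 3, 0, 3]))) (.node (.node (.leaf [7, 9, 8, 7, 3, 8, 9]) (.leaf [5, 4, 5, 4, 6, 5, 4, 3])) (.node (.leaf [3, 8, 3, 1, 8, 9, 8, 1]) (.leaf [0, 3, 0, 3]))))) (.node (.node (.node (.node (.leaf [0, 3, 9, 0, 8, 3]) (.leaf [7, 8, 1, 9, 7, 8, 2, 8])) (.node (.leaf [9, 8, 0, 9, 8, 3, 0, 3]) (.leaf [0, 3, 0, 3]))) (.node (.node (.leaf [6, 8, 7, 3, 7, 8, 3]) (.leaf [5, 3, 6, 5, 3, 6, 5, 3, 6, 5, 3, 6, 5, 3, 6])) (.node (.leaf [7, 9, 2, 7, 6, 3, 1, 6]) (.leaf [0, 3, 0, 3])))) (.node (.node (.node (.leaf [3, 6, 2, 9, 6, 2]) (.leaf [9, 7, 3, 8, 6, 9, 7, 8])) (.node (.leaf [2, 7, 3, 2, 1, 2, 1, 9]) (.leaf [0, 3, 0, 3]))) (.node (.node (.leaf [1, 0, 1, 0, 8, 1, 9, 0]) (.leaf [0, 3, 0, 3]))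 (.node (.leaf [9, 8, 2, 8, 3, 7, 1, 7]) (.leaf [0, 3, 0, 3])))))) (.node (.node (.node (.node (.node (.leaf [9, 8, 9, 8, 6]) (.leaf [7, 8, 1, 9, 7, 9, 2, 3])) (.node (.leaf [7, 9, 0, 8, 7, 3, 0, 3]) (.leaf [0, 3, 0, 3]))) (.node (.node (.leaf [9, 3, 1, 8, 6, 1, 3]) (.leaf [4, 1, 2, 0, 1, 4, 1, 0, 2, 1])) (.node (.leaf [3, 1, 3, 7, 3, 9, 7, 1]) (.leaf [0, 3, 0, 3])))) (.node (.node (.node (.leaf [1, 7, 9, 2, 3, 7]) (.leaf [9, 6, 3, 8, 7, 8, 9, 7])) (.node (.leaf [2, 1, 2, 1, 6, 7, 6, 1]) (.leaf [0, 3, 0, 3]))) (.node (.node (.leaf [3, 9, 7, 8, 9, 7, 8]) (.leaf [4, 5, 4, 1, 2, 4, 5, 4, 6, 2, 1, 6])) (.node (.leaf [6, 7, 8, 2, 8, 7, 6, 1]) (.leaf [0, 3, 0, 3]))))) (.node (.node (.node (.node (.leaf [8, 9, 0, 8, 9, 0]) (.leaf [7, 8, 1, 9, 3, 7, 2, 9])) (.node (.leaf [9, 7, 0, 7, 8, 6, 0, 6]) (.leaf [0, 3, 0, 3]))) (.node (.node (.leaf [3, 8, 3, 7, 6, 7, 8]) (.leaf [3, 6, 5, 6, 4, 6, 5])) (.node (.leaf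 [9, 3, 2, 9, 7, 3, 1, 7]) (.leaf [0, 3, 0, 3])))) (.node (.node (.node (.leaf [2, 8, 6, 2, 6, 8]) (.leaf [8, 7, 9, 6, 9, 7, 8, 6])) (.node (.leaf [2, 8, 7, 2, 1, 2, 1, 8]) (.leaf [0, 3, 0, 3]))) (.node (.node (.leaf [1, 3, 1, 0, 7, 8, 7, 0]) (.leaf [0, 3, 0, 3])) (.node (.leaf [9, 6, 2, 3, 6, 7, 1, 7]) (.leaf [0, 3, 0, 3]))))))))))))

def hints_0 : List (ℕ × ℕ × Bool) := [
  (0, 0, false), (104, 2, true), (65, 2, false), (0, 0, false), (41, 4, false), (124, 2, false), (85, 2, true), (0, 0, false),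
  (26, 2, false), (113, 6, true), (75, 2, true), (0, 0, false), (54, 6, false), (144, 0, false), (94, 2, true), (0, 0, false),
  (17, 1, true), (109, 6, true), (71, 2, true), (0, 0, false), (49, 5, true), (134, 0, false), (90, 2, false), (0, 0, false),
  (34, 0, false), (117, 6, true), (81, 2, false), (0, 0, false), (59, 0, false), (149, 10, false), (100, 2, false), (0, 0, false),
  (12, 0, false), (107, 2, false), (68, 2, false), (0, 0, false), (47, 0, false), (128, 4, false), (87, 2, true), (0, 0, false),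
  (30, 4, true), (115, 6, true), (77, 2, true), (0, 0, false), (56, 3, true), (147, 2, false), (97, 2, false), (0, 0, false),
  (23, 0, false), (111, 6, true), (73, 2, true), (0, 0, false), (52, 2, false), (141, 2, false), (92, 2, true), (0, 0, false),
  (38, 2, false), (119, 6, true), (83, 2, true), (0, 0, false), (62, 2, false), (0, 0, false), (102, 2, true), (0, 0, false),
  (6, 0, false), (105, 2, true), (66, 2, true), (0, 0, false), (44, 2, false), (127, 2, false), (86, 2, true), (0, 0, false),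
  (29, 0, false), (114, 6, true), (76, 2, true), (0, 0, false), (55, 1, true), (145, 2, false), (95, 2, true), (0, 0, false),
  (21, 2, false), (110, 6, true), (72, 2, true), (0, 0, false), (51, 0, false), (138, 0, false), (91, 2, false), (0, 0, false),
  (36, 4, false), (118, 6, true), (82, 2, true), (0, 0, false), (60, 2, false), (0, 0, false), (101, 2, true), (0, 0, false),
  (16, 0, false), (108, 6, true), (70, 2, false), (0, 0, false), (48, 3, true), (130, 0, false), (88, 2, true), (0, 0, false),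
  (32, 2, true), (116, 6, true), (79, 2, false), (0, 0, false), (57, 5, true), (148, 2, false), (98, 2, true), (0, 0, false),
  (24, 4, true), (112, 6, true), (74, 2, true), (0, 0, false), (53, 4, false), (142, 5, true), (93, 2, true), (0, 0, false),
  (39, 0, true), (121, 2, true), (84, 2, true), (0, 0, false), (63, 2, false), (0, 0, false), (103, 2, true), (0, 0, false),
  (3, 2, false), (105, 2, false), (66, 2, false), (0, 0, false), (43, 0, false), (126, 0, false), (86, 2, false), (0, 0, false),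
  (27, 4, false), (114, 6, false), (76, 2, false), (0, 0, false), (55, 0, false), (144, 1, true), (95, 2, false), (0, 0, false),
  (20, 0, false), (110, 6, false), (72, 2, false), (0, 0, false), (50, 6, false), (134, 8, false), (90, 2, true), (0, 0, false),
  (35, 2, false), (118, 6, false), (82, 2, false), (0, 0, false), (59, 1, true), (149, 6, true), (101, 2, false), (0, 0, false),
  (15, 2, false), (108, 6, false), (69, 2, false), (0, 0, false), (48, 2, false), (128, 3, true), (88, 2, false), (0, 0, false),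
  (32, 0, false), (116, 6, false), (78, 2, false), (0, 0, false), (57, 4, false), (147, 2, true), (98, 2, false), (0, 0, false),
  (24, 2, false), (112, 6, false), (74, 2, false), (0, 0, false), (52, 3, true), (142, 4, false), (93, 2, false), (0, 0, false),
  (38, 4, true), (121, 2, false), (84, 2, false), (0, 0, false), (62, 2, true), (0, 0, false), (103, 2, false), (0, 0, false),
  (8, 0, false), (106, 2, false), (67, 2, false), (0, 0, false), (45, 4, false), (127, 3, true), (87, 2, false), (0, 0, false),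
  (30, 2, false), (115, 6, false), (77, 2, false), (0, 0, false), (56, 2, false), (146, 2, false), (96, 2, false), (0, 0, false),
  (22, 4, false), (111, 6, false), (73, 2, false), (0, 0, false), (51, 1, true), (140, 0, false), (92, 2, false), (0, 0, false),
  (37, 0, false), (119, 6, false), (83, 2, false), (0, 0, false), (61, 2, false), (0, 0, false), (102, 2, false), (0, 0, false),
  (16, 3, true), (109, 6, false), (71, 2, false), (0, 0, false), (49, 4, false), (133, 2, false), (89, 2, false), (0, 0, false),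
  (33, 4, false), (117, 6, false), (80, 2, false), (0, 0, false), (58, 6, false), (149, 2, false), (99, 2, false), (0, 0, false),
  (25, 0, true), (113, 6, false), (75, 2, false), (0, 0, false), (53, 5, true), (143, 6, false), (94, 2, false), (0, 0, false),
  (40, 2, false), (122, 2, false), (85, 2, false), (0, 0, false), (64, 2, false), (0, 0, false), (104, 2, false), (0, 0, false),
  (2, 0, false), (104, 6, true), (65, 6, false), (0, 0, false), (42, 2, false), (124, 6, false), (85, 6, true), (0, 0, false),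
  (27, 0, false), (114, 2, false), (75, 6, true), (0, 0, false), (54, 3, true), (144, 4, false), (94, 6, true), (0, 0, false),
  (18, 0, false), (110, 2, false), (71, 6, true), (0, 0, false), (50, 2, false), (134, 4, false), (90, 6, false), (0, 0, false),
  (34, 4, false), (118, 2, false), (81, 6, false), (0, 0, false), (59, 4, false), (149, 2, true), (100, 6, false), (0, 0, false),
  (14, 0, false), (108, 2, false), (68, 6, false), (0, 0, false), (47, 4, false), (128, 8, false), (87, 6, true), (0, 0, false),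
  (31, 2, false), (116, 2, false), (77, 6, true), (0, 0, false), (57, 0, false), (147, 6, false), (97, 6, false), (0, 0, false),
  (23, 4, false), (112, 2, false), (73, 6, true), (0, 0, false), (52, 6, false), (142, 0, false), (92, 6, true), (0, 0, false),
  (38, 0, true), (120, 2, false), (83, 6, true), (0, 0, false), (62, 6, false), (0, 0, false), (102, 6, true), (0, 0, false),
  (7, 0, false), (105, 6, true), (66, 6, true), (0, 0, false), (45, 0, false), (127, 6, false), (86, 6, true), (0, 0, false),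
  (29, 4, false), (115, 2, false), (76, 6, true), (0, 0, false), (55, 5, true), (145, 6, false), (95, 6, true), (0, 0, false),
  (22, 0, false), (111, 2, false), (72, 6, true), (0, 0, false), (51, 4, false), (139, 2, false), (91, 6, false), (0, 0, false),
  (36, 2, true), (119, 2, false), (82, 6, true), (0, 0, false), (60, 6, false), (0, 0, false), (101, 6, true), (0, 0, false),
  (16, 4, false), (109, 2, false), (70, 6, false), (0, 0, false), (49, 0, false), (132, 0, false), (88, 6, true), (0, 0, false),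
  (33, 0, false), (117, 2, false), (79, 2, true), (0, 0, false), (58, 2, false), (148, 6, false), (98, 6, true), (0, 0, false),
  (25, 2, false), (113, 2, false), (74, 6, true), (0, 0, false), (53, 1, true), (143, 2, false), (93, 6, true), (0, 0, false),
  (39, 4, true), (121, 6, true), (84, 6, true), (0, 0, false), (63, 6, false), (0, 0, false), (103, 6, true), (0, 0, false),
  (5, 0, false), (105, 6, false), (66, 6, false), (0, 0, false), (43, 4, false), (126, 4, false), (86, 6, false), (0, 0, false),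
  (28, 2, false), (114, 2, true), (76, 6, false), (0, 0, false), (55, 4, false), (144, 5, true), (95, 6, false), (0, 0, false)]
def hints_1 : List (ℕ × ℕ × Bool) := [
  (20, 4, false), (110, 2, true), (72, 6, false), (0, 0, false), (50, 3, true), (136, 0, false), (90, 6, true), (0, 0, false),
  (36, 0, false), (118, 2, true), (82, 6, false), (0, 0, false), (59, 5, true), (149, 10, true), (101, 6, false), (0, 0, false),
  (15, 1, true), (108, 2, true), (69, 6, false), (0, 0, false), (48, 6, false), (128, 7, true), (88, 6, false), (0, 0, false),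
  (32, 4, false), (116, 2, true), (78, 6, false), (0, 0, false), (57, 1, true), (147, 6, true), (98, 6, false), (0, 0, false),
  (24, 0, true), (112, 2, true), (74, 6, false), (0, 0, false), (53, 0, false), (142, 1, true), (93, 6, false), (0, 0, false),
  (39, 2, false), (121, 6, false), (84, 6, false), (0, 0, false), (62, 6, true), (0, 0, false), (103, 6, false), (0, 0, false),
  (10, 0, false), (106, 6, false), (67, 6, false), (0, 0, false), (46, 2, false), (128, 0, false), (87, 6, false), (0, 0, false),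
  (30, 0, true), (115, 2, true), (77, 6, false), (0, 0, false), (56, 6, false), (146, 2, true), (96, 6, false), (0, 0, false),
  (22, 2, true), (111, 2, true), (73, 6, false), (0, 0, false), (51, 5, true), (140, 1, true), (92, 6, false), (0, 0, false),
  (37, 1, true), (119, 2, true), (83, 6, false), (0, 0, false), (61, 6, false), (0, 0, false), (102, 6, false), (0, 0, false),
  (17, 2, false), (109, 2, true), (71, 6, false), (0, 0, false), (49, 1, true), (133, 6, false), (89, 6, false), (0, 0, false),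
  (33, 2, true), (117, 2, true), (80, 6, false), (0, 0, false), (58, 3, true), (149, 6, false), (99, 6, false), (0, 0, false),
  (25, 4, true), (113, 2, true), (75, 6, false), (0, 0, false), (54, 2, false), (143, 3, true), (94, 6, false), (0, 0, false),
  (41, 0, false), (123, 2, false), (85, 6, false), (0, 0, false), (64, 6, false), (0, 0, false), (104, 6, false), (0, 0, false),
  (1, 0, false), (104, 4, true), (65, 4, false), (0, 0, false), (42, 0, false), (124, 4, false), (85, 4, true), (0, 0, false),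
  (26, 1, true), (114, 0, false), (75, 4, true), (0, 0, false), (54, 1, true), (144, 2, false), (94, 4, true), (0, 0, false),
  (17, 3, true), (110, 0, false), (71, 4, true), (0, 0, false), (50, 0, false), (134, 2, false), (90, 4, false), (0, 0, false),
  (34, 2, false), (118, 0, false), (81, 4, false), (0, 0, false), (59, 2, false), (149, 0, true), (100, 4, false), (0, 0, false),
  (13, 0, false), (108, 0, false), (68, 4, false), (0, 0, false), (47, 2, false), (128, 6, false), (87, 4, true), (0, 0, false),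
  (31, 0, false), (116, 0, false), (77, 4, true), (0, 0, false), (56, 5, true), (147, 4, false), (97, 4, false), (0, 0, false),
  (23, 2, false), (112, 0, false), (73, 4, true), (0, 0, false), (52, 4, false), (141, 1, true), (92, 4, true), (0, 0, false),
  (38, 4, false), (120, 0, false), (83, 4, true), (0, 0, false), (62, 4, false), (0, 0, false), (102, 4, true), (0, 0, false),
  (6, 2, false), (105, 4, true), (66, 4, true), (0, 0, false), (44, 4, false), (127, 4, false), (86, 4, true), (0, 0, false),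
  (29, 2, false), (115, 0, false), (76, 4, true), (0, 0, false), (55, 3, true), (145, 4, false), (95, 4, true), (0, 0, false),
  (21, 4, false), (111, 0, false), (72, 4, true), (0, 0, false), (51, 2, false), (139, 0, false), (91, 4, false), (0, 0, false),
  (36, 0, true), (119, 0, false), (82, 4, true), (0, 0, false), (60, 4, false), (0, 0, false), (101, 4, true), (0, 0, false),
  (16, 2, false), (109, 0, false), (70, 4, false), (0, 0, false), (48, 5, true), (131, 0, false), (88, 4, true), (0, 0, false),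
  (32, 4, true), (117, 0, false), (79, 0, true), (0, 0, false), (58, 0, false), (148, 4, false), (98, 4, true), (0, 0, false),
  (25, 0, false), (113, 0, false), (74, 4, true), (0, 0, false), (53, 6, false), (143, 0, false), (93, 4, true), (0, 0, false),
  (39, 2, true), (121, 4, true), (84, 4, true), (0, 0, false), (63, 4, false), (0, 0, false), (103, 4, true), (0, 0, false),
  (4, 0, false), (105, 4, false), (66, 4, false), (0, 0, false), (43, 2, false), (126, 2, false), (86, 4, false), (0, 0, false),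
  (28, 0, false), (114, 0, true), (76, 4, false), (0, 0, false), (55, 2, false), (144, 3, true), (95, 4, false), (0, 0, false),
  (20, 2, false), (110, 0, true), (72, 4, false), (0, 0, false), (50, 1, true), (135, 0, false), (90, 4, true), (0, 0, false),
  (35, 4, false), (118, 0, true), (82, 4, false), (0, 0, false), (59, 3, true), (149, 8, true), (101, 4, false), (0, 0, false),
  (15, 4, false), (108, 0, true), (69, 4, false), (0, 0, false), (48, 4, false), (128, 5, true), (88, 4, false), (0, 0, false),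
  (32, 2, false), (116, 0, true), (78, 4, false), (0, 0, false), (57, 6, false), (147, 4, true), (98, 4, false), (0, 0, false),
  (24, 4, false), (112, 0, true), (74, 4, false), (0, 0, false), (52, 5, true), (142, 6, false), (93, 4, false), (0, 0, false),
  (39, 0, false), (121, 4, false), (84, 4, false), (0, 0, false), (62, 4, true), (0, 0, false), (103, 4, false), (0, 0, false),
  (9, 0, false), (106, 4, false), (67, 4, false), (0, 0, false), (46, 0, false), (127, 5, true), (87, 4, false), (0, 0, false),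
  (30, 4, false), (115, 0, true), (77, 4, false), (0, 0, false), (56, 4, false), (146, 0, true), (96, 4, false), (0, 0, false),
  (22, 0, true), (111, 0, true), (73, 4, false), (0, 0, false), (51, 3, true), (140, 2, false), (92, 4, false), (0, 0, false),
  (37, 2, false), (119, 0, true), (83, 4, false), (0, 0, false), (61, 4, false), (0, 0, false), (102, 4, false), (0, 0, false),
  (17, 0, false), (109, 0, true), (71, 4, false), (0, 0, false), (49, 6, false), (133, 4, false), (89, 4, false), (0, 0, false),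
  (33, 0, true), (117, 0, true), (80, 4, false), (0, 0, false), (58, 1, true), (149, 4, false), (99, 4, false), (0, 0, false),
  (25, 2, true), (113, 0, true), (75, 4, false), (0, 0, false), (54, 0, false), (143, 1, true), (94, 4, false), (0, 0, false),
  (40, 1, true), (123, 0, false), (85, 4, false), (0, 0, false), (64, 4, false), (0, 0, false), (104, 4, false), (0, 0, false),
  (3, 0, false), (105, 0, false), (66, 0, false), (0, 0, false), (42, 4, false), (125, 0, false), (86, 0, false), (0, 0, false),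
  (27, 2, false), (114, 4, false), (76, 0, false), (0, 0, false), (54, 5, true), (144, 6, false), (95, 0, false), (0, 0, false),
  (19, 0, false), (110, 4, false), (72, 0, false), (0, 0, false), (50, 4, false), (134, 6, false), (90, 0, true), (0, 0, false),
  (35, 0, false), (118, 4, false), (82, 0, false), (0, 0, false), (59, 6, false), (149, 4, true), (101, 0, false), (0, 0, false)]
def hints_2 : List (ℕ × ℕ × Bool) := [
  (15, 0, false), (108, 4, false), (69, 0, false), (0, 0, false), (48, 0, false), (128, 1, true), (88, 0, false), (0, 0, false),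
  (31, 4, false), (116, 4, false), (78, 0, false), (0, 0, false), (57, 2, false), (147, 0, true), (98, 0, false), (0, 0, false),
  (24, 0, false), (112, 4, false), (74, 0, false), (0, 0, false), (52, 1, true), (142, 2, false), (93, 0, false), (0, 0, false),
  (38, 2, true), (121, 0, false), (84, 0, false), (0, 0, false), (62, 0, true), (0, 0, false), (103, 0, false), (0, 0, false),
  (7, 2, false), (106, 0, false), (67, 0, false), (0, 0, false), (45, 2, false), (127, 1, true), (87, 0, false), (0, 0, false),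
  (30, 0, false), (115, 4, false), (77, 0, false), (0, 0, false), (56, 0, false), (146, 0, false), (96, 0, false), (0, 0, false),
  (22, 2, false), (111, 4, false), (73, 0, false), (0, 0, false), (51, 6, false), (139, 1, true), (92, 0, false), (0, 0, false),
  (36, 4, true), (119, 4, false), (83, 0, false), (0, 0, false), (61, 0, false), (0, 0, false), (102, 0, false), (0, 0, false),
  (16, 1, true), (109, 4, false), (71, 0, false), (0, 0, false), (49, 2, false), (133, 0, false), (89, 0, false), (0, 0, false),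
  (33, 2, false), (117, 4, false), (80, 0, false), (0, 0, false), (58, 4, false), (149, 0, false), (99, 0, false), (0, 0, false),
  (25, 4, false), (113, 4, false), (75, 0, false), (0, 0, false), (53, 3, true), (143, 4, false), (94, 0, false), (0, 0, false),
  (40, 0, false), (122, 0, false), (85, 0, false), (0, 0, false), (64, 0, false), (0, 0, false), (104, 0, false), (0, 0, false),
  (5, 2, false), (105, 0, true), (66, 0, true), (0, 0, false), (44, 0, false), (127, 0, false), (86, 0, true), (0, 0, false),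
  (28, 4, false), (114, 4, true), (76, 0, true), (0, 0, false), (55, 6, false), (145, 0, false), (95, 0, true), (0, 0, false),
  (21, 0, false), (110, 4, true), (72, 0, true), (0, 0, false), (50, 5, true), (137, 0, false), (91, 0, false), (0, 0, false),
  (36, 2, false), (118, 4, true), (82, 0, true), (0, 0, false), (60, 0, false), (0, 0, false), (101, 0, true), (0, 0, false),
  (15, 3, true), (108, 4, true), (70, 0, false), (0, 0, false), (48, 1, true), (129, 0, false), (88, 0, true), (0, 0, false),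
  (32, 0, true), (116, 4, true), (79, 0, false), (0, 0, false), (57, 3, true), (148, 0, false), (98, 0, true), (0, 0, false),
  (24, 2, true), (112, 4, true), (74, 0, true), (0, 0, false), (53, 2, false), (142, 3, true), (93, 0, true), (0, 0, false),
  (39, 4, false), (121, 0, true), (84, 0, true), (0, 0, false), (63, 0, false), (0, 0, false), (103, 0, true), (0, 0, false),
  (11, 0, false), (107, 0, false), (68, 0, false), (0, 0, false), (46, 4, false), (128, 2, false), (87, 0, true), (0, 0, false),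
  (30, 2, true), (115, 4, true), (77, 0, true), (0, 0, false), (56, 1, true), (147, 0, false), (97, 0, false), (0, 0, false),
  (22, 4, true), (111, 4, true), (73, 0, true), (0, 0, false), (52, 0, false), (141, 0, false), (92, 0, true), (0, 0, false),
  (38, 0, false), (119, 4, true), (83, 0, true), (0, 0, false), (62, 0, false), (0, 0, false), (102, 0, true), (0, 0, false),
  (17, 4, false), (109, 4, true), (71, 0, true), (0, 0, false), (49, 3, true), (133, 8, false), (90, 0, false), (0, 0, false),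
  (33, 4, true), (117, 4, true), (81, 0, false), (0, 0, false), (58, 5, true), (149, 8, false), (100, 0, false), (0, 0, false),
  (26, 0, false), (113, 4, true), (75, 0, true), (0, 0, false), (54, 4, false), (143, 5, true), (94, 0, true), (0, 0, false),
  (41, 2, false), (124, 0, false), (85, 0, true), (0, 0, false), (65, 0, false), (0, 0, false), (104, 0, true), (0, 0, false),
  (0, 1, false), (104, 3, true), (65, 3, false), (0, 0, false), (41, 5, false), (124, 3, false), (85, 3, true), (0, 0, false),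
  (26, 0, true), (113, 7, true), (75, 3, true), (0, 0, false), (54, 0, true), (144, 1, false), (94, 3, true), (0, 0, false),
  (17, 2, true), (109, 7, true), (71, 3, true), (0, 0, false), (49, 6, true), (134, 1, false), (90, 3, false), (0, 0, false),
  (34, 1, false), (117, 7, true), (81, 3, false), (0, 0, false), (59, 1, false), (149, 11, false), (100, 3, false), (0, 0, false),
  (12, 1, false), (107, 3, false), (68, 3, false), (0, 0, false), (47, 1, false), (128, 5, false), (87, 3, true), (0, 0, false),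
  (30, 5, true), (115, 7, true), (77, 3, true), (0, 0, false), (56, 4, true), (147, 3, false), (97, 3, false), (0, 0, false),
  (23, 1, false), (111, 7, true), (73, 3, true), (0, 0, false), (52, 3, false), (141, 0, true), (92, 3, true), (0, 0, false),
  (38, 3, false), (119, 7, true), (83, 3, true), (0, 0, false), (62, 3, false), (0, 0, false), (102, 3, true), (0, 0, false),
  (6, 1, false), (105, 3, true), (66, 3, true), (0, 0, false), (44, 3, false), (127, 3, false), (86, 3, true), (0, 0, false),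
  (29, 1, false), (114, 7, true), (76, 3, true), (0, 0, false), (55, 2, true), (145, 3, false), (95, 3, true), (0, 0, false),
  (21, 3, false), (110, 7, true), (72, 3, true), (0, 0, false), (51, 1, false), (138, 1, false), (91, 3, false), (0, 0, false),
  (36, 5, false), (118, 7, true), (82, 3, true), (0, 0, false), (60, 3, false), (0, 0, false), (101, 3, true), (0, 0, false),
  (16, 1, false), (108, 7, true), (70, 3, false), (0, 0, false), (48, 4, true), (130, 1, false), (88, 3, true), (0, 0, false),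
  (32, 3, true), (116, 7, true), (79, 3, false), (0, 0, false), (57, 6, true), (148, 3, false), (98, 3, true), (0, 0, false),
  (24, 5, true), (112, 7, true), (74, 3, true), (0, 0, false), (53, 5, false), (142, 6, true), (93, 3, true), (0, 0, false),
  (39, 1, true), (121, 3, true), (84, 3, true), (0, 0, false), (63, 3, false), (0, 0, false), (103, 3, true), (0, 0, false),
  (3, 3, false), (105, 3, false), (66, 3, false), (0, 0, false), (43, 1, false), (126, 1, false), (86, 3, false), (0, 0, false),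
  (27, 5, false), (114, 7, false), (76, 3, false), (0, 0, false), (55, 1, false), (144, 2, true), (95, 3, false), (0, 0, false),
  (20, 1, false), (110, 7, false), (72, 3, false), (0, 0, false), (50, 0, true), (134, 9, false), (90, 3, true), (0, 0, false),
  (35, 3, false), (118, 7, false), (82, 3, false), (0, 0, false), (59, 2, true), (149, 7, true), (101, 3, false), (0, 0, false),
  (15, 3, false), (108, 7, false), (69, 3, false), (0, 0, false), (48, 3, false), (128, 4, true), (88, 3, false), (0, 0, false),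
  (32, 1, false), (116, 7, false), (78, 3, false), (0, 0, false), (57, 5, false), (147, 3, true), (98, 3, false), (0, 0, false)]
def hints_3 : List (ℕ × ℕ × Bool) := [
  (24, 3, false), (112, 7, false), (74, 3, false), (0, 0, false), (52, 4, true), (142, 5, false), (93, 3, false), (0, 0, false),
  (38, 5, true), (121, 3, false), (84, 3, false), (0, 0, false), (62, 3, true), (0, 0, false), (103, 3, false), (0, 0, false),
  (8, 1, false), (106, 3, false), (67, 3, false), (0, 0, false), (45, 5, false), (127, 4, true), (87, 3, false), (0, 0, false),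
  (30, 3, false), (115, 7, false), (77, 3, false), (0, 0, false), (56, 3, false), (146, 3, false), (96, 3, false), (0, 0, false),
  (22, 5, false), (111, 7, false), (73, 3, false), (0, 0, false), (51, 2, true), (140, 1, false), (92, 3, false), (0, 0, false),
  (37, 1, false), (119, 7, false), (83, 3, false), (0, 0, false), (61, 3, false), (0, 0, false), (102, 3, false), (0, 0, false),
  (16, 4, true), (109, 7, false), (71, 3, false), (0, 0, false), (49, 5, false), (133, 3, false), (89, 3, false), (0, 0, false),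
  (33, 5, false), (117, 7, false), (80, 3, false), (0, 0, false), (58, 0, true), (149, 3, false), (99, 3, false), (0, 0, false),
  (25, 1, true), (113, 7, false), (75, 3, false), (0, 0, false), (53, 6, true), (143, 0, true), (94, 3, false), (0, 0, false),
  (40, 0, true), (122, 3, false), (85, 3, false), (0, 0, false), (64, 3, false), (0, 0, false), (104, 3, false), (0, 0, false),
  (2, 1, false), (104, 7, true), (65, 7, false), (0, 0, false), (42, 3, false), (124, 7, false), (85, 7, true), (0, 0, false),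
  (27, 1, false), (114, 3, false), (75, 7, true), (0, 0, false), (54, 4, true), (144, 5, false), (94, 7, true), (0, 0, false),
  (18, 1, false), (110, 3, false), (71, 7, true), (0, 0, false), (50, 3, false), (134, 5, false), (90, 7, false), (0, 0, false),
  (34, 5, false), (118, 3, false), (81, 7, false), (0, 0, false), (59, 5, false), (149, 3, true), (100, 7, false), (0, 0, false),
  (14, 1, false), (108, 3, false), (68, 7, false), (0, 0, false), (47, 5, false), (128, 0, true), (87, 7, true), (0, 0, false),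
  (31, 3, false), (116, 3, false), (77, 7, true), (0, 0, false), (57, 1, false), (147, 7, false), (97, 7, false), (0, 0, false),
  (23, 5, false), (112, 3, false), (73, 7, true), (0, 0, false), (52, 0, true), (142, 1, false), (92, 7, true), (0, 0, false),
  (38, 1, true), (120, 3, false), (83, 7, true), (0, 0, false), (62, 7, false), (0, 0, false), (102, 7, true), (0, 0, false),
  (7, 1, false), (105, 7, true), (66, 7, true), (0, 0, false), (45, 1, false), (127, 0, true), (86, 7, true), (0, 0, false),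
  (29, 5, false), (115, 3, false), (76, 7, true), (0, 0, false), (55, 6, true), (145, 7, false), (95, 7, true), (0, 0, false),
  (22, 1, false), (111, 3, false), (72, 7, true), (0, 0, false), (51, 5, false), (139, 0, true), (91, 7, false), (0, 0, false),
  (36, 3, true), (119, 3, false), (82, 7, true), (0, 0, false), (60, 7, false), (0, 0, false), (101, 7, true), (0, 0, false),
  (16, 0, true), (109, 3, false), (70, 7, false), (0, 0, false), (49, 1, false), (132, 1, false), (88, 7, true), (0, 0, false),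
  (33, 1, false), (117, 3, false), (79, 3, true), (0, 0, false), (58, 3, false), (148, 7, false), (98, 7, true), (0, 0, false),
  (25, 3, false), (113, 3, false), (74, 7, true), (0, 0, false), (53, 2, true), (143, 3, false), (93, 7, true), (0, 0, false),
  (39, 5, true), (121, 7, true), (84, 7, true), (0, 0, false), (63, 7, false), (0, 0, false), (103, 7, true), (0, 0, false),
  (5, 1, false), (105, 7, false), (66, 7, false), (0, 0, false), (43, 5, false), (126, 5, false), (86, 7, false), (0, 0, false),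
  (28, 3, false), (114, 3, true), (76, 7, false), (0, 0, false), (55, 5, false), (144, 6, true), (95, 7, false), (0, 0, false),
  (20, 5, false), (110, 3, true), (72, 7, false), (0, 0, false), (50, 4, true), (136, 1, false), (90, 7, true), (0, 0, false),
  (36, 1, false), (118, 3, true), (82, 7, false), (0, 0, false), (59, 6, true), (149, 11, true), (101, 7, false), (0, 0, false),
  (15, 2, true), (108, 3, true), (69, 7, false), (0, 0, false), (48, 0, true), (128, 8, true), (88, 7, false), (0, 0, false),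
  (32, 5, false), (116, 3, true), (78, 7, false), (0, 0, false), (57, 2, true), (147, 7, true), (98, 7, false), (0, 0, false),
  (24, 1, true), (112, 3, true), (74, 7, false), (0, 0, false), (53, 1, false), (142, 2, true), (93, 7, false), (0, 0, false),
  (39, 3, false), (121, 7, false), (84, 7, false), (0, 0, false), (62, 7, true), (0, 0, false), (103, 7, false), (0, 0, false),
  (10, 1, false), (106, 7, false), (67, 7, false), (0, 0, false), (46, 3, false), (128, 1, false), (87, 7, false), (0, 0, false),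
  (30, 1, true), (115, 3, true), (77, 7, false), (0, 0, false), (56, 0, true), (146, 3, true), (96, 7, false), (0, 0, false),
  (22, 3, true), (111, 3, true), (73, 7, false), (0, 0, false), (51, 6, true), (140, 2, true), (92, 7, false), (0, 0, false),
  (37, 2, true), (119, 3, true), (83, 7, false), (0, 0, false), (61, 7, false), (0, 0, false), (102, 7, false), (0, 0, false),
  (17, 3, false), (109, 3, true), (71, 7, false), (0, 0, false), (49, 2, true), (133, 7, false), (89, 7, false), (0, 0, false),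
  (33, 3, true), (117, 3, true), (80, 7, false), (0, 0, false), (58, 4, true), (149, 7, false), (99, 7, false), (0, 0, false),
  (25, 5, true), (113, 3, true), (75, 7, false), (0, 0, false), (54, 3, false), (143, 4, true), (94, 7, false), (0, 0, false),
  (41, 1, false), (123, 3, false), (85, 7, false), (0, 0, false), (64, 7, false), (0, 0, false), (104, 7, false), (0, 0, false),
  (1, 1, false), (104, 5, true), (65, 5, false), (0, 0, false), (42, 1, false), (124, 5, false), (85, 5, true), (0, 0, false),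
  (26, 2, true), (114, 1, false), (75, 5, true), (0, 0, false), (54, 2, true), (144, 3, false), (94, 5, true), (0, 0, false),
  (17, 4, true), (110, 1, false), (71, 5, true), (0, 0, false), (50, 1, false), (134, 3, false), (90, 5, false), (0, 0, false),
  (34, 3, false), (118, 1, false), (81, 5, false), (0, 0, false), (59, 3, false), (149, 1, true), (100, 5, false), (0, 0, false),
  (13, 1, false), (108, 1, false), (68, 5, false), (0, 0, false), (47, 3, false), (128, 7, false), (87, 5, true), (0, 0, false),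
  (31, 1, false), (116, 1, false), (77, 5, true), (0, 0, false), (56, 6, true), (147, 5, false), (97, 5, false), (0, 0, false),
  (23, 3, false), (112, 1, false), (73, 5, true), (0, 0, false), (52, 5, false), (141, 2, true), (92, 5, true), (0, 0, false),
  (38, 5, false), (120, 1, false), (83, 5, true), (0, 0, false), (62, 5, false), (0, 0, false), (102, 5, true), (0, 0, false)]
def hints_4 : List (ℕ × ℕ × Bool) := [
  (6, 3, false), (105, 5, true), (66, 5, true), (0, 0, false), (44, 5, false), (127, 5, false), (86, 5, true), (0, 0, false),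
  (29, 3, false), (115, 1, false), (76, 5, true), (0, 0, false), (55, 4, true), (145, 5, false), (95, 5, true), (0, 0, false),
  (21, 5, false), (111, 1, false), (72, 5, true), (0, 0, false), (51, 3, false), (139, 1, false), (91, 5, false), (0, 0, false),
  (36, 1, true), (119, 1, false), (82, 5, true), (0, 0, false), (60, 5, false), (0, 0, false), (101, 5, true), (0, 0, false),
  (16, 3, false), (109, 1, false), (70, 5, false), (0, 0, false), (48, 6, true), (131, 1, false), (88, 5, true), (0, 0, false),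
  (32, 5, true), (117, 1, false), (79, 1, true), (0, 0, false), (58, 1, false), (148, 5, false), (98, 5, true), (0, 0, false),
  (25, 1, false), (113, 1, false), (74, 5, true), (0, 0, false), (53, 0, true), (143, 1, false), (93, 5, true), (0, 0, false),
  (39, 3, true), (121, 5, true), (84, 5, true), (0, 0, false), (63, 5, false), (0, 0, false), (103, 5, true), (0, 0, false),
  (4, 1, false), (105, 5, false), (66, 5, false), (0, 0, false), (43, 3, false), (126, 3, false), (86, 5, false), (0, 0, false),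
  (28, 1, false), (114, 1, true), (76, 5, false), (0, 0, false), (55, 3, false), (144, 4, true), (95, 5, false), (0, 0, false),
  (20, 3, false), (110, 1, true), (72, 5, false), (0, 0, false), (50, 2, true), (135, 1, false), (90, 5, true), (0, 0, false),
  (35, 5, false), (118, 1, true), (82, 5, false), (0, 0, false), (59, 4, true), (149, 9, true), (101, 5, false), (0, 0, false),
  (15, 0, true), (108, 1, true), (69, 5, false), (0, 0, false), (48, 5, false), (128, 6, true), (88, 5, false), (0, 0, false),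
  (32, 3, false), (116, 1, true), (78, 5, false), (0, 0, false), (57, 0, true), (147, 5, true), (98, 5, false), (0, 0, false),
  (24, 5, false), (112, 1, true), (74, 5, false), (0, 0, false), (52, 6, true), (142, 0, true), (93, 5, false), (0, 0, false),
  (39, 1, false), (121, 5, false), (84, 5, false), (0, 0, false), (62, 5, true), (0, 0, false), (103, 5, false), (0, 0, false),
  (9, 1, false), (106, 5, false), (67, 5, false), (0, 0, false), (46, 1, false), (127, 6, true), (87, 5, false), (0, 0, false),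
  (30, 5, false), (115, 1, true), (77, 5, false), (0, 0, false), (56, 5, false), (146, 1, true), (96, 5, false), (0, 0, false),
  (22, 1, true), (111, 1, true), (73, 5, false), (0, 0, false), (51, 4, true), (140, 0, true), (92, 5, false), (0, 0, false),
  (37, 0, true), (119, 1, true), (83, 5, false), (0, 0, false), (61, 5, false), (0, 0, false), (102, 5, false), (0, 0, false),
  (17, 1, false), (109, 1, true), (71, 5, false), (0, 0, false), (49, 0, true), (133, 5, false), (89, 5, false), (0, 0, false),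
  (33, 1, true), (117, 1, true), (80, 5, false), (0, 0, false), (58, 2, true), (149, 5, false), (99, 5, false), (0, 0, false),
  (25, 3, true), (113, 1, true), (75, 5, false), (0, 0, false), (54, 1, false), (143, 2, true), (94, 5, false), (0, 0, false),
  (40, 2, true), (123, 1, false), (85, 5, false), (0, 0, false), (64, 5, false), (0, 0, false), (104, 5, false), (0, 0, false),
  (3, 1, false), (105, 1, false), (66, 1, false), (0, 0, false), (42, 5, false), (125, 1, false), (86, 1, false), (0, 0, false),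
  (27, 3, false), (114, 5, false), (76, 1, false), (0, 0, false), (54, 6, true), (144, 0, true), (95, 1, false), (0, 0, false),
  (19, 1, false), (110, 5, false), (72, 1, false), (0, 0, false), (50, 5, false), (134, 7, false), (90, 1, true), (0, 0, false),
  (35, 1, false), (118, 5, false), (82, 1, false), (0, 0, false), (59, 0, true), (149, 5, true), (101, 1, false), (0, 0, false),
  (15, 1, false), (108, 5, false), (69, 1, false), (0, 0, false), (48, 1, false), (128, 2, true), (88, 1, false), (0, 0, false),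
  (31, 5, false), (116, 5, false), (78, 1, false), (0, 0, false), (57, 3, false), (147, 1, true), (98, 1, false), (0, 0, false),
  (24, 1, false), (112, 5, false), (74, 1, false), (0, 0, false), (52, 2, true), (142, 3, false), (93, 1, false), (0, 0, false),
  (38, 3, true), (121, 1, false), (84, 1, false), (0, 0, false), (62, 1, true), (0, 0, false), (103, 1, false), (0, 0, false),
  (7, 3, false), (106, 1, false), (67, 1, false), (0, 0, false), (45, 3, false), (127, 2, true), (87, 1, false), (0, 0, false),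
  (30, 1, false), (115, 5, false), (77, 1, false), (0, 0, false), (56, 1, false), (146, 1, false), (96, 1, false), (0, 0, false),
  (22, 3, false), (111, 5, false), (73, 1, false), (0, 0, false), (51, 0, true), (139, 2, true), (92, 1, false), (0, 0, false),
  (36, 5, true), (119, 5, false), (83, 1, false), (0, 0, false), (61, 1, false), (0, 0, false), (102, 1, false), (0, 0, false),
  (16, 2, true), (109, 5, false), (71, 1, false), (0, 0, false), (49, 3, false), (133, 1, false), (89, 1, false), (0, 0, false),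
  (33, 3, false), (117, 5, false), (80, 1, false), (0, 0, false), (58, 5, false), (149, 1, false), (99, 1, false), (0, 0, false),
  (25, 5, false), (113, 5, false), (75, 1, false), (0, 0, false), (53, 4, true), (143, 5, false), (94, 1, false), (0, 0, false),
  (40, 1, false), (122, 1, false), (85, 1, false), (0, 0, false), (64, 1, false), (0, 0, false), (104, 1, false), (0, 0, false),
  (5, 3, false), (105, 1, true), (66, 1, true), (0, 0, false), (44, 1, false), (127, 1, false), (86, 1, true), (0, 0, false),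
  (28, 5, false), (114, 5, true), (76, 1, true), (0, 0, false), (55, 0, true), (145, 1, false), (95, 1, true), (0, 0, false),
  (21, 1, false), (110, 5, true), (72, 1, true), (0, 0, false), (50, 6, true), (137, 1, false), (91, 1, false), (0, 0, false),
  (36, 3, false), (118, 5, true), (82, 1, true), (0, 0, false), (60, 1, false), (0, 0, false), (101, 1, true), (0, 0, false),
  (15, 4, true), (108, 5, true), (70, 1, false), (0, 0, false), (48, 2, true), (129, 1, false), (88, 1, true), (0, 0, false),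
  (32, 1, true), (116, 5, true), (79, 1, false), (0, 0, false), (57, 4, true), (148, 1, false), (98, 1, true), (0, 0, false),
  (24, 3, true), (112, 5, true), (74, 1, true), (0, 0, false), (53, 3, false), (142, 4, true), (93, 1, true), (0, 0, false),
  (39, 5, false), (121, 1, true), (84, 1, true), (0, 0, false), (63, 1, false), (0, 0, false), (103, 1, true), (0, 0, false),
  (11, 1, false), (107, 1, false), (68, 1, false), (0, 0, false), (46, 5, false), (128, 3, false), (87, 1, true), (0, 0, false),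
  (30, 3, true), (115, 5, true), (77, 1, true), (0, 0, false), (56, 2, true), (147, 1, false), (97, 1, false), (0, 0, false)]
def hints_5 : List (ℕ × ℕ × Bool) := [
  (22, 5, true), (111, 5, true), (73, 1, true), (0, 0, false), (52, 1, false), (141, 1, false), (92, 1, true), (0, 0, false),
  (38, 1, false), (119, 5, true), (83, 1, true), (0, 0, false), (62, 1, false), (0, 0, false), (102, 1, true), (0, 0, false),
  (17, 0, true), (109, 5, true), (71, 1, true), (0, 0, false), (49, 4, true), (133, 9, false), (90, 1, false), (0, 0, false),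
  (33, 5, true), (117, 5, true), (81, 1, false), (0, 0, false), (58, 6, true), (149, 9, false), (100, 1, false), (0, 0, false),
  (26, 1, false), (113, 5, true), (75, 1, true), (0, 0, false), (54, 5, false), (143, 6, true), (94, 1, true), (0, 0, false),
  (41, 3, false), (124, 1, false), (85, 1, true), (0, 0, false), (65, 1, false), (0, 0, false), (104, 1, true), (0, 0, false)]
def hints : List (ℕ × ℕ × Bool) :=
  ((hints_0 ++ (hints_1 ++ hints_2)) ++ (hints_3 ++ (hints_4 ++ hints_5)))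

/-- subgroup words -/
def sw : List (List ℕ) := [[0], [1], [2], [3], [6], [7], [8], [9]]

def subs : List (List ℕ) := [[0], [1], [2], [3], [6], [7], [8], [9]]

/-- parameters -/
def P : Params := ⟨tab, 10, rots, subs⟩

def tree_0 : List ℕ := [
  4, 5, 11, 32, 12, 51, 13, 59,
  68, 71, 97, 15, 128, 16, 56, 76,
  86, 157, 177, 66, 207, 208, 227, 23,
  145, 253, 74, 254, 165, 296, 18, 58,
  69, 39, 63, 342, 337, 327, 53, 19,
  33, 38, 48, 49, 347, 381, 407, 391,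
  437, 427, 223, 173, 338, 178, 168, 169,
  199, 233, 193, 577, 567, 557, 198, 238,
  239, 521, 637, 647, 537, 621, 153, 203,
  93, 83, 717, 727, 712, 188, 79, 777,
  747, 797, 737, 219, 782, 189, 148, 711,
  787, 882, 867, 877, 873, 109, 919, 937,
  209, 158, 88, 99, 977, 987, 1007, 997,
  108, 119, 118, 741, 1057, 1077, 333, 323,
  973, 398, 533, 543, 1003, 993, 1117, 1137,
  1127, 1147, 643, 1019, 633, 653, 1028, 819,
  389, 378, 1237, 1247, 669, 1089, 1337, 1347,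
  1167, 1187, 439, 1157, 698, 1038, 343, 709,
  758, 1048, 499, 689, 909, 1417, 1287, 1277,
  1437, 1467, 958, 1257, 608, 1297, 1211, 1597,
  1221, 1617, 1431, 929, 469, 1647, 829, 619,
  479, 809, 21, 1712, 22, 261, 262, 1731,
  1726, 1751, 28, 29, 1738, 1769, 1719, 1763,
  1733, 1718, 1728, 1729, 1723, 1713, 1837, 1851,
  1877, 1867, 1901, 1797, 1827, 1817, 34, 44,
  54, 64, 35, 45, 55, 65, 85, 95,
  105, 115, 121, 131, 122, 2133, 2112, 2122,
  2167, 2157, 175, 225, 195, 235, 271, 2232,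
  272, 2251, 278, 279, 2258, 2253, 2238, 2239,
  2233, 2287, 2243, 2269, 2263, 2249, 2248, 2351,
  2327, 2301, 2317, 2397, 2277, 2451, 315, 405,
  465, 475, 534, 544, 694, 704, 555, 565,
  625, 615, 574, 644, 604, 684, 634, 654,
  674, 664, 1115, 1125, 1195, 1215, 1134, 1144,
  1204, 1224, 1155, 1165, 1405, 1375, 1255, 1265,
  1565, 1475, 1345, 1535, 1365, 1435, 1425, 1455,
  1485, 1575, 1594, 1614, 1604, 1624, 1634, 1644,
  1654, 1664, 1674, 1704, 1684, 1694, 1715, 1725,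
  1735, 1765, 1745, 1775, 1755, 1785, 1995, 2005,
  2015, 2025]
def tree : List ℕ :=
  tree_0

def ph0_0 : List ℕ := [
  2048, 2049, 2050, 2051, 2052, 2053, 2054, 2055,
  54571, 868370, 53271, 53311, 49211, 868531, 864426, 864476,
  872680, 876769, 872692, 880662, 884968, 880865, 884980, 893211,
  889115, 889161, 50557, 58745, 50572, 120210, 30126, 120072,
  116104, 99741, 99755, 99659, 116054, 58708, 107889, 9572,
  107914, 116108, 700426, 708632, 733361, 737452, 733440, 803794,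
  803863, 738315, 791290, 790661, 766094, 770288, 774379, 725245,
  720906, 741553, 811986, 774279, 872468, 53293, 893754, 877724,
  888876, 127021, 380975, 356392, 380969, 163895, 69860, 377187,
  192886, 393606, 672188, 693437, 378040, 685283, 685298, 335909,
  323873, 323812, 335885, 28695, 213224, 381166, 394254, 286730,
  692401, 222145, 221199, 561183, 221217, 483586, 303466, 213378,
  221638, 189333, 214034, 132151, 283783, 1033523, 217101, 135373,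
  152376, 283693, 561173, 475281, 283460, 574331, 544943, 270504,
  544940, 553249, 270652, 553931, 561176, 426208, 160898, 159767,
  61496, 159794, 467008, 360627, 315625, 164065, 459016, 467215,
  401684, 90427, 37178, 242037, 332180, 520609, 500119, 500141,
  528828, 500161, 250743, 144281, 271281, 218044, 267218, 664596,
  672803, 517182, 689258, 95342, 664732, 468119, 292059, 466979,
  401448, 290882, 315593, 655601, 655603, 655614, 61744, 397612,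
  307560, 156008, 418173, 524702, 319905, 594348, 258486, 127855,
  336757, 295837, 652224, 308231, 595027, 316566, 353503, 595186,
  696330, 319531, 393387, 688167, 188454, 377136, 357422, 57371,
  376996, 676938, 675858, 233768, 676157, 521167, 622625, 622758,
  516348, 524313, 237619, 516381, 266590, 209264, 398359, 413711,
  540819, 508058, 413893, 86224, 463154, 463168, 492361, 344975,
  541579, 398238, 422832, 295847, 541611, 345127, 422991, 582750,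
  87128, 312439, 311318, 311322, 295769, 454693, 294958, 299074,
  340251, 487713, 340328, 487798, 509095, 488638, 263351, 341190,
  435423, 439534, 341224, 267519, 331801, 532509, 442400, 94245,
  487680, 360733, 455703, 455912, 471075, 217128, 208962, 299067,
  405805, 311706, 439516, 152800, 495637, 507941, 458897, 258297,
  540961, 450903, 278902, 450955, 360865, 545212, 275326, 332949,
  684051, 491547, 528419, 417858, 463047, 647451, 274787, 33639,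
  234650, 245773, 643277, 644235, 643220, 372957, 598429, 246173,
  631191, 590285, 299959, 427047, 631995, 630801, 581844, 635148,
  631201, 389173, 389170, 364973, 364589, 634927, 635184, 348318,
  553857, 344331, 360479, 581682, 450936, 606603, 606237, 610327,
  1176885, 1189173, 192569, 184528, 668582, 627831, 165002, 1013045,
  192527, 127193, 197379, 606229, 368664, 204937, 172170, 610526,
  147701, 168171, 148177, 668466, 667672, 626871, 627798, 335899,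
  323783, 381145, 1209651, 1090867, 5427, 9525, 708622, 98334,
  106528, 704647, 721036, 737428, 778400, 725697, 766676, 729845,
  746293, 783159, 774158, 704665, 725024, 770196, 1246517, 798860,
  712718, 1262901, 1258805, 103101, 116019, 58677, 73741, 65566,
  86151, 82060, 77980, 73892, 352466, 315602, 29002, 659871,
  655773, 651693, 663979, 651706, 324031, 94905, 17089, 348884,
  90853, 25333, 398133, 377656, 193361, 78687, 168804, 353231,
  173013, 234538, 230522, 566410, 664714, 659471, 172048, 540806,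
  508041, 651430, 139435, 586034, 549586, 238292, 176859, 537325]
def ph0_1 : List ℕ := [
  451341, 181028, 430875, 160556, 246584, 430994, 680846, 275341,
  254859, 385958, 328658, 250926, 672807, 365645, 185414, 685143,
  394343, 21645, 24588, 32916, 143505, 143520, 196758, 16581,
  594252, 307547, 168294, 168308, 598382, 37589, 144074, 332610,
  148339, 246674, 639922, 181212, 181228, 181244, 570379, 177180,
  193652, 824627, 841013, 1283381, 204826, 327714, 671787, 675885,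
  393282, 622833, 692640, 684465, 623358, 516857, 521064, 644068,
  693259, 631880, 697486, 648353, 274460, 528415, 364598, 450707,
  639207, 258306, 368956, 201012, 455354, 438990, 492231, 45931,
  615306, 607134, 369578, 603069, 602157, 610343, 610473, 602312,
  585936, 270571, 545049, 532762, 569758, 147890, 348621, 533271,
  267111, 341082, 414803, 341102, 570538, 570548, 312537, 503980,
  299971, 218051, 471061, 234174, 570130, 45918, 570199, 495650,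
  1156405, 1226035, 1238323, 849205, 828723, 845109, 1287477, 111923,
  921614, 118814, 917639, 925836, 958611, 942269, 929994, 950482,
  934098, 963362, 1008670, 955439, 975035, 955104, 987974, 947170,
  995341, 974985, 995470, 991370, 925894, 971749, 939091, 983172,
  970888, 1003656, 1007750, 122912, 50483, 872462, 880775, 892943,
  872581, 1250613, 13625, 701763, 778241, 712707, 708613, 761863,
  749577, 8261, 757842, 716900, 741499, 782456, 794739, 98804,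
  811523, 1242417, 1249285, 802885, 733189, 107127, 102401, 111921,
  118785, 114691, 929799, 122956, 958584, 29999, 4097, 65539,
  380935, 57420, 127069, 315482, 225391, 335992, 651393, 328254,
  189010, 655970, 250478, 696999, 680626, 667651, 692353, 1221935,
  1238319, 1228805, 1209647, 1220612, 1058097, 1201455, 156143, 1021233,
  495617, 417795, 131077, 524295, 528393, 168005, 499788, 458834,
  385117, 430170, 233557, 258136, 401508, 520303, 512108, 20603,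
  647288, 618611, 221302, 331905, 241791, 287231, 467507, 291394,
  447038, 246327, 483899, 389714, 475726, 160327, 275019, 41570,
  78423, 62066, 639598, 623207, 406123, 33442, 303774, 213655,
  70299, 365223, 643755, 631474, 373423, 184323, 352261, 626764,
  598098, 139364, 561275, 73846, 635007, 586291, 426562, 307790,
  205410, 565874, 172706, 594590, 590487, 320155, 1180977, 1187845,
  1172785, 1140017, 1164593, 898353, 849201, 1152305, 906545, 857393,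
  914745, 954369, 921605, 946183, 950281, 942162, 938107, 987256,
  995443, 1008111, 851972, 1086767, 1131825, 1070383, 1115439, 1041711,
  1033519, 1036292, 824623, 841009, 831493, 815109, 1283377, 1273861,
  1144113, 1142788, 1078575, 1077252, 1062191, 1099057, 1123631, 1107249,
  1193263, 1045809, 1013041, 1024004, 50481, 53255, 1266993, 1257477,
  865603, 872453, 868361, 864328, 876623, 880732, 888954, 868473,
  885224, 888847, 876677, 53380, 1197363, 1191940, 1164597, 1159172,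
  1131829, 1126404, 1115443, 1110020, 1099061, 1093636, 1066291, 1060868,
  1049909, 1044484, 902453, 897028]

def ph1_0 : List Aux := [
  .node 29 1, .derive 29 [.edge 6, .edge 4, .edge 5, .edge 4, .edge 2, .edge 1, .edge 4, .edge 5, .edge 4, .edge 6, .fwd 0] [2] (.rel 1480), .derive 315 [.bwd 1, .edge 7, .fwd 1, .bwd 0, .fwd 1, .bwd 0] [] (.rel 136), .derive 315 [.fwd 0] [] (.free), .derive 29 [.fwd 3, .fwd 0] [1] (.free), .commit 0]
def ph1 : List Aux :=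
  ph1_0

def ph2_0 : List ℕ := [
  122891, 118799, 921749, 123046, 118999, 114734, 929832, 938043,
  942353, 950572, 1003844, 950686, 930209, 967083, 954800, 1008058,
  942527, 946611, 958903, 1008065, 938584, 979868, 935113, 1004772,
  958470, 1003586, 999515, 999533, 954470, 934109, 991664, 995749,
  995764, 995363, 991279]

def ph3_0 : List Aux := [
  .node 24 1, .derive 316 [.bwd 0, .edge 4, .edge 5, .edge 4, .edge 6, .edge 1, .edge 2, .edge 6, .edge 4, .edge 5, .edge 4] [2] (.rel 1485), .derive 24 [.edge 7, .fwd 1, .fwd 0, .fwd 1, .fwd 0, .fwd 1] [] (.rel 137), .derive 316 [.bwd 0] [] (.free), .derive 24 [.fwd 3, .fwd 0] [1] (.free), .commit 0]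
def ph3 : List Aux :=
  ph3_0

def ph4_0 : List ℕ := [
  102411, 98319, 708757, 102566, 721074, 733489, 102702, 737599,
  102716, 717726, 730038, 745509, 725138, 753896, 106772, 807201,
  741803, 803248, 737727, 799301, 807480, 807603, 775012, 725904,
  791433, 754573, 750490, 107425, 783277, 803876, 808031, 787542,
  795815, 758985, 791765, 783577, 795886, 787702, 791807, 1213729,
  1209612, 1221915, 1217933, 794634, 786456, 782365, 749606, 778291,
  798782, 770272, 778532]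

def ph5_0 : List Aux := [
  .node 159 5, .derive 317 [.bwd 0, .edge 9, .edge 8, .edge 5, .edge 4, .edge 8, .edge 7, .edge 9] [4] (.rel 1321), .node 161 5, .derive 318 [.bwd 0, .edge 6, .fwd 2, .fwd 1, .edge 3] [4] (.rel 1289), .node 291 2, .derive 292 [.edge 4, .fwd 2, .fwd 1, .edge 6, .edge 1, .edge 2, .edge 6, .bwd 3, .bwd 4, .edge 4, .fwd 0] [1] (.rel 1474), .derive 319 [.bwd 0, .edge 0, .fwd 1, .bwd 0, .edge 4, .edge 1, .edge 2, .edge 0, .edge 1, .edge 4] [] (.rel 1339), .derive 319 [.fwd 0] [] (.free),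
  .derive 291 [.fwd 3, .fwd 0] [2] (.free), .commit 0]
def ph5 : List Aux :=
  ph5_0

def ph6_0 : List ℕ := [
  1200141, 1205560, 1201472, 1193228, 1197339, 1234221, 1230113, 1205552,
  1226029, 1238305, 1196045]

def ph7_0 : List Aux := [
  .node 11 4, .node 22 4, .derive 321 [.bwd 0, .edge 6, .edge 1, .edge 2, .edge 6, .edge 4, .edge 5, .edge 4, .edge 2, .edge 1, .fwd 0] [5] (.rel 1476), .derive 220 [.edge 5, .fwd 1, .bwd 0, .bwd 1, .edge 5] [4] (.rel 1287), .node 177 4, .derive 322 [.bwd 0, .edge 2, .edge 1, .edge 4, .edge 5, .edge 4, .edge 6, .edge 1, .edge 2, .edge 6, .fwd 4] [5] (.rel 1483), .derive 308 [.edge 5, .fwd 1, .fwd 0, .bwd 5, .edge 5] [4] (.rel 1287), .derive 208 [.edge 7, .bwd 0, .edge 7] [4] (.rel 1330),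
  .derive 310 [.bwd 0, .edge 5, .edge 6, .edge 5, .bwd 4] [3] (.rel 1288), .derive 310 [.fwd 0] [3] (.free), .commit 0]
def ph7 : List Aux :=
  ph7_0

def ph8_0 : List ℕ := [
  1265664, 1261599, 734544, 738608, 804148, 800069, 1258833]

def ph9_0 : List Aux := [
  .node 22 4, .derive 323 [.bwd 0, .edge 6, .edge 1, .edge 2, .edge 6, .edge 4, .edge 5, .edge 4, .edge 2, .edge 1, .fwd 0] [5] (.rel 1476), .derive 208 [.edge 5, .edge 6, .fwd 1, .bwd 0, .bwd 1, .edge 5, .edge 3] [4] (.rel 1447), .derive 208 [.fwd 0] [4] (.free), .commit 0]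
def ph9 : List Aux :=
  ph9_0

def ph10_0 : List ℕ := [
  902409, 849198, 861490, 910601, 857390, 906505, 898354]

def ph11_0 : List Aux := [
  .node 2 4, .derive 324 [.bwd 0, .edge 5, .edge 4, .edge 5, .edge 4] [5] (.rel 1286), .derive 324 [.bwd 1, .edge 5, .edge 6, .edge 5, .fwd 1] [3] (.rel 1288), .derive 324 [.bwd 2, .edge 5, .edge 3, .edge 5, .fwd 2, .bwd 0] [6] (.rel 1303), .node 8 4, .node 9 4, .node 10 4, .derive 327 [.bwd 0, .edge 7, .fwd 2] [7] (.rel 1331),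
  .node 11 4, .derive 328 [.bwd 0, .edge 0, .fwd 2] [0] (.rel 1327), .derive 328 [.bwd 1, .edge 7, .fwd 4] [7] (.rel 1331), .node 15 4, .node 15 5, .node 17 4, .node 18 4, .derive 332 [.bwd 0, .edge 7, .fwd 3] [7] (.rel 1331),
  .node 18 5, .derive 333 [.bwd 0, .edge 7, .fwd 4] [7] (.rel 1333), .node 19 4, .derive 334 [.bwd 0, .edge 7, .fwd 5] [7] (.rel 1331), .node 20 4, .derive 335 [.bwd 0, .edge 0, .fwd 9] [0] (.rel 1327), .node 20 5, .derive 336 [.bwd 0, .edge 0, .fwd 10] [0] (.rel 1329),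
  .node 21 5, .derive 337 [.bwd 0, .edge 0, .fwd 8] [0] (.rel 1329), .derive 337 [.bwd 1, .edge 7, .fwd 3] [7] (.rel 1333), .node 22 4, .derive 338 [.bwd 0, .edge 6, .edge 1, .edge 2, .edge 6, .edge 4, .edge 5, .edge 4, .edge 2, .edge 1, .fwd 0] [5] (.rel 1476), .derive 220 [.edge 5, .fwd 1, .bwd 0, .bwd 1, .edge 5] [4] (.rel 1287), .derive 208 [.edge 5, .edge 6, .fwd 2, .bwd 1, .bwd 2, .edge 5, .edge 3] [4] (.rel 1447), .derive 331 [.bwd 17, .edge 6, .edge 1, .edge 2, .edge 6, .fwd 3, .bwd 2, .bwd 3, .edge 2, .edge 1, .fwd 17] [5] (.rel 1476),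
  .derive 219 [.edge 5, .fwd 18, .fwd 0, .bwd 18, .edge 5] [4] (.rel 1287), .derive 207 [.edge 5, .edge 6, .fwd 19, .fwd 1, .bwd 19, .edge 5, .edge 3] [4] (.rel 1447), .derive 307 [.edge 7, .bwd 0, .edge 7] [4] (.rel 1330), .derive 221 [.edge 5, .edge 6, .edge 5, .bwd 0, .edge 3] [4] (.rel 1289), .derive 210 [.edge 0, .bwd 1, .edge 0] [4] (.rel 1326), .node 28 1, .derive 339 [.bwd 0, .edge 6, .edge 1] [6] (.rel 10), .derive 339 [.bwd 1, .edge 9, .edge 1] [8] (.rel 18),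
  .derive 339 [.bwd 2, .edge 7, .edge 9, .edge 7, .edge 1] [3] (.rel 146), .node 28 2, .derive 340 [.bwd 0, .edge 9, .edge 2] [3] (.rel 22), .derive 340 [.bwd 1, .edge 3, .edge 2] [9] (.rel 20), .derive 340 [.bwd 2, .edge 6, .edge 2] [6] (.rel 24), .node 30 8, .derive 341 [.bwd 0, .edge 1, .bwd 2] [1] (.rel 17), .derive 341 [.bwd 1, .edge 2, .fwd 1] [2] (.rel 27),
  .derive 341 [.bwd 2, .edge 6, .edge 8] [6] (.rel 35), .derive 341 [.bwd 3, .edge 6, .edge 3, .edge 8] [3] (.rel 45), .node 35 4, .node 35 5, .node 36 4, .node 36 5, .derive 345 [.bwd 0, .edge 7, .fwd 2] [7] (.rel 1333), .node 39 4,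
  .node 39 5, .derive 347 [.bwd 0, .edge 0, .fwd 5] [0] (.rel 1329), .node 41 4, .derive 348 [.bwd 0, .edge 0, .fwd 6] [0] (.rel 1327), .derive 348 [.bwd 1, .edge 7, .fwd 4] [7] (.rel 1331), .node 41 5, .derive 349 [.bwd 0, .edge 7, .fwd 5] [7] (.rel 1333), .node 51 4,
  .node 52 4, .node 58 4, .derive 352 [.bwd 0, .edge 7, .fwd 2] [7] (.rel 1331), .node 59 4, .node 63 5, .node 65 5, .node 66 5, .derive 356 [.bwd 0, .edge 7, .fwd 1] [7] (.rel 1333),
  .node 71 4, .node 72 4, .derive 358 [.bwd 0, .edge 0, .fwd 1] [0] (.rel 1327), .node 72 5, .node 73 4, .derive 360 [.bwd 0, .edge 6, .edge 5, .edge 3, .edge 6, .edge 5] [6] (.rel 1404), .node 74 4, .node 75 4,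
  .derive 362 [.bwd 0, .edge 7, .fwd 7] [7] (.rel 1331), .node 75 5, .node 76 4, .derive 364 [.bwd 0, .edge 0, .fwd 3] [0] (.rel 1327), .derive 364 [.bwd 1, .edge 7, .fwd 10] [7] (.rel 1331), .node 76 5, .derive 365 [.bwd 0, .edge 7, .fwd 10] [7] (.rel 1333), .node 77 4,
  .node 77 5, .node 80 4, .derive 368 [.bwd 0, .edge 7, .fwd 2] [7] (.rel 1331), .node 80 5, .derive 369 [.bwd 0, .edge 7, .fwd 3] [7] (.rel 1333), .node 81 4, .derive 370 [.bwd 0, .edge 7, .fwd 15] [7] (.rel 1331), .derive 370 [.bwd 1, .edge 6, .edge 5, .edge 3, .edge 6, .edge 5] [6] (.rel 1404),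
  .node 83 4, .derive 371 [.bwd 0, .edge 0, .fwd 3] [0] (.rel 1327), .derive 371 [.bwd 1, .edge 7, .fwd 21] [7] (.rel 1331), .derive 371 [.bwd 2, .edge 6, .edge 5, .edge 3, .edge 6, .edge 5] [6] (.rel 1404)]
def ph11_1 : List Aux := [
  .node 83 5, .node 85 4, .node 85 5, .node 86 4, .derive 375 [.bwd 0, .edge 0, .fwd 2] [0] (.rel 1327), .node 86 5, .node 87 4, .node 87 5,
  .node 90 5, .derive 379 [.bwd 0, .edge 7, .fwd 6] [7] (.rel 1333), .node 91 4, .derive 380 [.bwd 0, .edge 7, .fwd 7] [7] (.rel 1331), .node 91 5, .derive 381 [.bwd 0, .edge 0, .fwd 4] [0] (.rel 1329), .derive 381 [.bwd 1, .edge 7, .fwd 8] [7] (.rel 1333), .node 92 4,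
  .derive 382 [.bwd 0, .edge 7, .fwd 9] [7] (.rel 1331), .node 92 5, .derive 383 [.bwd 0, .edge 0, .fwd 26] [0] (.rel 1329), .derive 383 [.bwd 1, .edge 7, .fwd 11] [7] (.rel 1333), .node 108 4, .node 109 4, .derive 385 [.bwd 0, .edge 0, .fwd 1] [0] (.rel 1327), .node 127 5,
  .node 129 4, .node 129 5, .node 130 4, .derive 389 [.bwd 0, .edge 0, .fwd 2] [0] (.rel 1327), .node 130 5, .node 149 4, .derive 391 [.bwd 0, .edge 7, .fwd 3] [7] (.rel 1331), .node 149 5,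
  .derive 392 [.bwd 0, .edge 7, .fwd 3] [7] (.rel 1333), .node 152 5, .derive 393 [.bwd 0, .edge 7, .fwd 10] [7] (.rel 1333), .node 156 4, .node 158 5, .derive 395 [.bwd 0, .edge 0, .fwd 5] [0] (.rel 1329), .derive 395 [.bwd 1, .edge 7, .fwd 12] [7] (.rel 1333), .node 159 5,
  .derive 396 [.bwd 0, .edge 9, .edge 8, .edge 5, .edge 4, .edge 8, .edge 7, .edge 9] [4] (.rel 1321), .node 160 5, .derive 397 [.bwd 0, .edge 3, .fwd 2, .fwd 1, .edge 3, .edge 6] [4] (.rel 1304), .derive 397 [.bwd 1, .edge 7, .fwd 3] [7] (.rel 1333), .node 161 5, .derive 398 [.bwd 0, .edge 6, .fwd 5, .fwd 4, .edge 3] [4] (.rel 1289), .node 162 5, .derive 399 [.bwd 0, .edge 6, .fwd 5, .fwd 4, .edge 3] [4] (.rel 1289),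
  .derive 399 [.bwd 1, .edge 7, .fwd 3] [7] (.rel 1333), .node 163 5, .node 164 5, .node 165 5, .derive 402 [.bwd 0, .edge 7, .fwd 2] [7] (.rel 1333), .node 166 5, .node 167 5, .node 169 5,
  .node 172 4, .node 174 4, .derive 407 [.bwd 0, .edge 5, .fwd 123, .edge 5, .fwd 151] [5] (.rel 1286), .node 175 4, .derive 408 [.bwd 0, .edge 5, .bwd 126, .edge 5, .fwd 155] [5] (.rel 1286), .derive 408 [.bwd 1, .edge 7, .fwd 3] [7] (.rel 1331), .node 177 4, .derive 409 [.bwd 0, .edge 5, .bwd 126, .edge 5, .fwd 154] [5] (.rel 1286),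
  .node 178 4, .derive 410 [.bwd 0, .edge 5, .bwd 134, .edge 5, .fwd 159] [5] (.rel 1286), .derive 410 [.bwd 1, .edge 7, .fwd 3] [7] (.rel 1331), .node 179 4, .derive 411 [.bwd 0, .edge 5, .edge 3, .edge 5, .bwd 138, .edge 3] [6] (.rel 1303), .derive 184 [.edge 3, .edge 6, .edge 5, .bwd 0, .bwd 1, .edge 6] [5] (.rel 1407), .derive 185 [.edge 0, .fwd 0, .edge 0] [5] (.rel 1328), .derive 190 [.edge 1, .edge 0, .edge 2, .edge 1, .fwd 1, .edge 1, .edge 2, .edge 0, .edge 1] [5] (.rel 1349),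
  .derive 360 [.fwd 94, .edge 5, .edge 3, .fwd 2, .edge 3, .edge 5, .bwd 94] [3] (.rel 1458), .derive 371 [.fwd 74, .fwd 0, .bwd 74] [3] (.rel 31), .derive 304 [.edge 7, .bwd 96, .fwd 1, .fwd 96, .edge 7] [3] (.rel 262), .derive 303 [.edge 0, .fwd 0, .edge 0] [3] (.rel 0), .node 180 4, .derive 412 [.bwd 0, .edge 5, .edge 3, .edge 5, .bwd 144, .edge 3] [6] (.rel 1303), .derive 412 [.bwd 1, .edge 0, .fwd 10] [0] (.rel 1327), .node 181 4,
  .node 183 4, .derive 414 [.bwd 0, .edge 5, .edge 4, .fwd 36, .fwd 35] [5] (.rel 1286), .derive 413 [.bwd 2, .edge 8, .edge 7, .edge 9, .fwd 1, .fwd 0, .edge 9, .edge 8] [5] (.rel 1325), .derive 239 [.bwd 0, .bwd 3, .edge 5, .edge 4, .fwd 32] [4] (.rel 1287), .derive 244 [.edge 6, .bwd 1, .bwd 4, .edge 6, .edge 5, .edge 4, .edge 6, .fwd 30] [4] (.rel 1367), .derive 402 [.bwd 33, .edge 6, .edge 4, .edge 5, .fwd 5, .fwd 2, .edge 3] [4] (.rel 1447), .derive 232 [.edge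 7, .bwd 0, .fwd 33] [4] (.rel 1330), .derive 404 [.bwd 32, .edge 9, .edge 8, .fwd 35, .fwd 1, .edge 8, .edge 7, .edge 9] [4] (.rel 1321),
  .derive 229 [.edge 3, .edge 6, .bwd 0, .bwd 33, .edge 3, .fwd 32] [4] (.rel 1301), .node 184 4, .derive 415 [.bwd 0, .bwd 20, .edge 6, .edge 5, .fwd 126] [3] (.rel 1288), .derive 415 [.bwd 1, .edge 6, .fwd 23, .fwd 22, .bwd 160] [6] (.rel 1355), .node 185 4, .derive 416 [.bwd 0, .bwd 22, .edge 6, .edge 5, .fwd 128] [3] (.rel 1288), .derive 416 [.bwd 1, .edge 6, .fwd 17, .fwd 16, .bwd 160] [6] (.rel 1355), .node 187 4,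
  .node 189 4, .derive 418 [.bwd 0, .edge 7, .fwd 7] [7] (.rel 1331), .node 190 4, .derive 419 [.bwd 0, .bwd 27, .edge 6, .edge 5, .fwd 131] [3] (.rel 1288)]
def ph11_2 : List Aux := [
  .derive 419 [.bwd 1, .edge 7, .fwd 7] [7] (.rel 1331), .derive 419 [.bwd 2, .edge 6, .edge 5, .edge 3, .edge 6, .edge 5] [6] (.rel 1404), .node 191 4, .derive 420 [.bwd 0, .edge 5, .edge 4, .fwd 56, .fwd 55] [5] (.rel 1286), .derive 420 [.bwd 1, .edge 7, .fwd 23] [7] (.rel 1331), .node 193 4, .derive 421 [.bwd 0, .edge 5, .edge 4, .fwd 64, .fwd 63] [5] (.rel 1286), .derive 421 [.bwd 1, .edge 7, .fwd 11] [7] (.rel 1331),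
  .node 195 4, .derive 422 [.bwd 0, .edge 5, .edge 3, .edge 5, .bwd 173, .edge 3] [6] (.rel 1303), .derive 422 [.bwd 1, .edge 7, .fwd 33] [7] (.rel 1331), .node 196 4, .derive 423 [.bwd 0, .edge 7, .fwd 44] [7] (.rel 1331), .node 198 4, .derive 424 [.bwd 0, .edge 5, .edge 4, .fwd 60, .bwd 29] [5] (.rel 1286), .node 199 1,
  .node 199 2, .node 199 3, .node 199 6, .node 199 8, .node 199 9, .node 200 1, .node 200 3, .derive 432 [.bwd 0, .edge 0, .fwd 5] [0] (.rel 1),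
  .node 200 6, .node 200 8, .derive 434 [.bwd 0, .edge 0, .fwd 5] [0] (.rel 7), .node 200 9, .derive 435 [.bwd 0, .edge 0, .fwd 8] [0] (.rel 9), .node 201 1, .derive 436 [.bwd 0, .edge 7, .fwd 13] [7] (.rel 12), .node 201 2,
  .derive 437 [.bwd 0, .edge 7, .fwd 16] [7] (.rel 14), .node 201 3, .derive 438 [.bwd 0, .edge 7, .fwd 16] [7] (.rel 30), .node 201 6, .derive 439 [.bwd 0, .edge 7, .fwd 17] [7] (.rel 32), .node 201 8, .node 201 9, .node 202 2,
  .derive 442 [.bwd 0, .edge 7, .fwd 18] [7] (.rel 14), .node 202 3, .derive 443 [.bwd 0, .edge 0, .fwd 8] [0] (.rel 1), .derive 443 [.bwd 1, .edge 7, .fwd 20] [7] (.rel 30), .node 202 6, .derive 444 [.bwd 0, .edge 0, .fwd 9] [0] (.rel 3), .derive 444 [.bwd 1, .edge 7, .fwd 21] [7] (.rel 32), .node 202 8,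
  .derive 445 [.bwd 0, .edge 0, .fwd 9] [0] (.rel 7), .node 202 9, .derive 446 [.bwd 0, .edge 0, .fwd 12] [0] (.rel 9), .node 203 3, .node 203 4, .node 203 6, .node 203 9, .node 204 3,
  .node 204 4, .derive 452 [.bwd 0, .edge 0, .fwd 4] [0] (.rel 1327), .node 204 6, .derive 453 [.bwd 0, .edge 0, .fwd 5] [0] (.rel 3), .node 204 8, .derive 454 [.bwd 0, .edge 0, .fwd 6] [0] (.rel 7), .node 205 3, .derive 455 [.bwd 0, .edge 7, .fwd 11] [7] (.rel 30),
  .node 205 4, .derive 456 [.bwd 0, .edge 7, .fwd 12] [7] (.rel 1331), .node 205 6, .derive 457 [.bwd 0, .edge 7, .fwd 13] [7] (.rel 32), .node 205 9, .node 206 3, .derive 459 [.bwd 0, .edge 0, .fwd 7] [0] (.rel 1), .derive 459 [.bwd 1, .edge 7, .fwd 15] [7] (.rel 30),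
  .node 206 4, .derive 460 [.bwd 0, .edge 7, .fwd 16] [7] (.rel 1331), .node 206 6, .derive 461 [.bwd 0, .edge 7, .fwd 16] [7] (.rel 32), .node 206 8, .derive 462 [.bwd 0, .edge 0, .fwd 8] [0] (.rel 7), .node 207 3, .derive 463 [.bwd 0, .bwd 84, .fwd 85] [6] (.rel 28),
  .node 207 9, .node 208 3, .derive 465 [.bwd 0, .bwd 90, .fwd 91] [6] (.rel 28), .node 208 8, .derive 464 [.bwd 3, .fwd 250, .edge 5, .edge 9, .edge 8, .edge 5, .bwd 253, .fwd 0] [7] (.rel 1319), .node 209 3, .derive 467 [.bwd 0, .bwd 84, .fwd 86] [6] (.rel 28), .derive 467 [.bwd 1, .edge 7, .fwd 8] [7] (.rel 30),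
  .derive 467 [.bwd 2, .bwd 253, .edge 5, .edge 6, .edge 5] [4] (.rel 1293), .node 209 8, .node 210 3, .derive 469 [.bwd 0, .edge 0, .fwd 5] [0] (.rel 1), .derive 469 [.bwd 1, .edge 7, .fwd 10] [7] (.rel 30), .derive 469 [.bwd 2, .fwd 256, .edge 5, .edge 6, .edge 5] [4] (.rel 1293), .node 210 9, .derive 470 [.bwd 0, .edge 0, .fwd 5] [0] (.rel 9),
  .node 211 4, .node 211 5, .node 212 4, .node 213 4]
def ph11_3 : List Aux := [
  .derive 474 [.bwd 0, .edge 7, .fwd 3] [7] (.rel 1331), .node 213 5, .derive 475 [.bwd 0, .edge 7, .fwd 4] [7] (.rel 1333), .node 214 4, .derive 476 [.bwd 0, .edge 7, .fwd 5] [7] (.rel 1331), .node 215 4, .derive 477 [.bwd 0, .edge 2, .edge 1, .edge 4, .bwd 304, .bwd 305, .edge 6, .edge 1, .edge 2, .edge 6, .fwd 149] [5] (.rel 1483), .derive 215 [.fwd 1, .fwd 0, .bwd 150, .edge 5, .bwd 13] [5] (.rel 1286),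
  .derive 372 [.bwd 207, .fwd 211, .fwd 134, .fwd 208, .bwd 14, .bwd 0, .edge 3] [] (.rel 1306), .derive 372 [.fwd 0] [] (.free), .derive 216 [.bwd 0, .bwd 209] [5] (.free), .derive 467 [.bwd 19, .bwd 3, .edge 0, .fwd 13] [] (.rel 1328), .derive 472 [.bwd 0] [] (.free), .derive 467 [.bwd 0, .bwd 10] [7] (.free), .derive 463 [.bwd 26, .fwd 0] [] (.free), .derive 475 [.bwd 0] [] (.free),
  .derive 463 [.bwd 0, .bwd 14] [5] (.free), .derive 476 [.bwd 13, .edge 3, .bwd 0, .bwd 38, .fwd 283, .edge 3] [6] (.rel 1388), .derive 412 [.fwd 140, .bwd 284, .fwd 39, .bwd 2, .bwd 16, .edge 3, .fwd 14] [3] (.rel 1387), .derive 473 [.bwd 14, .bwd 0, .bwd 108] [3] (.rel 31), .node 219 8, .node 220 9, .derive 479 [.bwd 0, .edge 0, .fwd 1] [0] (.rel 9), .node 221 9,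
  .node 222 8, .derive 481 [.bwd 0, .edge 0, .fwd 1] [0] (.rel 7), .node 223 4, .node 223 5, .node 224 4, .node 224 5, .derive 485 [.bwd 0, .edge 0, .fwd 2] [0] (.rel 1329), .node 224 6,
  .derive 486 [.bwd 0, .edge 1, .fwd 0] [1] (.rel 11), .derive 486 [.bwd 1, .edge 2, .bwd 294] [2] (.rel 25), .derive 486 [.bwd 2, .edge 7, .bwd 285] [7] (.rel 32), .derive 486 [.bwd 3, .edge 9, .edge 6] [9] (.rel 36), .derive 484 [.bwd 7, .edge 2, .edge 1, .edge 4, .edge 5, .edge 4, .edge 6, .fwd 298, .bwd 2, .bwd 4, .fwd 7] [5] (.rel 1483), .derive 482 [.bwd 10, .edge 2, .edge 1, .fwd 8, .fwd 0, .bwd 8, .fwd 5, .bwd 4, .fwd 3, .fwd 298, .fwd 10] [5] (.rel 1483), .derive 483 [.bwd 10, .fwd 11, .fwd 0, .bwd 11, .fwd 10] [4] (.rel 1287), .derive 485 [.fwd 8, .fwd 0, .bwd 8] [4] (.rel 1326),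
  .node 225 4, .derive 487 [.bwd 0, .edge 7, .fwd 14] [7] (.rel 1331), .derive 487 [.bwd 1, .edge 2, .edge 1, .fwd 15, .bwd 4, .bwd 15, .bwd 303, .bwd 304, .fwd 300, .fwd 297, .fwd 1] [5] (.rel 1483), .node 225 5, .derive 488 [.bwd 0, .edge 7, .fwd 16] [7] (.rel 1333), .node 226 4, .derive 489 [.bwd 0, .edge 7, .fwd 17] [7] (.rel 1331), .derive 489 [.bwd 1, .edge 2, .edge 1, .fwd 6, .bwd 4, .bwd 6, .bwd 302, .bwd 300, .bwd 299, .fwd 298, .fwd 1] [5] (.rel 1483),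
  .node 226 5, .derive 490 [.bwd 0, .edge 7, .fwd 19] [7] (.rel 1333), .node 227 5, .node 228 4, .node 228 5, .derive 493 [.bwd 0, .edge 0, .fwd 2] [0] (.rel 1329), .node 230 4, .node 230 5,
  .node 233 4, .derive 496 [.bwd 0, .edge 7, .fwd 2] [7] (.rel 1331), .node 233 5, .derive 497 [.bwd 0, .edge 7, .fwd 3] [7] (.rel 1333), .node 234 4, .derive 498 [.bwd 0, .edge 7, .fwd 9] [7] (.rel 1331), .node 234 5, .derive 499 [.bwd 0, .edge 7, .fwd 10] [7] (.rel 1333),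
  .node 235 4, .derive 500 [.bwd 0, .edge 0, .fwd 8] [0] (.rel 1327), .node 235 5, .node 237 4, .derive 502 [.bwd 0, .edge 7, .fwd 3] [7] (.rel 1331), .node 237 5, .derive 503 [.bwd 0, .edge 0, .fwd 14] [0] (.rel 1329), .derive 503 [.bwd 1, .edge 7, .fwd 4] [7] (.rel 1333),
  .node 245 4, .derive 504 [.bwd 0, .edge 0, .fwd 12] [0] (.rel 1327), .node 245 5, .derive 505 [.bwd 0, .edge 7, .fwd 24] [7] (.rel 1333), .node 263 1, .node 263 2, .node 263 3, .node 263 5,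
  .node 263 6, .node 263 8, .node 263 9, .node 264 1, .node 264 2, .node 264 3, .derive 515 [.bwd 0, .edge 0, .fwd 7] [0] (.rel 1), .node 264 6,
  .derive 516 [.bwd 0, .edge 0, .fwd 7] [0] (.rel 3), .node 264 8, .derive 517 [.bwd 0, .edge 0, .fwd 7] [0] (.rel 7), .node 264 9, .derive 518 [.bwd 0, .edge 0, .fwd 10] [0] (.rel 9), .node 265 2, .derive 519 [.bwd 0, .edge 7, .fwd 17] [7] (.rel 14), .node 265 3,
  .derive 520 [.bwd 0, .edge 7, .fwd 17] [7] (.rel 30), .node 265 5, .derive 521 [.bwd 0, .edge 7, .fwd 18] [7] (.rel 1333), .node 265 6]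
def ph11_4 : List Aux := [
  .derive 522 [.bwd 0, .edge 7, .fwd 19] [7] (.rel 32), .node 265 8, .node 265 9, .node 266 1, .derive 525 [.bwd 0, .edge 7, .fwd 19] [7] (.rel 12), .node 266 2, .derive 526 [.bwd 0, .edge 7, .fwd 22] [7] (.rel 14), .node 266 3,
  .derive 527 [.bwd 0, .edge 7, .fwd 22] [7] (.rel 30), .node 266 6, .derive 528 [.bwd 0, .edge 7, .fwd 22] [7] (.rel 32), .node 266 8, .derive 529 [.bwd 0, .edge 0, .fwd 9] [0] (.rel 7), .node 279 3, .node 279 9, .node 280 3,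
  .derive 532 [.bwd 0, .edge 0, .fwd 2] [0] (.rel 1), .node 280 8, .derive 533 [.bwd 0, .edge 0, .fwd 3] [0] (.rel 7), .node 281 3, .derive 534 [.bwd 0, .edge 7, .fwd 6] [7] (.rel 30), .node 281 8, .node 282 9, .derive 536 [.bwd 0, .edge 0, .fwd 1] [0] (.rel 9),
  .node 291 1, .node 291 3, .node 291 6, .node 291 8, .node 291 9, .node 292 2, .node 292 3, .node 292 6,
  .derive 544 [.bwd 0, .edge 0, .fwd 5] [0] (.rel 3), .derive 544 [.bwd 1, .edge 4, .edge 6, .edge 4, .fwd 6] [4] (.rel 1354), .node 292 8, .derive 545 [.bwd 0, .edge 0, .fwd 6] [0] (.rel 7), .node 292 9, .derive 546 [.bwd 0, .edge 0, .fwd 9] [0] (.rel 9), .node 293 2, .derive 547 [.bwd 0, .edge 7, .fwd 14] [7] (.rel 14),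
  .derive 547 [.bwd 1, .edge 1, .edge 7, .edge 1, .fwd 10] [1] (.rel 135), .node 293 3, .derive 548 [.bwd 0, .edge 7, .fwd 16] [7] (.rel 30), .derive 548 [.bwd 1, .edge 5, .edge 3, .edge 5, .fwd 12] [5] (.rel 1360), .node 293 6, .derive 549 [.bwd 0, .edge 7, .fwd 18] [7] (.rel 32), .node 293 8, .node 293 9,
  .node 294 1, .derive 552 [.bwd 0, .edge 7, .fwd 19] [7] (.rel 12), .derive 552 [.bwd 1, .edge 7, .edge 1, .edge 2, .fwd 25] [2] (.rel 136), .node 294 3, .derive 553 [.bwd 0, .edge 7, .fwd 21] [7] (.rel 30), .node 294 6, .derive 554 [.bwd 0, .edge 0, .fwd 9] [0] (.rel 3), .derive 554 [.bwd 1, .edge 7, .fwd 23] [7] (.rel 32),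
  .node 294 8, .node 294 9, .derive 556 [.bwd 0, .edge 0, .fwd 11] [0] (.rel 9), .node 295 1, .derive 557 [.bwd 0, .edge 4, .fwd 310, .bwd 273, .edge 6, .edge 1, .edge 2, .edge 6, .fwd 271, .bwd 304, .edge 4] [2] (.rel 1485), .derive 302 [.edge 4, .edge 1, .edge 0, .edge 2, .edge 1, .edge 4, .fwd 1, .fwd 0, .edge 0] [1] (.rel 1338), .derive 299 [.edge 7, .bwd 0, .edge 7] [2] (.rel 15), .node 295 2,
  .derive 558 [.bwd 0, .fwd 4, .fwd 3, .fwd 2, .edge 7] [1] (.rel 133), .node 295 3, .node 295 8, .node 295 9, .node 296 3, .derive 562 [.bwd 0, .edge 0, .fwd 3] [0] (.rel 1), .derive 562 [.bwd 1, .edge 2, .fwd 41] [2] (.rel 21), .node 296 6,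
  .derive 563 [.bwd 0, .edge 1, .fwd 40] [1] (.rel 11), .node 296 8, .derive 564 [.bwd 0, .edge 0, .fwd 6] [0] (.rel 7), .derive 564 [.bwd 1, .edge 1, .fwd 38] [1] (.rel 17), .derive 564 [.bwd 2, .edge 2, .fwd 48] [2] (.rel 27), .node 296 9, .derive 565 [.bwd 0, .edge 0, .fwd 11] [0] (.rel 9), .derive 565 [.bwd 1, .edge 1, .fwd 44] [1] (.rel 19),
  .derive 565 [.bwd 2, .edge 2, .fwd 54] [2] (.rel 23), .node 297 1, .derive 566 [.bwd 0, .edge 7, .fwd 18] [7] (.rel 12), .derive 566 [.bwd 1, .edge 0, .edge 1, .edge 0, .fwd 34] [0] (.rel 69), .derive 566 [.bwd 2, .edge 7, .fwd 24, .fwd 23, .fwd 22] [2] (.rel 136), .node 297 3, .derive 567 [.bwd 0, .edge 7, .fwd 20] [7] (.rel 30), .node 297 6,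
  .node 297 9, .node 298 6, .derive 570 [.bwd 0, .edge 0, .fwd 2] [0] (.rel 3), .derive 570 [.bwd 1, .edge 1, .fwd 46] [1] (.rel 11), .derive 570 [.bwd 2, .edge 2, .fwd 38] [2] (.rel 25), .node 298 8, .derive 571 [.bwd 0, .edge 0, .fwd 5] [0] (.rel 7), .derive 571 [.bwd 1, .edge 1, .fwd 47] [1] (.rel 17),
  .derive 571 [.bwd 2, .edge 2, .fwd 39] [2] (.rel 27), .node 298 9, .derive 572 [.bwd 0, .edge 1, .fwd 51] [1] (.rel 19), .derive 572 [.bwd 1, .edge 2, .fwd 47] [2] (.rel 23)]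
def ph11_5 : List Aux := [
  .node 299 3, .node 299 6, .node 299 8, .node 299 9, .node 300 3, .derive 577 [.bwd 0, .bwd 42, .fwd 1] [2] (.rel 21), .node 300 6, .derive 578 [.bwd 0, .bwd 44, .fwd 5] [2] (.rel 25),
  .node 300 8, .derive 579 [.bwd 0, .bwd 46, .fwd 6] [2] (.rel 27), .node 301 9, .node 302 8, .derive 581 [.bwd 0, .fwd 50, .fwd 1] [1] (.rel 17), .node 303 9, .node 304 8, .derive 583 [.bwd 0, .edge 0, .fwd 1] [0] (.rel 7),
  .node 305 9, .node 306 8, .derive 585 [.bwd 0, .edge 0, .fwd 1] [0] (.rel 7), .node 309 8, .node 309 9, .node 310 8, .derive 588 [.bwd 0, .edge 0, .fwd 1] [0] (.rel 7), .node 310 9,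
  .derive 589 [.bwd 0, .edge 0, .fwd 4] [0] (.rel 9), .node 311 1, .node 311 2, .node 311 3, .derive 592 [.bwd 0, .edge 5, .edge 4, .edge 3, .edge 6, .fwd 448] [5] (.rel 1305), .node 311 4, .derive 593 [.bwd 0, .edge 5, .edge 4, .edge 5, .fwd 277] [5] (.rel 1286), .node 311 6,
  .derive 594 [.bwd 0, .edge 5, .edge 4, .edge 3, .fwd 473] [5] (.rel 1290), .node 311 8, .derive 595 [.bwd 0, .edge 5, .edge 4, .edge 8, .edge 7, .edge 9, .edge 4, .fwd 136] [9] (.rel 1323), .node 311 9, .node 312 1, .node 312 2, .node 312 3, .derive 599 [.bwd 0, .edge 5, .edge 4, .edge 3, .edge 6, .fwd 456] [5] (.rel 1305),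
  .node 312 4, .derive 600 [.bwd 0, .edge 5, .edge 4, .edge 5, .fwd 284] [5] (.rel 1286), .derive 600 [.bwd 1, .edge 0, .fwd 12] [0] (.rel 1327), .node 312 6, .derive 601 [.bwd 0, .edge 0, .fwd 12] [0] (.rel 3), .derive 601 [.bwd 1, .edge 5, .edge 4, .edge 3, .fwd 492] [5] (.rel 1290), .node 312 8, .derive 602 [.bwd 0, .edge 0, .fwd 11] [0] (.rel 7),
  .node 312 9, .derive 603 [.bwd 0, .edge 0, .fwd 15] [0] (.rel 9), .node 313 1, .derive 604 [.bwd 0, .edge 7, .fwd 24] [7] (.rel 12), .node 313 2, .derive 605 [.bwd 0, .edge 7, .fwd 27] [7] (.rel 14), .node 313 3, .derive 606 [.bwd 0, .edge 7, .fwd 27] [7] (.rel 30),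
  .derive 606 [.bwd 1, .edge 5, .edge 4, .edge 3, .edge 6, .fwd 483] [5] (.rel 1305), .node 313 4, .derive 607 [.bwd 0, .edge 7, .fwd 28] [7] (.rel 1331), .node 313 6, .derive 608 [.bwd 0, .edge 7, .fwd 28] [7] (.rel 32), .derive 608 [.bwd 1, .edge 5, .edge 4, .edge 3, .fwd 505] [5] (.rel 1290), .node 313 8, .node 313 9,
  .node 314 1, .derive 611 [.bwd 0, .edge 7, .fwd 27] [7] (.rel 12), .node 314 3, .derive 612 [.bwd 0, .edge 0, .fwd 12] [0] (.rel 1), .derive 612 [.bwd 1, .edge 7, .fwd 29] [7] (.rel 30), .derive 612 [.bwd 2, .edge 5, .edge 4, .edge 3, .edge 6, .fwd 495] [5] (.rel 1305), .node 314 4, .derive 613 [.bwd 0, .edge 5, .edge 4, .edge 5, .fwd 298] [5] (.rel 1286),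
  .derive 613 [.bwd 1, .edge 7, .fwd 31] [7] (.rel 1331), .node 314 6, .derive 614 [.bwd 0, .edge 0, .fwd 14] [0] (.rel 3), .derive 614 [.bwd 1, .edge 7, .fwd 31] [7] (.rel 32), .derive 614 [.bwd 2, .edge 5, .edge 4, .edge 3, .fwd 525] [5] (.rel 1290), .node 314 9, .derive 615 [.bwd 0, .edge 0, .fwd 15] [0] (.rel 9), .node 324 1,
  .derive 616 [.bwd 0, .bwd 576, .fwd 0] [6] (.rel 10), .derive 616 [.bwd 1, .bwd 580, .edge 5, .edge 4, .edge 6, .edge 1, .edge 2, .edge 6, .edge 4, .edge 5, .fwd 40] [2] (.rel 1485), .derive 613 [.fwd 9, .bwd 0, .bwd 2, .fwd 579, .fwd 2, .fwd 0, .bwd 9] [8] (.rel 826), .derive 593 [.bwd 40, .bwd 1, .bwd 3, .bwd 582, .edge 1, .edge 2, .edge 0, .edge 1, .fwd 582, .fwd 3] [] (.rel 1340), .derive 616 [.bwd 0] [] (.free), .derive 593 [.bwd 0, .bwd 5] [1] (.free), .derive 593 [.bwd 1, .fwd 4] [2] (.free), .derive 593 [.bwd 2, .bwd 6, .fwd 2] [6] (.free),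
  .derive 324 [.bwd 2, .bwd 58, .edge 5, .edge 4, .edge 6, .edge 1, .edge 2, .edge 6, .edge 4, .edge 5, .fwd 30] [2] (.rel 1485), .derive 600 [.bwd 48, .edge 5, .edge 4, .edge 2, .edge 1, .edge 4, .edge 5, .fwd 588, .fwd 585, .bwd 3, .fwd 2] [6] (.rel 1481), .derive 613 [.fwd 17, .fwd 0, .bwd 17] [6] (.rel 33), .derive 607 [.fwd 32, .bwd 3, .bwd 6, .fwd 9, .fwd 1, .bwd 18] [1] (.rel 193), .derive 451 [.bwd 336, .fwd 335, .bwd 50, .fwd 2, .fwd 50, .bwd 335] [] (.rel 1293), .derive 451 [.fwd 0] [] (.free), .derive 204 [.bwd 0, .bwd 322] [7] (.free), .derive 206 [.edge 7, .fwd 0] [] (.free),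
  .derive 459 [.bwd 0] [] (.free), .derive 206 [.bwd 0, .fwd 326] [0] (.free), .derive 205 [.edge 0, .fwd 0] [] (.free), .derive 455 [.bwd 0] [] (.free)]
def ph11_6 : List Aux := [
  .derive 205 [.bwd 0, .fwd 336] [7] (.free), .derive 203 [.edge 7, .fwd 0] [] (.free), .derive 447 [.bwd 0] [] (.free), .derive 432 [.bwd 380, .edge 5, .fwd 62, .fwd 13, .bwd 62, .edge 5, .fwd 378] [] (.rel 1419), .derive 433 [.bwd 0] [] (.free), .derive 432 [.bwd 0, .bwd 358] [7] (.free), .derive 443 [.fwd 362, .fwd 0] [] (.free), .derive 444 [.bwd 0] [] (.free),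
  .derive 443 [.bwd 0, .fwd 362] [0] (.free), .derive 438 [.bwd 366, .fwd 0] [] (.free), .derive 439 [.bwd 0] [] (.free), .derive 438 [.bwd 0, .bwd 375] [6] (.free), .derive 438 [.bwd 1, .fwd 375] [7] (.free), .derive 427 [.bwd 378, .fwd 0] [] (.free), .derive 428 [.bwd 0] [] (.free), .derive 427 [.bwd 0, .bwd 396] [6] (.free),
  .derive 429 [.bwd 396, .edge 7, .bwd 4, .fwd 381, .bwd 398, .fwd 396] [3] (.rel 387), .derive 430 [.bwd 396, .edge 7, .bwd 5, .fwd 382, .bwd 399, .fwd 396] [3] (.rel 401), .derive 441 [.bwd 379, .edge 7, .bwd 2, .bwd 383, .bwd 384, .fwd 379] [3] (.rel 401), .derive 349 [.bwd 557, .edge 3, .edge 4, .fwd 401, .bwd 4, .bwd 400, .edge 4, .edge 3] [] (.rel 1390), .derive 349 [.fwd 0] [] (.free), .derive 41 [.bwd 0, .fwd 558] [7] (.free), .derive 39 [.edge 7, .fwd 0] [] (.free), .derive 347 [.bwd 0] [] (.free),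
  .derive 39 [.bwd 0, .fwd 566] [0] (.free), .derive 35 [.edge 0, .fwd 0] [] (.free), .derive 343 [.bwd 0] [] (.free), .derive 35 [.bwd 0, .bwd 572] [7] (.free), .derive 36 [.edge 7, .fwd 0] [] (.free), .derive 345 [.bwd 0] [] (.free), .derive 364 [.bwd 547, .edge 6, .bwd 0, .bwd 576, .edge 3, .edge 6, .fwd 605] [6] (.rel 1404), .derive 333 [.bwd 605, .bwd 0, .fwd 547] [6] (.rel 2),
  .derive 336 [.bwd 605, .bwd 1, .fwd 547] [6] (.rel 33), .derive 357 [.bwd 558, .bwd 0, .fwd 609] [6] (.rel 2), .node 324 8, .derive 617 [.bwd 0, .bwd 631, .fwd 0] [6] (.rel 35), .derive 617 [.bwd 1, .bwd 632, .bwd 633, .fwd 1] [3] (.rel 45), .derive 617 [.bwd 2, .fwd 635, .edge 4, .edge 8, .edge 7, .edge 9, .edge 4, .bwd 635] [9] (.rel 1323), .derive 617 [.fwd 0, .bwd 637, .edge 5, .edge 9, .edge 8, .edge 5, .fwd 637, .fwd 3] [7] (.rel 1319), .node 325 3,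
  .derive 618 [.bwd 0, .bwd 635, .edge 6, .edge 3, .fwd 575, .bwd 360, .bwd 361, .fwd 606, .bwd 462, .fwd 321, .bwd 336, .edge 6, .edge 3, .fwd 340] [6] (.rel 1371), .node 325 6, .derive 619 [.bwd 0, .bwd 481, .bwd 482, .edge 3, .fwd 465] [5] (.rel 1290), .node 325 9, .derive 326 [.bwd 478, .bwd 479, .edge 8, .edge 7, .edge 9, .fwd 484, .fwd 483, .fwd 0] [8] (.rel 1324), .node 326 3, .derive 621 [.bwd 0, .bwd 480, .bwd 481, .edge 3, .edge 6, .fwd 456] [5] (.rel 1305), .node 326 6,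
  .node 326 9, .derive 619 [.bwd 7, .fwd 5, .bwd 4, .fwd 0] [8] (.rel 67), .node 327 3, .derive 624 [.bwd 0, .fwd 643, .fwd 11] [7] (.rel 30), .derive 624 [.bwd 1, .bwd 645, .edge 6, .edge 3, .fwd 584, .bwd 365, .bwd 366, .bwd 617, .bwd 442, .bwd 332, .bwd 353, .edge 6, .edge 3, .fwd 355] [6] (.rel 1371), .node 327 6, .derive 625 [.bwd 0, .fwd 3, .fwd 1] [3] (.rel 29), .derive 625 [.bwd 1, .fwd 647, .fwd 13] [7] (.rel 32),
  .derive 625 [.bwd 2, .bwd 497, .bwd 498, .edge 3, .fwd 447] [5] (.rel 1290), .node 327 9, .node 328 3, .derive 627 [.bwd 0, .fwd 649, .fwd 8] [0] (.rel 1), .derive 627 [.bwd 1, .fwd 649, .fwd 14] [7] (.rel 30), .derive 626 [.bwd 3, .fwd 653, .fwd 17, .bwd 16, .bwd 650, .fwd 2] [8] (.rel 414), .node 328 6, .derive 628 [.bwd 0, .fwd 652, .fwd 15] [7] (.rel 32),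
  .derive 628 [.bwd 1, .bwd 500, .bwd 501, .edge 3, .fwd 452] [5] (.rel 1290), .node 328 8, .derive 629 [.bwd 0, .fwd 656, .fwd 8, .fwd 4, .fwd 6] [9] (.rel 130), .node 328 9, .derive 630 [.bwd 0, .fwd 657, .fwd 19, .bwd 18, .bwd 12, .fwd 13] [8] (.rel 414), .node 329 3, .derive 631 [.bwd 0, .bwd 658, .fwd 657, .bwd 36, .bwd 113] [4] (.rel 1293), .node 329 5,
  .derive 632 [.bwd 0, .bwd 660, .edge 3, .fwd 599, .bwd 115] [6] (.rel 1291), .derive 632 [.bwd 1, .bwd 661, .edge 3, .edge 6, .fwd 617, .bwd 111] [3] (.rel 1306), .node 329 6, .derive 633 [.bwd 0, .fwd 3, .fwd 2, .fwd 118, .fwd 41, .bwd 662, .edge 6, .edge 5, .fwd 408] [5] (.rel 1358), .node 330 3, .node 330 4, .derive 635 [.bwd 0, .bwd 665, .edge 6, .edge 5, .fwd 413] [3] (.rel 1288), .derive 635 [.bwd 1, .bwd 45, .bwd 606, .edge 6, .fwd 623] [6] (.rel 1355),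
  .node 331 3, .derive 636 [.bwd 0, .bwd 649, .bwd 667, .edge 3, .edge 6, .fwd 602] [5] (.rel 1305), .node 332 3, .derive 637 [.bwd 0, .fwd 667, .fwd 13] [7] (.rel 30), .derive 637 [.bwd 1, .bwd 669, .fwd 667, .fwd 52, .bwd 155] [4] (.rel 1293), .node 332 5, .derive 638 [.bwd 0, .bwd 671, .edge 3, .fwd 606, .bwd 157] [6] (.rel 1291), .derive 638 [.bwd 1, .bwd 672, .edge 3, .edge 6, .fwd 628, .bwd 154] [3] (.rel 1306),
  .derive 638 [.bwd 2, .fwd 672, .fwd 16] [7] (.rel 1333), .node 332 6, .derive 639 [.bwd 0, .bwd 675, .edge 6, .edge 4, .fwd 471, .fwd 75] [4] (.rel 1354), .derive 639 [.bwd 1, .fwd 5, .fwd 4, .fwd 162, .bwd 59, .bwd 674, .edge 6, .edge 5, .fwd 437] [5] (.rel 1358), .node 333 3, .derive 640 [.bwd 0, .fwd 675, .fwd 16] [7] (.rel 30), .node 333 4, .derive 641 [.bwd 0, .bwd 678, .edge 6, .edge 5, .fwd 442] [3] (.rel 1288),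
  .derive 641 [.bwd 1, .fwd 678, .fwd 18] [7] (.rel 1331), .derive 641 [.bwd 2, .fwd 65, .bwd 617, .edge 6, .fwd 638] [6] (.rel 1355), .node 334 3, .derive 642 [.bwd 0, .fwd 679, .fwd 18] [7] (.rel 30)]
def ph11_7 : List Aux := [
  .derive 642 [.bwd 1, .bwd 681, .edge 6, .edge 3, .fwd 606, .fwd 604, .bwd 524, .bwd 411, .fwd 413, .bwd 500, .bwd 501, .edge 6, .edge 3, .fwd 542] [6] (.rel 1371), .node 335 3, .derive 643 [.bwd 0, .bwd 681, .fwd 679, .fwd 69, .bwd 132] [4] (.rel 1293), .node 335 5, .derive 644 [.bwd 0, .bwd 683, .edge 3, .fwd 630, .bwd 134] [6] (.rel 1291), .derive 644 [.bwd 1, .bwd 684, .edge 3, .edge 6, .fwd 654, .bwd 128] [3] (.rel 1306), .derive 644 [.bwd 2, .fwd 684, .fwd 34] [0] (.rel 1329), .derive 644 [.bwd 3, .bwd 686, .edge 6, .edge 1, .edge 2, .edge 6, .edge 4, .edge 5, .edge 4, .fwd 665, .bwd 660] [4] (.rel 1475),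
  .derive 643 [.bwd 6, .fwd 4, .fwd 0, .fwd 658, .edge 6, .fwd 340] [5] (.rel 1305), .derive 502 [.bwd 0, .bwd 7, .fwd 5, .fwd 3, .fwd 132] [3] (.rel 1361), .derive 643 [.bwd 8, .fwd 6, .fwd 2, .fwd 661, .fwd 364, .bwd 362] [6] (.rel 1419), .derive 359 [.bwd 635, .edge 3, .fwd 690, .fwd 7, .fwd 6, .bwd 8, .fwd 2, .bwd 343] [] (.rel 1452), .derive 359 [.fwd 0] [] (.free), .derive 237 [.bwd 0, .bwd 626] [7] (.free), .derive 235 [.edge 7, .fwd 0] [] (.free), .derive 365 [.bwd 0] [] (.free),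
  .derive 235 [.bwd 0, .bwd 630] [5] (.free), .derive 501 [.bwd 350, .fwd 0] [] (.free), .derive 501 [.fwd 0] [] (.free), .derive 76 [.bwd 0, .bwd 347] [7] (.free), .derive 72 [.edge 7, .fwd 0] [] (.free), .derive 503 [.bwd 0] [] (.free), .derive 72 [.bwd 0, .fwd 351] [0] (.free), .derive 71 [.edge 0, .fwd 0] [] (.free),
  .derive 495 [.bwd 0] [] (.free), .derive 71 [.bwd 0, .bwd 365] [7] (.free), .derive 75 [.edge 7, .fwd 0] [] (.free), .derive 497 [.bwd 0] [] (.free), .derive 75 [.bwd 0, .bwd 369] [5] (.free), .derive 363 [.bwd 647, .fwd 0] [] (.free), .derive 363 [.fwd 0] [] (.free), .derive 632 [.bwd 59, .bwd 719, .edge 6, .edge 1, .edge 2, .edge 6, .fwd 710, .fwd 27, .fwd 23, .bwd 683, .fwd 684] [4] (.rel 1475),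
  .derive 340 [.bwd 0, .bwd 60, .bwd 720, .fwd 719, .fwd 54] [5] (.rel 1286), .derive 492 [.bwd 381, .bwd 690, .bwd 1, .bwd 61, .fwd 58, .fwd 57] [] (.rel 1292), .derive 492 [.fwd 0] [] (.free), .derive 457 [.bwd 0, .bwd 373] [7] (.free), .derive 449 [.bwd 468, .fwd 0] [] (.free), .derive 498 [.bwd 0] [] (.free), .derive 449 [.bwd 0, .bwd 364] [0] (.free), .derive 453 [.fwd 479, .fwd 0] [] (.free),
  .derive 504 [.bwd 0] [] (.free), .derive 494 [.bwd 386, .edge 3, .bwd 696, .bwd 9, .bwd 69, .fwd 71] [5] (.rel 1307), .derive 487 [.bwd 401, .bwd 697, .bwd 10, .fwd 69, .bwd 71] [6] (.rel 1355), .derive 493 [.bwd 390, .bwd 700, .bwd 11, .fwd 69, .bwd 183, .fwd 185] [3] (.rel 1390), .derive 456 [.bwd 65, .bwd 11, .bwd 12, .fwd 71, .bwd 73, .bwd 2] [6] (.rel 1419), .derive 488 [.bwd 401, .bwd 700, .bwd 13, .fwd 71, .fwd 183, .bwd 65, .bwd 67, .fwd 68] [] (.rel 1434), .derive 634 [.bwd 0] [] (.free), .derive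 488 [.bwd 0, .bwd 70] [3] (.free),
  .derive 488 [.bwd 1, .bwd 54] [7] (.free), .derive 483 [.bwd 404, .fwd 0] [] (.free), .derive 640 [.bwd 0] [] (.free), .derive 483 [.bwd 0, .bwd 58] [3] (.free), .derive 336 [.fwd 728, .bwd 4, .fwd 407, .bwd 421, .bwd 402] [3] (.rel 78), .derive 339 [.fwd 714, .fwd 425, .fwd 414, .fwd 1, .fwd 58] [5] (.rel 1290), .derive 593 [.fwd 223, .bwd 58, .bwd 0, .fwd 713, .fwd 391] [3] (.rel 1361), .derive 639 [.fwd 63, .bwd 501, .fwd 502, .bwd 59, .bwd 1, .fwd 716, .fwd 428] [3] (.rel 1434),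
  .derive 499 [.bwd 1, .bwd 168, .fwd 225, .bwd 60, .bwd 2, .fwd 715, .fwd 393] [6] (.rel 1457), .derive 482 [.fwd 419, .bwd 430, .bwd 718, .fwd 3, .bwd 62, .fwd 125, .bwd 228, .bwd 72] [6] (.rel 1365), .derive 637 [.bwd 0, .bwd 420, .bwd 431, .edge 3, .fwd 401] [5] (.rel 1290), .derive 496 [.bwd 0, .bwd 1, .bwd 3, .fwd 67, .bwd 505, .fwd 507, .fwd 156, .edge 5, .edge 6, .edge 3, .fwd 677, .fwd 28, .edge 6, .bwd 718, .fwd 5, .fwd 61] [3] (.rel 1378), .derive 496 [.bwd 1, .bwd 2, .bwd 433, .bwd 721, .fwd 6, .fwd 64] [6] (.rel 1402), .derive 452 [.fwd 503, .bwd 0, .bwd 395] [6] (.rel 2), .derive 500 [.bwd 0, .fwd 504, .bwd 1, .fwd 2, .fwd 702] [3] (.rel 74), .derive 505 [.bwd 388, .edge 6, .fwd 398, .fwd 0, .bwd 217, .bwd 219, .fwd 222] [3] (.rel 1434),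
  .derive 505 [.fwd 0, .fwd 174, .bwd 0] [6] (.rel 28), .derive 613 [.fwd 192, .bwd 1, .fwd 389] [3] (.rel 31), .derive 491 [.bwd 0, .fwd 175, .fwd 193, .bwd 2, .fwd 390] [6] (.rel 258), .derive 491 [.bwd 1, .fwd 184, .fwd 194, .fwd 177, .bwd 3, .fwd 391] [8] (.rel 331), .derive 493 [.fwd 414, .fwd 0, .bwd 392, .fwd 4, .fwd 225, .fwd 13, .fwd 404] [9] (.rel 577), .derive 493 [.fwd 0, .fwd 25, .bwd 180, .bwd 131, .bwd 132] [2] (.rel 249), .derive 499 [.fwd 13, .fwd 406, .fwd 1, .fwd 0, .bwd 131, .bwd 134, .bwd 133] [1] (.rel 862), .derive 607 [.bwd 182, .fwd 136, .fwd 132, .fwd 134, .bwd 0, .fwd 407, .fwd 2] [8] (.rel 881),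
  .derive 593 [.bwd 187, .bwd 192, .fwd 137, .fwd 135, .bwd 1, .fwd 408, .fwd 3, .bwd 408] [9] (.rel 914), .derive 593 [.bwd 188, .bwd 193, .bwd 135, .fwd 136, .bwd 2, .fwd 409, .fwd 4, .bwd 409] [8] (.rel 946), .derive 493 [.fwd 5, .bwd 410, .bwd 1, .fwd 187, .bwd 201, .fwd 8, .bwd 6] [1] (.rel 1066), .derive 505 [.fwd 10, .fwd 399, .fwd 7, .bwd 0, .fwd 6, .bwd 411, .bwd 18] [2] (.rel 1102), .derive 505 [.fwd 400, .fwd 8, .bwd 1, .fwd 7, .bwd 412, .bwd 2, .fwd 189] [8] (.rel 1119), .derive 505 [.fwd 401, .fwd 9, .bwd 2, .fwd 8, .bwd 413, .bwd 22, .fwd 190] [9] (.rel 1135), .derive 491 [.fwd 10, .bwd 402, .fwd 2, .fwd 414, .fwd 9, .bwd 6, .fwd 186] [9] (.rel 1163), .derive 434 [.bwd 553, .edge 5, .fwd 238, .bwd 2, .fwd 403, .fwd 0, .bwd 208, .edge 5, .fwd 529] [] (.rel 1323),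
  .derive 446 [.bwd 0] [] (.free), .derive 434 [.bwd 0, .fwd 530] [0] (.free), .derive 430 [.bwd 555, .fwd 0] [] (.free), .derive 434 [.bwd 2, .bwd 533] [9] (.free), .derive 440 [.bwd 1] [] (.free), .derive 430 [.bwd 0, .bwd 547] [8] (.free), .derive 441 [.bwd 547, .bwd 0, .bwd 565, .fwd 566] [6] (.rel 63), .derive 438 [.bwd 553, .bwd 1, .bwd 169, .bwd 566, .fwd 567] [9] (.rel 264),
  .derive 441 [.fwd 169, .bwd 549, .bwd 2, .bwd 567, .fwd 570] [8] (.rel 266), .derive 432 [.fwd 565, .bwd 0, .bwd 540] [9] (.rel 6), .derive 445 [.bwd 0, .fwd 566, .bwd 1, .fwd 3, .bwd 561] [6] (.rel 109), .derive 502 [.fwd 81, .bwd 214, .bwd 217, .fwd 224, .fwd 221, .bwd 158, .fwd 38, .bwd 442, .bwd 742, .fwd 741, .fwd 440, .fwd 24, .bwd 25, .fwd 219] [6] (.rel 1377), .derive 542 [.bwd 362, .edge 1, .edge 4, .fwd 641, .bwd 608, .edge 6, .edge 1, .edge 2, .edge 6, .fwd 435, .bwd 33, .fwd 107] [] (.rel 1484), .derive 592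 [.bwd 0] [] (.free), .derive 542 [.bwd 0, .fwd 265] [5] (.free), .derive 542 [.bwd 1, .bwd 108] [6] (.free),
  .derive 542 [.bwd 2, .bwd 240] [7] (.free), .derive 552 [.fwd 347, .fwd 0] [] (.free), .derive 606 [.bwd 0] [] (.free), .derive 552 [.bwd 0, .bwd 231] [0] (.free)]
def ph11_8 : List Aux := [
  .derive 566 [.fwd 316, .fwd 0] [] (.free), .derive 552 [.bwd 2, .bwd 246] [3] (.free), .derive 612 [.bwd 1] [] (.free), .derive 566 [.bwd 0, .bwd 236] [3] (.free), .derive 566 [.bwd 1, .bwd 99] [6] (.free), .derive 566 [.bwd 2, .fwd 236] [7] (.free), .derive 558 [.bwd 323, .fwd 0] [] (.free), .derive 599 [.bwd 0] [] (.free),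
  .derive 558 [.bwd 0, .bwd 269] [3] (.free), .derive 558 [.bwd 1, .fwd 269] [5] (.free), .derive 638 [.bwd 14, .bwd 16, .bwd 125, .fwd 51, .bwd 453, .edge 2, .edge 1, .fwd 626, .bwd 659, .edge 4, .fwd 338, .fwd 337] [2] (.rel 1480), .derive 554 [.fwd 355, .bwd 0, .fwd 122] [1] (.rel 13), .derive 568 [.bwd 321, .fwd 320, .bwd 357, .fwd 356, .bwd 1, .fwd 123, .bwd 105] [1] (.rel 472), .derive 546 [.bwd 376, .fwd 381, .bwd 2, .fwd 125, .bwd 281, .edge 7, .fwd 262, .fwd 261] [] (.rel 1023), .derive 591 [.bwd 0] [] (.free), .derive 638 [.fwd 4, .bwd 383, .edge 4, .fwd 670, .fwd 669, .edge 2, .edge 1, .fwd 454, .fwd 77, .bwd 123, .fwd 124, .fwd 199, .fwd 599] [] (.rel 1479),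
  .derive 638 [.fwd 0] [] (.free), .derive 425 [.bwd 0, .fwd 6] [2] (.free), .derive 425 [.bwd 1, .fwd 130] [3] (.free), .derive 425 [.bwd 2, .fwd 132, .fwd 25] [6] (.free), .derive 425 [.bwd 3, .fwd 131] [7] (.free), .derive 437 [.fwd 588, .fwd 0] [] (.free), .derive 632 [.bwd 0] [] (.free), .derive 437 [.bwd 0, .bwd 11] [1] (.free),
  .derive 437 [.bwd 1, .fwd 150] [3] (.free), .derive 426 [.bwd 608, .fwd 609, .bwd 592, .fwd 1, .bwd 332, .fwd 333] [] (.rel 135), .derive 549 [.bwd 0] [] (.free), .derive 426 [.bwd 0, .bwd 372] [0] (.free), .derive 426 [.bwd 1, .fwd 382] [7] (.free), .derive 436 [.fwd 598, .fwd 0] [] (.free), .derive 539 [.bwd 0] [] (.free), .derive 436 [.bwd 0, .bwd 398] [0] (.free),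
  .derive 436 [.bwd 1, .bwd 398] [4] (.free), .derive 436 [.bwd 2, .bwd 406] [6] (.free), .derive 547 [.fwd 393, .bwd 14, .bwd 601, .bwd 602, .edge 7, .fwd 615, .fwd 219] [] (.rel 162), .derive 547 [.fwd 0] [] (.free), .derive 427 [.bwd 0, .bwd 397] [2] (.free), .derive 427 [.bwd 1, .fwd 397] [7] (.free), .derive 438 [.fwd 603, .fwd 0] [] (.free), .derive 537 [.bwd 0] [] (.free),
  .derive 438 [.bwd 0, .bwd 415] [1] (.free), .derive 438 [.bwd 1, .bwd 390] [2] (.free), .derive 552 [.bwd 0, .bwd 608, .edge 7, .fwd 626, .bwd 609] [9] (.rel 188), .derive 610 [.bwd 279, .edge 7, .fwd 311, .bwd 24, .bwd 610, .bwd 0, .fwd 41] [] (.rel 346), .derive 610 [.fwd 0] [] (.free), .derive 429 [.bwd 57, .fwd 610, .bwd 627, .fwd 629, .bwd 612, .bwd 2, .fwd 43, .fwd 292] [] (.rel 898), .derive 605 [.bwd 0] [] (.free), .derive 429 [.bwd 0, .fwd 293] [7] (.free),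
  .derive 555 [.bwd 391, .fwd 399, .fwd 5, .fwd 615, .fwd 30, .bwd 392] [] (.rel 214), .derive 555 [.fwd 0] [] (.free), .derive 554 [.bwd 0, .bwd 353] [2] (.free), .derive 570 [.fwd 358, .fwd 0] [] (.free), .derive 571 [.bwd 0] [] (.free), .derive 570 [.bwd 0, .fwd 358] [0] (.free), .derive 568 [.bwd 363, .fwd 0] [] (.free), .derive 570 [.bwd 2, .fwd 359] [1] (.free),
  .derive 549 [.bwd 364, .fwd 0] [] (.free), .derive 551 [.bwd 0, .fwd 30] [] (.free), .derive 569 [.bwd 3] [] (.free), .derive 608 [.bwd 34, .fwd 626, .bwd 643, .edge 7, .fwd 620, .fwd 70, .fwd 22, .fwd 412] [] (.rel 995), .derive 608 [.fwd 0] [] (.free), .derive 550 [.bwd 0, .bwd 286] [0] (.free), .derive 556 [.fwd 403, .fwd 0] [] (.free), .derive 550 [.bwd 2, .bwd 189, .fwd 40] [3] (.free),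
  .derive 550 [.bwd 3, .bwd 304] [6] (.free), .derive 614 [.bwd 2] [] (.free), .derive 540 [.bwd 438, .bwd 25, .fwd 78, .bwd 646, .edge 7, .fwd 634, .fwd 633] [9] (.rel 1168), .derive 596 [.bwd 331, .edge 7, .bwd 22, .bwd 303, .bwd 65, .fwd 24, .fwd 634, .bwd 0] [3] (.rel 1271), .derive 546 [.fwd 430, .bwd 0, .bwd 320] [3] (.rel 0), .derive 538 [.bwd 443, .fwd 441, .bwd 1, .bwd 333, .fwd 335, .fwd 334] [] (.rel 264), .derive 538 [.fwd 0] [] (.free), .derive 521 [.bwd 0, .bwd 390] [2] (.free),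
  .derive 521 [.bwd 1, .bwd 429] [7] (.free), .derive 509 [.bwd 474, .fwd 0] [] (.free), .derive 548 [.bwd 0] [] (.free), .derive 509 [.bwd 0, .fwd 431] [5] (.free), .derive 263 [.fwd 496, .fwd 0] [] (.free), .derive 543 [.bwd 0] [] (.free), .derive 263 [.bwd 0, .bwd 425] [7] (.free), .derive 265 [.edge 7, .fwd 0] [] (.free),
  .derive 553 [.bwd 0] [] (.free), .derive 265 [.bwd 0, .bwd 381] [2] (.free), .derive 519 [.bwd 488, .fwd 0] [] (.free), .derive 265 [.bwd 2, .bwd 431] [3] (.free), .derive 520 [.bwd 488, .fwd 0] [] (.free), .derive 520 [.fwd 0] [] (.free), .derive 294 [.bwd 0, .fwd 489] [7] (.free), .derive 292 [.edge 7, .fwd 0] [] (.free),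
  .derive 508 [.bwd 0] [] (.free), .derive 292 [.bwd 0, .bwd 502] [0] (.free), .derive 291 [.edge 0, .fwd 0] [] (.free), .derive 515 [.bwd 0] [] (.free), .derive 291 [.bwd 0, .bwd 483] [7] (.free), .derive 293 [.edge 7, .fwd 0] [] (.free), .derive 527 [.bwd 0] [] (.free), .derive 293 [.bwd 0, .bwd 487] [3] (.free),
  .derive 548 [.bwd 454, .fwd 0] [] (.free), .derive 509 [.bwd 22, .fwd 0] [] (.free), .derive 266 [.bwd 0, .bwd 499] [7] (.free), .derive 264 [.edge 7, .fwd 0] [] (.free)]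
def ph11_9 : List Aux := [
  .derive 521 [.bwd 0] [] (.free), .derive 264 [.bwd 0, .fwd 29] [2] (.free), .derive 514 [.bwd 517, .fwd 0] [] (.free), .derive 264 [.bwd 2, .bwd 368] [9] (.free), .derive 518 [.bwd 512, .fwd 0] [] (.free), .derive 595 [.bwd 0] [] (.free), .derive 518 [.bwd 0, .bwd 356] [0] (.free), .derive 511 [.bwd 514, .fwd 0] [] (.free),
  .derive 603 [.bwd 0] [] (.free), .derive 538 [.fwd 38, .fwd 8] [] (.free), .derive 565 [.bwd 7] [] (.free), .derive 514 [.bwd 0, .bwd 433] [9] (.free), .derive 548 [.fwd 37, .fwd 14] [] (.free), .derive 572 [.bwd 30] [] (.free), .derive 541 [.bwd 485, .fwd 486, .bwd 46, .bwd 378, .fwd 386, .fwd 120] [8] (.rel 278), .derive 540 [.bwd 47, .bwd 379, .fwd 387, .fwd 121, .bwd 474, .fwd 79, .bwd 126, .fwd 128] [1] (.rel 318),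
  .derive 516 [.bwd 505, .bwd 506, .bwd 3, .bwd 474, .edge 7, .fwd 488, .bwd 48] [8] (.rel 333), .derive 426 [.bwd 59, .bwd 469, .edge 7, .fwd 489, .bwd 49, .bwd 381, .edge 7, .fwd 354] [] (.rel 444), .derive 609 [.bwd 0] [] (.free), .derive 426 [.bwd 0, .bwd 340] [0] (.free), .derive 554 [.bwd 92, .fwd 0] [] (.free), .derive 615 [.bwd 0] [] (.free), .derive 435 [.fwd 693, .bwd 6, .bwd 54, .bwd 374, .bwd 53, .bwd 446, .fwd 447] [1] (.rel 496), .derive 436 [.bwd 693, .fwd 689, .fwd 135, .fwd 306, .bwd 7, .bwd 55, .bwd 6] [3] (.rel 922),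
  .derive 437 [.bwd 60, .bwd 477, .edge 7, .fwd 496, .bwd 56, .bwd 7, .bwd 513] [8] (.rel 1250), .derive 596 [.fwd 57, .bwd 497, .fwd 499, .fwd 15, .fwd 535] [6] (.rel 47), .derive 517 [.bwd 0, .fwd 58, .fwd 59, .fwd 107] [9] (.rel 56), .derive 512 [.bwd 536, .bwd 1, .fwd 59, .bwd 489, .fwd 58] [6] (.rel 75), .derive 510 [.bwd 539, .fwd 11, .fwd 60, .bwd 490, .fwd 59] [9] (.rel 92), .derive 510 [.fwd 0, .bwd 60, .bwd 114, .bwd 402, .fwd 393, .fwd 61, .bwd 452] [] (.rel 249), .derive 564 [.bwd 0] [] (.free), .derive 510 [.bwd 0, .fwd 456] [0] (.free),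
  .derive 516 [.fwd 543, .fwd 0] [] (.free), .derive 561 [.bwd 0] [] (.free), .derive 516 [.bwd 0, .bwd 11] [1] (.free), .derive 516 [.bwd 1, .bwd 467] [9] (.free), .derive 559 [.bwd 470, .bwd 0, .fwd 19, .fwd 68, .bwd 508, .fwd 507] [] (.rel 273), .derive 559 [.fwd 0] [] (.free), .derive 541 [.bwd 0, .bwd 468] [0] (.free), .derive 545 [.fwd 503, .fwd 0] [] (.free),
  .derive 541 [.bwd 2, .bwd 453] [7] (.free), .derive 562 [.bwd 1] [] (.free), .derive 545 [.bwd 0, .fwd 471] [2] (.free), .derive 545 [.bwd 1, .bwd 474] [3] (.free), .derive 560 [.bwd 477, .bwd 8, .fwd 27, .fwd 76, .fwd 77, .fwd 125] [] (.rel 277), .derive 594 [.bwd 0] [] (.free), .derive 560 [.bwd 0, .bwd 401] [0] (.free), .derive 565 [.fwd 468, .fwd 0] [] (.free),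
  .derive 560 [.bwd 2, .bwd 387, .fwd 87] [7] (.free), .derive 560 [.bwd 3, .bwd 22] [9] (.free), .derive 601 [.bwd 2, .fwd 39] [] (.free), .derive 514 [.bwd 0, .bwd 375, .fwd 85] [7] (.free), .derive 525 [.fwd 547, .fwd 0] [] (.free), .derive 556 [.bwd 0] [] (.free), .derive 525 [.bwd 0, .bwd 496] [9] (.free), .derive 614 [.fwd 89, .fwd 1] [] (.free),
  .derive 528 [.fwd 545, .fwd 39, .fwd 88, .bwd 528, .edge 7, .fwd 511, .fwd 129] [3] (.rel 329), .derive 434 [.bwd 176, .bwd 707, .edge 7, .fwd 729, .bwd 22, .fwd 40, .fwd 89, .fwd 41, .fwd 109] [] (.rel 911), .derive 590 [.bwd 0] [] (.free), .derive 596 [.fwd 91, .bwd 531, .edge 7, .edge 1, .edge 7, .fwd 485, .fwd 28, .fwd 30] [2] (.rel 1042), .derive 596 [.fwd 92, .bwd 532, .fwd 535, .fwd 120, .fwd 172, .fwd 112, .fwd 1, .fwd 176, .fwd 720, .fwd 719] [] (.rel 1071), .derive 596 [.fwd 0] [] (.free), .derive 431 [.bwd 0, .fwd 2] [2] (.free), .derive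 431 [.bwd 1, .fwd 37] [6] (.free),
  .derive 529 [.bwd 552, .edge 7, .fwd 574, .bwd 0, .bwd 2, .fwd 96, .fwd 97, .bwd 731, .bwd 121] [] (.rel 1197), .derive 552 [.bwd 0] [] (.free), .derive 529 [.bwd 0, .bwd 482] [0] (.free), .derive 524 [.bwd 554, .fwd 0] [] (.free), .derive 529 [.bwd 2, .fwd 518] [7] (.free), .derive 606 [.fwd 170, .fwd 3] [] (.free), .derive 566 [.bwd 2] [] (.free), .derive 524 [.bwd 0, .bwd 489] [1] (.free),
  .derive 524 [.bwd 1, .fwd 487] [2] (.free), .derive 524 [.bwd 2, .fwd 169] [3] (.free), .derive 524 [.bwd 3, .fwd 169] [6] (.free), .derive 524 [.bwd 4, .fwd 492] [7] (.free), .derive 573 [.bwd 475, .bwd 511, .bwd 0, .bwd 573, .edge 7, .fwd 599] [] (.rel 145), .derive 573 [.fwd 0] [] (.free), .derive 506 [.bwd 0, .bwd 477] [3] (.free), .derive 528 [.fwd 568, .bwd 45, .bwd 511, .fwd 515, .bwd 3, .fwd 5, .fwd 414] [] (.rel 156),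
  .derive 611 [.bwd 0] [] (.free), .derive 528 [.bwd 0, .fwd 415] [7] (.free), .derive 516 [.bwd 571, .fwd 0] [] (.free), .derive 598 [.bwd 0] [] (.free), .derive 644 [.bwd 171, .bwd 125, .bwd 495, .edge 7, .fwd 520, .bwd 8] [8] (.rel 215), .derive 558 [.bwd 9, .fwd 10, .fwd 279, .fwd 29, .fwd 580, .fwd 73, .fwd 516, .fwd 43] [9] (.rel 347), .derive 563 [.bwd 514, .bwd 42, .bwd 0, .bwd 10, .fwd 12, .edge 7, .fwd 437, .fwd 77] [] (.rel 376), .derive 563 [.fwd 0] [] (.free),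
  .derive 523 [.bwd 586, .edge 7, .bwd 110, .bwd 557, .fwd 553, .bwd 2, .bwd 12, .bwd 585] [] (.rel 417), .derive 523 [.fwd 0] [] (.free), .derive 522 [.fwd 589, .bwd 59, .bwd 516, .bwd 46, .bwd 4, .bwd 14, .bwd 5] [9] (.rel 445), .derive 513 [.bwd 607, .fwd 606, .bwd 80, .fwd 511, .bwd 5, .bwd 15, .fwd 19, .fwd 505] [2] (.rel 723), .derive 558 [.bwd 16, .fwd 20, .edge 7, .fwd 525, .fwd 43, .bwd 493, .fwd 78, .fwd 597] [8] (.rel 1057), .derive 514 [.bwd 82, .fwd 513, .bwd 7, .bwd 17, .bwd 590, .fwd 599, .fwd 598, .fwd 14, .fwd 490] [] (.rel 1073), .derive 575 [.bwd 0] [] (.free), .derive 514 [.bwd 0, .bwd 485] [2] (.free),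
  .derive 264 [.fwd 611, .fwd 0] [] (.free), .derive 579 [.bwd 0] [] (.free), .derive 264 [.bwd 0, .bwd 489] [8] (.free), .derive 517 [.bwd 609, .fwd 0] [] (.free)]
def ph11_10 : List Aux := [
  .derive 517 [.fwd 0] [] (.free), .derive 300 [.bwd 0, .bwd 75, .fwd 39] [6] (.free), .derive 578 [.bwd 495, .fwd 0] [] (.free), .derive 578 [.fwd 0] [] (.free), .derive 431 [.bwd 0, .fwd 496] [2] (.free), .derive 602 [.bwd 42, .fwd 0] [] (.free), .derive 602 [.fwd 0] [] (.free), .derive 574 [.bwd 0, .bwd 79] [6] (.free),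
  .derive 299 [.fwd 506, .fwd 0] [] (.free), .derive 512 [.bwd 0] [] (.free), .derive 299 [.bwd 0, .bwd 627] [9] (.free), .derive 576 [.bwd 507, .fwd 0] [] (.free), .derive 576 [.fwd 0] [] (.free), .derive 263 [.bwd 0, .bwd 507] [2] (.free), .derive 507 [.bwd 636, .fwd 0] [] (.free), .derive 577 [.bwd 0] [] (.free),
  .derive 542 [.bwd 47, .fwd 603, .bwd 45, .fwd 533, .fwd 23, .fwd 37, .edge 0, .fwd 511, .fwd 0] [9] (.rel 592), .derive 581 [.fwd 504, .bwd 506, .bwd 44, .bwd 46, .fwd 534, .fwd 208, .fwd 479, .fwd 33, .fwd 82] [2] (.rel 741), .derive 511 [.bwd 30, .fwd 545, .bwd 562, .bwd 96, .bwd 440, .bwd 44, .bwd 47, .fwd 535, .fwd 209, .fwd 481] [3] (.rel 845), .derive 597 [.bwd 0, .bwd 637, .edge 7, .bwd 29, .bwd 617, .fwd 616, .bwd 48, .fwd 536, .fwd 33] [6] (.rel 1217), .derive 581 [.fwd 2, .bwd 85, .bwd 36, .bwd 482, .fwd 483, .fwd 0, .fwd 77, .fwd 79] [6] (.rel 754), .derive 513 [.fwd 29, .bwd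 0, .fwd 3, .bwd 230] [] (.rel 24), .derive 513 [.fwd 0] [] (.free), .derive 445 [.bwd 0, .bwd 616] [7] (.free),
  .derive 438 [.bwd 184, .bwd 599, .fwd 595, .bwd 86, .bwd 537, .bwd 3, .fwd 6, .bwd 233, .fwd 0] [8] (.rel 1105), .derive 526 [.bwd 1, .fwd 234, .bwd 7, .fwd 4, .fwd 538, .fwd 87, .fwd 110, .bwd 584, .fwd 189] [9] (.rel 1099), .derive 430 [.bwd 805, .bwd 410, .bwd 0] [6] (.rel 37), .derive 441 [.fwd 238, .bwd 1, .bwd 2, .fwd 186, .fwd 601, .fwd 117, .fwd 637, .fwd 26, .fwd 522, .fwd 11] [1] (.rel 931), .derive 528 [.fwd 71, .bwd 201, .bwd 583, .edge 7, .bwd 187, .fwd 793, .bwd 2, .bwd 1] [2] (.rel 1026), .derive 462 [.bwd 752, .edge 5, .edge 4, .fwd 781, .bwd 6, .bwd 622, .fwd 3, .bwd 338, .fwd 337] [9] (.rel 1323), .derive 453 [.fwd 770, .bwd 0, .fwd 752] [8] (.rel 8), .derive 457 [.fwd 763, .bwd 1, .bwd 754, .edge 7, .fwd 775, .fwd 437, .fwd 770] [9] (.rel 415),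
  .derive 450 [.bwd 770, .bwd 0, .fwd 764, .bwd 2, .fwd 754, .bwd 1, .bwd 756] [8] (.rel 682), .derive 507 [.bwd 5, .bwd 794, .edge 7, .fwd 812, .bwd 4, .fwd 622, .bwd 109] [8] (.rel 1073), .derive 385 [.bwd 912, .edge 8, .edge 7, .edge 9, .fwd 954, .bwd 239, .fwd 17, .fwd 0] [5] (.rel 1325), .derive 417 [.bwd 839, .edge 5, .bwd 201, .bwd 0, .bwd 913, .edge 3] [] (.rel 1288), .derive 417 [.fwd 0] [] (.free), .derive 158 [.bwd 0, .bwd 829] [7] (.free), .derive 129 [.edge 7, .fwd 0] [] (.free), .derive 421 [.bwd 0] [] (.free),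
  .derive 129 [.bwd 0, .fwd 833] [5] (.free), .derive 388 [.bwd 915, .fwd 0] [] (.free), .derive 388 [.fwd 0] [] (.free), .derive 243 [.bwd 0, .bwd 904] [7] (.free), .derive 231 [.edge 7, .fwd 0] [] (.free), .derive 395 [.bwd 0] [] (.free), .derive 231 [.bwd 0, .fwd 908] [0] (.free), .derive 238 [.edge 0, .fwd 0] [] (.free),
  .derive 392 [.bwd 0] [] (.free), .derive 238 [.bwd 0, .fwd 916] [7] (.free), .derive 242 [.edge 7, .fwd 0] [] (.free), .derive 390 [.bwd 0] [] (.free), .derive 242 [.bwd 0, .bwd 923] [5] (.free), .derive 420 [.fwd 849, .fwd 0] [] (.free), .derive 420 [.fwd 0] [] (.free), .derive 130 [.bwd 0, .fwd 850] [7] (.free),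
  .derive 149 [.edge 7, .fwd 0] [] (.free), .derive 414 [.bwd 0] [] (.free), .derive 149 [.bwd 0, .bwd 877] [4] (.free), .derive 391 [.bwd 929, .fwd 0] [] (.free), .derive 391 [.fwd 0] [] (.free), .derive 183 [.bwd 0, .fwd 930] [7] (.free), .derive 191 [.edge 7, .fwd 0] [] (.free), .derive 389 [.bwd 0] [] (.free),
  .derive 191 [.bwd 0, .fwd 936] [0] (.free), .derive 193 [.edge 0, .fwd 0] [] (.free), .derive 387 [.bwd 0] [] (.free), .derive 516 [.bwd 143, .bwd 32, .bwd 945, .edge 3, .edge 6, .fwd 931] [5] (.rel 1305), .derive 354 [.bwd 999, .edge 4, .bwd 190, .bwd 637, .fwd 636, .bwd 235, .bwd 33] [3] (.rel 1306), .derive 544 [.bwd 237, .bwd 34, .fwd 946] [5] (.rel 1328), .derive 394 [.bwd 2, .bwd 146, .bwd 35, .bwd 1, .bwd 1001, .edge 3] [] (.rel 1361), .derive 394 [.fwd 0] [] (.free),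
  .derive 125 [.bwd 0, .bwd 4] [5] (.free), .derive 279 [.edge 5, .fwd 0] [] (.free), .derive 516 [.bwd 0] [] (.free), .derive 279 [.bwd 0, .fwd 139] [9] (.free), .derive 531 [.bwd 661, .fwd 0] [] (.free), .derive 531 [.fwd 0] [] (.free), .derive 295 [.bwd 0, .bwd 659] [0] (.free), .derive 296 [.edge 0, .fwd 0] [] (.free),
  .derive 533 [.bwd 0] [] (.free), .derive 296 [.bwd 0, .bwd 663] [8] (.free), .derive 564 [.bwd 608, .fwd 0] [] (.free), .derive 510 [.bwd 152, .fwd 0] [] (.free), .derive 280 [.bwd 0, .bwd 683] [7] (.free), .derive 282 [.edge 7, .fwd 0] [] (.free), .derive 522 [.bwd 0] [] (.free), .derive 282 [.bwd 0, .fwd 96] [9] (.free),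
  .derive 536 [.bwd 665, .fwd 0] [] (.free), .derive 644 [.bwd 0] [] (.free), .derive 536 [.bwd 0, .fwd 383, .fwd 267] [0] (.free), .derive 535 [.bwd 667, .fwd 0] [] (.free), .derive 536 [.bwd 2, .fwd 107] [8] (.free), .derive 535 [.fwd 1] [] (.free), .derive 437 [.bwd 0, .bwd 672] [8] (.free), .derive 528 [.bwd 170, .fwd 0] [] (.free),
  .derive 528 [.fwd 0] [] (.free), .derive 281 [.bwd 0, .fwd 140] [3] (.free), .derive 534 [.bwd 678, .fwd 0] [] (.free), .derive 534 [.fwd 0] [] (.free)]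
def ph11_11 : List Aux := [
  .derive 426 [.bwd 0, .fwd 679] [7] (.free), .derive 436 [.fwd 870, .fwd 0] [] (.free), .derive 530 [.bwd 0] [] (.free), .derive 436 [.bwd 0, .bwd 686] [0] (.free), .derive 544 [.bwd 272, .fwd 0] [] (.free), .derive 544 [.fwd 0] [] (.free), .derive 532 [.bwd 0, .fwd 36] [5] (.free), .derive 532 [.bwd 1, .bwd 675] [6] (.free),
  .derive 356 [.bwd 1037, .edge 6, .fwd 987, .bwd 1, .bwd 2, .bwd 275, .bwd 73, .bwd 39] [4] (.rel 1447), .derive 448 [.bwd 856, .edge 5, .edge 4, .bwd 493, .bwd 273, .fwd 668, .bwd 679, .bwd 1, .bwd 3, .bwd 276, .bwd 74, .bwd 987, .edge 2, .edge 1] [] (.rel 1474), .derive 448 [.fwd 0] [] (.free), .derive 81 [.bwd 0, .bwd 845] [7] (.free), .derive 74 [.edge 7, .fwd 0] [] (.free), .derive 456 [.bwd 0] [] (.free), .derive 74 [.bwd 0, .fwd 369] [6] (.free), .derive 52 [.edge 6, .fwd 0] [] (.free),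
  .derive 494 [.bwd 0] [] (.free), .derive 52 [.bwd 0, .bwd 759] [7] (.free), .derive 59 [.edge 7, .fwd 0] [] (.free), .derive 496 [.bwd 0] [] (.free), .derive 59 [.bwd 0, .bwd 361] [5] (.free), .derive 195 [.edge 5, .fwd 0] [] (.free), .derive 637 [.bwd 0] [] (.free), .derive 195 [.bwd 0, .fwd 439] [7] (.free),
  .derive 180 [.edge 7, .fwd 0] [] (.free), .derive 631 [.bwd 0] [] (.free), .derive 180 [.bwd 0, .bwd 383] [6] (.free), .derive 185 [.edge 6, .fwd 0] [] (.free), .derive 487 [.bwd 0] [] (.free), .derive 185 [.bwd 0, .fwd 787] [7] (.free), .derive 190 [.edge 7, .fwd 0] [] (.free), .derive 482 [.bwd 0] [] (.free),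
  .derive 190 [.bwd 0, .bwd 805] [4] (.free), .derive 419 [.bwd 934, .fwd 0] [] (.free), .derive 419 [.fwd 0] [] (.free), .derive 223 [.bwd 0, .fwd 934] [7] (.free), .derive 225 [.edge 7, .fwd 0] [] (.free), .derive 416 [.bwd 0] [] (.free), .derive 225 [.bwd 0, .fwd 943] [6] (.free), .derive 340 [.fwd 1094, .fwd 0] [] (.free),
  .derive 340 [.fwd 0] [] (.free), .derive 207 [.bwd 0, .fwd 1097] [9] (.free), .derive 464 [.bwd 861, .fwd 0] [] (.free), .derive 464 [.fwd 0] [] (.free), .derive 30 [.bwd 0, .fwd 859] [7] (.free), .derive 30 [.edge 7, .fwd 0] [] (.free), .derive 466 [.bwd 0] [] (.free), .derive 30 [.bwd 0, .bwd 863] [8] (.free),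
  .derive 341 [.bwd 1102, .fwd 0] [] (.free), .derive 341 [.fwd 0] [] (.free), .derive 208 [.bwd 0, .bwd 815] [7] (.free), .derive 210 [.edge 7, .fwd 0] [] (.free), .derive 486 [.bwd 0] [] (.free), .derive 210 [.bwd 0, .fwd 817] [9] (.free), .derive 470 [.bwd 859, .fwd 0] [] (.free), .derive 470 [.fwd 0] [] (.free),
  .derive 243 [.bwd 0, .fwd 860] [0] (.free), .derive 242 [.edge 0, .fwd 0] [] (.free), .derive 468 [.bwd 0] [] (.free), .derive 242 [.bwd 0, .bwd 869] [8] (.free), .derive 339 [.fwd 1120, .fwd 0] [] (.free), .derive 339 [.fwd 0] [] (.free), .derive 209 [.bwd 0, .fwd 408] [5] (.free), .derive 10 [.edge 5, .fwd 0] [] (.free),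
  .derive 641 [.bwd 0] [] (.free), .derive 10 [.bwd 0, .fwd 468] [7] (.free), .derive 8 [.edge 7, .fwd 0] [] (.free), .derive 635 [.bwd 0] [] (.free), .derive 8 [.bwd 0, .fwd 488] [6] (.free), .derive 17 [.edge 6, .fwd 0] [] (.free), .derive 346 [.bwd 0] [] (.free), .derive 17 [.bwd 0, .bwd 1110] [7] (.free),
  .derive 19 [.edge 7, .fwd 0] [] (.free), .derive 348 [.bwd 0] [] (.free), .derive 19 [.bwd 0, .bwd 641, .fwd 228] [5] (.free), .derive 221 [.edge 5, .fwd 0] [] (.free), .derive 560 [.bwd 0] [] (.free), .derive 221 [.bwd 0, .fwd 227, .fwd 176] [9] (.free), .derive 480 [.bwd 854, .fwd 0] [] (.free), .derive 480 [.fwd 0] [] (.free),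
  .derive 300 [.bwd 0, .bwd 854] [0] (.free), .derive 299 [.edge 0, .fwd 0] [] (.free), .derive 481 [.bwd 0] [] (.free), .derive 299 [.bwd 0, .bwd 858] [8] (.free), .derive 575 [.bwd 681, .fwd 0] [] (.free), .derive 514 [.bwd 190, .fwd 0] [] (.free), .derive 222 [.bwd 0, .bwd 781] [7] (.free), .derive 220 [.edge 7, .fwd 0] [] (.free),
  .derive 525 [.bwd 0] [] (.free), .derive 220 [.bwd 0, .fwd 234] [9] (.free), .derive 479 [.bwd 868, .fwd 0] [] (.free), .derive 479 [.fwd 0] [] (.free), .derive 294 [.bwd 0, .fwd 869] [0] (.free), .derive 293 [.edge 0, .fwd 0] [] (.free), .derive 478 [.bwd 0] [] (.free), .derive 293 [.bwd 0, .bwd 874] [8] (.free),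
  .derive 550 [.bwd 749, .fwd 0] [] (.free), .derive 550 [.fwd 0] [] (.free), .derive 219 [.bwd 0, .fwd 333] [6] (.free), .derive 476 [.fwd 881, .fwd 0] [] (.free)]
def ph11_12 : List Aux := [
  .derive 476 [.fwd 0] [] (.free), .derive 313 [.bwd 0, .fwd 896] [7] (.free), .derive 311 [.edge 7, .fwd 0] [] (.free), .derive 473 [.bwd 0] [] (.free), .derive 311 [.bwd 0, .bwd 905] [4] (.free), .derive 593 [.bwd 675, .fwd 0] [] (.free), .derive 593 [.fwd 0] [] (.free), .derive 212 [.bwd 0, .fwd 434] [9] (.free),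
  .derive 211 [.edge 9, .fwd 0] [] (.free), .derive 499 [.bwd 0] [] (.free), .derive 211 [.bwd 0, .fwd 846] [7] (.free), .derive 213 [.edge 7, .fwd 0] [] (.free), .derive 493 [.bwd 0] [] (.free), .derive 213 [.bwd 0, .bwd 441] [8] (.free), .derive 214 [.edge 8, .fwd 0] [] (.free), .derive 607 [.bwd 0] [] (.free),
  .derive 214 [.bwd 0, .fwd 624] [1] (.free), .derive 217 [.edge 1, .fwd 0] [] (.free), .derive 613 [.bwd 0] [] (.free), .derive 217 [.bwd 0, .bwd 440] [9] (.free), .derive 218 [.edge 9, .fwd 0] [] (.free), .derive 491 [.bwd 0] [] (.free), .derive 218 [.bwd 0, .bwd 846] [7] (.free), .derive 215 [.edge 7, .fwd 0] [] (.free),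
  .derive 505 [.bwd 0] [] (.free), .derive 215 [.bwd 0, .fwd 447] [9] (.free), .derive 216 [.edge 9, .fwd 0] [] (.free), .derive 600 [.bwd 0] [] (.free), .derive 216 [.bwd 0, .fwd 686] [5] (.free), .derive 83 [.bwd 918, .fwd 0] [] (.free), .derive 452 [.bwd 0] [] (.free), .derive 83 [.bwd 0, .bwd 957] [7] (.free),
  .derive 73 [.edge 7, .fwd 0] [] (.free), .derive 460 [.bwd 0] [] (.free), .derive 73 [.bwd 0, .bwd 442] [6] (.free), .derive 51 [.edge 6, .fwd 0] [] (.free), .derive 502 [.bwd 0] [] (.free), .derive 51 [.bwd 0, .fwd 868] [7] (.free), .derive 58 [.edge 7, .fwd 0] [] (.free), .derive 500 [.bwd 0] [] (.free),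
  .derive 58 [.bwd 0, .bwd 875] [4] (.free), .derive 352 [.bwd 1175, .fwd 0] [] (.free), .derive 352 [.fwd 0] [] (.free), .derive 235 [.bwd 0, .fwd 1176] [7] (.free), .derive 237 [.edge 7, .fwd 0] [] (.free), .derive 350 [.bwd 0] [] (.free), .derive 237 [.bwd 0, .bwd 963] [6] (.free), .derive 227 [.edge 6, .fwd 0] [] (.free),
  .derive 465 [.bwd 0] [] (.free), .derive 227 [.bwd 0, .bwd 956] [7] (.free), .derive 245 [.edge 7, .fwd 0] [] (.free), .derive 469 [.bwd 0] [] (.free), .derive 245 [.bwd 0, .fwd 958] [4] (.free), .derive 504 [.bwd 880, .fwd 0] [] (.free), .derive 453 [.bwd 513, .fwd 0] [] (.free), .derive 304 [.bwd 0, .fwd 224] [8] (.free),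
  .derive 583 [.bwd 741, .fwd 0] [] (.free), .derive 583 [.fwd 0] [] (.free), .derive 458 [.bwd 0, .fwd 742] [0] (.free), .derive 462 [.fwd 981, .fwd 0] [] (.free), .derive 582 [.bwd 0] [] (.free), .derive 462 [.bwd 0, .bwd 747] [9] (.free), .derive 449 [.bwd 232, .fwd 0] [] (.free), .derive 449 [.fwd 0] [] (.free),
  .derive 303 [.bwd 0, .bwd 996] [7] (.free), .derive 305 [.edge 7, .fwd 0] [] (.free), .derive 457 [.bwd 0] [] (.free), .derive 305 [.bwd 0, .fwd 235] [9] (.free), .derive 584 [.bwd 751, .fwd 0] [] (.free), .derive 584 [.fwd 0] [] (.free), .derive 454 [.bwd 0, .bwd 751] [0] (.free), .derive 450 [.bwd 1009, .fwd 0] [] (.free),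
  .derive 585 [.bwd 0] [] (.free), .derive 450 [.bwd 0, .bwd 755] [8] (.free), .derive 461 [.bwd 241, .fwd 0] [] (.free), .derive 461 [.fwd 0] [] (.free), .derive 306 [.bwd 0, .bwd 1001] [6] (.free), .derive 360 [.fwd 1199, .fwd 0] [] (.free), .derive 360 [.fwd 0] [] (.free), .derive 206 [.bwd 0, .bwd 1180] [7] (.free),
  .derive 204 [.edge 7, .fwd 0] [] (.free), .derive 371 [.bwd 0] [] (.free), .derive 204 [.bwd 0, .fwd 1184] [0] (.free), .derive 203 [.edge 0, .fwd 0] [] (.free), .derive 370 [.bwd 0] [] (.free), .derive 203 [.bwd 0, .fwd 1190] [7] (.free), .derive 205 [.edge 7, .fwd 0] [] (.free), .derive 361 [.bwd 0] [] (.free),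
  .derive 205 [.bwd 0, .bwd 606] [5] (.free), .derive 5 [.edge 5, .fwd 0] [] (.free), .derive 636 [.bwd 0] [] (.free), .derive 5 [.bwd 0, .bwd 591] [7] (.free), .derive 3 [.edge 7, .fwd 0] [] (.free), .derive 642 [.bwd 0] [] (.free), .derive 3 [.bwd 0, .fwd 593] [6] (.free), .derive 18 [.edge 6, .fwd 0] [] (.free),
  .derive 407 [.bwd 0] [] (.free), .derive 18 [.bwd 0, .bwd 1135] [7] (.free), .derive 15 [.edge 7, .fwd 0] [] (.free), .derive 408 [.bwd 0] [] (.free)]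
def ph11_13 : List Aux := [
  .derive 15 [.bwd 0, .fwd 1139] [5] (.free), .derive 330 [.bwd 1288, .fwd 0] [] (.free), .derive 330 [.fwd 0] [] (.free), .derive 325 [.bwd 0, .bwd 1285] [7] (.free), .derive 327 [.fwd 1296, .fwd 0] [] (.free), .derive 333 [.bwd 0] [] (.free), .derive 327 [.bwd 0, .fwd 674] [6] (.free), .derive 625 [.bwd 653, .fwd 0] [] (.free),
  .derive 625 [.fwd 0] [] (.free), .derive 362 [.bwd 0, .fwd 653] [7] (.free), .derive 357 [.bwd 1229, .fwd 0] [] (.free), .derive 619 [.bwd 0] [] (.free), .derive 357 [.bwd 0, .fwd 669] [5] (.free), .derive 606 [.fwd 756, .fwd 0] [] (.free), .derive 529 [.bwd 344, .fwd 0] [] (.free), .derive 412 [.bwd 0, .fwd 346] [7] (.free),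
  .derive 422 [.fwd 1105, .fwd 0] [] (.free), .derive 552 [.fwd 351, .fwd 2] [] (.free), .derive 542 [.bwd 1] [] (.free), .derive 422 [.bwd 0, .fwd 523, .fwd 502] [6] (.free), .derive 307 [.bwd 1110, .fwd 0] [] (.free), .derive 425 [.bwd 0] [] (.free), .derive 307 [.bwd 0, .bwd 1089] [7] (.free), .derive 309 [.edge 7, .fwd 0] [] (.free),
  .derive 437 [.bwd 0] [] (.free), .derive 309 [.bwd 0, .fwd 400, .fwd 228] [8] (.free), .derive 586 [.bwd 806, .fwd 0] [] (.free), .derive 309 [.bwd 2, .bwd 484, .fwd 9] [9] (.free), .derive 587 [.bwd 807, .fwd 0] [] (.free), .derive 587 [.fwd 0] [] (.free), .derive 412 [.bwd 0, .bwd 807] [0] (.free), .derive 411 [.bwd 1152, .fwd 0] [] (.free),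
  .derive 588 [.bwd 0] [] (.free), .derive 586 [.fwd 6] [] (.free), .derive 281 [.bwd 0, .bwd 809] [0] (.free), .derive 282 [.edge 0, .fwd 0] [] (.free), .derive 589 [.bwd 0] [] (.free), .derive 282 [.bwd 0, .bwd 813] [9] (.free), .derive 536 [.bwd 915, .fwd 0] [] (.free), .derive 536 [.fwd 0] [] (.free),
  .derive 310 [.bwd 0, .fwd 247] [8] (.free), .derive 588 [.bwd 819, .fwd 0] [] (.free), .derive 524 [.bwd 0, .fwd 9] [] (.free), .derive 411 [.bwd 0, .fwd 367] [7] (.free), .derive 423 [.fwd 1131, .fwd 0] [] (.free), .derive 558 [.bwd 0] [] (.free), .derive 423 [.bwd 0, .fwd 536] [5] (.free), .derive 628 [.fwd 682, .fwd 0] [] (.free),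
  .derive 628 [.fwd 0] [] (.free), .derive 364 [.bwd 0, .fwd 685] [7] (.free), .derive 358 [.bwd 1265, .fwd 0] [] (.free), .derive 622 [.bwd 0] [] (.free), .derive 358 [.bwd 0, .bwd 704] [6] (.free), .derive 336 [.fwd 720, .fwd 0] [] (.free), .derive 336 [.fwd 0] [] (.free), .derive 326 [.bwd 0, .bwd 1328] [7] (.free),
  .derive 328 [.fwd 1345, .fwd 0] [] (.free), .derive 337 [.bwd 0] [] (.free), .derive 328 [.bwd 0, .bwd 1333] [5] (.free), .derive 409 [.fwd 1195, .fwd 0] [] (.free), .derive 409 [.fwd 0] [] (.free), .derive 21 [.bwd 0, .bwd 1194] [7] (.free), .derive 20 [.edge 7, .fwd 0] [] (.free), .derive 410 [.bwd 0] [] (.free),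
  .derive 20 [.bwd 0, .bwd 1199] [4] (.free), .derive 335 [.bwd 1344, .fwd 0] [] (.free), .derive 335 [.fwd 0] [] (.free), .derive 178 [.bwd 0, .fwd 665] [3] (.free), .derive 179 [.edge 3, .fwd 0] [] (.free), .derive 643 [.bwd 0] [] (.free), .derive 179 [.bwd 0, .fwd 659] [6] (.free), .derive 184 [.edge 6, .fwd 0] [] (.free),
  .derive 489 [.bwd 0] [] (.free), .derive 184 [.bwd 0, .fwd 1026] [7] (.free), .derive 189 [.edge 7, .fwd 0] [] (.free), .derive 484 [.bwd 0] [] (.free), .derive 189 [.bwd 0, .bwd 1047] [4] (.free), .derive 418 [.bwd 1180, .fwd 0] [] (.free), .derive 418 [.fwd 0] [] (.free), .derive 224 [.bwd 0, .fwd 1181] [7] (.free),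
  .derive 226 [.edge 7, .fwd 0] [] (.free), .derive 415 [.bwd 0] [] (.free), .derive 226 [.bwd 0, .bwd 735] [5] (.free), .derive 490 [.bwd 1034, .fwd 0] [] (.free), .derive 621 [.bwd 0] [] (.free), .derive 490 [.bwd 0, .bwd 724] [7] (.free), .derive 485 [.bwd 1036, .fwd 0] [] (.free), .derive 627 [.bwd 0] [] (.free),
  .derive 485 [.bwd 0, .fwd 728] [0] (.free), .derive 483 [.bwd 1058, .fwd 0] [] (.free), .derive 624 [.bwd 0] [] (.free), .derive 483 [.bwd 0, .fwd 739] [7] (.free), .derive 488 [.fwd 1047, .fwd 0] [] (.free), .derive 483 [.bwd 2, .bwd 726] [9] (.free), .derive 618 [.bwd 1] [] (.free), .derive 356 [.fwd 286, .fwd 326, .fwd 360, .fwd 561, .edge 4, .edge 3, .fwd 1253] [6] (.rel 1436),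
  .derive 396 [.bwd 1252, .bwd 0, .fwd 1324] [6] (.rel 33), .derive 43 [.edge 1, .edge 2, .edge 6, .fwd 1317, .bwd 88, .fwd 740, .bwd 1188, .edge 2, .edge 1, .bwd 330, .bwd 1272, .bwd 357, .fwd 1190, .bwd 1254, .bwd 1] [] (.rel 1478), .derive 356 [.bwd 0] [] (.free), .derive 43 [.bwd 0, .fwd 1327] [7] (.free)]
def ph11_14 : List Aux := [
  .derive 49 [.edge 7, .fwd 0] [] (.free), .derive 355 [.bwd 0] [] (.free), .derive 49 [.bwd 0, .bwd 5] [6] (.free), .derive 90 [.edge 6, .fwd 0] [] (.free), .derive 396 [.bwd 0] [] (.free), .derive 90 [.bwd 0, .bwd 1261] [7] (.free), .derive 85 [.edge 7, .fwd 0] [] (.free), .derive 397 [.bwd 0] [] (.free),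
  .derive 85 [.bwd 0, .bwd 1266] [5] (.free), .derive 374 [.bwd 1306, .fwd 0] [] (.free), .derive 374 [.fwd 0] [] (.free), .derive 160 [.bwd 0, .bwd 1301] [7] (.free), .derive 159 [.edge 7, .fwd 0] [] (.free), .derive 379 [.bwd 0] [] (.free), .derive 159 [.bwd 0, .bwd 1300] [0] (.free), .derive 161 [.edge 0, .fwd 0] [] (.free),
  .derive 381 [.bwd 0] [] (.free), .derive 161 [.bwd 0, .fwd 1302] [7] (.free), .derive 162 [.edge 7, .fwd 0] [] (.free), .derive 376 [.bwd 0] [] (.free), .derive 162 [.bwd 0, .bwd 1314] [5] (.free), .derive 399 [.bwd 1274, .fwd 0] [] (.free), .derive 399 [.fwd 0] [] (.free), .derive 86 [.bwd 0, .fwd 1274] [7] (.free),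
  .derive 91 [.edge 7, .fwd 0] [] (.free), .derive 398 [.bwd 0] [] (.free), .derive 91 [.bwd 0, .fwd 1280] [4] (.free), .derive 380 [.bwd 1316, .fwd 0] [] (.free), .derive 380 [.fwd 0] [] (.free), .derive 238 [.bwd 0, .fwd 1317] [7] (.free), .derive 242 [.edge 7, .fwd 0] [] (.free), .derive 375 [.bwd 0] [] (.free),
  .derive 242 [.bwd 0, .fwd 1327] [0] (.free), .derive 243 [.edge 0, .fwd 0] [] (.free), .derive 373 [.bwd 0] [] (.free), .derive 366 [.bwd 1347, .edge 6, .edge 1, .edge 2, .edge 6, .fwd 1333, .fwd 0, .bwd 1228, .fwd 395, .fwd 1310, .fwd 368, .edge 2, .edge 1, .fwd 1242, .fwd 297, .fwd 1091] [] (.rel 1476), .derive 488 [.bwd 0] [] (.free), .derive 366 [.bwd 0, .bwd 1093] [5] (.free), .derive 366 [.bwd 1, .fwd 1093] [7] (.free), .derive 368 [.fwd 1348, .fwd 0] [] (.free),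
  .derive 483 [.bwd 0] [] (.free), .derive 368 [.bwd 0, .bwd 1102, .fwd 0] [4] (.free), .derive 80 [.fwd 1352, .bwd 0] [] (.free), .derive 368 [.bwd 2, .fwd 49] [9] (.free), .derive 368 [.bwd 1] [] (.free), .derive 80 [.bwd 0, .fwd 1] [9] (.free), .derive 170 [.edge 9, .fwd 0] [] (.free), .derive 629 [.bwd 0] [] (.free),
  .derive 170 [.bwd 0, .bwd 782] [8] (.free), .derive 96 [.edge 8, .fwd 0] [] (.free), .derive 328 [.bwd 0] [] (.free), .derive 96 [.bwd 0, .fwd 783] [9] (.free), .derive 166 [.edge 9, .fwd 0] [] (.free), .derive 630 [.bwd 0] [] (.free), .derive 166 [.bwd 0, .fwd 785] [8] (.free), .derive 47 [.edge 8, .fwd 0] [] (.free),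
  .derive 471 [.bwd 0] [] (.free), .derive 47 [.bwd 0, .bwd 1156] [7] (.free), .derive 40 [.edge 7, .fwd 0] [] (.free), .derive 474 [.bwd 0] [] (.free), .derive 618 [.fwd 65, .fwd 23] [] (.free), .derive 40 [.bwd 1, .bwd 820, .fwd 0] [6] (.free), .derive 77 [.edge 6, .fwd 0] [] (.free), .derive 366 [.bwd 0] [] (.free),
  .derive 77 [.bwd 0, .fwd 26] [5] (.free), .derive 367 [.bwd 1376, .fwd 0] [] (.free), .derive 367 [.fwd 0] [] (.free), .derive 225 [.bwd 0, .bwd 1374] [7] (.free), .derive 223 [.edge 7, .fwd 0] [] (.free), .derive 369 [.bwd 0] [] (.free), .derive 223 [.bwd 0, .bwd 1351] [0] (.free), .derive 224 [.edge 0, .fwd 0] [] (.free),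
  .derive 383 [.bwd 0] [] (.free), .derive 224 [.bwd 0, .fwd 1353] [7] (.free), .derive 226 [.edge 7, .fwd 0] [] (.free), .derive 378 [.bwd 0] [] (.free), .derive 226 [.bwd 0, .bwd 1368] [5] (.free), .derive 490 [.bwd 1128, .fwd 0] [] (.free), .derive 490 [.fwd 0] [] (.free), .derive 87 [.bwd 0, .fwd 1129] [7] (.free),
  .derive 92 [.edge 7, .fwd 0] [] (.free), .derive 485 [.bwd 0] [] (.free), .derive 92 [.bwd 0, .bwd 1142, .fwd 0] [4] (.free), .derive 382 [.bwd 1367, .bwd 0] [] (.free), .derive 382 [.fwd 0] [] (.free), .derive 92 [.bwd 0, .fwd 1368] [7] (.free), .derive 87 [.edge 7, .fwd 0] [] (.free), .derive 377 [.bwd 0] [] (.free),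
  .derive 401 [.bwd 1304, .bwd 1305, .bwd 1308, .edge 6, .edge 1, .edge 2, .edge 6, .bwd 115, .bwd 1142, .bwd 12, .bwd 1380, .bwd 0, .bwd 1381, .edge 2, .edge 1] [] (.rel 1474), .derive 401 [.fwd 0] [] (.free), .derive 386 [.bwd 1366, .edge 9, .edge 8, .bwd 450, .fwd 1283, .bwd 55, .bwd 1388, .edge 8, .edge 7, .edge 9, .bwd 0, .bwd 1306] [] (.rel 1321), .derive 386 [.fwd 0] [] (.free), .derive 239 [.bwd 0, .bwd 1357] [7] (.free), .derive 244 [.edge 7, .fwd 0] [] (.free), .derive 393 [.bwd 0] [] (.free), .derive 244 [.bwd 0, .bwd 1361] [5] (.free),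
  .derive 424 [.fwd 1281, .fwd 0] [] (.free), .derive 424 [.fwd 0] [] (.free), .derive 198 [.fwd 1284, .fwd 0] [4] (.free), .commit 0]
def ph11 : List Aux :=
  (((ph11_0 ++ (ph11_1 ++ ph11_2)) ++ ((ph11_3 ++ ph11_4) ++ (ph11_5 ++ ph11_6))) ++ (((ph11_7 ++ ph11_8) ++ (ph11_9 ++ ph11_10)) ++ ((ph11_11 ++ ph11_12) ++ (ph11_13 ++ ph11_14))))

def ph12_0 : List ℕ := [
  808238, 742706, 791862, 795963, 537930, 1213806, 1208320, 1220639,
  1062171, 1066288, 1037764, 1033675, 1033498, 1226065, 1232927, 787736,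
  984362, 771378, 750907, 427375, 1238426, 1119691, 1119499, 1123632,
  1111348, 439675, 1066361, 488839, 415149, 152842, 419120, 398644,
  349504, 345413, 492880, 152957, 1103230, 1095065, 136610, 546085,
  132400, 185664, 173381, 157006, 1094993, 456045, 460189, 1062313,
  1103276, 452005, 177442, 447808, 402766, 496983, 1103198, 1074556,
  1095075, 1213716, 509277, 132519, 1115419, 1156393, 140598, 197947,
  1115484, 1099118, 1099161, 525735, 464134, 1070347, 603446, 476475,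
  648645, 640330, 1086832, 1090967, 370093, 369961, 374064, 365888,
  546128, 1152364, 353659, 1160574, 992647, 1172889, 947627, 976301,
  976325, 447768, 984374, 980283, 996682, 1148245, 996690, 587101,
  599407, 271754, 1148321, 1197471, 443806, 521675, 623884, 541979,
  1144105, 509232, 415060, 419185, 685354, 402738, 365883, 566534,
  636173, 345368, 644373, 333090, 361774, 423261, 636271, 693642,
  198029, 206235, 570774, 763294, 1238283, 480539, 783675, 410991,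
  1029490, 1041803, 1176963, 615838, 1131978, 615686, 1176845, 1127726,
  427338, 1185101, 410964, 181613, 1234290, 1127831, 1126428, 1134623,
  1224962, 1189129, 472344, 1033483, 181586, 1230212, 304421, 300334,
  1250686, 718250, 70936, 730414, 714034, 841081, 1250675, 898443,
  901122, 905249, 161184, 144688, 169268, 79125, 148784, 832849,
  835584, 1242490, 779694, 775472, 759092, 755008, 1242449, 1245184,
  835659, 843809, 844038, 1253638, 836989, 87421, 148757, 1279364,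
  918972, 913410, 860171, 856089, 1003549, 925729, 999458, 995364,
  856138, 856176, 856171, 852134, 848065, 930054, 123165, 938275,
  848499, 848492, 922354, 963861, 963936, 918909, 1246608, 116158,
  114703, 934071, 935181, 759064, 943379, 943459, 972080, 955700,
  230853, 1078721, 1082672, 533838, 1172834, 1148254, 1142784, 1155103,
  1081419, 1163341, 1164553, 267600, 1082716, 435552, 435465, 1086805,
  1168810, 275872, 1205668, 1097753, 1106113, 1172926, 1163279, 1172941,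
  1163277, 1093702, 1102296, 1185092, 1175567, 1185086, 1176890, 1237003,
  1228966, 1049863, 1049867, 1049882, 226597, 251186, 324938, 324946,
  1017198, 316785, 1017241, 1017260, 316682, 1013021, 1025330, 1017282,
  1024015, 1011780, 1171605, 1024190, 1024197, 1012174, 1020381, 827891,
  1167877, 1098554, 1013048, 1017293, 1024013, 823321, 1232966, 1204361,
  1196170, 815297, 1048806, 1176079, 1180168, 1270300, 1225253, 1020453,
  1168087, 1159917, 1057622, 1217850, 1093643, 1208335, 1101990, 1261763,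
  1286643, 1053366, 1020626, 1217222, 1020658, 1180464, 1045449, 734523,
  382390, 382214, 972056, 394546, 337211, 144714, 357708, 755028,
  357743, 1254823, 1054156, 255239, 394506, 1021208, 1058094, 378250,
  1263038, 378119, 337194, 329008, 779533, 328969, 243057, 1242442,
  1058191, 1282393, 897364, 1286723, 901154, 1065885, 1287467, 1282056,
  1286167, 901156, 1044534, 1269816, 1278099, 901348, 1122541, 1233142,
  1155338, 1085712, 1286445, 1151460, 910161, 1278864, 1160073, 1209261,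
  1090487, 1278923, 910407, 1152133, 1037466, 1127571, 1037465, 1070256,
  1107111, 1053890, 1213659, 1262816, 1279270, 1273862, 1142810, 909346,
  1052716, 1261614, 1077312, 1146946, 909370, 1101955, 1134809, 1274096,
  1138923, 1196300, 1028371, 1061298, 1061303, 1282562, 1176240, 1114907,
  1123114, 1131367, 1078179, 1066067, 1209493, 1098923, 1037540, 1040390,
  1126434, 1216643, 1036465, 1028309, 1200349, 1085931, 1057446, 1163957]
def ph12_1 : List ℕ := [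
  906128, 1090489, 1048641, 1081759, 1229247, 1074352, 1139931, 1111285,
  1111286, 1073188, 1257536, 1073380, 1077491, 1118647, 1118892, 1094866,
  1130562]

def ph13_0 : List Aux := [
  .node 2 4, .derive 645 [.bwd 0, .edge 5, .edge 4, .edge 5, .edge 4] [5] (.rel 1286), .node 17 4, .node 22 4, .derive 647 [.bwd 0, .edge 6, .edge 1, .edge 2, .edge 6, .edge 4, .edge 5, .edge 4, .edge 2, .edge 1, .fwd 0] [5] (.rel 1476), .derive 220 [.edge 5, .fwd 1, .bwd 0, .bwd 1, .edge 5] [4] (.rel 1287), .derive 646 [.bwd 3, .edge 6, .edge 1, .edge 2, .edge 6, .fwd 2, .bwd 1, .bwd 2, .edge 2, .edge 1, .fwd 3] [5] (.rel 1476), .derive 207 [.edge 5, .edge 6, .fwd 4, .fwd 0, .bwd 4, .edge 5, .edge 3] [4] (.rel 1447),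
  .derive 307 [.edge 7, .bwd 0, .edge 7] [4] (.rel 1330), .derive 210 [.edge 0, .bwd 0, .edge 0] [4] (.rel 1326), .node 73 4, .derive 648 [.bwd 0, .edge 6, .edge 5, .edge 3, .edge 6, .edge 5] [6] (.rel 1404), .node 83 4, .derive 649 [.bwd 0, .edge 7, .fwd 2] [7] (.rel 1331), .derive 649 [.bwd 1, .edge 6, .edge 5, .edge 3, .edge 6, .edge 5] [6] (.rel 1404), .node 83 5,
  .node 172 4, .node 179 4, .derive 652 [.bwd 0, .edge 5, .edge 3, .edge 5, .bwd 12, .edge 3] [6] (.rel 1303), .derive 184 [.edge 3, .edge 6, .edge 5, .bwd 0, .bwd 1, .edge 6] [5] (.rel 1407), .derive 648 [.fwd 8, .edge 5, .edge 3, .fwd 0, .edge 3, .edge 5, .bwd 8] [3] (.rel 1458), .derive 649 [.fwd 7, .fwd 0, .bwd 7] [3] (.rel 31), .node 210 3, .derive 653 [.bwd 0, .fwd 13, .edge 5, .edge 6, .edge 5] [4] (.rel 1293),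
  .node 215 4, .derive 654 [.bwd 0, .edge 2, .edge 1, .edge 4, .bwd 23, .bwd 24, .edge 6, .edge 1, .edge 2, .edge 6, .fwd 8] [5] (.rel 1483), .derive 215 [.fwd 1, .fwd 0, .bwd 9, .edge 5, .bwd 2] [5] (.rel 1286), .derive 650 [.bwd 11, .fwd 14, .fwd 5, .fwd 12, .bwd 3, .bwd 0, .edge 3] [] (.rel 1306), .derive 650 [.fwd 0] [] (.free), .derive 83 [.fwd 13, .fwd 0] [5] (.free), .commit 0]
def ph13 : List Aux :=
  ph13_0

def ph14_0 : List ℕ := [
  1279239, 1004827, 333104, 300340, 189809, 837058, 1246654, 1253391,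
  1245202, 1245200, 1241156, 1245320, 1253513, 1253525, 843942, 835762,
  835757, 1253579, 831957, 1249757, 1241577, 1241566, 1249797, 836333,
  844628, 1241963, 1016720, 840612, 1250236, 844740, 840743, 832654,
  839693, 831508, 831514, 1249443, 844250, 869834, 865549, 877861,
  873762, 890166, 865647, 873780, 894272, 894215, 877849, 54732,
  54534]

/-- known edges at a check point -/
def mask0 : ℕ := 0x2008020080200802008020080200801004010040100401004010040100402008020080200802008020080200802008020080100401004020080200801004010040100401004020080200801004010040200802008002208802000220002602000220002880022806000a402806020a43b0cc3820080200808020084210080300601820080200802008020080300c0300c0802008000880200022000a022006018002808a028060200600221822a098224bb6ccba10842108409084290048902489024880480a04008028080200808022088180482002a920600a080080280a0202a0a008020100a0280600282a280220922889028088020a82a190260a82a08020202602006018060180a028862180a2080c020022280a020420006622800120020280a0280a0184210806008a2208823a12642902421286198660a2a819002008a42a0681186600a02080a0002a822220200e0180022a042a82600040228ce21884804018010c580e0e008ea1a8a03c8ea3807a3607216040926e8322ea36896b7adfb34cfb2edf830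

/-- known edges at a check point -/
def mask1 : ℕ := 0xa1284a1284a1284a1284a1284a1284912449124491244912449124491244a1284a1284a1284a1284a1284a1284a1284a12849124491244a1284a128491244912449124491244a1284a12849124491244a1284a1287cff1ecf73ecf73fcff3fcff3ecff3fc7f3fcff3fcf73fc7f1f8fe3f8fe3ca1284a1287cff3fcff3fcff3fcff3ca1284a1284a1284a1284b12c4b12c48721c8721c8721c8721c8f23e8761d8723c8fa1e8761e8761ce739eef39ce77bfeffbfdff7fdff7fdff7fdff7fdff7fdff7fcffbfeff3fcffbfcff3fcff3feffbfcffbfcffbfeff3feff3fcffbfeff3feff3fcff3fcff3fcff3feffbfcff3fdffbfdffbfcff3feffbfdff7feffbfcff3fcff3fcff3fcff3fcff3fcff3fcff3fcff3fcff3fcff3fcff3fcff3fcff3fcff3fcff3fcff3fcff3fcff3fcff3fcff3fdff7fdff7fdff7fdff7feffbfdff3fcff7feffbfdff7fcff3fcff3fcffbfeff3fcff3fcff3feff3fcff3fcff3fcff3fcffbcdfffff9ffcff3e4fbfbfeff3fcffbfcffbffff3ffff3ffffbfeffbfeffffffffffffffeffffff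

/-- known edges at a check point -/
def mask2 : ℕ := 0xa1284a1284a92a4a92a4a1284a1284b12c4b12c4b72c4b72c4b52ccb32d4a1284a1284a1284a1284a1284a1284a1284a12849124491244a1284a128491244912449124491244a1284a12849124491244a1284a1287cff1ecf73ecf73fcff3fcff3ecff3fc7f3fcff3fcf73fc7f1f8fe3f8fe3ca92a4a92a7cff3fcff3fcff3fcff3ca1284a1284a1284a1284b12c4b12c7effbfeffbfeffbfeffbfcff3feffbfeff3fcffbfeffbfeffbfeffbfeffbfeffbfeffbfdff7fdff7fdff7fdff7fdff7fdff7fcffbfeff3fcffbfcff3fcff3feffbfcffbfcffbfeff3feff3fcffbfeff3feff3fcff3fcff3fcff3feffbfcff3fdffbfdffbfcff3feffbfdff7feffbfcff3fcff3fcff3fcff3fcff3fcff3fcff3fcff3fcff3fcff3fcff3fcff3fcff3fcff3fcff3fcff3fcff3fcff3fcff3fcff3fdff7fdff7fdff7fdff7feffbfdffbfeff7feffbfdff7feffbfcff3fcffbfeff3fcff3fcff3feff3fcff3fcff3fcff3fcffbcdfffff9fffffffffffbfeff3fcffbfcffbffff3ffff3ffffbfeffbfeffffffffffffffeffffff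

/-- known edges at a check point -/
def mask3 : ℕ := 0x3effafeffb7fffffffffcf93e4f93e7fffffffffffffffffffffffffffffffffffffffffffffffffffffefffff7fdffffbffffffefffff7fffffffffffbffffdffffdffffbffffffffffffffbffffdffcff3fcff3fffff7ffffffffffffffffffffffffffdffffffffffffffdff7fffffffffffffff7fffefcff3fcff3fcff3fcff3ffffffffffcf93e4f93e4ff3fcff3ffffffffffffffffffffffffffffffffffffffffffffffffffffffffffffffffffffffffffffffffffffffffffffffffffffffffffffffffffffffffffffffffffffffffffffffffffffffffffffffffffffffffffffffffffffffffffffffffffffffffffffffffffffffffffffffffffffffffffffffffffffffffffffffffffffffffffffffffffffffffffffffffff7ffff7ffffffffffffffffdff7ffffffffffffffffffffffffffffffffffffffffffffffffffffffffffffffffbfeffffffffffffffeffffffffffffffffffffffbfdffffffffffffffffffffffffffffffffffffffffff3ffffffffffffffffffffffffffeffffff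

theorem treeRun_ok : stIs (runList (treeStep P) tree ⟨1, 0, []⟩) 315 mask0 = true := by decide +kernel

def seg0 : List Phase := [.scans ph0_0, .scans ph0_1, .aux ph1, .scans ph2_0, .aux ph3]

theorem seg0_ok : stIs (runList (phaseStep P) seg0 ⟨315, mask0, []⟩) 317 mask1 = true := by decide +kernel

def seg1 : List Phase := [.scans ph4_0, .aux ph5, .scans ph6_0, .aux ph7, .scans ph8_0]

theorem seg1_ok : stIs (runList (phaseStep P) seg1 ⟨317, mask1, []⟩) 323 mask2 = true := by decide +kernel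

def seg2 : List Phase := [.aux ph9, .scans ph10_0, .aux ph11, .scans ph12_0, .scans ph12_1]

theorem seg2_ok : stIs (runList (phaseStep P) seg2 ⟨323, mask2, []⟩) 645 mask3 = true := by decide +kernel

def seg3 : List Phase := [.aux ph13, .scans ph14_0]

theorem seg3_ok : stIs (runList (phaseStep P) seg3 ⟨645, mask3, []⟩) 655 (2 ^ (315 * P.k) - 1) = true := by decide +kernel

/-- the certificate -/
def phases : List Phase :=
  seg0 ++ (seg1 ++ (seg2 ++ (seg3)))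

theorem cert_ok : checkCert P 315 tree phases = true :=
  checkCert_of_run P treeRun_ok (run_append P seg0_ok (run_append P seg1_ok (run_append P seg2_ok (run_last P seg3_ok))))

theorem gen0_ok : genOK P 315 0 = true := by decide +kernel

theorem gen1_ok : genOK P 315 1 = true := by decide +kernel

theorem gen2_ok : genOK P 315 2 = true := by decide +kernel

theorem gen3_ok : genOK P 315 3 = true := by decide +kernel

theorem gen4_ok : genOK P 315 4 = true := by decide +kernel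

theorem gen5_ok : genOK P 315 5 = true := by decide +kernel

theorem gen6_ok : genOK P 315 6 = true := by decide +kernel

theorem gen7_ok : genOK P 315 7 = true := by decide +kernel

theorem gen8_ok : genOK P 315 8 = true := by decide +kernel

theorem gen9_ok : genOK P 315 9 = true := by decide +kernel

theorem tab_ok : tableOK P 315 = true := tableOK_of_gens P (by decide +kernel) (by decide +kernel) fun x hx =>
  match x, hx with
  | 0, _ => gen0_ok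
  | 1, _ => gen1_ok
  | 2, _ => gen2_ok
  | 3, _ => gen3_ok
  | 4, _ => gen4_ok
  | 5, _ => gen5_ok
  | 6, _ => gen6_ok
  | 7, _ => gen7_ok
  | 8, _ => gen8_ok
  | 9, _ => gen9_ok
  | _ + 10, hx => absurd (show _ + 10 < 10 from hx) (by omega)

theorem base0_ok : Fixes P 315 [0, 3, 0, 3] :=
  fixes_of_powFix P (u := [0, 3]) (e := 2) (by decide +kernel) (by decide +kernel)

theorem base1_ok : Fixes P 315 [0, 6, 0, 6] :=
  fixes_of_powFix P (u := [0, 6]) (e := 2) (by decide +kernel) (by decide +kernel)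

theorem base2_ok : Fixes P 315 [0, 7, 0, 7] :=
  fixes_of_powFix P (u := [0, 7]) (e := 2) (by decide +kernel) (by decide +kernel)

theorem base3_ok : Fixes P 315 [0, 8, 0, 9] := fixes_of_wordFix P (by decide +kernel)

theorem base4_ok : Fixes P 315 [1, 6, 1, 6] :=
  fixes_of_powFix P (u := [1, 6]) (e := 2) (by decide +kernel) (by decide +kernel)

theorem base5_ok : Fixes P 315 [1, 7, 2, 7] := fixes_of_wordFix P (by decide +kernel)

theorem base6_ok : Fixes P 315 [1, 8, 1, 9] := fixes_of_wordFix P (by decide +kernel)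

theorem base7_ok : Fixes P 315 [2, 3, 2, 9] := fixes_of_wordFix P (by decide +kernel)

theorem base8_ok : Fixes P 315 [2, 6, 2, 6] :=
  fixes_of_powFix P (u := [2, 6]) (e := 2) (by decide +kernel) (by decide +kernel)

theorem base9_ok : Fixes P 315 [2, 8, 2, 8] :=
  fixes_of_powFix P (u := [2, 8]) (e := 2) (by decide +kernel) (by decide +kernel)

theorem base10_ok : Fixes P 315 [3, 6, 3, 6] :=
  fixes_of_powFix P (u := [3, 6]) (e := 2) (by decide +kernel) (by decide +kernel)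

theorem base11_ok : Fixes P 315 [3, 7, 3, 7] :=
  fixes_of_powFix P (u := [3, 7]) (e := 2) (by decide +kernel) (by decide +kernel)

theorem base12_ok : Fixes P 315 [6, 7, 6, 7] :=
  fixes_of_powFix P (u := [6, 7]) (e := 2) (by decide +kernel) (by decide +kernel)

theorem base13_ok : Fixes P 315 [6, 8, 6, 8] :=
  fixes_of_powFix P (u := [6, 8]) (e := 2) (by decide +kernel) (by decide +kernel)

theorem base14_ok : Fixes P 315 [6, 9, 6, 9] :=
  fixes_of_powFix P (u := [6, 9]) (e := 2) (by decide +kernel) (by decide +kernel)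

theorem base15_ok : Fixes P 315 [3, 6, 8, 3, 8] := fixes_of_wordFix P (by decide +kernel)

theorem base16_ok : Fixes P 315 [3, 6, 9, 3, 9] := fixes_of_wordFix P (by decide +kernel)

theorem base17_ok : Fixes P 315 [6, 8, 9, 8, 9] := fixes_of_wordFix P (by decide +kernel)

theorem base18_ok : Fixes P 315 [0, 1, 0, 1, 0, 1] :=
  fixes_of_powFix P (u := [0, 1]) (e := 3) (by decide +kernel) (by decide +kernel)

theorem base19_ok : Fixes P 315 [0, 2, 0, 2, 0, 2] :=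
  fixes_of_powFix P (u := [0, 2]) (e := 3) (by decide +kernel) (by decide +kernel)

theorem base20_ok : Fixes P 315 [0, 3, 6, 0, 6, 3] := fixes_of_wordFix P (by decide +kernel)

theorem base21_ok : Fixes P 315 [0, 3, 7, 0, 7, 3] := fixes_of_wordFix P (by decide +kernel)

theorem base22_ok : Fixes P 315 [0, 3, 8, 0, 9, 3] := fixes_of_wordFix P (by decide +kernel)

theorem base23_ok : Fixes P 315 [0, 6, 7, 0, 7, 6] := fixes_of_wordFix P (by decide +kernel)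

theorem base24_ok : Fixes P 315 [0, 6, 8, 0, 9, 6] := fixes_of_wordFix P (by decide +kernel)

theorem base25_ok : Fixes P 315 [0, 7, 8, 0, 9, 7] := fixes_of_wordFix P (by decide +kernel)

theorem base26_ok : Fixes P 315 [0, 8, 9, 0, 8, 9] :=
  fixes_of_powFix P (u := [0, 8, 9]) (e := 2) (by decide +kernel) (by decide +kernel)

theorem base27_ok : Fixes P 315 [1, 2, 1, 2, 1, 7] := fixes_of_wordFix P (by decide +kernel)

theorem base28_ok : Fixes P 315 [1, 2, 1, 2, 7, 2] := fixes_of_wordFix P (by decide +kernel)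

theorem base29_ok : Fixes P 315 [1, 3, 1, 7, 9, 7] := fixes_of_wordFix P (by decide +kernel)

theorem base30_ok : Fixes P 315 [1, 3, 7, 2, 9, 7] := fixes_of_wordFix P (by decide +kernel)

theorem base31_ok : Fixes P 315 [1, 6, 7, 2, 7, 6] := fixes_of_wordFix P (by decide +kernel)

theorem base32_ok : Fixes P 315 [1, 6, 8, 1, 9, 6] := fixes_of_wordFix P (by decide +kernel)

theorem base33_ok : Fixes P 315 [1, 7, 3, 2, 9, 7] := fixes_of_wordFix P (by decide +kernel)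

theorem base34_ok : Fixes P 315 [1, 7, 6, 2, 6, 7] := fixes_of_wordFix P (by decide +kernel)

theorem base35_ok : Fixes P 315 [1, 7, 8, 2, 8, 7] := fixes_of_wordFix P (by decide +kernel)

theorem base36_ok : Fixes P 315 [1, 8, 7, 2, 7, 9] := fixes_of_wordFix P (by decide +kernel)

theorem base37_ok : Fixes P 315 [1, 8, 9, 1, 8, 9] :=
  fixes_of_powFix P (u := [1, 8, 9]) (e := 2) (by decide +kernel) (by decide +kernel)

theorem base38_ok : Fixes P 315 [2, 3, 6, 2, 9, 6] := fixes_of_wordFix P (by decide +kernel)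

theorem base39_ok : Fixes P 315 [2, 3, 8, 2, 8, 9] := fixes_of_wordFix P (by decide +kernel)

theorem base40_ok : Fixes P 315 [2, 3, 9, 2, 3, 9] :=
  fixes_of_powFix P (u := [2, 3, 9]) (e := 2) (by decide +kernel) (by decide +kernel)

theorem base41_ok : Fixes P 315 [2, 6, 8, 2, 8, 6] := fixes_of_wordFix P (by decide +kernel)

theorem base42_ok : Fixes P 315 [3, 6, 7, 3, 7, 6] := fixes_of_wordFix P (by decide +kernel)

theorem base43_ok : Fixes P 315 [3, 8, 3, 9, 8, 9] := fixes_of_wordFix P (by decide +kernel)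

theorem base44_ok : Fixes P 315 [3, 8, 9, 3, 9, 8] := fixes_of_wordFix P (by decide +kernel)

theorem base45_ok : Fixes P 315 [3, 8, 9, 8, 3, 9] := fixes_of_wordFix P (by decide +kernel)

theorem base46_ok : Fixes P 315 [6, 7, 8, 6, 8, 7] := fixes_of_wordFix P (by decide +kernel)

theorem base47_ok : Fixes P 315 [6, 7, 9, 6, 9, 7] := fixes_of_wordFix P (by decide +kernel)

theorem base48_ok : Fixes P 315 [1, 3, 8, 3, 1, 6, 9] := fixes_of_wordFix P (by decide +kernel)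

theorem base49_ok : Fixes P 315 [1, 3, 9, 3, 1, 6, 8] := fixes_of_wordFix P (by decide +kernel)

theorem base50_ok : Fixes P 315 [3, 6, 7, 8, 3, 8, 7] := fixes_of_wordFix P (by decide +kernel)

theorem base51_ok : Fixes P 315 [3, 6, 7, 9, 3, 9, 7] := fixes_of_wordFix P (by decide +kernel)

theorem base52_ok : Fixes P 315 [3, 6, 8, 7, 3, 7, 8] := fixes_of_wordFix P (by decide +kernel)

theorem base53_ok : Fixes P 315 [3, 6, 9, 7, 3, 7, 9] := fixes_of_wordFix P (by decide +kernel)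

theorem base54_ok : Fixes P 315 [3, 7, 6, 7, 8, 3, 8] := fixes_of_wordFix P (by decide +kernel)

theorem base55_ok : Fixes P 315 [3, 7, 6, 7, 9, 3, 9] := fixes_of_wordFix P (by decide +kernel)

theorem base56_ok : Fixes P 315 [3, 7, 8, 9, 7, 9, 8] := fixes_of_wordFix P (by decide +kernel)

theorem base57_ok : Fixes P 315 [3, 7, 9, 8, 7, 8, 9] := fixes_of_wordFix P (by decide +kernel)

theorem base58_ok : Fixes P 315 [3, 8, 7, 9, 8, 7, 9] := fixes_of_wordFix P (by decide +kernel)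

theorem base59_ok : Fixes P 315 [6, 7, 8, 9, 8, 9, 7] := fixes_of_wordFix P (by decide +kernel)

theorem base60_ok : Fixes P 315 [0, 1, 0, 1, 0, 6, 1, 6] := fixes_of_wordFix P (by decide +kernel)

theorem base61_ok : Fixes P 315 [0, 1, 0, 1, 0, 7, 2, 7] := fixes_of_wordFix P (by decide +kernel)

theorem base62_ok : Fixes P 315 [0, 1, 0, 1, 0, 8, 1, 9] := fixes_of_wordFix P (by decide +kernel)

theorem base63_ok : Fixes P 315 [0, 1, 0, 1, 3, 0, 3, 1] := fixes_of_wordFix P (by decide +kernel)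

theorem base64_ok : Fixes P 315 [0, 1, 2, 1, 2, 1, 0, 7] := fixes_of_wordFix P (by decide +kernel)

theorem base65_ok : Fixes P 315 [0, 1, 3, 1, 0, 7, 8, 7] := fixes_of_wordFix P (by decide +kernel)

theorem base66_ok : Fixes P 315 [0, 2, 0, 2, 0, 3, 2, 9] := fixes_of_wordFix P (by decide +kernel)

theorem base67_ok : Fixes P 315 [0, 2, 0, 2, 0, 6, 2, 6] := fixes_of_wordFix P (by decide +kernel)

theorem base68_ok : Fixes P 315 [0, 2, 0, 2, 0, 7, 1, 7] := fixes_of_wordFix P (by decide +kernel)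

theorem base69_ok : Fixes P 315 [0, 2, 0, 2, 0, 8, 2, 8] := fixes_of_wordFix P (by decide +kernel)

theorem base70_ok : Fixes P 315 [0, 3, 6, 7, 0, 7, 6, 3] := fixes_of_wordFix P (by decide +kernel)

theorem base71_ok : Fixes P 315 [0, 3, 7, 8, 0, 9, 7, 3] := fixes_of_wordFix P (by decide +kernel)

theorem base72_ok : Fixes P 315 [0, 3, 8, 7, 0, 7, 9, 3] := fixes_of_wordFix P (by decide +kernel)

theorem base73_ok : Fixes P 315 [0, 3, 8, 9, 0, 8, 9, 3] := fixes_of_wordFix P (by decide +kernel)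

theorem base74_ok : Fixes P 315 [0, 6, 7, 8, 0, 9, 7, 6] := fixes_of_wordFix P (by decide +kernel)

theorem base75_ok : Fixes P 315 [0, 6, 8, 7, 0, 7, 9, 6] := fixes_of_wordFix P (by decide +kernel)

theorem base76_ok : Fixes P 315 [0, 7, 3, 8, 0, 9, 3, 7] := fixes_of_wordFix P (by decide +kernel)

theorem base77_ok : Fixes P 315 [0, 7, 8, 9, 0, 8, 9, 7] := fixes_of_wordFix P (by decide +kernel)

theorem base78_ok : Fixes P 315 [0, 8, 7, 8, 0, 9, 7, 9] := fixes_of_wordFix P (by decide +kernel)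

theorem base79_ok : Fixes P 315 [0, 8, 7, 9, 0, 8, 7, 9] :=
  fixes_of_powFix P (u := [0, 8, 7, 9]) (e := 2) (by decide +kernel) (by decide +kernel)

theorem base80_ok : Fixes P 315 [1, 2, 1, 2, 1, 3, 7, 3] := fixes_of_wordFix P (by decide +kernel)

theorem base81_ok : Fixes P 315 [1, 2, 1, 2, 1, 6, 7, 6] := fixes_of_wordFix P (by decide +kernel)

theorem base82_ok : Fixes P 315 [1, 2, 1, 2, 3, 1, 7, 9] := fixes_of_wordFix P (by decide +kernel)

theorem base83_ok : Fixes P 315 [1, 2, 1, 2, 3, 7, 2, 9] := fixes_of_wordFix P (by decide +kernel)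

theorem base84_ok : Fixes P 315 [1, 2, 1, 2, 6, 7, 2, 6] := fixes_of_wordFix P (by decide +kernel)

theorem base85_ok : Fixes P 315 [1, 2, 1, 2, 7, 8, 2, 8] := fixes_of_wordFix P (by decide +kernel)

theorem base86_ok : Fixes P 315 [1, 2, 1, 2, 7, 9, 2, 3] := fixes_of_wordFix P (by decide +kernel)

theorem base87_ok : Fixes P 315 [1, 2, 1, 3, 2, 1, 8, 7] := fixes_of_wordFix P (by decide +kernel)

theorem base88_ok : Fixes P 315 [1, 2, 3, 1, 2, 7, 8, 2] := fixes_of_wordFix P (by decide +kernel)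

theorem base89_ok : Fixes P 315 [1, 2, 7, 8, 7, 2, 1, 3] := fixes_of_wordFix P (by decide +kernel)

theorem base90_ok : Fixes P 315 [1, 3, 1, 3, 7, 3, 9, 7] := fixes_of_wordFix P (by decide +kernel)

theorem base91_ok : Fixes P 315 [1, 3, 1, 6, 7, 9, 7, 6] := fixes_of_wordFix P (by decide +kernel)

theorem base92_ok : Fixes P 315 [1, 3, 6, 7, 2, 9, 7, 6] := fixes_of_wordFix P (by decide +kernel)

theorem base93_ok : Fixes P 315 [1, 3, 7, 8, 2, 8, 9, 7] := fixes_of_wordFix P (by decide +kernel)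

theorem base94_ok : Fixes P 315 [1, 3, 7, 9, 2, 3, 9, 7] := fixes_of_wordFix P (by decide +kernel)

theorem base95_ok : Fixes P 315 [1, 3, 8, 1, 9, 7, 9, 7] := fixes_of_wordFix P (by decide +kernel)

theorem base96_ok : Fixes P 315 [1, 3, 8, 3, 1, 3, 9, 3] := fixes_of_wordFix P (by decide +kernel)

theorem base97_ok : Fixes P 315 [1, 3, 8, 3, 1, 8, 9, 8] := fixes_of_wordFix P (by decide +kernel)

theorem base98_ok : Fixes P 315 [1, 3, 9, 1, 8, 7, 9, 7] := fixes_of_wordFix P (by decide +kernel)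

theorem base99_ok : Fixes P 315 [1, 3, 9, 3, 1, 9, 8, 9] := fixes_of_wordFix P (by decide +kernel)

theorem base100_ok : Fixes P 315 [1, 6, 7, 8, 2, 8, 7, 6] := fixes_of_wordFix P (by decide +kernel)

theorem base101_ok : Fixes P 315 [1, 6, 8, 7, 2, 7, 9, 6] := fixes_of_wordFix P (by decide +kernel)

theorem base102_ok : Fixes P 315 [1, 7, 3, 8, 2, 8, 9, 7] := fixes_of_wordFix P (by decide +kernel)

theorem base103_ok : Fixes P 315 [1, 7, 3, 9, 2, 3, 9, 7] := fixes_of_wordFix P (by decide +kernel)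

theorem base104_ok : Fixes P 315 [1, 7, 6, 3, 2, 6, 9, 7] := fixes_of_wordFix P (by decide +kernel)

theorem base105_ok : Fixes P 315 [1, 7, 8, 3, 2, 9, 8, 7] := fixes_of_wordFix P (by decide +kernel)

theorem base106_ok : Fixes P 315 [1, 7, 8, 6, 2, 6, 8, 7] := fixes_of_wordFix P (by decide +kernel)

theorem base107_ok : Fixes P 315 [1, 7, 8, 7, 1, 7, 8, 7] :=
  fixes_of_powFix P (u := [1, 7, 8, 7]) (e := 2) (by decide +kernel) (by decide +kernel)

theorem base108_ok : Fixes P 315 [1, 8, 3, 7, 2, 9, 7, 9] := fixes_of_wordFix P (by decide +kernel)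

theorem base109_ok : Fixes P 315 [1, 8, 7, 3, 2, 9, 7, 9] := fixes_of_wordFix P (by decide +kernel)

theorem base110_ok : Fixes P 315 [1, 8, 7, 6, 2, 6, 7, 9] := fixes_of_wordFix P (by decide +kernel)

theorem base111_ok : Fixes P 315 [1, 8, 7, 8, 2, 8, 7, 9] := fixes_of_wordFix P (by decide +kernel)

theorem base112_ok : Fixes P 315 [1, 8, 7, 9, 2, 3, 7, 9] := fixes_of_wordFix P (by decide +kernel)

theorem base113_ok : Fixes P 315 [1, 8, 7, 9, 2, 7, 3, 9] := fixes_of_wordFix P (by decide +kernel)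

theorem base114_ok : Fixes P 315 [1, 8, 9, 7, 2, 7, 8, 9] := fixes_of_wordFix P (by decide +kernel)

theorem base115_ok : Fixes P 315 [2, 3, 8, 9, 2, 8, 9, 3] := fixes_of_wordFix P (by decide +kernel)

theorem base116_ok : Fixes P 315 [3, 6, 8, 7, 8, 9, 7, 9] := fixes_of_wordFix P (by decide +kernel)

theorem base117_ok : Fixes P 315 [3, 6, 9, 7, 9, 8, 7, 8] := fixes_of_wordFix P (by decide +kernel)

theorem base118_ok : Fixes P 315 [3, 7, 8, 9, 7, 8, 6, 9] := fixes_of_wordFix P (by decide +kernel)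

theorem base119_ok : Fixes P 315 [3, 7, 9, 8, 7, 9, 6, 8] := fixes_of_wordFix P (by decide +kernel)

theorem base120_ok : Fixes P 315 [3, 8, 7, 8, 3, 8, 7, 8] :=
  fixes_of_powFix P (u := [3, 8, 7, 8]) (e := 2) (by decide +kernel) (by decide +kernel)

theorem base121_ok : Fixes P 315 [3, 8, 7, 8, 6, 9, 7, 9] := fixes_of_wordFix P (by decide +kernel)

theorem base122_ok : Fixes P 315 [3, 9, 7, 9, 3, 9, 7, 9] :=
  fixes_of_powFix P (u := [3, 9, 7, 9]) (e := 2) (by decide +kernel) (by decide +kernel)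

theorem base123_ok : Fixes P 315 [6, 7, 8, 7, 6, 7, 8, 7] :=
  fixes_of_powFix P (u := [6, 7, 8, 7]) (e := 2) (by decide +kernel) (by decide +kernel)

theorem base124_ok : Fixes P 315 [6, 8, 7, 9, 6, 9, 7, 8] := fixes_of_wordFix P (by decide +kernel)

theorem base125_ok : Fixes P 315 [4, 5, 4, 5, 4, 5] :=
  fixes_of_powFix P (u := [4, 5]) (e := 3) (by decide +kernel) (by decide +kernel)

theorem base126_ok : Fixes P 315 [4, 5, 6, 5, 4, 3] := fixes_of_wordFix P (by decide +kernel)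

theorem base127_ok : Fixes P 315 [4, 5, 3, 5, 4, 6, 3] := fixes_of_wordFix P (by decide +kernel)

theorem base128_ok : Fixes P 315 [4, 5, 8, 9, 5, 4, 9, 7, 8] := fixes_of_wordFix P (by decide +kernel)

theorem base129_ok : Fixes P 315 [0, 4, 0, 4] :=
  fixes_of_powFix P (u := [0, 4]) (e := 2) (by decide +kernel) (by decide +kernel)

theorem base130_ok : Fixes P 315 [0, 5, 0, 5] :=
  fixes_of_powFix P (u := [0, 5]) (e := 2) (by decide +kernel) (by decide +kernel)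

theorem base131_ok : Fixes P 315 [7, 4, 7, 4] :=
  fixes_of_powFix P (u := [7, 4]) (e := 2) (by decide +kernel) (by decide +kernel)

theorem base132_ok : Fixes P 315 [7, 5, 7, 5] :=
  fixes_of_powFix P (u := [7, 5]) (e := 2) (by decide +kernel) (by decide +kernel)

theorem base133_ok : Fixes P 315 [1, 2, 0, 1, 4, 1, 0, 2, 1, 4] := fixes_of_wordFix P (by decide +kernel)

theorem base134_ok : Fixes P 315 [1, 2, 0, 1, 5, 1, 0, 2, 1, 5] := fixes_of_wordFix P (by decide +kernel)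

theorem base135_ok : Fixes P 315 [6, 4, 6, 4, 6, 4] :=
  fixes_of_powFix P (u := [6, 4]) (e := 3) (by decide +kernel) (by decide +kernel)

theorem base136_ok : Fixes P 315 [3, 4, 3, 4, 3, 4, 3, 4, 3, 4] :=
  fixes_of_powFix P (u := [3, 4]) (e := 5) (by decide +kernel) (by decide +kernel)

theorem base137_ok : Fixes P 315 [6, 5, 6, 5, 6, 5, 6, 5, 6, 5] :=
  fixes_of_powFix P (u := [6, 5]) (e := 5) (by decide +kernel) (by decide +kernel)

theorem base138_ok : Fixes P 315 [3, 5, 3, 5, 3, 5] :=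
  fixes_of_powFix P (u := [3, 5]) (e := 3) (by decide +kernel) (by decide +kernel)

theorem base139_ok : Fixes P 315 [6, 4, 5, 6, 4, 5, 6, 4, 5] :=
  fixes_of_powFix P (u := [6, 4, 5]) (e := 3) (by decide +kernel) (by decide +kernel)

theorem base140_ok : Fixes P 315 [6, 4, 3, 6, 4, 3, 6, 4, 3, 6, 4, 3, 6, 4, 3] :=
  fixes_of_powFix P (u := [6, 4, 3]) (e := 5) (by decide +kernel) (by decide +kernel)

theorem base141_ok : Fixes P 315 [6, 5, 3, 6, 5, 3, 6, 5, 3, 6, 5, 3, 6, 5, 3] :=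
  fixes_of_powFix P (u := [6, 5, 3]) (e := 5) (by decide +kernel) (by decide +kernel)

theorem base142_ok : Fixes P 315 [3, 4, 3, 5, 3, 4, 6] := fixes_of_wordFix P (by decide +kernel)

theorem base143_ok : Fixes P 315 [3, 5, 6, 4, 6, 5, 6] := fixes_of_wordFix P (by decide +kernel)

theorem base144_ok : Fixes P 315 [4, 5, 3, 6, 5, 4, 6] := fixes_of_wordFix P (by decide +kernel)

theorem base145_ok : Fixes P 315 [3, 4, 6, 4, 6, 4, 3, 6] := fixes_of_wordFix P (by decide +kernel)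

theorem base146_ok : Fixes P 315 [3, 4, 6, 5, 3, 4, 6, 5] :=
  fixes_of_powFix P (u := [3, 4, 6, 5]) (e := 2) (by decide +kernel) (by decide +kernel)

theorem base147_ok : Fixes P 315 [3, 5, 4, 5, 4, 6, 5, 4] := fixes_of_wordFix P (by decide +kernel)

theorem base148_ok : Fixes P 315 [3, 5, 6, 3, 6, 5, 3, 5] := fixes_of_wordFix P (by decide +kernel)

theorem base149_ok : Fixes P 315 [1, 2, 4, 5, 4, 6, 2, 1, 6, 4, 5, 4] := fixes_of_wordFix P (by decide +kernel)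

theorem base_ok : ∀ w ∈ base, Fixes P 315 w := by
  intro w hw
  rw [base] at hw
  rcases List.mem_cons.1 hw with rfl | hw
  · exact base0_ok
  rcases List.mem_cons.1 hw with rfl | hw
  · exact base1_ok
  rcases List.mem_cons.1 hw with rfl | hw
  · exact base2_ok
  rcases List.mem_cons.1 hw with rfl | hw
  · exact base3_ok
  rcases List.mem_cons.1 hw with rfl | hw
  · exact base4_ok
  rcases List.mem_cons.1 hw with rfl | hw
  · exact base5_ok
  rcases List.mem_cons.1 hw with rfl | hw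
  · exact base6_ok
  rcases List.mem_cons.1 hw with rfl | hw
  · exact base7_ok
  rcases List.mem_cons.1 hw with rfl | hw
  · exact base8_ok
  rcases List.mem_cons.1 hw with rfl | hw
  · exact base9_ok
  rcases List.mem_cons.1 hw with rfl | hw
  · exact base10_ok
  rcases List.mem_cons.1 hw with rfl | hw
  · exact base11_ok
  rcases List.mem_cons.1 hw with rfl | hw
  · exact base12_ok
  rcases List.mem_cons.1 hw with rfl | hw
  · exact base13_ok
  rcases List.mem_cons.1 hw with rfl | hw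
  · exact base14_ok
  rcases List.mem_cons.1 hw with rfl | hw
  · exact base15_ok
  rcases List.mem_cons.1 hw with rfl | hw
  · exact base16_ok
  rcases List.mem_cons.1 hw with rfl | hw
  · exact base17_ok
  rcases List.mem_cons.1 hw with rfl | hw
  · exact base18_ok
  rcases List.mem_cons.1 hw with rfl | hw
  · exact base19_ok
  rcases List.mem_cons.1 hw with rfl | hw
  · exact base20_ok
  rcases List.mem_cons.1 hw with rfl | hw
  · exact base21_ok
  rcases List.mem_cons.1 hw with rfl | hw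
  · exact base22_ok
  rcases List.mem_cons.1 hw with rfl | hw
  · exact base23_ok
  rcases List.mem_cons.1 hw with rfl | hw
  · exact base24_ok
  rcases List.mem_cons.1 hw with rfl | hw
  · exact base25_ok
  rcases List.mem_cons.1 hw with rfl | hw
  · exact base26_ok
  rcases List.mem_cons.1 hw with rfl | hw
  · exact base27_ok
  rcases List.mem_cons.1 hw with rfl | hw
  · exact base28_ok
  rcases List.mem_cons.1 hw with rfl | hw
  · exact base29_ok
  rcases List.mem_cons.1 hw with rfl | hw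
  · exact base30_ok
  rcases List.mem_cons.1 hw with rfl | hw
  · exact base31_ok
  rcases List.mem_cons.1 hw with rfl | hw
  · exact base32_ok
  rcases List.mem_cons.1 hw with rfl | hw
  · exact base33_ok
  rcases List.mem_cons.1 hw with rfl | hw
  · exact base34_ok
  rcases List.mem_cons.1 hw with rfl | hw
  · exact base35_ok
  rcases List.mem_cons.1 hw with rfl | hw
  · exact base36_ok
  rcases List.mem_cons.1 hw with rfl | hw
  · exact base37_ok
  rcases List.mem_cons.1 hw with rfl | hw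
  · exact base38_ok
  rcases List.mem_cons.1 hw with rfl | hw
  · exact base39_ok
  rcases List.mem_cons.1 hw with rfl | hw
  · exact base40_ok
  rcases List.mem_cons.1 hw with rfl | hw
  · exact base41_ok
  rcases List.mem_cons.1 hw with rfl | hw
  · exact base42_ok
  rcases List.mem_cons.1 hw with rfl | hw
  · exact base43_ok
  rcases List.mem_cons.1 hw with rfl | hw
  · exact base44_ok
  rcases List.mem_cons.1 hw with rfl | hw
  · exact base45_ok
  rcases List.mem_cons.1 hw with rfl | hw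
  · exact base46_ok
  rcases List.mem_cons.1 hw with rfl | hw
  · exact base47_ok
  rcases List.mem_cons.1 hw with rfl | hw
  · exact base48_ok
  rcases List.mem_cons.1 hw with rfl | hw
  · exact base49_ok
  rcases List.mem_cons.1 hw with rfl | hw
  · exact base50_ok
  rcases List.mem_cons.1 hw with rfl | hw
  · exact base51_ok
  rcases List.mem_cons.1 hw with rfl | hw
  · exact base52_ok
  rcases List.mem_cons.1 hw with rfl | hw
  · exact base53_ok
  rcases List.mem_cons.1 hw with rfl | hw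
  · exact base54_ok
  rcases List.mem_cons.1 hw with rfl | hw
  · exact base55_ok
  rcases List.mem_cons.1 hw with rfl | hw
  · exact base56_ok
  rcases List.mem_cons.1 hw with rfl | hw
  · exact base57_ok
  rcases List.mem_cons.1 hw with rfl | hw
  · exact base58_ok
  rcases List.mem_cons.1 hw with rfl | hw
  · exact base59_ok
  rcases List.mem_cons.1 hw with rfl | hw
  · exact base60_ok
  rcases List.mem_cons.1 hw with rfl | hw
  · exact base61_ok
  rcases List.mem_cons.1 hw with rfl | hw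
  · exact base62_ok
  rcases List.mem_cons.1 hw with rfl | hw
  · exact base63_ok
  rcases List.mem_cons.1 hw with rfl | hw
  · exact base64_ok
  rcases List.mem_cons.1 hw with rfl | hw
  · exact base65_ok
  rcases List.mem_cons.1 hw with rfl | hw
  · exact base66_ok
  rcases List.mem_cons.1 hw with rfl | hw
  · exact base67_ok
  rcases List.mem_cons.1 hw with rfl | hw
  · exact base68_ok
  rcases List.mem_cons.1 hw with rfl | hw
  · exact base69_ok
  rcases List.mem_cons.1 hw with rfl | hw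
  · exact base70_ok
  rcases List.mem_cons.1 hw with rfl | hw
  · exact base71_ok
  rcases List.mem_cons.1 hw with rfl | hw
  · exact base72_ok
  rcases List.mem_cons.1 hw with rfl | hw
  · exact base73_ok
  rcases List.mem_cons.1 hw with rfl | hw
  · exact base74_ok
  rcases List.mem_cons.1 hw with rfl | hw
  · exact base75_ok
  rcases List.mem_cons.1 hw with rfl | hw
  · exact base76_ok
  rcases List.mem_cons.1 hw with rfl | hw
  · exact base77_ok
  rcases List.mem_cons.1 hw with rfl | hw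
  · exact base78_ok
  rcases List.mem_cons.1 hw with rfl | hw
  · exact base79_ok
  rcases List.mem_cons.1 hw with rfl | hw
  · exact base80_ok
  rcases List.mem_cons.1 hw with rfl | hw
  · exact base81_ok
  rcases List.mem_cons.1 hw with rfl | hw
  · exact base82_ok
  rcases List.mem_cons.1 hw with rfl | hw
  · exact base83_ok
  rcases List.mem_cons.1 hw with rfl | hw
  · exact base84_ok
  rcases List.mem_cons.1 hw with rfl | hw
  · exact base85_ok
  rcases List.mem_cons.1 hw with rfl | hw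
  · exact base86_ok
  rcases List.mem_cons.1 hw with rfl | hw
  · exact base87_ok
  rcases List.mem_cons.1 hw with rfl | hw
  · exact base88_ok
  rcases List.mem_cons.1 hw with rfl | hw
  · exact base89_ok
  rcases List.mem_cons.1 hw with rfl | hw
  · exact base90_ok
  rcases List.mem_cons.1 hw with rfl | hw
  · exact base91_ok
  rcases List.mem_cons.1 hw with rfl | hw
  · exact base92_ok
  rcases List.mem_cons.1 hw with rfl | hw
  · exact base93_ok
  rcases List.mem_cons.1 hw with rfl | hw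
  · exact base94_ok
  rcases List.mem_cons.1 hw with rfl | hw
  · exact base95_ok
  rcases List.mem_cons.1 hw with rfl | hw
  · exact base96_ok
  rcases List.mem_cons.1 hw with rfl | hw
  · exact base97_ok
  rcases List.mem_cons.1 hw with rfl | hw
  · exact base98_ok
  rcases List.mem_cons.1 hw with rfl | hw
  · exact base99_ok
  rcases List.mem_cons.1 hw with rfl | hw
  · exact base100_ok
  rcases List.mem_cons.1 hw with rfl | hw
  · exact base101_ok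
  rcases List.mem_cons.1 hw with rfl | hw
  · exact base102_ok
  rcases List.mem_cons.1 hw with rfl | hw
  · exact base103_ok
  rcases List.mem_cons.1 hw with rfl | hw
  · exact base104_ok
  rcases List.mem_cons.1 hw with rfl | hw
  · exact base105_ok
  rcases List.mem_cons.1 hw with rfl | hw
  · exact base106_ok
  rcases List.mem_cons.1 hw with rfl | hw
  · exact base107_ok
  rcases List.mem_cons.1 hw with rfl | hw
  · exact base108_ok
  rcases List.mem_cons.1 hw with rfl | hw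
  · exact base109_ok
  rcases List.mem_cons.1 hw with rfl | hw
  · exact base110_ok
  rcases List.mem_cons.1 hw with rfl | hw
  · exact base111_ok
  rcases List.mem_cons.1 hw with rfl | hw
  · exact base112_ok
  rcases List.mem_cons.1 hw with rfl | hw
  · exact base113_ok
  rcases List.mem_cons.1 hw with rfl | hw
  · exact base114_ok
  rcases List.mem_cons.1 hw with rfl | hw
  · exact base115_ok
  rcases List.mem_cons.1 hw with rfl | hw
  · exact base116_ok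
  rcases List.mem_cons.1 hw with rfl | hw
  · exact base117_ok
  rcases List.mem_cons.1 hw with rfl | hw
  · exact base118_ok
  rcases List.mem_cons.1 hw with rfl | hw
  · exact base119_ok
  rcases List.mem_cons.1 hw with rfl | hw
  · exact base120_ok
  rcases List.mem_cons.1 hw with rfl | hw
  · exact base121_ok
  rcases List.mem_cons.1 hw with rfl | hw
  · exact base122_ok
  rcases List.mem_cons.1 hw with rfl | hw
  · exact base123_ok
  rcases List.mem_cons.1 hw with rfl | hw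
  · exact base124_ok
  rcases List.mem_cons.1 hw with rfl | hw
  · exact base125_ok
  rcases List.mem_cons.1 hw with rfl | hw
  · exact base126_ok
  rcases List.mem_cons.1 hw with rfl | hw
  · exact base127_ok
  rcases List.mem_cons.1 hw with rfl | hw
  · exact base128_ok
  rcases List.mem_cons.1 hw with rfl | hw
  · exact base129_ok
  rcases List.mem_cons.1 hw with rfl | hw
  · exact base130_ok
  rcases List.mem_cons.1 hw with rfl | hw
  · exact base131_ok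
  rcases List.mem_cons.1 hw with rfl | hw
  · exact base132_ok
  rcases List.mem_cons.1 hw with rfl | hw
  · exact base133_ok
  rcases List.mem_cons.1 hw with rfl | hw
  · exact base134_ok
  rcases List.mem_cons.1 hw with rfl | hw
  · exact base135_ok
  rcases List.mem_cons.1 hw with rfl | hw
  · exact base136_ok
  rcases List.mem_cons.1 hw with rfl | hw
  · exact base137_ok
  rcases List.mem_cons.1 hw with rfl | hw
  · exact base138_ok
  rcases List.mem_cons.1 hw with rfl | hw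
  · exact base139_ok
  rcases List.mem_cons.1 hw with rfl | hw
  · exact base140_ok
  rcases List.mem_cons.1 hw with rfl | hw
  · exact base141_ok
  rcases List.mem_cons.1 hw with rfl | hw
  · exact base142_ok
  rcases List.mem_cons.1 hw with rfl | hw
  · exact base143_ok
  rcases List.mem_cons.1 hw with rfl | hw
  · exact base144_ok
  rcases List.mem_cons.1 hw with rfl | hw
  · exact base145_ok
  rcases List.mem_cons.1 hw with rfl | hw
  · exact base146_ok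
  rcases List.mem_cons.1 hw with rfl | hw
  · exact base147_ok
  rcases List.mem_cons.1 hw with rfl | hw
  · exact base148_ok
  rcases List.mem_cons.1 hw with rfl | hw
  · exact base149_ok
  exact absurd hw List.not_mem_nil

theorem rots_ok : rotsOK base rots.entries hints = true := by decide +kernel

theorem fix_ok : wordsFixBase P sw = true := by decide +kernel

theorem tree_ok : treeOK P tree 0 = true := by decide +kernel

theorem tree_len : tree.length + 1 = 315 := by decide +kernel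

end Cfsg.Agent.CosetData.HJGB
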