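import Cfsg.Agent.Lib.Compute.CosetOrbit

/-! Coset enumeration certificate data (S1720). -/

set_option autoImplicit false
set_option maxRecDepth 100000
set_option Elab.async false

namespace Cfsg.Agent.CosetData.HJH

open Cfsg.Agent.CosetCert

/-- the coset table -/
def tab : Tab :=
  .leaf 0x1d001f001f001f0014001e001c001c001f001c001a001d0013001d001e001e000e001a001b001a000a001b001d001b0018000a001700180019001700080019001000180019000f000c000900150015000d001400160016001e001500100013001c000800120014000b00110013000b000f0012000b001000170007001400110011000e00090017001b000f000d000a0015000c000e000c0016000d0007000d0012000600110012001a00190006000e00050016000f0008000400130018000900030010000c00060002000b000a0007000900050004000400080001000500050007000200030002000600030001000300000004000200010001000000000000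

/-- base relators -/
def base : List (List ℕ) := [
  [0, 1, 0, 1, 0, 1],
  [0, 2, 0, 2, 0, 2],
  [1, 2, 1, 2, 1, 2, 1, 2, 1, 2],
  [0, 1, 2, 0, 1, 2, 0, 1, 2],
  [3, 0, 3, 0],
  [3, 1, 2, 0, 1, 3, 1, 0, 2, 1],
  [1, 2, 3, 1, 2, 3, 1, 2, 3, 1, 2, 3, 2, 1, 2, 1, 2, 1, 2, 1, 3]]

/-- rotations of the relators -/
def rots : WTab :=
  (.node (.node (.node (.node (.node (.node (.node (.leaf [0, 1, 0, 1, 0, 1]) (.leaf [2, 1, 3, 1, 2, 1, 2, 1, 2, 1, 2, 3, 2, 1, 3, 2, 1, 3, 2, 1, 3])) (.node (.leaf [3, 1, 2, 3, 2, 1, 2, 1, 2, 1, 2, 1, 3, 1, 2, 3, 1, 2, 3, 1, 2]) (.leaf [0, 1, 0, 1, 0, 1]))) (.node (.node (.leaf [2, 0, 1, 3, 1, 0, 2, 1, 3, 1]) (.leaf [0, 1, 0, 1, 0, 1])) (.node (.leaf [1, 2, 1, 2, 1, 2, 3, 2, 1, 3, 2, 1, 3, 2, 1, 3, 2, 1, 3, 1, 2]) (.leaf [0, 1, 0, 1, 0, 1])))) (.node (.node (.node (.leaf [2, 0, 1, 2, 0, 1, 2, 0, 1]) (.leaf [0, 1,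 0, 1, 0, 1])) (.node (.leaf [2, 1, 2, 1, 3, 1, 2, 3, 1, 2, 3, 1, 2, 3, 1, 2, 3, 2, 1, 2, 1]) (.leaf [0, 1, 0, 1, 0, 1]))) (.node (.node (.leaf [1, 2, 3, 1, 2, 3, 1, 2, 3, 1, 2, 3, 2, 1, 2, 1, 2, 1, 2, 1, 3]) (.leaf [0, 1, 0, 1, 0, 1])) (.node (.leaf [1, 3, 2, 1, 3, 2, 1, 3, 2, 1, 3, 1, 2, 1, 2, 1, 2, 1, 2, 3, 2]) (.leaf [0, 1, 0, 1, 0, 1]))))) (.node (.node (.node (.node (.leaf [1, 2, 1, 2, 1, 2, 1, 2, 1, 2]) (.leaf [0, 1, 0, 1, 0, 1])) (.node (.leaf [2, 1, 2, 1, 2, 1, 2, 1, 3, 1, 2, 3, 1, 2, 3, 1, 2, 3, 1, 2, 3]) (.leaf [0, 1, 0, 1, 0, 1]))) (.node (.node (.leaf [1, 0, 2, 1, 3, 1, 2, 0, 1, 3]) (.leaf [0, 1, 0, 1, 0, 1])) (.node (.leaf [1, 2, 3, 2, 1, 3, 2, 1, 3, 2, 1, 3, 2, 1, 3, 1, 2, 1, 2, 1, 2]) (.leaf [0, 1, 0, 1, 0, 1])))) (.node (.node (.node (.leaf [3, 0, 3, 0]) (.leaf [0, 1, 0, 1, 0, 1])) (.node (.leaf [3, 1, 2, 3, 1, 2, 3, 1, 2,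 3, 1, 2, 3, 2, 1, 2, 1, 2, 1, 2, 1]) (.leaf [0, 1, 0, 1, 0, 1]))) (.node (.node (.leaf [2, 3, 1, 2, 3, 1, 2, 3, 2, 1, 2, 1, 2, 1, 2, 1, 3, 1, 2, 3, 1]) (.leaf [0, 1, 0, 1, 0, 1])) (.node (.leaf [3, 2, 1, 3, 2, 1, 3, 1, 2, 1, 2, 1, 2, 1, 2, 3, 2, 1, 3, 2, 1]) (.leaf [0, 1, 0, 1, 0, 1])))))) (.node (.node (.node (.node (.node (.leaf [0, 2, 0, 2, 0, 2]) (.leaf [0, 1, 0, 1, 0, 1])) (.node (.leaf [2, 3, 2, 1, 2, 1, 2, 1, 2, 1, 3, 1, 2, 3, 1, 2, 3, 1, 2, 3, 1]) (.leaf [0, 1, 0, 1, 0, 1]))) (.node (.node (.leaf [1, 3, 1, 0, 2, 1, 3, 1, 2, 0]) (.leaf [0, 1, 0, 1, 0, 1])) (.node (.leaf [1, 2, 1, 2, 3, 2, 1, 3, 2, 1, 3, 2, 1, 3, 2, 1, 3, 1, 2, 1, 2]) (.leaf [0, 1, 0, 1, 0, 1])))) (.node (.node (.node (.leaf [1, 0, 2, 1, 0, 2, 1, 0, 2]) (.leaf [0, 1, 0, 1, 0, 1])) (.node (.leaf [2, 1, 3, 1, 2, 3, 1, 2, 3, 1, 2, 3, 1, 2, 3, 2, 1, 2, 1, 2, 1]) (.leaf [0,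 1, 0, 1, 0, 1]))) (.node (.node (.leaf [3, 1, 2, 3, 1, 2, 3, 1, 2, 3, 2, 1, 2, 1, 2, 1, 2, 1, 3, 1, 2]) (.leaf [0, 1, 0, 1, 0, 1])) (.node (.leaf [2, 1, 3, 2, 1, 3, 2, 1, 3, 1, 2, 1, 2, 1, 2, 1, 2, 3, 2, 1, 3]) (.leaf [0, 1, 0, 1, 0, 1]))))) (.node (.node (.node (.node (.leaf [0, 1, 2, 0, 1, 2, 0, 1, 2]) (.leaf [0, 1, 0, 1, 0, 1])) (.node (.leaf [2, 1, 2, 1, 2, 1, 3, 1, 2, 3, 1, 2, 3, 1, 2, 3, 1, 2, 3, 2, 1]) (.leaf [0, 1, 0, 1, 0, 1]))) (.node (.node (.leaf [2, 1, 3, 1, 2, 0, 1, 3, 1, 0]) (.leaf [0, 1, 0, 1, 0, 1])) (.node (.leaf [3, 2, 1, 3, 2, 1, 3, 2, 1, 3, 2, 1, 3, 1, 2, 1, 2, 1, 2, 1, 2]) (.leaf [0, 1, 0, 1, 0, 1])))) (.node (.node (.node (.leaf [3, 1, 2, 0, 1, 3, 1, 0, 2, 1]) (.leaf [0, 1, 0, 1, 0, 1])) (.node (.leaf [1, 2, 1, 2, 1, 2, 1, 2, 3, 2, 1, 3, 2, 1, 3, 2, 1, 3, 2, 1, 3]) (.leaf [0, 1, 0, 1, 0, 1]))) (.node (.node (.leaf [1,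 2, 3, 1, 2, 3, 2, 1, 2, 1, 2, 1, 2, 1, 3, 1, 2, 3, 1, 2, 3]) (.leaf [0, 1, 0, 1, 0, 1])) (.node (.leaf [1, 3, 2, 1, 3, 1, 2, 1, 2, 1, 2, 1, 2, 3, 2, 1, 3, 2, 1, 3, 2]) (.leaf [0, 1, 0, 1, 0, 1]))))))) (.node (.node (.node (.node (.node (.node (.leaf [1, 0, 1, 0, 1, 0]) (.leaf [1, 3, 1, 2, 1, 2, 1, 2, 1, 2, 3, 2, 1, 3, 2, 1, 3, 2, 1, 3, 2])) (.node (.leaf [1, 2, 3, 2, 1, 2, 1, 2, 1, 2, 1, 3, 1, 2, 3, 1, 2, 3, 1, 2, 3]) (.leaf [0, 1, 0, 1, 0, 1]))) (.node (.node (.leaf [0, 1, 3, 1, 0, 2, 1, 3, 1, 2]) (.leaf [0, 1, 0, 1, 0, 1])) (.node (.leaf [2, 1, 2, 1, 2, 3, 2, 1, 3, 2, 1, 3, 2, 1, 3, 2, 1, 3, 1, 2, 1]) (.leaf [0, 1, 0, 1, 0, 1])))) (.node (.node (.node (.leaf [2, 1, 0, 2, 1, 0, 2, 1, 0]) (.leaf [0, 1, 0, 1, 0, 1])) (.node (.leaf [1, 2, 1, 3, 1, 2, 3, 1, 2, 3, 1, 2, 3, 1, 2, 3, 2, 1, 2, 1, 2]) (.leaf [0, 1, 0, 1, 0, 1]))) (.node (.node (.leaf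 [2, 3, 1, 2, 3, 1, 2, 3, 1, 2, 3, 2, 1, 2, 1, 2, 1, 2, 1, 3, 1]) (.leaf [0, 1, 0, 1, 0, 1])) (.node (.leaf [3, 2, 1, 3, 2, 1, 3, 2, 1, 3, 1, 2, 1, 2, 1, 2, 1, 2, 3, 2, 1]) (.leaf [0, 1, 0, 1, 0, 1]))))) (.node (.node (.node (.node (.leaf [2, 1, 2, 1, 2, 1, 2, 1, 2, 1]) (.leaf [0, 1, 0, 1, 0, 1])) (.node (.leaf [1, 2, 1, 2, 1, 2, 1, 3, 1, 2, 3, 1, 2, 3, 1, 2, 3, 1, 2, 3, 2]) (.leaf [0, 1, 0, 1, 0, 1]))) (.node (.node (.leaf [0, 2, 1, 3, 1, 2, 0, 1, 3, 1]) (.leaf [0, 1, 0, 1, 0, 1])) (.node (.leaf [2, 3, 2, 1, 3, 2, 1, 3, 2, 1, 3, 2, 1, 3, 1, 2, 1, 2, 1, 2, 1]) (.leaf [0, 1, 0, 1, 0, 1])))) (.node (.node (.node (.leaf [0, 3, 0, 3]) (.leaf [0, 1, 0, 1, 0, 1])) (.node (.leaf [3, 1, 2, 1, 2, 1, 2, 1, 2, 3, 2, 1, 3, 2, 1, 3, 2, 1, 3, 2, 1]) (.leaf [0, 1, 0, 1, 0, 1]))) (.node (.node (.leaf [3, 1, 2, 3, 1, 2, 3, 2, 1, 2, 1, 2, 1, 2, 1, 3, 1, 2, 3,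 1, 2]) (.leaf [0, 1, 0, 1, 0, 1])) (.node (.leaf [2, 1, 3, 2, 1, 3, 1, 2, 1, 2, 1, 2, 1, 2, 3, 2, 1, 3, 2, 1, 3]) (.leaf [0, 1, 0, 1, 0, 1])))))) (.node (.node (.node (.node (.node (.leaf [2, 0, 2, 0, 2, 0]) (.leaf [0, 1, 0, 1, 0, 1])) (.node (.leaf [3, 2, 1, 2, 1, 2, 1, 2, 1, 3, 1, 2, 3, 1, 2, 3, 1, 2, 3, 1, 2]) (.leaf [0, 1, 0, 1, 0, 1]))) (.node (.node (.leaf [3, 1, 0, 2, 1, 3, 1, 2, 0, 1]) (.leaf [0, 1, 0, 1, 0, 1])) (.node (.leaf [2, 1, 2, 3, 2, 1, 3, 2, 1, 3, 2, 1, 3, 2, 1, 3, 1, 2, 1, 2, 1]) (.leaf [0, 1, 0, 1, 0, 1])))) (.node (.node (.node (.leaf [0, 2, 1, 0, 2, 1, 0, 2, 1]) (.leaf [0, 1, 0, 1, 0, 1])) (.node (.leaf [1, 3, 1, 2, 3, 1, 2, 3, 1, 2, 3, 1, 2, 3, 2, 1, 2, 1, 2, 1, 2]) (.leaf [0, 1, 0, 1, 0, 1]))) (.node (.node (.leaf [1, 2, 3, 1, 2, 3, 1, 2, 3, 2, 1, 2, 1, 2, 1, 2, 1, 3, 1, 2, 3]) (.leaf [0, 1, 0, 1, 0, 1])) (.node (.leaf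 [1, 3, 2, 1, 3, 2, 1, 3, 1, 2, 1, 2, 1, 2, 1, 2, 3, 2, 1, 3, 2]) (.leaf [0, 1, 0, 1, 0, 1]))))) (.node (.node (.node (.node (.leaf [1, 2, 0, 1, 2, 0, 1, 2, 0]) (.leaf [0, 1, 0, 1, 0, 1])) (.node (.leaf [1, 2, 1, 2, 1, 3, 1, 2, 3, 1, 2, 3, 1, 2, 3, 1, 2, 3, 2, 1, 2]) (.leaf [0, 1, 0, 1, 0, 1]))) (.node (.node (.leaf [1, 3, 1, 2, 0, 1, 3, 1, 0, 2]) (.leaf [0, 1, 0, 1, 0, 1])) (.node (.leaf [2, 1, 3, 2, 1, 3, 2, 1, 3, 2, 1, 3, 1, 2, 1, 2, 1, 2, 1, 2, 3]) (.leaf [0, 1, 0, 1, 0, 1])))) (.node (.node (.node (.leaf [1, 2, 0, 1, 3, 1, 0, 2, 1, 3]) (.leaf [0, 1, 0, 1, 0, 1])) (.node (.leaf [2, 1, 2, 1, 2, 1, 2, 3, 2, 1, 3, 2, 1, 3, 2, 1, 3, 2, 1, 3, 1]) (.leaf [0, 1, 0, 1, 0, 1]))) (.node (.node (.leaf [2, 3, 1, 2, 3, 2, 1, 2, 1, 2, 1, 2, 1, 3, 1, 2, 3, 1, 2, 3, 1]) (.leaf [0, 1, 0, 1, 0, 1])) (.node (.leaf [3, 2, 1, 3, 1, 2, 1, 2, 1, 2, 1, 2, 3, 2,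 1, 3, 2, 1, 3, 2, 1]) (.leaf [0, 1, 0, 1, 0, 1]))))))))

def hints_0 : List (ℕ × ℕ × Bool) := [
  (0, 0, false), (6, 19, true), (6, 8, false), (0, 0, false), (5, 2, false), (0, 0, false), (6, 3, true), (0, 0, false),
  (3, 2, false), (0, 0, false), (6, 16, false), (0, 0, false), (6, 0, false), (0, 0, false), (6, 11, true), (0, 0, false),
  (2, 0, false), (0, 0, false), (6, 12, false), (0, 0, false), (5, 6, false), (0, 0, false), (6, 7, true), (0, 0, false),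
  (4, 0, false), (0, 0, false), (6, 20, false), (0, 0, false), (6, 4, false), (0, 0, false), (6, 15, true), (0, 0, false),
  (1, 0, false), (0, 0, false), (6, 10, false), (0, 0, false), (5, 4, false), (0, 0, false), (6, 5, true), (0, 0, false),
  (3, 1, true), (0, 0, false), (6, 18, false), (0, 0, false), (6, 2, false), (0, 0, false), (6, 13, true), (0, 0, false),
  (3, 0, false), (0, 0, false), (6, 14, false), (0, 0, false), (5, 8, false), (0, 0, false), (6, 9, true), (0, 0, false),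
  (5, 0, false), (0, 0, false), (6, 1, true), (0, 0, false), (6, 6, false), (0, 0, false), (6, 17, true), (0, 0, false),
  (0, 1, false), (6, 20, true), (6, 9, false), (0, 0, false), (5, 3, false), (0, 0, false), (6, 4, true), (0, 0, false),
  (3, 0, true), (0, 0, false), (6, 17, false), (0, 0, false), (6, 1, false), (0, 0, false), (6, 12, true), (0, 0, false),
  (2, 1, false), (0, 0, false), (6, 13, false), (0, 0, false), (5, 7, false), (0, 0, false), (6, 8, true), (0, 0, false),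
  (4, 1, false), (0, 0, false), (6, 0, true), (0, 0, false), (6, 5, false), (0, 0, false), (6, 16, true), (0, 0, false),
  (1, 1, false), (0, 0, false), (6, 11, false), (0, 0, false), (5, 5, false), (0, 0, false), (6, 6, true), (0, 0, false),
  (3, 2, true), (0, 0, false), (6, 19, false), (0, 0, false), (6, 3, false), (0, 0, false), (6, 14, true), (0, 0, false),
  (3, 1, false), (0, 0, false), (6, 15, false), (0, 0, false), (5, 9, false), (0, 0, false), (6, 10, true), (0, 0, false),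
  (5, 1, false), (0, 0, false), (6, 2, true), (0, 0, false), (6, 7, false), (0, 0, false), (6, 18, true), (0, 0, false)]
def hints : List (ℕ × ℕ × Bool) :=
  hints_0

/-- subgroup words -/
def sw : List (List ℕ) := [[0], [1], [2]]

def subs : List (List ℕ) := [[0], [1], [2]]

/-- parameters -/
def P : Params := ⟨tab, 4, rots, subs⟩

def tree_0 : List ℕ := [
  3, 5, 10, 6, 16, 11, 15, 19,
  23, 25, 26, 29, 50, 40, 37, 30,
  45, 44, 34, 65, 55, 85, 67, 33,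
  42, 43, 59, 79, 105, 112, 119]
def tree : List ℕ :=
  tree_0

def ph0_0 : List ℕ := [
  2048, 2049, 2050, 8210, 24588, 4108, 12288, 20482,
  20491, 57361, 102422, 90174, 81927, 81933, 49170, 57344,
  65545, 77824, 73730, 32777, 86020, 86019, 102416, 61501,
  98369, 61443, 98319, 90132, 73743, 118849, 114707, 118806,
  122897, 110646, 110645, 106518, 126988]

def ph1_0 : List Aux := [
  .node 31 1, .derive 32 [.bwd 0, .edge 3, .edge 1, .edge 2, .edge 1, .edge 2, .edge 1, .edge 2, .edge 1, .edge 2, .edge 3, .edge 2, .edge 1, .edge 3, .edge 2, .edge 1, .edge 3, .edge 2, .edge 1, .edge 3] [2] (.rel 65), .derive 31 [.edge 0, .bwd 0, .bwd 1, .edge 3, .edge 1, .edge 2, .edge 0, .edge 1, .edge 3, .fwd 1] [] (.rel 21), .derive 32 [.bwd 0] [] (.free), .derive 31 [.fwd 3, .fwd 0] [1] (.free), .commit 0]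
def ph1 : List Aux :=
  ph1_0

def ph2_0 : List ℕ := [
  126999]

/-- known edges at a check point -/
def mask0 : ℕ := 0x81a98a4282a2c12e29c67faeee9dcee8

theorem treeRun_ok : stIs (runList (treeStep P) tree ⟨1, 0, []⟩) 32 mask0 = true := by decide +kernel

def seg0 : List Phase := [.scans ph0_0, .aux ph1, .scans ph2_0]

theorem seg0_ok : stIs (runList (phaseStep P) seg0 ⟨32, mask0, []⟩) 33 (2 ^ (32 * P.k) - 1) = true := by decide +kernel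

/-- the certificate -/
def phases : List Phase :=
  seg0

theorem cert_ok : checkCert P 32 tree phases = true :=
  checkCert_of_run P treeRun_ok (run_last P seg0_ok)

theorem gen0_ok : genOK P 32 0 = true := by decide +kernel

theorem gen1_ok : genOK P 32 1 = true := by decide +kernel

theorem gen2_ok : genOK P 32 2 = true := by decide +kernel

theorem gen3_ok : genOK P 32 3 = true := by decide +kernel

theorem tab_ok : tableOK P 32 = true := tableOK_of_gens P (by decide +kernel) (by decide +kernel) fun x hx =>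
  match x, hx with
  | 0, _ => gen0_ok
  | 1, _ => gen1_ok
  | 2, _ => gen2_ok
  | 3, _ => gen3_ok
  | _ + 4, hx => absurd (show _ + 4 < 4 from hx) (by omega)

theorem base0_ok : Fixes P 32 [0, 1, 0, 1, 0, 1] :=
  fixes_of_powFix P (u := [0, 1]) (e := 3) (by decide +kernel) (by decide +kernel)

theorem base1_ok : Fixes P 32 [0, 2, 0, 2, 0, 2] :=
  fixes_of_powFix P (u := [0, 2]) (e := 3) (by decide +kernel) (by decide +kernel)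

theorem base2_ok : Fixes P 32 [1, 2, 1, 2, 1, 2, 1, 2, 1, 2] :=
  fixes_of_powFix P (u := [1, 2]) (e := 5) (by decide +kernel) (by decide +kernel)

theorem base3_ok : Fixes P 32 [0, 1, 2, 0, 1, 2, 0, 1, 2] :=
  fixes_of_powFix P (u := [0, 1, 2]) (e := 3) (by decide +kernel) (by decide +kernel)

theorem base4_ok : Fixes P 32 [3, 0, 3, 0] :=
  fixes_of_powFix P (u := [3, 0]) (e := 2) (by decide +kernel) (by decide +kernel)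

theorem base5_ok : Fixes P 32 [3, 1, 2, 0, 1, 3, 1, 0, 2, 1] := fixes_of_wordFix P (by decide +kernel)

theorem base6_ok : Fixes P 32 [1, 2, 3, 1, 2, 3, 1, 2, 3, 1, 2, 3, 2, 1, 2, 1, 2, 1, 2, 1, 3] := fixes_of_wordFix P (by decide +kernel)

theorem base_ok : ∀ w ∈ base, Fixes P 32 w := by
  intro w hw
  rw [base] at hw
  rcases List.mem_cons.1 hw with rfl | hw
  · exact base0_ok
  rcases List.mem_cons.1 hw with rfl | hw
  · exact base1_ok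
  rcases List.mem_cons.1 hw with rfl | hw
  · exact base2_ok
  rcases List.mem_cons.1 hw with rfl | hw
  · exact base3_ok
  rcases List.mem_cons.1 hw with rfl | hw
  · exact base4_ok
  rcases List.mem_cons.1 hw with rfl | hw
  · exact base5_ok
  rcases List.mem_cons.1 hw with rfl | hw
  · exact base6_ok
  exact absurd hw List.not_mem_nil

theorem rots_ok : rotsOK base rots.entries hints = true := by decide +kernel

theorem fix_ok : wordsFixBase P sw = true := by decide +kernel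

theorem tree_ok : treeOK P tree 0 = true := by decide +kernel

theorem tree_len : tree.length + 1 = 32 := by decide +kernel

end Cfsg.Agent.CosetData.HJH
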