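import Cfsg.Agent.Lib.Compute.CosetData.SuzBTab

/-! Coset enumeration certificate data (S1681). -/

set_option autoImplicit false
set_option maxRecDepth 100000
set_option Elab.async false

namespace Cfsg.Agent.CosetData.SuzB

open Cfsg.Agent.CosetCert

theorem base8_ok : Fixes P 22880 [1, 4, 1, 4] :=
  fixes_of_powFix P (u := [1, 4]) (e := 2) (by decide +kernel) (by decide +kernel)

theorem base9_ok : Fixes P 22880 [1, 5, 1, 5, 1, 5] :=
  fixes_of_powFix P (u := [1, 5]) (e := 3) (by decide +kernel) (by decide +kernel)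

theorem base10_ok : Fixes P 22880 [1, 6, 1, 6, 1, 6] :=
  fixes_of_powFix P (u := [1, 6]) (e := 3) (by decide +kernel) (by decide +kernel)

theorem base11_ok : Fixes P 22880 [2, 3, 2, 3, 2, 3, 2, 3, 2, 3, 2, 3, 2, 3, 2, 3] :=
  fixes_of_powFix P (u := [2, 3]) (e := 8) (by decide +kernel) (by decide +kernel)

theorem base12_ok : Fixes P 22880 [2, 4, 2, 4] :=
  fixes_of_powFix P (u := [2, 4]) (e := 2) (by decide +kernel) (by decide +kernel)

theorem base13_ok : Fixes P 22880 [2, 5, 2, 5] :=
  fixes_of_powFix P (u := [2, 5]) (e := 2) (by decide +kernel) (by decide +kernel)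

theorem base14_ok : Fixes P 22880 [2, 6, 2, 6] :=
  fixes_of_powFix P (u := [2, 6]) (e := 2) (by decide +kernel) (by decide +kernel)

theorem base15_ok : Fixes P 22880 [3, 4, 3, 4, 3, 4] :=
  fixes_of_powFix P (u := [3, 4]) (e := 3) (by decide +kernel) (by decide +kernel)

end Cfsg.Agent.CosetData.SuzB
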