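import Cfsg.Agent.Lib.Compute.CosetData.SuzBAux

/-! Coset enumeration certificate data (S1681). -/

set_option autoImplicit false
set_option maxRecDepth 100000
set_option Elab.async false

namespace Cfsg.Agent.CosetData.SuzB

open Cfsg.Agent.CosetCert

def ph17_p0_0 : List Aux := [
  .node 100 2, .node 253 6, .derive 22975 [.bwd 0, .edge 1, .edge 6, .edge 1, .edge 6] [1] (.rel 21), .node 570 2, .node 571 2, .node 600 5, .node 601 5, .derive 22979 [.bwd 0, .edge 4, .fwd 1] [4] (.rel 37),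
  .node 602 5, .node 605 5, .node 675 0, .derive 22982 [.bwd 0, .edge 6, .edge 0] [6] (.rel 10), .node 676 0, .derive 22983 [.bwd 0, .edge 4, .fwd 2] [4] (.rel 6), .node 697 0, .node 697 6,
  .node 700 0, .derive 22986 [.bwd 0, .edge 2, .fwd 2] [2] (.rel 2), .node 700 5, .derive 22987 [.bwd 0, .edge 2, .edge 5] [2] (.rel 27), .node 702 0, .node 702 5, .derive 22989 [.bwd 0, .edge 1, .edge 5, .edge 1, .fwd 0] [1] (.rel 19), .node 702 6,
  .derive 22990 [.bwd 0, .edge 1, .edge 6, .edge 1, .fwd 8] [1] (.rel 21), .node 703 0, .derive 22991 [.bwd 0, .edge 4, .fwd 5] [4] (.rel 6), .node 703 3, .node 704 3, .derive 22993 [.bwd 0, .edge 1, .edge 3] [1] (.rel 15), .node 704 6, .node 705 5,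
  .node 705 6, .derive 22996 [.bwd 0, .edge 4, .fwd 2] [4] (.rel 39), .node 733 2, .node 753 2, .node 754 2, .node 759 2, .derive 23000 [.bwd 0, .edge 1, .edge 2, .edge 1, .fwd 1] [1] (.rel 13), .node 760 2,
  .derive 23001 [.bwd 0, .edge 1, .edge 2, .edge 1, .fwd 4] [1] (.rel 13), .derive 23001 [.bwd 1, .edge 4, .fwd 3] [4] (.rel 24), .node 779 2, .node 788 0, .node 788 2, .derive 23004 [.bwd 0, .edge 1, .edge 2, .edge 1, .fwd 2] [1] (.rel 13), .node 788 5, .node 807 2,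
  .derive 23006 [.bwd 0, .edge 0, .fwd 11] [0] (.rel 3), .derive 23006 [.bwd 1, .edge 5, .fwd 6] [5] (.rel 26), .node 808 2, .derive 23007 [.bwd 0, .edge 4, .fwd 3] [4] (.rel 24), .derive 23007 [.bwd 1, .edge 6, .fwd 16] [6] (.rel 28), .node 826 2, .derive 23008 [.bwd 0, .edge 1, .edge 2, .edge 1, .fwd 53] [1] (.rel 13), .node 982 2,
  .derive 23009 [.bwd 0, .edge 1, .edge 2, .edge 1, .fwd 52] [1] (.rel 13), .node 986 0, .node 986 2, .node 986 5, .derive 23012 [.bwd 0, .edge 1, .edge 5, .edge 1, .edge 5] [1] (.rel 19), .node 987 5, .derive 23013 [.bwd 0, .edge 1, .edge 5, .edge 1, .edge 5] [1] (.rel 19), .node 988 0,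
  .node 989 0, .derive 23015 [.bwd 0, .edge 4, .fwd 1] [4] (.rel 6), .node 990 2, .node 991 0, .derive 23017 [.bwd 0, .edge 3, .fwd 4] [3] (.rel 4), .node 1081 2, .node 1082 2, .node 1091 0,
  .derive 23020 [.bwd 0, .edge 4, .fwd 14] [4] (.rel 6), .node 1091 5, .derive 23021 [.bwd 0, .edge 1, .edge 5, .edge 1, .edge 5] [1] (.rel 19), .node 1094 2, .derive 23022 [.bwd 0, .edge 1, .edge 2, .edge 1, .fwd 6] [1] (.rel 13), .node 1098 0, .derive 23023 [.bwd 0, .edge 4, .fwd 10] [4] (.rel 6), .node 1102 5,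
  .derive 23024 [.bwd 0, .edge 4, .fwd 71] [4] (.rel 37), .node 1103 5, .derive 23025 [.bwd 0, .edge 4, .fwd 72] [4] (.rel 37), .node 1111 1, .derive 23013 [.bwd 22, .edge 1, .edge 6, .edge 5, .edge 1, .edge 6, .edge 5, .edge 1, .edge 6, .edge 5, .edge 1, .edge 6, .edge 5, .fwd 0] [6] (.rel 82), .node 1112 1, .derive 23027 [.bwd 0, .edge 6, .fwd 2, .bwd 1, .fwd 23] [6] (.rel 20), .derive 3567 [.edge 5, .edge 6, .edge 5, .bwd 0] [0] (.rel 65),
  .node 1113 1, .derive 23028 [.bwd 0, .edge 4, .fwd 3] [4] (.rel 16), .derive 3566 [.edge 4, .fwd 2, .bwd 0] [0] (.rel 7), .derive 3566 [.edge 4, .bwd 4, .bwd 1] [6] (.rel 38), .derive 8232 [.edge 5, .edge 2, .edge 1, .edge 0, .edge 5, .edge 2, .fwd 3, .bwd 1, .edge 5, .edge 2, .edge 1, .edge 0, .edge 5, .edge 2, .edge 1, .edge 0, .edge 5, .edge 2, .edge 1] [0] (.rel 74), .derive 10392 [.edge 4, .bwd 0, .edge 4] [0] (.rel 7), .node 1114 1, .derive 23029 [.bwd 0,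 .edge 3, .fwd 6] [3] (.rel 14),
  .derive 3565 [.edge 3, .fwd 5, .bwd 0] [0] (.rel 5), .derive 3565 [.edge 3, .fwd 5, .bwd 1] [6] (.rel 34), .node 1114 2, .derive 23030 [.bwd 0, .edge 0, .fwd 28] [0] (.rel 3)]
def ph17_p0_1 : List Aux := [
  .node 1115 1, .derive 23031 [.bwd 0, .edge 6, .fwd 6, .bwd 3, .bwd 26] [6] (.rel 20), .node 1115 2, .derive 23032 [.bwd 0, .edge 0, .fwd 33] [0] (.rel 3), .node 1116 1, .derive 23012 [.bwd 45, .edge 1, .edge 6, .edge 5, .edge 1, .edge 6, .edge 5, .edge 1, .edge 6, .edge 5, .edge 1, .edge 6, .edge 5, .fwd 0] [6] (.rel 82), .node 1116 2, .derive 23034 [.bwd 0, .edge 0, .fwd 103] [0] (.rel 3),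
  .node 1117 1, .derive 23035 [.bwd 0, .edge 6, .fwd 4, .bwd 3, .fwd 48] [6] (.rel 20), .derive 3564 [.edge 5, .edge 6, .edge 5, .bwd 0] [0] (.rel 65), .node 1117 2, .derive 23036 [.bwd 0, .edge 0, .fwd 107] [0] (.rel 3), .node 1129 1, .node 1131 1, .node 1134 2,
  .derive 23039 [.bwd 0, .edge 5, .fwd 45] [5] (.rel 26), .node 1135 1, .node 1135 2, .derive 23041 [.bwd 0, .edge 5, .fwd 16] [5] (.rel 26), .node 1136 1, .derive 23042 [.bwd 0, .edge 3, .fwd 7] [3] (.rel 14), .node 1136 2, .derive 23043 [.bwd 0, .edge 4, .fwd 4] [4] (.rel 24),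
  .derive 23043 [.bwd 1, .edge 5, .fwd 17] [5] (.rel 26), .node 1137 2, .derive 23044 [.bwd 0, .edge 5, .fwd 122] [5] (.rel 26), .node 1138 0, .node 1138 2, .node 1139 0, .derive 23047 [.bwd 0, .edge 4, .fwd 2] [4] (.rel 6), .node 1139 2,
  .derive 23048 [.bwd 0, .edge 4, .fwd 3] [4] (.rel 24), .node 1140 0, .derive 23049 [.bwd 0, .edge 3, .fwd 4] [3] (.rel 4), .node 1141 0, .derive 23050 [.bwd 0, .edge 4, .fwd 2] [4] (.rel 6), .node 1142 0, .derive 23051 [.bwd 0, .edge 5, .fwd 73] [5] (.rel 8), .node 1142 2,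
  .node 1164 0, .derive 23053 [.bwd 0, .edge 1, .edge 0, .edge 1, .edge 0, .edge 1, .edge 0, .edge 1, .fwd 97] [1] (.rel 0), .derive 23053 [.bwd 1, .edge 2, .edge 0] [2] (.rel 2), .derive 23053 [.bwd 2, .edge 5, .fwd 130] [5] (.rel 8), .derive 23003 [.bwd 2, .bwd 3, .edge 5, .edge 2, .edge 1, .edge 0, .edge 5, .edge 2, .edge 1, .edge 0, .edge 5, .edge 2, .edge 1, .edge 0, .edge 5, .bwd 1, .fwd 2, .bwd 100, .fwd 97] [2] (.rel 76), .derive 23004 [.bwd 100, .fwd 98, .bwd 0] [5] (.rel 26), .derive 22983 [.bwd 2, .fwd 4, .bwd 0, .fwd 100, .bwd 96] [1] (.rel 19), .derive 23007 [.fwd 95, .bwd 0, .fwd 133] [1] (.rel 17),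
  .node 1179 2, .derive 23054 [.bwd 0, .edge 5, .fwd 144] [5] (.rel 26), .node 1180 1, .node 1181 0, .derive 23056 [.bwd 0, .edge 3, .fwd 24] [3] (.rel 4), .derive 23056 [.bwd 1, .edge 4, .fwd 15] [4] (.rel 6), .node 1184 2, .derive 23057 [.bwd 0, .edge 0, .fwd 36] [0] (.rel 3),
  .derive 23057 [.bwd 1, .edge 4, .fwd 30] [4] (.rel 24), .node 1185 1, .derive 23058 [.bwd 0, .edge 3, .fwd 40] [3] (.rel 14), .node 1186 1, .node 1187 1, .derive 23060 [.bwd 0, .edge 6, .edge 1, .edge 6, .fwd 47] [6] (.rel 20), .node 1188 1, .derive 23061 [.bwd 0, .edge 4, .fwd 2] [4] (.rel 16),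
  .node 1189 1, .derive 23062 [.bwd 0, .edge 6, .edge 1, .edge 6, .fwd 50] [6] (.rel 20), .node 1190 1, .node 1191 1, .derive 23064 [.bwd 0, .edge 4, .fwd 1] [4] (.rel 16), .node 1192 1, .derive 23065 [.bwd 0, .edge 3, .fwd 2] [3] (.rel 14), .node 1193 1,
  .derive 23066 [.bwd 0, .edge 6, .edge 1, .edge 6, .fwd 54] [6] (.rel 20), .node 1194 1, .derive 23067 [.bwd 0, .edge 4, .fwd 2] [4] (.rel 16), .derive 23067 [.bwd 1, .edge 6, .edge 1, .edge 6, .fwd 54] [6] (.rel 20), .node 1195 1, .derive 23068 [.bwd 0, .edge 3, .fwd 17] [3] (.rel 14), .derive 23068 [.bwd 1, .edge 4, .fwd 8] [4] (.rel 16), .node 1196 1,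
  .derive 23069 [.bwd 0, .edge 4, .fwd 15] [4] (.rel 16), .derive 23069 [.bwd 1, .edge 6, .edge 1, .edge 6, .fwd 23] [6] (.rel 20), .node 1197 1, .derive 23070 [.bwd 0, .edge 4, .fwd 23] [4] (.rel 16), .node 1206 3, .node 1207 1, .derive 23072 [.bwd 0, .edge 5, .edge 1, .edge 5, .fwd 0] [5] (.rel 18), .node 1207 3,
  .derive 23073 [.bwd 0, .edge 5, .fwd 3] [5] (.rel 32), .node 1208 1, .derive 23074 [.bwd 0, .edge 4, .fwd 4] [4] (.rel 16), .derive 23074 [.bwd 1, .edge 5, .edge 1, .edge 5, .fwd 1] [5] (.rel 18), .node 1210 1, .node 1211 1, .derive 23076 [.bwd 0, .edge 4, .fwd 1] [4] (.rel 16), .node 1211 3,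
  .derive 23077 [.bwd 0, .edge 0, .fwd 11] [0] (.rel 5), .node 1212 3, .derive 23078 [.bwd 0, .edge 5, .fwd 2] [5] (.rel 32), .derive 23078 [.bwd 1, .edge 6, .fwd 11] [6] (.rel 34)]
def ph17_p0_2 : List Aux := [
  .node 1282 1, .node 1282 5, .node 1283 1, .derive 23081 [.bwd 0, .edge 4, .fwd 2] [4] (.rel 16), .node 1283 5, .node 1284 1, .derive 23083 [.bwd 0, .edge 3, .fwd 3] [3] (.rel 14), .node 1284 5,
  .derive 23084 [.bwd 0, .edge 3, .fwd 3] [3] (.rel 33), .node 1285 1, .derive 23085 [.bwd 0, .edge 4, .fwd 4] [4] (.rel 16), .node 1285 5, .node 1286 1, .derive 23087 [.bwd 0, .edge 3, .fwd 3] [3] (.rel 14), .node 1286 5, .node 1287 1,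
  .derive 23089 [.bwd 0, .edge 4, .fwd 3] [4] (.rel 16), .node 1287 5, .derive 23090 [.bwd 0, .edge 3, .fwd 16] [3] (.rel 33), .node 1289 2, .derive 23091 [.bwd 0, .edge 0, .fwd 185] [0] (.rel 3), .node 1292 5, .derive 23092 [.bwd 0, .edge 6, .edge 0, .fwd 20] [6] (.rel 67), .node 1293 5,
  .derive 23093 [.bwd 0, .edge 6, .edge 0, .fwd 19] [6] (.rel 67), .node 1294 5, .derive 23094 [.bwd 0, .edge 6, .edge 0, .fwd 18] [6] (.rel 67), .node 1295 5, .derive 23095 [.bwd 0, .edge 6, .edge 0, .fwd 16] [6] (.rel 67), .node 1296 5, .derive 23096 [.bwd 0, .edge 6, .edge 0, .fwd 15] [6] (.rel 67), .node 1307 5,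
  .derive 23097 [.bwd 0, .edge 0, .edge 5] [0] (.rel 9), .node 1315 5, .node 1317 2, .node 1318 2, .derive 23100 [.bwd 0, .edge 0, .fwd 1] [0] (.rel 3), .derive 23100 [.bwd 1, .edge 6, .fwd 202] [6] (.rel 28), .node 1323 5, .derive 23101 [.bwd 0, .edge 6, .fwd 34, .bwd 14, .bwd 15, .edge 6, .fwd 232] [6] (.rel 40),
  .node 1324 5, .derive 23102 [.bwd 0, .edge 0, .fwd 15] [0] (.rel 9), .derive 23102 [.bwd 1, .edge 3, .fwd 3] [3] (.rel 33), .derive 23102 [.bwd 2, .edge 6, .fwd 35, .bwd 16, .bwd 17, .edge 6, .fwd 234] [6] (.rel 40), .node 1325 5, .derive 23103 [.bwd 0, .edge 0, .fwd 17] [0] (.rel 9), .derive 23103 [.bwd 1, .edge 4, .fwd 5] [4] (.rel 37), .derive 23103 [.bwd 2, .edge 6, .fwd 35, .bwd 18, .bwd 19, .edge 6, .fwd 167] [6] (.rel 40),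
  .node 1326 5, .derive 23104 [.bwd 0, .edge 6, .fwd 34, .bwd 18, .bwd 19, .edge 6, .fwd 167] [6] (.rel 40), .node 1327 5, .derive 23105 [.bwd 0, .edge 6, .edge 0, .fwd 241] [6] (.rel 67), .node 1328 5, .derive 23106 [.bwd 0, .edge 2, .fwd 19] [2] (.rel 27), .derive 23106 [.bwd 1, .edge 4, .fwd 15] [4] (.rel 37), .derive 23106 [.bwd 2, .edge 6, .fwd 53, .bwd 32, .bwd 33, .edge 6, .fwd 249] [6] (.rel 40),
  .node 1329 5, .derive 23107 [.bwd 0, .edge 6, .fwd 247, .bwd 5, .bwd 6, .edge 6, .fwd 39] [6] (.rel 40), .node 1330 3, .node 1330 5, .derive 23109 [.bwd 0, .edge 2, .fwd 251] [2] (.rel 27), .node 1331 1, .derive 23110 [.bwd 0, .edge 6, .edge 1, .edge 6, .fwd 0] [6] (.rel 20), .node 1331 3,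
  .derive 23111 [.bwd 0, .edge 6, .fwd 5] [6] (.rel 34), .node 1331 5, .derive 23112 [.bwd 0, .edge 2, .fwd 40] [2] (.rel 27), .node 1332 1, .derive 23113 [.bwd 0, .edge 4, .fwd 6] [4] (.rel 16), .derive 23113 [.bwd 1, .edge 6, .edge 1, .edge 6, .fwd 1] [6] (.rel 20), .node 1332 5, .derive 23114 [.bwd 0, .edge 4, .fwd 5] [4] (.rel 37),
  .node 1333 5, .node 1334 1, .node 1334 5, .derive 23117 [.bwd 0, .edge 2, .fwd 63] [2] (.rel 27), .derive 23117 [.bwd 1, .edge 6, .edge 0, .fwd 5] [6] (.rel 67), .node 1335 1, .derive 23118 [.bwd 0, .edge 4, .fwd 4] [4] (.rel 16), .node 1335 3,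
  .node 1335 5, .derive 23120 [.bwd 0, .edge 0, .fwd 21] [0] (.rel 9), .derive 23120 [.bwd 1, .edge 4, .fwd 7] [4] (.rel 37), .derive 23120 [.bwd 2, .edge 6, .edge 0, .fwd 17] [6] (.rel 67), .node 1336 3, .derive 23121 [.bwd 0, .edge 0, .fwd 21] [0] (.rel 5), .derive 23121 [.bwd 1, .edge 6, .fwd 6] [6] (.rel 34), .node 1336 5,
  .derive 23122 [.bwd 0, .edge 2, .fwd 47] [2] (.rel 27), .derive 23122 [.bwd 1, .edge 4, .fwd 16] [4] (.rel 37), .derive 23122 [.bwd 2, .edge 6, .fwd 9, .fwd 6, .bwd 24, .edge 6, .fwd 30] [6] (.rel 40), .node 1337 5, .derive 23123 [.bwd 0, .edge 2, .fwd 212] [2] (.rel 27), .derive 23123 [.bwd 1, .edge 4, .fwd 33] [4] (.rel 37), .derive 23123 [.bwd 2, .edge 6, .fwd 23, .bwd 17, .bwd 19, .edge 6, .fwd 21] [6] (.rel 40), .node 1338 5,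
  .node 1339 5, .node 1340 5, .node 1341 5, .node 1342 5]
def ph17_p0_3 : List Aux := [
  .derive 23128 [.bwd 0, .edge 2, .fwd 85] [2] (.rel 27), .derive 23128 [.bwd 1, .edge 6, .edge 0, .fwd 3] [6] (.rel 67), .node 1343 5, .derive 23129 [.bwd 0, .edge 6, .edge 0, .fwd 6] [6] (.rel 67), .node 1344 5, .derive 23130 [.bwd 0, .edge 6, .fwd 2, .fwd 1, .bwd 8, .edge 6, .fwd 9] [6] (.rel 40), .node 1345 5, .derive 23131 [.bwd 0, .edge 2, .fwd 225] [2] (.rel 27),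
  .derive 23131 [.bwd 1, .edge 4, .fwd 12] [4] (.rel 37), .derive 23131 [.bwd 2, .edge 6, .fwd 11, .bwd 7, .bwd 9, .edge 6, .fwd 10] [6] (.rel 40), .node 1357 1, .derive 23132 [.bwd 0, .edge 2, .edge 1, .edge 2, .fwd 49] [2] (.rel 12), .node 1358 1, .derive 23133 [.bwd 0, .edge 2, .edge 1, .edge 2, .fwd 45] [2] (.rel 12), .node 1363 1, .node 1364 1,
  .derive 23135 [.bwd 0, .edge 3, .fwd 1] [3] (.rel 14), .node 1372 5, .node 1373 5, .derive 23137 [.bwd 0, .edge 4, .fwd 1] [4] (.rel 37), .node 1562 0, .derive 23138 [.bwd 0, .edge 5, .fwd 306] [5] (.rel 8), .node 1562 6, .node 1612 1,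
  .derive 23140 [.bwd 0, .bwd 312, .bwd 176, .fwd 271, .bwd 283] [6] (.rel 20), .derive 23137 [.bwd 6, .edge 1, .edge 6, .edge 5, .edge 1, .edge 6, .edge 5, .edge 1, .edge 6, .edge 5, .edge 1, .edge 6, .edge 5, .fwd 1, .fwd 0] [] (.rel 82), .derive 23137 [.fwd 0] [] (.free), .derive 23001 [.bwd 0, .fwd 7] [4] (.free), .derive 23000 [.bwd 286, .fwd 0] [] (.free), .derive 23136 [.bwd 0] [] (.free), .derive 23000 [.bwd 0, .bwd 12] [5] (.free), .derive 23134 [.bwd 16, .edge 5, .edge 1, .bwd 0, .fwd 292] [5] (.rel 18),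
  .derive 23002 [.bwd 282, .fwd 283, .bwd 0] [0] (.rel 9), .node 1785 3, .derive 23141 [.bwd 0, .edge 1, .edge 3] [1] (.rel 15), .node 1988 2, .derive 23142 [.bwd 0, .edge 5, .fwd 282] [5] (.rel 26), .node 2028 2, .derive 23143 [.bwd 0, .edge 4, .fwd 2] [4] (.rel 24), .node 2041 2,
  .derive 23144 [.bwd 0, .edge 0, .fwd 4] [0] (.rel 3), .node 2421 3, .node 3072 3, .node 3136 3, .node 3139 3, .node 3145 3, .derive 23149 [.bwd 0, .edge 0, .fwd 1] [0] (.rel 5), .node 3151 3,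
  .derive 23150 [.bwd 0, .edge 5, .fwd 3] [5] (.rel 32), .node 3564 2, .derive 23151 [.bwd 0, .edge 5, .fwd 294] [5] (.rel 26), .node 4228 1, .derive 23152 [.bwd 0, .edge 3, .fwd 162] [3] (.rel 14), .derive 23152 [.bwd 1, .edge 5, .edge 1, .edge 5, .fwd 1] [5] (.rel 18), .node 4228 4, .node 4230 1,
  .derive 23154 [.bwd 0, .edge 3, .fwd 163] [3] (.rel 14), .node 4230 4, .node 4231 4, .derive 23156 [.bwd 0, .edge 0, .fwd 4] [0] (.rel 7), .derive 23156 [.bwd 1, .edge 5, .fwd 2] [5] (.rel 36), .derive 23156 [.bwd 2, .edge 6, .fwd 6] [6] (.rel 38), .node 4232 0, .node 4232 2,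
  .node 4232 5, .node 4232 6, .node 4233 0, .derive 23161 [.bwd 0, .edge 4, .fwd 4] [4] (.rel 6), .node 4233 2, .derive 23162 [.bwd 0, .edge 4, .fwd 5] [4] (.rel 24), .node 4233 3, .derive 23163 [.bwd 0, .edge 1, .fwd 173] [1] (.rel 15),
  .node 4233 5, .derive 23164 [.bwd 0, .edge 4, .fwd 8] [4] (.rel 37), .node 4233 6, .derive 23165 [.bwd 0, .edge 4, .fwd 9] [4] (.rel 39), .node 4234 0, .derive 23166 [.bwd 0, .edge 3, .fwd 14] [3] (.rel 4), .node 4234 4, .derive 23167 [.bwd 0, .edge 1, .fwd 20] [1] (.rel 17),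
  .node 4234 5, .node 4234 6, .node 4241 0, .derive 23170 [.bwd 0, .edge 5, .edge 0] [5] (.rel 8), .node 4243 0, .derive 23171 [.bwd 0, .edge 5, .edge 0] [5] (.rel 8), .node 4244 0, .derive 23172 [.bwd 0, .edge 2, .fwd 4] [2] (.rel 2),
  .node 4244 5, .derive 23173 [.bwd 0, .edge 4, .edge 5] [4] (.rel 37), .node 4295 2, .derive 23174 [.bwd 0, .edge 1, .edge 2, .edge 1, .fwd 324] [1] (.rel 13), .node 4319 2, .node 4380 0, .node 4380 2, .node 4381 0,
  .node 4381 2, .node 4427 2, .node 4438 1, .derive 23181 [.bwd 0, .edge 3, .fwd 131] [3] (.rel 14)]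
def ph17_p0_4 : List Aux := [
  .derive 23181 [.bwd 1, .edge 6, .edge 1, .edge 6, .fwd 1] [6] (.rel 20), .node 4438 4, .node 4438 5, .derive 23183 [.bwd 0, .edge 3, .fwd 132] [3] (.rel 33), .node 4439 4, .derive 23184 [.bwd 0, .edge 6, .fwd 3] [6] (.rel 38), .node 4439 5, .derive 23185 [.bwd 0, .edge 3, .fwd 115] [3] (.rel 33),
  .node 4440 1, .derive 23186 [.bwd 0, .edge 3, .fwd 135] [3] (.rel 14), .node 4440 4, .derive 23187 [.bwd 0, .edge 0, .fwd 6] [0] (.rel 7), .node 4440 5, .derive 23188 [.bwd 0, .edge 0, .fwd 6] [0] (.rel 9), .derive 23188 [.bwd 1, .edge 3, .fwd 139] [3] (.rel 33), .derive 23188 [.bwd 2, .edge 6, .edge 0, .fwd 12] [6] (.rel 67),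
  .node 4441 4, .derive 23189 [.bwd 0, .edge 0, .fwd 15] [0] (.rel 7), .derive 23189 [.bwd 1, .edge 6, .fwd 7] [6] (.rel 38), .node 4441 5, .derive 23190 [.bwd 0, .edge 3, .fwd 147] [3] (.rel 33), .derive 23190 [.bwd 1, .edge 6, .fwd 8, .fwd 5, .bwd 18, .edge 6, .fwd 14] [6] (.rel 40), .node 4442 0, .node 4442 2,
  .node 4442 5, .node 4442 6, .node 4443 0, .node 4443 2, .derive 23196 [.bwd 0, .edge 4, .fwd 4] [4] (.rel 24), .node 4443 3, .derive 23197 [.bwd 0, .edge 1, .fwd 145] [1] (.rel 15), .node 4443 5,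
  .derive 23198 [.bwd 0, .edge 4, .fwd 7] [4] (.rel 37), .node 4443 6, .derive 23199 [.bwd 0, .edge 4, .fwd 8] [4] (.rel 39), .node 4444 0, .node 4444 4, .derive 23201 [.bwd 0, .edge 1, .fwd 20] [1] (.rel 17), .node 4444 5, .derive 23202 [.bwd 0, .edge 3, .fwd 14] [3] (.rel 33),
  .node 4444 6, .derive 23203 [.bwd 0, .edge 3, .fwd 15] [3] (.rel 35), .node 4445 5, .derive 23204 [.bwd 0, .edge 3, .fwd 147] [3] (.rel 33), .node 4446 5, .derive 23205 [.bwd 0, .edge 2, .fwd 2] [2] (.rel 27), .node 4449 5, .derive 23206 [.bwd 0, .edge 6, .edge 0, .fwd 4] [6] (.rel 67),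
  .node 4450 5, .derive 23207 [.bwd 0, .edge 0, .fwd 6] [0] (.rel 9), .derive 23207 [.bwd 1, .edge 3, .fwd 147] [3] (.rel 33), .node 4451 5, .node 4452 5, .derive 23209 [.bwd 0, .edge 6, .fwd 10, .bwd 5, .bwd 6, .edge 6, .fwd 4] [6] (.rel 40), .node 4453 0, .derive 23210 [.bwd 0, .edge 2, .edge 0] [2] (.rel 2),
  .node 4453 5, .node 4459 5, .node 4460 5, .derive 23213 [.bwd 0, .edge 3, .fwd 152] [3] (.rel 33), .node 4461 0, .derive 23214 [.bwd 0, .edge 5, .edge 0] [5] (.rel 8), .node 4461 2, .node 4462 5,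
  .derive 23216 [.bwd 0, .edge 6, .edge 0, .fwd 6] [6] (.rel 67), .node 4463 5, .derive 23217 [.bwd 0, .edge 6, .fwd 2, .fwd 1, .bwd 8, .edge 6, .fwd 7] [6] (.rel 40), .node 4465 2, .node 4466 2, .node 4469 2, .node 4622 2, .node 4961 5,
  .node 5010 2, .node 5751 0, .node 5751 3, .derive 23225 [.bwd 0, .edge 1, .fwd 133] [1] (.rel 15), .node 6249 2, .node 6249 4, .derive 23227 [.bwd 0, .edge 1, .edge 4] [1] (.rel 17), .node 6252 4,
  .node 6253 4, .derive 23229 [.bwd 0, .edge 0, .fwd 1] [0] (.rel 7), .derive 23229 [.bwd 1, .edge 5, .fwd 4] [5] (.rel 36), .node 6254 0, .derive 23230 [.bwd 0, .edge 3, .edge 0] [3] (.rel 4), .node 6254 2, .node 6254 5, .node 6257 5,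
  .derive 23233 [.bwd 0, .edge 1, .edge 5, .edge 1, .fwd 1] [1] (.rel 19), .node 6258 1, .node 6258 5, .derive 23235 [.bwd 0, .edge 2, .fwd 3] [2] (.rel 27), .node 6269 0, .node 6269 5, .node 6269 6, .node 6270 0,
  .derive 23239 [.bwd 0, .edge 4, .fwd 3] [4] (.rel 6), .node 6270 2, .derive 23240 [.bwd 0, .edge 1, .edge 2, .edge 1, .edge 2] [1] (.rel 13), .node 6271 0]
def ph17_p0 : List Aux :=
  ((ph17_p0_0 ++ ph17_p0_1) ++ (ph17_p0_2 ++ (ph17_p0_3 ++ ph17_p0_4)))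

theorem ph17_p0_ok : stHas (runList (auxStep' P) ph17_p0 (mkSt 22974 mask23 [])) 23242 mask23 ph17_eq1 = true := by decide +kernel

def ph17_p1_0 : List Aux := [
  .derive 23241 [.bwd 0, .edge 3, .fwd 7] [3] (.rel 4), .node 6271 2, .node 6271 4, .derive 23243 [.bwd 0, .edge 1, .fwd 23] [1] (.rel 17), .node 6271 5, .node 6271 6, .node 6285 0, .derive 23246 [.bwd 0, .edge 3, .fwd 11] [3] (.rel 4),
  .node 6285 4, .node 6285 5, .node 6285 6, .node 6674 3, .derive 23250 [.bwd 0, .edge 1, .fwd 166] [1] (.rel 15), .node 6674 5, .node 6675 5, .derive 23252 [.bwd 0, .edge 1, .edge 5, .edge 1, .edge 5] [1] (.rel 19),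
  .node 6677 0, .node 6677 5, .derive 23254 [.bwd 0, .edge 2, .fwd 3] [2] (.rel 27), .node 6677 6, .node 6678 0, .derive 23256 [.bwd 0, .edge 4, .fwd 4] [4] (.rel 6), .node 6678 5, .derive 23257 [.bwd 0, .edge 2, .fwd 9] [2] (.rel 27),
  .node 6678 6, .node 7177 0, .derive 23259 [.bwd 0, .edge 3, .fwd 5] [3] (.rel 4), .node 7177 2, .node 7177 4, .node 7177 5, .derive 23262 [.bwd 0, .edge 1, .edge 5, .edge 1, .edge 5] [1] (.rel 19), .derive 23262 [.bwd 1, .edge 3, .fwd 8] [3] (.rel 33),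
  .node 7177 6, .node 7192 0, .derive 23264 [.bwd 0, .edge 3, .fwd 17] [3] (.rel 4), .node 7192 2, .node 7192 4, .node 7192 5, .node 7192 6, .node 7461 2,
  .derive 23269 [.bwd 0, .edge 5, .edge 2] [5] (.rel 26), .node 8100 4, .node 8104 0, .derive 23271 [.bwd 0, .edge 2, .fwd 166] [2] (.rel 2), .node 8104 4, .derive 23272 [.bwd 0, .edge 2, .fwd 166] [2] (.rel 25), .node 8104 5, .derive 23273 [.bwd 0, .edge 2, .fwd 166] [2] (.rel 27),
  .node 8104 6, .derive 23274 [.bwd 0, .edge 2, .fwd 167] [2] (.rel 29), .node 8167 0, .derive 23275 [.bwd 0, .edge 6, .fwd 90] [6] (.rel 10), .node 8167 2, .derive 23276 [.bwd 0, .edge 6, .fwd 90] [6] (.rel 28), .node 8167 5, .derive 23277 [.bwd 0, .edge 6, .fwd 94, .fwd 93] [6] (.rel 67),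
  .node 8168 0, .derive 23278 [.bwd 0, .edge 6, .fwd 172] [6] (.rel 10), .node 8168 5, .derive 23279 [.bwd 0, .edge 6, .fwd 174, .fwd 173] [6] (.rel 67), .node 8169 0, .derive 23280 [.bwd 0, .edge 6, .fwd 174] [6] (.rel 10), .node 8169 5, .node 8170 0,
  .derive 23282 [.bwd 0, .edge 6, .fwd 109] [6] (.rel 10), .node 8170 2, .derive 23283 [.bwd 0, .edge 6, .edge 2] [6] (.rel 28), .node 8170 5, .node 8173 5, .derive 23285 [.bwd 0, .edge 2, .fwd 6] [2] (.rel 27), .derive 23285 [.bwd 1, .edge 6, .fwd 187, .fwd 186] [6] (.rel 67), .node 8242 0,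
  .derive 23286 [.bwd 0, .edge 2, .bwd 478] [2] (.rel 2), .node 8250 1, .node 8250 6, .derive 23288 [.bwd 0, .edge 5, .edge 6, .fwd 16, .fwd 15, .bwd 189, .bwd 17] [5] (.rel 41), .node 8251 1, .derive 23289 [.bwd 0, .edge 3, .fwd 3] [3] (.rel 14), .node 8251 2, .derive 23290 [.bwd 0, .edge 5, .fwd 116] [5] (.rel 26),
  .node 8251 4, .derive 23291 [.bwd 0, .edge 5, .edge 4] [5] (.rel 36), .node 8251 6, .derive 23292 [.bwd 0, .edge 5, .edge 6, .fwd 28, .fwd 27, .bwd 121, .bwd 31] [5] (.rel 41), .node 8477 2, .node 8478 2, .derive 23294 [.bwd 0, .edge 0, .fwd 195] [0] (.rel 3), .derive 23294 [.bwd 1, .edge 5, .fwd 2] [5] (.rel 26),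
  .node 8601 2, .derive 23295 [.bwd 0, .edge 5, .fwd 196] [5] (.rel 26), .node 8647 2, .derive 23296 [.bwd 0, .edge 0, .fwd 2] [0] (.rel 3), .node 8934 2, .derive 23297 [.bwd 0, .edge 6, .fwd 198] [6] (.rel 28), .node 8934 5, .node 8935 0,
  .derive 23299 [.bwd 0, .edge 6, .fwd 200] [6] (.rel 10), .node 8935 2, .derive 23300 [.bwd 0, .edge 6, .fwd 201] [6] (.rel 28), .node 8935 5]
def ph17_p1_1 : List Aux := [
  .derive 23301 [.bwd 0, .edge 4, .fwd 5] [4] (.rel 37), .node 8949 0, .derive 23302 [.bwd 0, .edge 5, .fwd 208] [5] (.rel 8), .derive 23302 [.bwd 1, .edge 5, .edge 6, .fwd 8] [6] (.rel 69), .node 8949 2, .derive 23303 [.bwd 0, .edge 5, .fwd 210] [5] (.rel 26), .node 8950 0, .derive 23304 [.bwd 0, .edge 5, .fwd 211] [5] (.rel 8),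
  .derive 23304 [.bwd 1, .edge 5, .edge 6, .fwd 8] [6] (.rel 69), .node 8950 2, .derive 23305 [.bwd 0, .edge 4, .fwd 5] [4] (.rel 24), .derive 23305 [.bwd 1, .edge 5, .fwd 214] [5] (.rel 26), .node 8950 6, .derive 23306 [.bwd 0, .edge 5, .edge 6, .fwd 13, .bwd 4, .fwd 5, .bwd 16] [5] (.rel 41), .node 9144 0, .derive 23307 [.bwd 0, .edge 5, .edge 0] [5] (.rel 8),
  .node 9145 0, .derive 23308 [.bwd 0, .edge 4, .fwd 2] [4] (.rel 6), .derive 23308 [.bwd 1, .edge 5, .edge 0] [5] (.rel 8), .node 9161 2, .node 9162 2, .node 9167 2, .node 9168 2, .derive 23312 [.bwd 0, .edge 4, .fwd 1] [4] (.rel 24),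
  .node 9183 2, .derive 23313 [.bwd 0, .edge 5, .fwd 4] [5] (.rel 26), .node 9184 2, .derive 23314 [.bwd 0, .edge 5, .fwd 7] [5] (.rel 26), .node 9185 2, .derive 23315 [.bwd 0, .edge 6, .fwd 231] [6] (.rel 28), .node 9186 2, .derive 23316 [.bwd 0, .edge 5, .fwd 2] [5] (.rel 26),
  .derive 23316 [.bwd 1, .edge 6, .fwd 5] [6] (.rel 28), .node 9187 2, .derive 23317 [.bwd 0, .edge 6, .fwd 9] [6] (.rel 28), .node 9200 2, .derive 23318 [.bwd 0, .edge 6, .fwd 13] [6] (.rel 28), .node 9201 2, .derive 23319 [.bwd 0, .edge 5, .fwd 2] [5] (.rel 26), .derive 23319 [.bwd 1, .edge 6, .fwd 18] [6] (.rel 28),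
  .node 9202 2, .derive 23320 [.bwd 0, .edge 6, .fwd 21] [6] (.rel 28), .node 9203 2, .derive 23321 [.bwd 0, .edge 5, .fwd 2] [5] (.rel 26), .derive 23321 [.bwd 1, .edge 6, .fwd 22] [6] (.rel 28), .node 9205 2, .derive 23322 [.bwd 0, .edge 1, .edge 2, .edge 1, .fwd 53] [1] (.rel 13), .derive 23322 [.bwd 1, .edge 5, .fwd 13] [5] (.rel 26),
  .node 9304 4, .node 9304 5, .derive 23324 [.bwd 0, .edge 2, .fwd 247] [2] (.rel 27), .node 9305 1, .derive 23325 [.bwd 0, .edge 3, .edge 1] [3] (.rel 14), .node 9305 5, .derive 23326 [.bwd 0, .edge 3, .fwd 4] [3] (.rel 33), .node 9306 5,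
  .derive 23327 [.bwd 0, .edge 2, .fwd 192] [2] (.rel 27), .node 9307 1, .derive 23328 [.bwd 0, .edge 3, .edge 1] [3] (.rel 14), .node 9307 5, .derive 23329 [.bwd 0, .edge 2, .fwd 201] [2] (.rel 27), .derive 23329 [.bwd 1, .edge 6, .edge 0, .fwd 7] [6] (.rel 67), .node 9308 4, .node 9308 5,
  .derive 23331 [.bwd 0, .edge 3, .fwd 4] [3] (.rel 33), .derive 23331 [.bwd 1, .edge 6, .edge 0, .fwd 15] [6] (.rel 67), .node 9309 4, .derive 23332 [.bwd 0, .edge 0, .fwd 18] [0] (.rel 7), .derive 23332 [.bwd 1, .edge 6, .fwd 5] [6] (.rel 38), .node 9309 5, .node 9310 1, .derive 23334 [.bwd 0, .edge 3, .edge 1] [3] (.rel 14),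
  .node 9310 5, .derive 23335 [.bwd 0, .edge 3, .fwd 3] [3] (.rel 33), .derive 23335 [.bwd 1, .edge 6, .fwd 14, .fwd 12, .bwd 20, .edge 6, .fwd 18] [6] (.rel 40), .node 9311 4, .derive 23336 [.bwd 0, .edge 0, .fwd 13] [0] (.rel 7), .derive 23336 [.bwd 1, .edge 6, .fwd 28] [6] (.rel 38), .node 9311 5, .derive 23337 [.bwd 0, .edge 3, .fwd 23] [3] (.rel 33),
  .derive 23337 [.bwd 1, .edge 6, .fwd 30, .bwd 14, .bwd 16, .edge 6, .fwd 10] [6] (.rel 40), .node 9312 0, .derive 23338 [.bwd 0, .edge 2, .fwd 246] [2] (.rel 2), .node 9312 4, .derive 23339 [.bwd 0, .edge 2, .fwd 247] [2] (.rel 25), .node 9312 5, .node 9312 6, .derive 23341 [.bwd 0, .edge 2, .fwd 246] [2] (.rel 29),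
  .node 9313 5, .derive 23342 [.bwd 0, .edge 4, .fwd 246] [4] (.rel 37), .node 9314 5, .node 9315 5, .node 9316 1, .derive 23345 [.bwd 0, .edge 4, .fwd 22] [4] (.rel 16), .node 9316 5, .node 9317 1,
  .derive 23347 [.bwd 0, .edge 4, .fwd 38] [4] (.rel 16), .node 9317 5, .derive 23348 [.bwd 0, .edge 4, .fwd 38] [4] (.rel 37), .node 9318 3]
def ph17_p1_2 : List Aux := [
  .derive 23349 [.bwd 0, .edge 0, .edge 3] [0] (.rel 5), .derive 23349 [.bwd 1, .edge 6, .edge 3] [6] (.rel 34), .node 9318 5, .derive 23350 [.bwd 0, .edge 6, .edge 0, .fwd 8] [6] (.rel 67), .node 9319 5, .derive 23351 [.bwd 0, .edge 6, .edge 0, .fwd 13] [6] (.rel 67), .node 9320 5, .node 9321 5,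
  .derive 23353 [.bwd 0, .edge 6, .edge 0, .fwd 19] [6] (.rel 67), .node 9323 5, .derive 23354 [.bwd 0, .edge 4, .fwd 258] [4] (.rel 37), .node 9324 5, .derive 23355 [.bwd 0, .edge 3, .fwd 2] [3] (.rel 33), .node 9332 5, .derive 23356 [.bwd 0, .edge 2, .fwd 25] [2] (.rel 27), .node 9333 5,
  .derive 23357 [.bwd 0, .edge 4, .fwd 244] [4] (.rel 37), .node 9338 5, .derive 23358 [.bwd 0, .edge 3, .fwd 13] [3] (.rel 33), .derive 23358 [.bwd 1, .edge 6, .fwd 11, .fwd 10, .bwd 30, .edge 6, .fwd 28] [6] (.rel 40), .node 9343 1, .derive 23359 [.bwd 0, .edge 4, .fwd 69] [4] (.rel 16), .node 9343 5, .derive 23360 [.bwd 0, .edge 6, .fwd 20, .fwd 19, .bwd 28, .edge 6, .fwd 25] [6] (.rel 40),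
  .node 9344 5, .derive 23361 [.bwd 0, .edge 4, .fwd 266] [4] (.rel 37), .derive 23361 [.bwd 1, .edge 6, .fwd 34, .bwd 20, .bwd 21, .edge 6, .fwd 19] [6] (.rel 40), .node 9345 0, .derive 23362 [.bwd 0, .edge 4, .fwd 267] [4] (.rel 6), .node 9345 2, .derive 23363 [.bwd 0, .edge 4, .fwd 267] [4] (.rel 24), .node 9346 0,
  .derive 23364 [.bwd 0, .edge 6, .fwd 4] [6] (.rel 10), .node 9346 5, .derive 23365 [.bwd 0, .edge 4, .fwd 179] [4] (.rel 37), .node 9347 0, .node 9347 5, .node 9352 0, .derive 23368 [.bwd 0, .edge 6, .fwd 2] [6] (.rel 10), .node 9352 2,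
  .derive 23369 [.bwd 0, .edge 4, .edge 2] [4] (.rel 24), .node 9352 5, .derive 23370 [.bwd 0, .edge 4, .fwd 285] [4] (.rel 37), .node 9353 5, .derive 23371 [.bwd 0, .edge 0, .edge 5] [0] (.rel 9), .derive 23371 [.bwd 1, .edge 3, .bwd 129] [3] (.rel 33), .node 9354 6, .node 9355 2,
  .derive 23373 [.bwd 0, .edge 5, .bwd 292] [5] (.rel 26), .derive 23284 [.bwd 181, .edge 6, .fwd 294, .bwd 0] [6] (.rel 67), .node 9355 6, .derive 23374 [.bwd 0, .bwd 6, .bwd 7, .bwd 184] [5] (.rel 68), .node 9358 3, .node 9382 2, .derive 23376 [.bwd 0, .bwd 370, .bwd 366] [5] (.rel 26), .derive 23376 [.bwd 1, .bwd 184, .fwd 185] [6] (.rel 28),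
  .node 9385 2, .node 9385 4, .derive 23378 [.bwd 0, .bwd 296, .bwd 29] [5] (.rel 36), .derive 23378 [.bwd 1, .bwd 203, .bwd 24] [6] (.rel 38), .node 9394 0, .node 9394 5, .node 9394 6, .node 9395 0,
  .node 9395 3, .node 9395 5, .derive 23384 [.bwd 0, .edge 2, .fwd 50] [2] (.rel 27), .derive 23384 [.bwd 1, .edge 4, .fwd 5] [4] (.rel 37), .node 9395 6, .node 9396 0, .node 9396 5, .node 9396 6,
  .node 9397 0, .node 9397 3, .derive 23390 [.bwd 0, .edge 1, .fwd 21] [1] (.rel 15), .derive 23390 [.bwd 1, .edge 4, .edge 3, .edge 4, .fwd 10] [4] (.rel 30), .node 9397 5, .derive 23391 [.bwd 0, .edge 4, .fwd 6] [4] (.rel 37), .node 9410 2, .derive 23392 [.bwd 0, .edge 5, .edge 2] [5] (.rel 26),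
  .node 9418 2, .node 9419 2, .node 9424 2, .node 9425 2, .derive 23396 [.bwd 0, .edge 4, .fwd 1] [4] (.rel 24), .node 9431 2, .derive 23397 [.bwd 0, .edge 5, .fwd 5] [5] (.rel 26), .node 9432 2,
  .derive 23398 [.bwd 0, .edge 5, .fwd 6] [5] (.rel 26), .node 9436 2, .derive 23399 [.bwd 0, .edge 6, .fwd 322] [6] (.rel 28), .node 9437 2, .derive 23400 [.bwd 0, .edge 5, .fwd 2] [5] (.rel 26), .derive 23400 [.bwd 1, .edge 6, .fwd 7] [6] (.rel 28), .node 9438 2, .derive 23401 [.bwd 0, .edge 6, .fwd 7] [6] (.rel 28),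
  .node 9451 2, .derive 23402 [.bwd 0, .edge 6, .fwd 13] [6] (.rel 28), .node 9452 2, .derive 23403 [.bwd 0, .edge 5, .fwd 2] [5] (.rel 26)]
def ph17_p1_3 : List Aux := [
  .derive 23403 [.bwd 1, .edge 6, .fwd 18] [6] (.rel 28), .node 9453 2, .derive 23404 [.bwd 0, .edge 6, .fwd 21] [6] (.rel 28), .node 9454 2, .derive 23405 [.bwd 0, .edge 5, .fwd 2] [5] (.rel 26), .derive 23405 [.bwd 1, .edge 6, .fwd 22] [6] (.rel 28), .node 9456 2, .derive 23406 [.bwd 0, .edge 5, .fwd 12] [5] (.rel 26),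
  .derive 23406 [.bwd 1, .edge 6, .fwd 339] [6] (.rel 28), .node 9458 2, .derive 23407 [.bwd 0, .edge 6, .fwd 340] [6] (.rel 28), .node 9495 2, .node 9496 2, .derive 23409 [.bwd 0, .edge 6, .fwd 1] [6] (.rel 28), .node 9507 2, .derive 23410 [.bwd 0, .edge 5, .fwd 345] [5] (.rel 26),
  .node 9508 2, .derive 23411 [.bwd 0, .edge 5, .fwd 4] [5] (.rel 26), .derive 23411 [.bwd 1, .edge 6, .fwd 3] [6] (.rel 28), .node 9522 2, .node 9523 1, .node 9523 2, .derive 23414 [.bwd 0, .edge 6, .fwd 2] [6] (.rel 28), .node 9524 2,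
  .derive 23415 [.bwd 0, .edge 5, .fwd 12] [5] (.rel 26), .node 9525 2, .derive 23416 [.bwd 0, .edge 4, .fwd 6] [4] (.rel 24), .derive 23416 [.bwd 1, .edge 6, .fwd 3] [6] (.rel 28), .node 9526 1, .derive 23417 [.bwd 0, .edge 3, .fwd 8] [3] (.rel 14), .node 9534 1, .node 9535 1,
  .derive 23419 [.bwd 0, .edge 4, .fwd 1] [4] (.rel 16), .node 9536 1, .node 9542 3, .node 9543 3, .node 9544 1, .node 9625 2, .derive 23424 [.bwd 0, .edge 4, .fwd 59] [4] (.rel 24), .derive 23424 [.bwd 1, .edge 5, .edge 2] [5] (.rel 26),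
  .node 9650 3, .node 9654 5, .derive 23426 [.bwd 0, .edge 2, .edge 5] [2] (.rel 27), .node 9655 3, .derive 23427 [.bwd 0, .edge 1, .fwd 3] [1] (.rel 15), .node 9672 5, .derive 23428 [.bwd 0, .edge 0, .bwd 305] [0] (.rel 9), .derive 23428 [.bwd 1, .edge 2, .edge 5] [2] (.rel 27),
  .node 10383 2, .derive 23429 [.bwd 0, .edge 1, .edge 2, .edge 1, .bwd 276] [1] (.rel 13), .derive 23050 [.bwd 714, .edge 5, .fwd 783, .bwd 458, .bwd 263, .fwd 262, .bwd 265, .edge 1, .edge 0, .edge 5, .fwd 1, .fwd 0, .bwd 278, .edge 5, .edge 2, .edge 1, .edge 0, .edge 5, .edge 2, .fwd 683] [] (.rel 77), .derive 23063 [.bwd 0] [] (.free), .derive 23050 [.bwd 0, .bwd 683] [4] (.free), .derive 23049 [.bwd 716, .fwd 0] [] (.free), .derive 23064 [.bwd 0] [] (.free), .derive 23049 [.bwd 0, .bwd 684] [3] (.free),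
  .derive 23047 [.bwd 721, .fwd 0] [] (.free), .derive 23065 [.bwd 0] [] (.free), .derive 23047 [.bwd 0, .bwd 679] [4] (.free), .derive 23045 [.bwd 728, .fwd 0] [] (.free), .derive 23068 [.bwd 0] [] (.free), .derive 23045 [.bwd 0, .fwd 683] [3] (.free), .derive 23056 [.fwd 709, .fwd 0] [] (.free), .derive 23059 [.bwd 0] [] (.free),
  .derive 23056 [.bwd 0, .bwd 680] [4] (.free), .derive 23051 [.bwd 711, .fwd 0] [] (.free), .derive 23070 [.bwd 0] [] (.free), .derive 23051 [.bwd 0, .bwd 684] [1] (.free), .derive 23079 [.bwd 667, .edge 0, .edge 1, .edge 0, .edge 1, .edge 0, .bwd 0, .bwd 730, .edge 1, .edge 0] [] (.rel 1), .derive 23079 [.fwd 0] [] (.free), .derive 1130 [.bwd 0, .bwd 666] [4] (.free), .derive 1129 [.edge 4, .fwd 0] [] (.free),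
  .derive 23081 [.bwd 0] [] (.free), .derive 1129 [.bwd 0, .bwd 666] [3] (.free), .derive 1136 [.edge 3, .fwd 0] [] (.free), .derive 23083 [.bwd 0] [] (.free), .derive 1136 [.bwd 0, .bwd 665] [4] (.free), .derive 1135 [.edge 4, .fwd 0] [] (.free), .derive 23085 [.bwd 0] [] (.free), .derive 1135 [.bwd 0, .bwd 665] [3] (.free),
  .derive 1185 [.edge 3, .fwd 0] [] (.free), .derive 23087 [.bwd 0] [] (.free), .derive 1185 [.bwd 0, .bwd 665] [4] (.free), .derive 1131 [.edge 4, .fwd 0] [] (.free), .derive 23089 [.bwd 0] [] (.free), .derive 1131 [.bwd 0, .bwd 669] [1] (.free), .derive 23038 [.bwd 771, .fwd 0] [] (.free), .derive 23038 [.fwd 0] [] (.free),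
  .derive 1287 [.bwd 0, .bwd 722] [6] (.free), .derive 1327 [.edge 6, .fwd 0] [] (.free), .derive 23062 [.bwd 0] [] (.free), .derive 1327 [.bwd 0, .bwd 710] [4] (.free), .derive 1326 [.edge 4, .fwd 0] [] (.free), .derive 23069 [.bwd 0] [] (.free), .derive 1326 [.bwd 0, .fwd 712] [6] (.free), .derive 1286 [.edge 6, .fwd 0] [] (.free),
  .derive 23058 [.bwd 0] [] (.free), .derive 1286 [.bwd 0, .fwd 738] [3] (.free), .derive 1285 [.edge 3, .fwd 0] [] (.free), .derive 23040 [.bwd 0] [] (.free)]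
def ph17_p1_4 : List Aux := [
  .derive 1285 [.bwd 0, .bwd 727] [6] (.free), .derive 1325 [.edge 6, .fwd 0] [] (.free), .derive 23066 [.bwd 0] [] (.free), .derive 1325 [.bwd 0, .bwd 728] [4] (.free), .derive 1324 [.edge 4, .fwd 0] [] (.free), .derive 23067 [.bwd 0] [] (.free), .derive 1324 [.bwd 0, .fwd 730] [6] (.free), .derive 1284 [.edge 6, .fwd 0] [] (.free),
  .derive 23042 [.bwd 0] [] (.free), .derive 1284 [.bwd 0, .fwd 787] [3] (.free), .derive 1283 [.edge 3, .fwd 0] [] (.free), .derive 23037 [.bwd 0] [] (.free), .derive 1283 [.bwd 0, .bwd 750] [6] (.free), .derive 1323 [.edge 6, .fwd 0] [] (.free), .derive 23060 [.bwd 0] [] (.free), .derive 1323 [.bwd 0, .bwd 751] [4] (.free),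
  .derive 1328 [.edge 4, .fwd 0] [] (.free), .derive 23061 [.bwd 0] [] (.free), .derive 23106 [.bwd 665, .bwd 0, .bwd 755, .edge 5, .bwd 50, .fwd 779] [1] (.rel 19), .derive 23014 [.bwd 853, .bwd 0, .fwd 664] [1] (.rel 17), .derive 22986 [.bwd 903, .fwd 901, .fwd 900, .edge 1, .edge 0, .edge 5, .edge 2, .edge 1, .bwd 687, .bwd 688, .edge 2, .edge 1, .edge 0, .fwd 686, .bwd 666, .fwd 1, .bwd 855, .edge 5, .fwd 780] [1] (.rel 77), .derive 23055 [.bwd 770, .edge 2, .edge 1, .fwd 781, .bwd 0, .fwd 903] [] (.rel 12), .derive 23055 [.fwd 0] [] (.free), .derive 23102 [.fwd 680, .bwd 3, .bwd 854] [1] (.rel 15),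
  .derive 23023 [.fwd 845, .bwd 0, .bwd 677] [1] (.rel 17), .derive 23219 [.bwd 456, .edge 1, .edge 2, .bwd 34, .bwd 760, .edge 2, .edge 1] [] (.rel 13), .derive 23219 [.fwd 0] [] (.free), .derive 4428 [.bwd 0, .bwd 118] [6] (.free), .derive 9205 [.edge 6, .fwd 0] [] (.free), .derive 23406 [.bwd 0] [] (.free), .derive 9205 [.bwd 0, .fwd 122] [5] (.free), .derive 9187 [.edge 5, .fwd 0] [] (.free),
  .derive 23401 [.bwd 0] [] (.free), .derive 9187 [.bwd 0, .fwd 137] [6] (.free), .derive 9183 [.edge 6, .fwd 0] [] (.free), .derive 23398 [.bwd 0] [] (.free), .derive 9183 [.bwd 0, .fwd 147] [5] (.free), .derive 9162 [.edge 5, .fwd 0] [] (.free), .derive 23394 [.bwd 0] [] (.free), .derive 9162 [.bwd 0, .bwd 138] [6] (.free),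
  .derive 9201 [.edge 6, .fwd 0] [] (.free), .derive 23403 [.bwd 0] [] (.free), .derive 9201 [.bwd 0, .fwd 142] [5] (.free), .derive 9200 [.edge 5, .fwd 0] [] (.free), .derive 23402 [.bwd 0] [] (.free), .derive 9200 [.bwd 0, .fwd 147] [6] (.free), .derive 9168 [.edge 6, .fwd 0] [] (.free), .derive 23396 [.bwd 0] [] (.free),
  .derive 9168 [.bwd 0, .fwd 163] [4] (.free), .derive 9167 [.edge 4, .fwd 0] [] (.free), .derive 23395 [.bwd 0] [] (.free), .derive 9167 [.bwd 0, .bwd 145] [6] (.free), .derive 9203 [.edge 6, .fwd 0] [] (.free), .derive 23405 [.bwd 0] [] (.free), .derive 9203 [.bwd 0, .fwd 149] [5] (.free), .derive 9202 [.edge 5, .fwd 0] [] (.free),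
  .derive 23404 [.bwd 0] [] (.free), .derive 9202 [.bwd 0, .fwd 154] [6] (.free), .derive 9161 [.edge 6, .fwd 0] [] (.free), .derive 23393 [.bwd 0] [] (.free), .derive 9161 [.bwd 0, .bwd 173] [5] (.free), .derive 9184 [.edge 5, .fwd 0] [] (.free), .derive 23397 [.bwd 0] [] (.free), .derive 9184 [.bwd 0, .bwd 169] [6] (.free),
  .derive 9186 [.edge 6, .fwd 0] [] (.free), .derive 23400 [.bwd 0] [] (.free), .derive 9186 [.bwd 0, .fwd 173] [5] (.free), .derive 9185 [.edge 5, .fwd 0] [] (.free), .derive 23399 [.bwd 0] [] (.free), .derive 9185 [.bwd 0, .fwd 178] [6] (.free), .derive 4427 [.edge 6, .fwd 0] [] (.free), .derive 23218 [.bwd 0] [] (.free),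
  .derive 4427 [.bwd 0, .bwd 504] [2] (.free), .derive 23180 [.bwd 575, .fwd 0] [] (.free), .derive 23180 [.fwd 0] [] (.free), .derive 4465 [.bwd 0, .bwd 345] [6] (.free), .derive 9436 [.edge 6, .fwd 0] [] (.free), .derive 23315 [.bwd 0] [] (.free), .derive 9436 [.bwd 0, .bwd 346] [5] (.free), .derive 9437 [.edge 5, .fwd 0] [] (.free),
  .derive 23316 [.bwd 0] [] (.free), .derive 9437 [.bwd 0, .fwd 348] [6] (.free), .derive 9431 [.edge 6, .fwd 0] [] (.free), .derive 23314 [.bwd 0] [] (.free), .derive 9431 [.bwd 0, .fwd 356] [5] (.free), .derive 9418 [.edge 5, .fwd 0] [] (.free), .derive 23309 [.bwd 0] [] (.free), .derive 9418 [.bwd 0, .bwd 345] [6] (.free),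
  .derive 9453 [.edge 6, .fwd 0] [] (.free), .derive 23320 [.bwd 0] [] (.free), .derive 9453 [.bwd 0, .bwd 346] [5] (.free), .derive 9454 [.edge 5, .fwd 0] [] (.free), .derive 23321 [.bwd 0] [] (.free), .derive 9454 [.bwd 0, .fwd 348] [6] (.free), .derive 9424 [.edge 6, .fwd 0] [] (.free), .derive 23311 [.bwd 0] [] (.free),
  .derive 9424 [.bwd 0, .bwd 372] [4] (.free), .derive 9425 [.edge 4, .fwd 0] [] (.free), .derive 23312 [.bwd 0] [] (.free), .derive 9425 [.bwd 0, .bwd 362] [6] (.free)]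
def ph17_p1 : List Aux :=
  ((ph17_p1_0 ++ ph17_p1_1) ++ (ph17_p1_2 ++ (ph17_p1_3 ++ ph17_p1_4)))

theorem ph17_p1_ok : stHas (runList (auxStep' P) ph17_p1 (mkSt 23242 mask23 ph17_eq1)) 23430 mask23 ph17_eq2 = true := by decide +kernel

end Cfsg.Agent.CosetData.SuzB
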