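import Cfsg.Agent.Lib.Compute.CosetData.SuzBAux

/-! Coset enumeration certificate data (S1681). -/

set_option autoImplicit false
set_option maxRecDepth 100000
set_option Elab.async false

namespace Cfsg.Agent.CosetData.SuzB

open Cfsg.Agent.CosetCert

def ph17_p2_0 : List Aux := [
  .derive 9451 [.edge 6, .fwd 0] [] (.free), .derive 23318 [.bwd 0] [] (.free), .derive 9451 [.bwd 0, .bwd 363] [5] (.free), .derive 9452 [.edge 5, .fwd 0] [] (.free), .derive 23319 [.bwd 0] [] (.free), .derive 9452 [.bwd 0, .fwd 365] [6] (.free), .derive 9419 [.edge 6, .fwd 0] [] (.free), .derive 23310 [.bwd 0] [] (.free),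
  .derive 9419 [.bwd 0, .bwd 382] [5] (.free), .derive 9432 [.edge 5, .fwd 0] [] (.free), .derive 23313 [.bwd 0] [] (.free), .derive 9432 [.bwd 0, .bwd 376] [6] (.free), .derive 9438 [.edge 6, .fwd 0] [] (.free), .derive 23317 [.bwd 0] [] (.free), .derive 9438 [.bwd 0, .bwd 366] [5] (.free), .derive 9456 [.edge 5, .fwd 0] [] (.free),
  .derive 23322 [.bwd 0] [] (.free), .derive 9456 [.bwd 0, .fwd 370] [1] (.free), .derive 9457 [.edge 1, .fwd 0] [] (.free), .derive 23297 [.bwd 0] [] (.free), .derive 9457 [.bwd 0, .fwd 426] [6] (.free), .derive 4470 [.edge 6, .fwd 0] [] (.free), .derive 23177 [.bwd 0] [] (.free), .derive 4470 [.bwd 0, .bwd 417] [5] (.free),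
  .derive 9527 [.edge 5, .fwd 0] [] (.free), .derive 23303 [.bwd 0] [] (.free), .derive 9527 [.bwd 0, .bwd 415] [4] (.free), .derive 9507 [.edge 4, .fwd 0] [] (.free), .derive 23305 [.bwd 0] [] (.free), .derive 9507 [.bwd 0, .fwd 417] [5] (.free), .derive 4469 [.edge 5, .fwd 0] [] (.free), .derive 23179 [.bwd 0] [] (.free),
  .derive 4469 [.bwd 0, .bwd 433] [6] (.free), .derive 9458 [.edge 6, .fwd 0] [] (.free), .derive 23300 [.bwd 0] [] (.free), .derive 9458 [.bwd 0, .bwd 437] [2] (.free), .derive 23407 [.bwd 226, .fwd 0] [] (.free), .derive 23407 [.fwd 0] [] (.free), .derive 8935 [.bwd 0, .fwd 227] [6] (.free), .derive 4381 [.edge 6, .fwd 0] [] (.free),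
  .derive 23220 [.bwd 0] [] (.free), .derive 4381 [.bwd 0, .bwd 225] [5] (.free), .derive 8950 [.edge 5, .fwd 0] [] (.free), .derive 23410 [.bwd 0] [] (.free), .derive 8950 [.bwd 0, .bwd 225] [6] (.free), .derive 23306 [.bwd 432, .fwd 0] [] (.free), .derive 23411 [.bwd 0] [] (.free), .derive 23306 [.bwd 0, .fwd 229] [5] (.free),
  .derive 23299 [.bwd 434, .fwd 0] [] (.free), .derive 23409 [.bwd 0] [] (.free), .derive 23299 [.bwd 0, .fwd 236] [6] (.free), .derive 23178 [.bwd 454, .fwd 0] [] (.free), .derive 23408 [.bwd 0] [] (.free), .derive 23178 [.bwd 0, .bwd 228] [5] (.free), .derive 23304 [.fwd 446, .fwd 0] [] (.free), .derive 23415 [.bwd 0] [] (.free),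
  .derive 23304 [.bwd 0, .bwd 228] [6] (.free), .derive 23301 [.bwd 448, .fwd 0] [] (.free), .derive 23416 [.bwd 0] [] (.free), .derive 23301 [.bwd 0, .fwd 232] [4] (.free), .derive 23298 [.bwd 459, .fwd 0] [] (.free), .derive 23412 [.bwd 0] [] (.free), .derive 23298 [.bwd 0, .bwd 239] [6] (.free), .derive 23302 [.fwd 459, .fwd 0] [] (.free),
  .derive 23414 [.bwd 0] [] (.free), .derive 23192 [.bwd 641, .edge 1, .edge 2, .bwd 162, .bwd 893, .edge 2, .edge 1] [] (.rel 13), .derive 23192 [.fwd 0] [] (.free), .derive 4232 [.bwd 0, .bwd 638] [4] (.free), .derive 4233 [.edge 4, .fwd 0] [] (.free), .derive 23196 [.bwd 0] [] (.free), .derive 4233 [.bwd 0, .bwd 642] [2] (.free), .derive 23162 [.bwd 702, .fwd 0] [] (.free),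
  .derive 23162 [.fwd 0] [] (.free), .derive 4443 [.bwd 0, .fwd 703] [4] (.free), .derive 4442 [.edge 4, .fwd 0] [] (.free), .derive 23158 [.bwd 0] [] (.free), .derive 23160 [.bwd 710, .bwd 9, .bwd 652, .fwd 650] [2] (.rel 29), .derive 23199 [.fwd 642, .bwd 0, .bwd 701] [2] (.rel 25), .derive 23253 [.bwd 561, .fwd 560, .fwd 559, .fwd 562, .edge 0, .edge 5, .edge 2, .edge 1, .edge 0, .edge 5, .edge 2, .edge 1, .edge 0, .edge 5, .edge 2, .bwd 196, .bwd 865, .edge 0, .fwd 996, .bwd 770] [1] (.rel 77), .derive 23213 [.fwd 619, .bwd 0, .bwd 544] [1] (.rel 15),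
  .derive 23124 [.bwd 771, .bwd 1, .bwd 558] [1] (.rel 17), .derive 23287 [.bwd 507, .edge 5, .edge 1, .fwd 774, .bwd 2] [5] (.rel 18), .derive 23254 [.bwd 564, .fwd 565, .bwd 0] [0] (.rel 9), .derive 23264 [.fwd 548, .bwd 1, .bwd 505] [5] (.rel 32), .derive 23289 [.bwd 0, .bwd 550, .fwd 546] [0] (.rel 9), .derive 23259 [.fwd 558, .bwd 4, .bwd 641] [1] (.rel 15), .node 10537 1, .node 10542 1,
  .derive 23431 [.bwd 0, .edge 3, .fwd 1] [3] (.rel 14), .node 10542 2, .node 10558 2, .node 10559 2, .derive 23434 [.bwd 0, .edge 0, .fwd 1] [0] (.rel 3), .derive 23434 [.bwd 1, .edge 5, .fwd 3] [5] (.rel 26), .node 11838 1, .node 11839 1,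
  .derive 23436 [.bwd 0, .edge 4, .fwd 1] [4] (.rel 16), .node 11840 1, .node 11841 1, .derive 23438 [.bwd 0, .edge 4, .fwd 1] [4] (.rel 16)]
def ph17_p2_1 : List Aux := [
  .node 11843 1, .derive 23439 [.bwd 0, .edge 5, .edge 1, .edge 5, .fwd 267] [5] (.rel 18), .node 11843 3, .derive 23440 [.bwd 0, .edge 5, .fwd 268] [5] (.rel 32), .node 11844 1, .derive 23441 [.bwd 0, .edge 4, .fwd 4] [4] (.rel 16), .derive 23441 [.bwd 1, .edge 5, .edge 1, .edge 5, .fwd 269] [5] (.rel 18), .node 11844 3,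
  .derive 23442 [.bwd 0, .edge 5, .fwd 272] [5] (.rel 32), .node 11886 3, .node 11887 3, .derive 23444 [.bwd 0, .edge 5, .fwd 1] [5] (.rel 32), .node 11888 3, .node 11889 3, .derive 23446 [.bwd 0, .edge 5, .fwd 1] [5] (.rel 32), .node 11918 3,
  .derive 23447 [.bwd 0, .edge 6, .fwd 8] [6] (.rel 34), .node 11919 3, .derive 23448 [.bwd 0, .edge 6, .fwd 8] [6] (.rel 34), .node 11920 3, .derive 23449 [.bwd 0, .edge 6, .fwd 6] [6] (.rel 34), .node 11921 3, .derive 23450 [.bwd 0, .edge 5, .fwd 2] [5] (.rel 32), .derive 23450 [.bwd 1, .edge 6, .fwd 288] [6] (.rel 34),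
  .node 11949 3, .derive 23451 [.bwd 0, .edge 5, .fwd 7] [5] (.rel 32), .derive 23451 [.bwd 1, .edge 6, .fwd 290] [6] (.rel 34), .node 11951 3, .derive 23452 [.bwd 0, .edge 6, .fwd 25] [6] (.rel 34), .node 15404 0, .derive 23453 [.bwd 0, .edge 5, .fwd 656] [5] (.rel 8), .node 15405 0,
  .derive 23454 [.bwd 0, .edge 4, .fwd 2] [4] (.rel 6), .node 17654 1, .node 17655 1, .derive 23456 [.bwd 0, .edge 3, .fwd 1] [3] (.rel 14), .node 17659 1, .derive 23457 [.bwd 0, .edge 4, .fwd 3] [4] (.rel 16), .node 17968 1, .derive 23458 [.bwd 0, .edge 4, .fwd 649] [4] (.rel 16),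
  .node 20945 0, .node 20945 2, .node 20945 4, .node 20945 5, .node 20945 6, .node 20951 0, .node 20951 2, .node 20951 4,
  .derive 23466 [.bwd 0, .edge 1, .fwd 606] [1] (.rel 17), .node 20951 5, .node 20951 6, .node 20952 5, .derive 23469 [.bwd 0, .edge 1, .edge 5, .edge 1, .fwd 2] [1] (.rel 19), .node 20952 6, .derive 23470 [.bwd 0, .edge 1, .edge 6, .edge 1, .fwd 9] [1] (.rel 21), .node 20953 3,
  .derive 23471 [.bwd 0, .edge 1, .edge 3] [1] (.rel 15), .node 20953 4, .derive 23472 [.bwd 0, .edge 1, .fwd 613] [1] (.rel 17), .node 20953 5, .derive 23473 [.bwd 0, .edge 2, .fwd 8] [2] (.rel 27), .node 20953 6, .derive 23474 [.bwd 0, .edge 2, .fwd 8] [2] (.rel 29), .node 20954 0,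
  .derive 23475 [.bwd 0, .edge 3, .fwd 621] [3] (.rel 4), .derive 21166 [.edge 3, .edge 2, .edge 3, .bwd 89, .bwd 801, .edge 3, .edge 2, .edge 3, .fwd 1] [2] (.rel 52), .node 20954 2, .derive 23476 [.bwd 0, .fwd 3, .bwd 1] [0] (.rel 3), .node 20954 4, .node 20954 5, .derive 23478 [.bwd 0, .edge 3, .fwd 623] [3] (.rel 33), .node 20954 6,
  .node 21157 0, .node 21157 2, .node 21157 4, .derive 23482 [.bwd 0, .edge 1, .fwd 526] [1] (.rel 17), .node 21157 5, .node 21157 6, .node 21158 5, .node 21158 6,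
  .node 21159 5, .derive 23487 [.bwd 0, .edge 4, .fwd 2] [4] (.rel 37), .node 21159 6, .node 21162 6, .derive 23489 [.bwd 0, .edge 3, .fwd 4] [3] (.rel 35), .node 21163 0, .node 21163 2, .node 21163 4,
  .derive 23492 [.bwd 0, .edge 1, .fwd 525] [1] (.rel 17), .node 21163 5, .node 21163 6, .node 21164 4, .derive 23495 [.bwd 0, .edge 1, .fwd 525] [1] (.rel 17), .node 21164 5, .node 21164 6, .node 21165 3,
  .derive 23498 [.bwd 0, .edge 1, .edge 3] [1] (.rel 15), .node 21165 4, .derive 23499 [.bwd 0, .edge 1, .fwd 514] [1] (.rel 17), .node 21165 5]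
def ph17_p2_2 : List Aux := [
  .derive 23500 [.bwd 0, .edge 2, .fwd 6] [2] (.rel 27), .node 21165 6, .derive 23501 [.bwd 0, .edge 2, .fwd 7] [2] (.rel 29), .node 21166 4, .node 21166 5, .derive 23503 [.bwd 0, .edge 3, .fwd 519] [3] (.rel 33), .node 21166 6, .derive 23504 [.bwd 0, .edge 3, .fwd 520] [3] (.rel 35),
  .node 21167 1, .derive 23505 [.bwd 0, .edge 3, .fwd 516] [3] (.rel 14), .node 21167 4, .derive 23506 [.bwd 0, .edge 3, .edge 4, .edge 3, .fwd 544] [3] (.rel 31), .node 21167 5, .node 21168 4, .derive 23508 [.bwd 0, .edge 3, .edge 4, .edge 3, .fwd 551] [3] (.rel 31), .derive 23508 [.bwd 1, .edge 6, .fwd 4] [6] (.rel 38),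
  .node 21168 5, .node 21169 1, .derive 23510 [.bwd 0, .edge 3, .fwd 497] [3] (.rel 14), .node 21169 4, .derive 23511 [.bwd 0, .edge 3, .edge 4, .edge 3, .fwd 571] [3] (.rel 31), .node 21169 5, .derive 23512 [.bwd 0, .edge 3, .fwd 499] [3] (.rel 33), .derive 23512 [.bwd 1, .bwd 521, .fwd 522, .fwd 6] [6] (.rel 67),
  .node 22974 3, .node 22975 5, .derive 23514 [.bwd 0, .fwd 1223, .edge 5, .fwd 1075, .fwd 303, .bwd 904] [1] (.rel 19), .node 22984 6, .derive 23515 [.bwd 0, .bwd 1213, .edge 5, .fwd 905] [5] (.rel 68), .node 22985 5, .derive 23516 [.bwd 0, .bwd 1214, .edge 5, .fwd 907, .bwd 1, .bwd 2, .bwd 908] [6] (.rel 40), .derive 22995 [.bwd 1199, .edge 1, .edge 6, .edge 5, .edge 1, .fwd 1229, .fwd 5, .fwd 4, .bwd 0, .bwd 1, .bwd 1206, .bwd 1207, .fwd 1209, .bwd 1208] [6] (.rel 82),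
  .derive 22988 [.bwd 1211, .fwd 1210, .bwd 0, .bwd 1200, .fwd 1199] [] (.rel 69), .derive 22996 [.bwd 0] [] (.free), .derive 22988 [.bwd 0, .fwd 1200] [4] (.free), .derive 22991 [.fwd 1208, .fwd 0] [] (.free), .derive 22994 [.bwd 0] [] (.free), .derive 22991 [.bwd 0, .bwd 1206] [6] (.free), .node 22991 3, .derive 23517 [.bwd 0, .bwd 1213, .fwd 1211] [0] (.rel 5),
  .derive 23517 [.bwd 1, .fwd 2, .fwd 1211] [6] (.rel 34), .node 22992 2, .node 22993 2, .derive 23519 [.bwd 0, .fwd 1213, .edge 2, .edge 1, .fwd 1208] [1] (.rel 13), .node 22997 3, .derive 23520 [.bwd 0, .bwd 1024, .bwd 1025, .edge 3, .edge 2, .edge 3, .edge 2, .fwd 965] [2] (.rel 58), .node 23008 3, .derive 23521 [.bwd 0, .fwd 1192, .fwd 22] [1] (.rel 15),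
  .node 23010 1, .node 23010 2, .derive 23523 [.bwd 0, .bwd 1192, .fwd 1191] [0] (.rel 3), .node 23010 6, .derive 23524 [.bwd 0, .bwd 1194, .fwd 1192, .fwd 1146] [5] (.rel 68), .derive 23084 [.bwd 1045, .bwd 344, .bwd 1132, .edge 5, .fwd 1148, .bwd 0] [1] (.rel 19), .node 23011 5, .derive 23525 [.bwd 0, .bwd 1196, .fwd 1195] [2] (.rel 27),
  .node 23020 1, .derive 23526 [.bwd 0, .fwd 1184, .fwd 8] [4] (.rel 16), .node 23020 6, .derive 23527 [.bwd 0, .bwd 1187, .fwd 1185, .bwd 1157] [5] (.rel 68), .derive 23086 [.bwd 1048, .bwd 360, .bwd 1142, .edge 5, .fwd 1159, .bwd 0] [1] (.rel 19), .node 23030 5, .derive 23528 [.bwd 0, .fwd 1162, .bwd 1145] [0] (.rel 9), .node 23036 5,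
  .derive 23529 [.bwd 0, .fwd 1151, .bwd 1114] [0] (.rel 9), .node 23039 1, .derive 23530 [.bwd 0, .bwd 1150, .edge 1, .edge 2, .fwd 1076] [2] (.rel 12), .node 23041 1, .node 23043 1, .derive 23532 [.bwd 0, .bwd 1146, .fwd 1148, .fwd 360, .edge 2, .fwd 991] [2] (.rel 12), .derive 23532 [.bwd 1, .fwd 1146, .fwd 2] [4] (.rel 16), .node 23044 1,
  .node 23046 1, .node 23047 2, .derive 23535 [.bwd 0, .bwd 1144, .fwd 1142] [0] (.rel 3), .node 23048 1, .derive 23536 [.bwd 0, .fwd 1143, .fwd 3] [4] (.rel 16), .node 23054 1, .derive 23537 [.bwd 0, .bwd 1129, .edge 1, .edge 2, .fwd 1092] [2] (.rel 12), .node 23057 1,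
  .derive 23538 [.bwd 0, .fwd 1123, .fwd 8] [4] (.rel 16), .node 23072 0, .derive 23539 [.bwd 0, .bwd 1095, .bwd 3, .bwd 4, .bwd 17, .bwd 18, .bwd 1170, .fwd 1173, .bwd 1171, .edge 5, .fwd 1226, .fwd 1225, .bwd 1174, .bwd 1157, .bwd 1159, .fwd 1161, .fwd 373, .edge 0, .fwd 1273, .bwd 1021] [1] (.rel 77), .node 23072 3, .derive 23540 [.bwd 0, .bwd 1097, .fwd 0] [5] (.rel 32), .node 23072 6, .derive 23541 [.bwd 0, .bwd 1100, .edge 6, .edge 1, .fwd 911] [1] (.rel 21), .node 23074 0,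
  .derive 23542 [.bwd 0, .bwd 1096, .bwd 21, .bwd 22, .bwd 25, .bwd 26, .bwd 1189, .fwd 1193, .bwd 1191, .edge 5, .fwd 1212, .fwd 1211, .bwd 1184, .bwd 1168, .bwd 1169, .fwd 1170, .fwd 388, .edge 0, .fwd 1208, .bwd 995] [1] (.rel 77), .node 23074 6, .derive 23543 [.bwd 0, .bwd 1100, .edge 6, .edge 1, .fwd 924] [1] (.rel 21), .node 23075 0, .node 23075 2, .derive 23545 [.bwd 0, .bwd 1100, .edge 2, .fwd 1123, .fwd 435, .fwd 19] [1] (.rel 13), .node 23075 5, .derive 23546 [.bwd 0, .bwd 1102, .edge 5, .edge 1, .fwd 930] [1] (.rel 19),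
  .node 23075 6, .node 23076 0, .derive 23548 [.bwd 0, .fwd 1103, .fwd 6] [4] (.rel 6), .node 23076 3]
def ph17_p2_3 : List Aux := [
  .derive 23549 [.bwd 0, .bwd 1106, .fwd 1104] [1] (.rel 15), .node 23076 5, .node 23076 6, .derive 23551 [.bwd 0, .bwd 1109, .edge 6, .fwd 1109, .fwd 0] [1] (.rel 21), .derive 23551 [.bwd 1, .fwd 1109, .fwd 7] [4] (.rel 39), .node 23077 4, .node 23094 1, .derive 23553 [.bwd 0, .bwd 1065, .fwd 383, .bwd 1239, .edge 1, .edge 0, .edge 1, .fwd 1249, .fwd 58] [0] (.rel 1),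
  .derive 23553 [.bwd 1, .bwd 1082, .edge 1, .edge 5, .fwd 997] [5] (.rel 18), .derive 23553 [.bwd 2, .fwd 1082, .fwd 55, .bwd 57, .fwd 60] [6] (.rel 20), .node 23095 1, .derive 23554 [.bwd 0, .bwd 1065, .bwd 386, .bwd 1233, .edge 1, .edge 0, .edge 1, .fwd 1239, .fwd 54] [0] (.rel 1), .derive 23554 [.bwd 1, .bwd 1084, .edge 1, .edge 5, .fwd 999] [5] (.rel 18), .derive 23554 [.bwd 2, .fwd 1084, .fwd 52, .bwd 54, .fwd 56] [6] (.rel 20), .node 23099 3, .derive 23555 [.bwd 0, .bwd 1078, .bwd 1079, .edge 3, .edge 2, .edge 3, .edge 2, .fwd 1051] [2] (.rel 58),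
  .node 23100 1, .node 23100 3, .derive 23557 [.bwd 0, .bwd 1082, .edge 3, .edge 2, .edge 3, .edge 2, .fwd 1054, .bwd 2, .bwd 3, .bwd 1083, .edge 3, .edge 2, .edge 3, .edge 2, .fwd 1033] [2] (.rel 23), .derive 23557 [.bwd 1, .fwd 1081, .fwd 74] [6] (.rel 34), .node 23108 4, .node 23108 5, .node 23110 0, .node 23110 3,
  .derive 23561 [.bwd 0, .bwd 1062, .fwd 1060] [1] (.rel 15), .node 23110 5, .derive 23562 [.bwd 0, .bwd 1014, .bwd 17] [2] (.rel 27), .node 23111 4, .derive 23563 [.bwd 0, .fwd 1063, .fwd 7] [6] (.rel 38), .node 23111 5, .node 23112 1, .node 23113 0,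
  .derive 23566 [.bwd 0, .fwd 1063, .fwd 9] [4] (.rel 6), .node 23113 5, .derive 23567 [.bwd 0, .bwd 1020, .bwd 21] [2] (.rel 27), .node 23114 1, .derive 23568 [.bwd 0, .fwd 1064, .fwd 5] [4] (.rel 16), .node 23115 1, .node 23116 0, .node 23116 5,
  .node 23116 6, .node 23117 1, .node 23118 0, .derive 23574 [.bwd 0, .fwd 1064, .fwd 4] [4] (.rel 6), .node 23118 3, .derive 23575 [.bwd 0, .bwd 1067, .fwd 1065] [1] (.rel 15), .node 23118 5, .node 23118 6,
  .derive 23577 [.bwd 0, .fwd 1069, .fwd 7] [4] (.rel 39), .node 23119 4, .derive 23578 [.bwd 0, .bwd 1070, .edge 4, .edge 3, .fwd 939] [3] (.rel 31), .node 23119 5, .derive 23579 [.bwd 0, .bwd 1072, .fwd 1071] [3] (.rel 33), .derive 23579 [.bwd 1, .bwd 1066, .fwd 1067, .fwd 23] [6] (.rel 67), .node 23120 1, .derive 23580 [.bwd 0, .fwd 1072, .fwd 13] [4] (.rel 16),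
  .node 23121 4, .derive 23581 [.bwd 0, .fwd 1071, .fwd 29] [0] (.rel 7), .derive 23581 [.bwd 1, .fwd 1071, .fwd 8] [6] (.rel 38), .node 23121 5, .derive 23582 [.bwd 0, .bwd 1075, .fwd 1072] [3] (.rel 33), .derive 23582 [.bwd 1, .fwd 1074, .fwd 9, .fwd 7, .bwd 31, .fwd 1096, .fwd 39] [6] (.rel 40), .node 23122 1, .derive 23583 [.bwd 0, .fwd 1073, .fwd 25] [4] (.rel 16),
  .node 23132 0, .derive 23584 [.bwd 0, .fwd 1053, .fwd 42] [2] (.rel 2), .derive 23584 [.bwd 1, .bwd 57, .fwd 58] [5] (.rel 8), .node 23133 0, .derive 23585 [.bwd 0, .fwd 1054, .fwd 36] [2] (.rel 2), .derive 23585 [.bwd 1, .bwd 56, .fwd 57] [5] (.rel 8), .node 23135 2, .derive 23586 [.bwd 0, .bwd 1055, .edge 2, .edge 1, .fwd 900] [1] (.rel 13),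
  .derive 23586 [.bwd 1, .fwd 1055, .bwd 1039, .bwd 1329, .edge 3, .edge 2, .edge 3, .fwd 899] [3] (.rel 57), .node 23141 2, .node 23142 1, .node 23142 3, .derive 23589 [.bwd 0, .fwd 1039, .fwd 129] [5] (.rel 32), .derive 23589 [.bwd 1, .bwd 1036, .bwd 1037, .edge 3, .edge 2, .edge 3, .edge 2, .fwd 1035] [2] (.rel 58), .node 23143 1, .derive 23590 [.bwd 0, .fwd 1040, .fwd 4] [4] (.rel 16),
  .node 23146 2, .node 23147 2, .derive 23592 [.bwd 0, .bwd 1038, .edge 0, .edge 2, .edge 3, .edge 2, .fwd 1039, .fwd 1] [3] (.rel 57), .node 23150 2, .derive 23593 [.bwd 0, .bwd 1036, .edge 2, .edge 3, .edge 2, .fwd 1041, .fwd 3, .bwd 1, .bwd 2, .bwd 1040, .edge 2, .edge 3, .edge 2, .fwd 1050, .fwd 10] [3] (.rel 22), .node 23151 1, .derive 23594 [.bwd 0, .fwd 1035, .fwd 1329, .bwd 1259, .fwd 114] [5] (.rel 18), .node 23152 0,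
  .derive 23595 [.bwd 0, .fwd 1035, .fwd 100] [3] (.rel 4), .derive 23185 [.fwd 981, .bwd 100, .bwd 0] [1] (.rel 15), .node 23152 2, .derive 23596 [.bwd 0, .bwd 1039, .edge 2, .edge 1, .fwd 249] [1] (.rel 13), .derive 23596 [.bwd 1, .bwd 1038, .fwd 1] [5] (.rel 26), .node 23152 4, .derive 23597 [.bwd 0, .bwd 1042, .fwd 1039] [1] (.rel 17), .node 23152 6,
  .derive 23598 [.bwd 0, .bwd 1044, .edge 6, .edge 1, .fwd 1014] [1] (.rel 21), .node 23154 0, .node 23154 2, .derive 23600 [.bwd 0, .bwd 1043, .edge 2, .edge 1, .fwd 252] [1] (.rel 13)]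
def ph17_p2_4 : List Aux := [
  .node 23154 5, .derive 23601 [.bwd 0, .bwd 1045, .edge 5, .edge 1, .fwd 1020] [1] (.rel 19), .node 23154 6, .derive 23602 [.bwd 0, .fwd 1046, .fwd 106] [3] (.rel 35), .node 23157 1, .node 23157 5, .derive 23604 [.bwd 0, .bwd 1043, .fwd 1041] [0] (.rel 9), .node 23157 6,
  .derive 23605 [.bwd 0, .bwd 1045, .fwd 1042] [0] (.rel 11), .node 23159 6, .derive 23606 [.bwd 0, .bwd 3, .bwd 4, .fwd 2] [5] (.rel 68), .node 23160 5, .derive 23607 [.bwd 0, .bwd 1046, .fwd 1047, .fwd 2, .fwd 1, .bwd 4, .fwd 6] [6] (.rel 40), .node 23161 1, .derive 23608 [.bwd 0, .bwd 1047, .edge 1, .edge 0, .fwd 1228, .fwd 132, .fwd 131, .bwd 1132, .fwd 59] [0] (.rel 1), .derive 23608 [.bwd 1, .fwd 1047, .fwd 10] [4] (.rel 16),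
  .node 23161 3, .derive 23609 [.bwd 0, .bwd 1050, .fwd 1046] [0] (.rel 5), .node 23161 5, .derive 23610 [.bwd 0, .bwd 1052, .fwd 1046] [0] (.rel 9), .derive 23610 [.bwd 1, .fwd 1052, .fwd 14] [4] (.rel 37), .node 23161 6, .node 23163 2, .node 23163 4,
  .derive 23613 [.bwd 0, .bwd 1053, .edge 4, .edge 3, .fwd 1045] [3] (.rel 31), .node 23163 5, .node 23163 6, .derive 23615 [.bwd 0, .bwd 1056, .fwd 1052] [3] (.rel 35), .node 23164 6, .derive 23616 [.bwd 0, .bwd 9, .bwd 10, .fwd 7] [5] (.rel 68), .node 23165 5, .derive 23617 [.bwd 0, .bwd 1056, .fwd 1058, .fwd 2, .fwd 1, .bwd 9, .fwd 12] [6] (.rel 40),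
  .node 23166 1, .derive 23618 [.bwd 0, .fwd 1055, .fwd 28] [3] (.rel 14), .node 23166 4, .derive 23619 [.bwd 0, .bwd 1058, .fwd 1056] [0] (.rel 7), .node 23166 5, .derive 23620 [.bwd 0, .bwd 1060, .fwd 1056] [0] (.rel 9), .derive 23620 [.bwd 1, .fwd 1060, .fwd 32] [3] (.rel 33), .node 23166 6,
  .node 23167 5, .derive 23622 [.bwd 0, .bwd 1062, .fwd 1060] [4] (.rel 37), .node 23167 6, .node 23168 6, .derive 23624 [.bwd 0, .bwd 6, .bwd 7, .fwd 4] [5] (.rel 68), .node 23169 5, .derive 23625 [.bwd 0, .bwd 1064, .fwd 1065, .fwd 2, .fwd 1, .bwd 6, .fwd 9] [6] (.rel 40), .node 23173 1,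
  .derive 23626 [.bwd 0, .fwd 1058, .fwd 874] [4] (.rel 16), .derive 23626 [.bwd 1, .bwd 1060, .edge 1, .fwd 1153, .fwd 368] [5] (.rel 18), .derive 23257 [.bwd 927, .fwd 929, .bwd 0] [0] (.rel 9), .node 23173 6, .derive 23627 [.bwd 0, .bwd 1063, .edge 6, .fwd 889, .bwd 696, .fwd 697, .bwd 890] [5] (.rel 41), .node 23181 0, .derive 23628 [.bwd 0, .fwd 1054, .fwd 122] [3] (.rel 4), .derive 23628 [.bwd 1, .bwd 1054, .fwd 1] [6] (.rel 10),
  .node 23181 2, .derive 23629 [.bwd 0, .bwd 1058, .edge 2, .edge 1, .fwd 283] [1] (.rel 13), .node 23181 4, .derive 23630 [.bwd 0, .bwd 1060, .fwd 1057] [1] (.rel 17), .node 23181 5, .derive 23631 [.bwd 0, .fwd 1061, .fwd 127] [3] (.rel 33), .node 23182 5, .derive 23632 [.bwd 0, .bwd 1061, .fwd 1060] [4] (.rel 37),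
  .node 23183 1, .derive 23633 [.bwd 0, .fwd 1061, .fwd 129] [3] (.rel 14), .node 23184 5, .derive 23634 [.bwd 0, .bwd 1062, .fwd 1060] [4] (.rel 37), .node 23186 0, .derive 23635 [.bwd 0, .fwd 1059, .fwd 130] [3] (.rel 4), .node 23186 4, .node 23186 5,
  .derive 23637 [.bwd 0, .fwd 1062, .fwd 132] [3] (.rel 33), .node 23186 6, .derive 23638 [.bwd 0, .bwd 1065, .edge 6, .edge 1, .fwd 1033] [1] (.rel 21), .derive 23638 [.bwd 1, .fwd 1065, .fwd 134] [3] (.rel 35), .node 23187 5, .derive 23639 [.bwd 0, .fwd 1065, .fwd 10] [0] (.rel 9), .derive 23639 [.bwd 1, .bwd 1059, .fwd 1060, .fwd 15] [6] (.rel 67), .node 23188 1,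
  .derive 23640 [.bwd 0, .fwd 1066, .fwd 90, .bwd 92, .bwd 1128, .edge 0, .edge 1, .fwd 1103, .fwd 47] [0] (.rel 1), .derive 23640 [.bwd 1, .fwd 1066, .fwd 139] [3] (.rel 14), .node 23189 5, .derive 23641 [.bwd 0, .fwd 1064, .fwd 6, .fwd 4, .bwd 20, .bwd 1077, .fwd 16] [6] (.rel 40), .node 23190 1, .derive 23642 [.bwd 0, .fwd 1064, .fwd 147] [3] (.rel 14), .node 23191 5, .derive 23643 [.bwd 0, .bwd 1064, .fwd 1062] [0] (.rel 9),
  .node 23191 6, .node 23193 1, .derive 23645 [.bwd 0, .bwd 1065, .edge 1, .fwd 1217, .fwd 152] [5] (.rel 18), .node 23193 6, .derive 23646 [.bwd 0, .bwd 4, .bwd 5, .fwd 3] [5] (.rel 68), .node 23194 5, .derive 23647 [.bwd 0, .bwd 1068, .fwd 1069, .fwd 2, .fwd 1, .bwd 5, .fwd 7] [6] (.rel 40), .node 23195 3,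
  .derive 23648 [.bwd 0, .bwd 1069, .fwd 1066] [0] (.rel 5), .node 23195 5, .derive 23649 [.bwd 0, .bwd 1071, .fwd 1066] [0] (.rel 9), .node 23195 6]
def ph17_p2 : List Aux :=
  ((ph17_p2_0 ++ ph17_p2_1) ++ (ph17_p2_2 ++ (ph17_p2_3 ++ ph17_p2_4)))

theorem ph17_p2_ok : stHas (runList (auxStep' P) ph17_p2 (mkSt 23430 mask23 ph17_eq2)) 23651 mask23 ph17_eq3 = true := by decide +kernel

def ph17_p3_0 : List Aux := [
  .node 23197 2, .node 23197 4, .derive 23652 [.bwd 0, .bwd 1072, .edge 4, .edge 3, .fwd 1065] [3] (.rel 31), .node 23197 5, .node 23197 6, .derive 23654 [.bwd 0, .bwd 1075, .fwd 1071] [3] (.rel 35), .node 23198 1, .derive 23655 [.bwd 0, .fwd 1074, .fwd 17] [4] (.rel 16),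
  .derive 23655 [.bwd 1, .bwd 1076, .edge 1, .fwd 1220, .fwd 145] [5] (.rel 18), .node 23198 6, .derive 23656 [.bwd 0, .bwd 11, .bwd 12, .fwd 10] [5] (.rel 68), .node 23200 4, .derive 23657 [.bwd 0, .bwd 1076, .fwd 1075] [0] (.rel 7), .node 23200 5, .derive 23658 [.bwd 0, .bwd 1078, .fwd 1075] [0] (.rel 9), .node 23200 6,
  .node 23201 5, .derive 23660 [.bwd 0, .bwd 1080, .fwd 1078] [4] (.rel 37), .node 23201 6, .node 23202 1, .derive 23662 [.bwd 0, .bwd 1081, .edge 1, .fwd 1100, .fwd 35] [5] (.rel 18), .node 23202 6, .derive 23663 [.bwd 0, .bwd 7, .bwd 8, .fwd 6] [5] (.rel 68), .node 23203 5,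
  .derive 23664 [.bwd 0, .fwd 1082, .fwd 30] [3] (.rel 33), .derive 23664 [.bwd 1, .bwd 1084, .fwd 1086, .fwd 3, .fwd 2, .bwd 9, .fwd 11] [6] (.rel 40), .node 23205 1, .node 23208 1, .derive 23666 [.bwd 0, .bwd 1076, .edge 1, .edge 5, .fwd 433] [5] (.rel 18), .node 23211 1, .derive 23667 [.bwd 0, .bwd 1073, .edge 1, .fwd 1087, .bwd 444] [5] (.rel 18), .derive 23262 [.bwd 1001, .fwd 1005, .bwd 0] [0] (.rel 9),
  .node 23211 6, .derive 23668 [.bwd 0, .bwd 1076, .edge 6, .fwd 965, .fwd 783, .fwd 784, .bwd 968] [5] (.rel 41), .node 23214 2, .derive 23669 [.bwd 0, .bwd 1074, .fwd 1072] [0] (.rel 3), .derive 23669 [.bwd 1, .fwd 1074, .fwd 779] [5] (.rel 26), .node 23215 1, .derive 23670 [.bwd 0, .bwd 1075, .edge 1, .edge 2, .fwd 880] [2] (.rel 12), .node 23221 3,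
  .derive 23671 [.bwd 0, .bwd 168, .fwd 167] [1] (.rel 15), .node 23222 1, .derive 23672 [.bwd 0, .bwd 1070, .edge 1, .fwd 1097, .fwd 15] [5] (.rel 18), .node 23224 3, .derive 23673 [.bwd 0, .bwd 1070, .fwd 1069] [0] (.rel 5), .node 23225 2, .node 23226 1, .derive 23675 [.bwd 0, .bwd 1070, .edge 1, .edge 2, .fwd 1057] [2] (.rel 12),
  .node 23226 4, .derive 23676 [.bwd 0, .bwd 1072, .fwd 1071] [2] (.rel 25), .node 23230 1, .derive 23677 [.bwd 0, .fwd 1066, .fwd 414] [3] (.rel 14), .node 23231 5, .derive 23678 [.bwd 0, .bwd 1067, .fwd 1066] [2] (.rel 27), .node 23234 0, .node 23234 5,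
  .node 23234 6, .node 23235 1, .node 23236 1, .node 23236 5, .derive 23684 [.bwd 0, .bwd 1067, .fwd 1066] [0] (.rel 9), .node 23236 6, .node 23237 6, .derive 23686 [.bwd 0, .bwd 2, .bwd 3, .fwd 1] [5] (.rel 68),
  .node 23238 5, .derive 23687 [.bwd 0, .bwd 1070, .fwd 1071, .fwd 2, .fwd 1, .bwd 3, .fwd 5] [6] (.rel 40), .node 23239 1, .derive 23688 [.bwd 0, .fwd 1070, .fwd 8] [4] (.rel 16), .node 23239 2, .derive 23689 [.bwd 0, .bwd 1073, .fwd 1071] [0] (.rel 3), .node 23239 5, .derive 23690 [.bwd 0, .fwd 1074, .fwd 11] [4] (.rel 37),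
  .node 23241 1, .derive 23691 [.bwd 0, .fwd 1072, .fwd 14] [3] (.rel 14), .node 23241 2, .derive 23692 [.bwd 0, .bwd 1075, .fwd 1073] [0] (.rel 3), .node 23241 4, .derive 23693 [.bwd 0, .bwd 1077, .fwd 1074] [0] (.rel 7), .node 23241 5, .derive 23694 [.bwd 0, .bwd 1079, .fwd 1074] [0] (.rel 9),
  .derive 23694 [.bwd 1, .fwd 1079, .fwd 20] [3] (.rel 33), .node 23241 6, .node 23242 4, .derive 23696 [.bwd 0, .bwd 1081, .fwd 1080] [2] (.rel 25), .node 23242 5, .node 23243 5, .node 23243 6, .node 23244 6,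
  .derive 23700 [.bwd 0, .bwd 8, .bwd 9, .fwd 6] [5] (.rel 68), .node 23245 5, .derive 23701 [.bwd 0, .bwd 1084, .fwd 1085, .fwd 2, .fwd 1, .bwd 8, .fwd 11] [6] (.rel 40), .node 23246 1, .derive 23702 [.bwd 0, .fwd 1084, .fwd 25] [3] (.rel 14), .node 23246 4, .derive 23703 [.bwd 0, .bwd 1087, .fwd 1085] [0] (.rel 7), .derive 23703 [.bwd 1, .fwd 1087, .fwd 1098, .bwd 1094, .fwd 18] [3] (.rel 31),
  .node 23246 5, .derive 23704 [.bwd 0, .bwd 1090, .fwd 1087] [0] (.rel 9), .derive 23704 [.bwd 1, .fwd 1090, .fwd 27] [3] (.rel 33), .node 23246 6]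
def ph17_p3_1 : List Aux := [
  .node 23247 5, .node 23247 6, .node 23248 6, .derive 23708 [.bwd 0, .bwd 5, .bwd 6, .fwd 3] [5] (.rel 68), .node 23249 5, .derive 23709 [.bwd 0, .bwd 1094, .fwd 1095, .fwd 2, .fwd 1, .bwd 5, .fwd 8] [6] (.rel 40), .node 23250 2, .node 23250 5,
  .derive 23711 [.bwd 0, .bwd 1096, .fwd 1094] [3] (.rel 33), .node 23253 6, .node 23254 6, .derive 23713 [.bwd 0, .fwd 528, .fwd 529, .fwd 1] [5] (.rel 68), .node 23255 5, .derive 23714 [.bwd 0, .bwd 1093, .fwd 1095, .fwd 2, .fwd 1, .bwd 3, .bwd 531] [6] (.rel 40), .node 23256 6, .node 23257 6,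
  .derive 23716 [.bwd 0, .fwd 165, .fwd 166, .fwd 1] [5] (.rel 68), .node 23258 5, .derive 23717 [.bwd 0, .bwd 1093, .fwd 1095, .fwd 2, .fwd 1, .bwd 3, .bwd 168] [6] (.rel 40), .node 23259 2, .derive 23718 [.bwd 0, .bwd 1094, .fwd 1092] [0] (.rel 3), .node 23259 4, .derive 23719 [.bwd 0, .bwd 1096, .fwd 1093] [0] (.rel 7), .derive 23719 [.bwd 1, .fwd 537, .bwd 933] [1] (.rel 17),
  .node 23259 6, .node 23260 3, .node 23260 5, .derive 23722 [.bwd 0, .bwd 1099, .fwd 1097] [2] (.rel 27), .node 23260 6, .node 23261 5, .node 23261 6, .node 23262 6,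
  .derive 23726 [.bwd 0, .fwd 100, .fwd 101, .fwd 7] [5] (.rel 68), .node 23263 5, .derive 23727 [.bwd 0, .bwd 1101, .fwd 1104, .fwd 2, .fwd 1, .bwd 9, .bwd 103] [6] (.rel 40), .node 23264 2, .node 23264 4, .node 23264 6, .node 23265 5, .derive 23731 [.bwd 0, .bwd 1103, .fwd 1101] [2] (.rel 27),
  .node 23265 6, .node 23266 5, .derive 23733 [.bwd 0, .bwd 1105, .fwd 1104] [4] (.rel 37), .node 23266 6, .node 23267 6, .derive 23735 [.bwd 0, .bwd 560, .bwd 561, .fwd 7] [5] (.rel 68), .node 23268 5, .derive 23736 [.bwd 0, .bwd 1108, .fwd 1109, .fwd 2, .fwd 1, .bwd 9, .fwd 563] [6] (.rel 40),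
  .node 23271 1, .node 23271 4, .derive 23738 [.bwd 0, .fwd 1106, .fwd 215] [2] (.rel 25), .node 23271 5, .derive 23739 [.bwd 0, .bwd 1109, .fwd 1105] [0] (.rel 9), .derive 23739 [.bwd 1, .fwd 1109, .fwd 216] [2] (.rel 27), .node 23271 6, .node 23272 5,
  .derive 23741 [.bwd 0, .fwd 1110, .fwd 215] [2] (.rel 27), .derive 23741 [.bwd 1, .bwd 1112, .fwd 1110] [4] (.rel 37), .node 23272 6, .derive 23742 [.bwd 0, .fwd 1113, .fwd 216] [2] (.rel 29), .derive 23742 [.bwd 1, .bwd 1115, .fwd 1111] [4] (.rel 39), .node 23273 1, .node 23273 6, .derive 23744 [.bwd 0, .bwd 10, .bwd 11, .fwd 8] [5] (.rel 68),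
  .node 23274 1, .node 23274 5, .derive 23746 [.bwd 0, .bwd 1117, .fwd 1119, .fwd 3, .fwd 2, .bwd 11, .fwd 14] [6] (.rel 40), .node 23275 2, .derive 23747 [.bwd 0, .fwd 1116, .fwd 133] [6] (.rel 28), .node 23276 5, .derive 23748 [.bwd 0, .fwd 1116, .bwd 134, .fwd 133] [6] (.rel 67), .node 23289 2,
  .derive 23749 [.bwd 0, .fwd 587, .bwd 32] [0] (.rel 3), .derive 23749 [.bwd 1, .bwd 589, .fwd 37] [5] (.rel 26), .node 23289 4, .derive 23750 [.bwd 0, .fwd 590, .bwd 32] [0] (.rel 7), .derive 23750 [.bwd 1, .bwd 592, .fwd 39] [5] (.rel 36), .node 23290 4, .derive 23751 [.bwd 0, .fwd 1098, .bwd 947] [5] (.rel 36), .node 23290 6,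
  .derive 23752 [.bwd 0, .fwd 1100, .bwd 1126, .fwd 10, .fwd 9, .bwd 143, .bwd 11] [5] (.rel 41), .node 23291 6, .derive 23753 [.bwd 0, .fwd 1100, .edge 6, .fwd 948, .bwd 922, .fwd 923, .bwd 949] [5] (.rel 41), .node 23296 1, .derive 23754 [.bwd 0, .bwd 1093, .edge 1, .edge 2, .fwd 597] [2] (.rel 12), .node 23307 1, .node 23308 1, .derive 23756 [.bwd 0, .fwd 1069, .fwd 1] [4] (.rel 16),
  .node 23308 3, .derive 23757 [.bwd 0, .fwd 1070, .fwd 936] [5] (.rel 32), .node 23323 5, .node 23324 1, .node 23325 5, .node 23325 6, .derive 23761 [.bwd 0, .fwd 1041, .fwd 516] [3] (.rel 35), .node 23326 1,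
  .derive 23762 [.bwd 0, .fwd 1041, .fwd 4] [3] (.rel 14), .node 23327 1, .node 23328 5, .node 23328 6]
def ph17_p3_2 : List Aux := [
  .derive 23765 [.bwd 0, .fwd 1041, .fwd 509] [3] (.rel 35), .node 23329 1, .node 23330 5, .derive 23767 [.bwd 0, .bwd 1040, .fwd 1039] [4] (.rel 37), .derive 23767 [.bwd 1, .bwd 1035, .fwd 1036, .fwd 13] [6] (.rel 67), .node 23331 1, .derive 23768 [.bwd 0, .fwd 1041, .fwd 4] [3] (.rel 14), .node 23332 5,
  .node 23333 1, .node 23334 5, .node 23334 6, .derive 23772 [.bwd 0, .fwd 1039, .fwd 516] [3] (.rel 35), .node 23335 1, .derive 23773 [.bwd 0, .fwd 1039, .fwd 4] [3] (.rel 14), .node 23336 3, .derive 23774 [.bwd 0, .fwd 1038, .bwd 500] [0] (.rel 5),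
  .derive 23774 [.bwd 1, .fwd 1038, .bwd 495] [6] (.rel 34), .node 23336 5, .derive 23775 [.bwd 0, .fwd 1040, .fwd 27, .bwd 13, .bwd 15, .bwd 1049, .fwd 10] [6] (.rel 40), .node 23337 1, .derive 23776 [.bwd 0, .fwd 1040, .fwd 22] [3] (.rel 14), .node 23338 4, .derive 23777 [.bwd 0, .fwd 1039, .fwd 210] [2] (.rel 25), .node 23338 5,
  .derive 23778 [.bwd 0, .bwd 1042, .fwd 1038] [0] (.rel 9), .node 23338 6, .node 23339 5, .derive 23780 [.bwd 0, .fwd 1042, .fwd 210] [2] (.rel 27), .node 23339 6, .derive 23781 [.bwd 0, .fwd 1044, .fwd 210] [2] (.rel 29), .derive 23781 [.bwd 1, .bwd 1046, .fwd 1043] [4] (.rel 39), .node 23340 1,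
  .node 23340 6, .derive 23783 [.bwd 0, .bwd 8, .bwd 9, .fwd 7] [5] (.rel 68), .node 23341 1, .node 23341 5, .derive 23785 [.bwd 0, .fwd 1048, .fwd 212] [2] (.rel 27), .derive 23785 [.bwd 1, .bwd 1050, .fwd 1051, .fwd 4, .fwd 3, .bwd 11, .fwd 13] [6] (.rel 40), .node 23345 5, .derive 23786 [.bwd 0, .fwd 1045, .fwd 29] [4] (.rel 37),
  .node 23345 6, .node 23346 1, .node 23347 2, .derive 23789 [.bwd 0, .fwd 1046, .bwd 204] [4] (.rel 24), .node 23347 5, .derive 23790 [.bwd 0, .fwd 1048, .fwd 46] [4] (.rel 37), .node 23348 1, .derive 23791 [.bwd 0, .fwd 1048, .fwd 45] [4] (.rel 16),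
  .node 23349 5, .derive 23792 [.bwd 0, .bwd 1049, .fwd 1046] [3] (.rel 33), .derive 23792 [.bwd 1, .fwd 1048, .fwd 528, .fwd 526, .bwd 533, .edge 6, .fwd 537] [6] (.rel 40), .node 23350 1, .node 23354 1, .derive 23794 [.bwd 0, .fwd 1042, .fwd 225] [4] (.rel 16), .derive 23794 [.bwd 1, .bwd 1044, .edge 1, .edge 5, .fwd 658] [5] (.rel 18), .node 23355 1,
  .derive 23795 [.bwd 0, .fwd 1043, .fwd 3] [3] (.rel 14), .derive 23795 [.bwd 1, .bwd 1045, .edge 1, .edge 5, .fwd 659] [5] (.rel 18), .node 23356 1, .node 23357 1, .derive 23797 [.bwd 0, .fwd 1043, .fwd 218] [4] (.rel 16), .derive 23797 [.bwd 1, .bwd 1045, .edge 1, .fwd 1047, .fwd 2] [5] (.rel 18), .node 23359 5, .derive 23798 [.bwd 0, .fwd 1041, .fwd 70] [4] (.rel 37),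
  .node 23359 6, .derive 23799 [.bwd 0, .bwd 1044, .edge 6, .edge 1, .fwd 582] [1] (.rel 21), .node 23360 1, .node 23366 5, .derive 23801 [.bwd 0, .bwd 1029, .bwd 1030, .fwd 1026] [6] (.rel 67), .node 23367 6, .derive 23802 [.bwd 0, .bwd 1033, .edge 6, .fwd 1028, .bwd 1, .bwd 2, .bwd 1031] [5] (.rel 41), .node 23369 5,
  .derive 23803 [.bwd 0, .fwd 1031, .fwd 1028] [4] (.rel 37), .node 23370 1, .derive 23804 [.bwd 0, .fwd 1031, .fwd 244] [4] (.rel 16), .derive 23804 [.bwd 1, .bwd 1033, .edge 1, .fwd 1086, .bwd 151] [5] (.rel 18), .derive 23724 [.bwd 146, .bwd 153, .bwd 0] [0] (.rel 9), .node 23371 1, .derive 23805 [.bwd 0, .fwd 1032, .fwd 92] [3] (.rel 14), .node 23371 6,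
  .derive 23806 [.bwd 0, .bwd 1036, .bwd 1213, .bwd 1028, .bwd 1029, .edge 5, .fwd 1033] [5] (.rel 41), .node 23379 5, .derive 23807 [.bwd 0, .bwd 1021, .fwd 1020] [0] (.rel 9), .node 23379 6, .node 23380 1, .derive 23809 [.bwd 0, .bwd 1023, .edge 1, .fwd 1041, .fwd 7] [5] (.rel 18), .node 23380 6, .derive 23810 [.bwd 0, .bwd 4, .bwd 5, .fwd 3] [5] (.rel 68),
  .node 23381 5, .derive 23811 [.bwd 0, .bwd 1026, .fwd 1027, .fwd 2, .fwd 1, .bwd 5, .fwd 7] [6] (.rel 40), .node 23382 3, .derive 23812 [.bwd 0, .bwd 1027, .fwd 1026] [0] (.rel 5), .node 23382 5, .derive 23813 [.bwd 0, .bwd 1029, .fwd 1027] [0] (.rel 9), .node 23382 6, .node 23383 5,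
  .derive 23815 [.bwd 0, .bwd 1031, .fwd 1030] [3] (.rel 33), .node 23383 6, .node 23384 1, .derive 23817 [.bwd 0, .fwd 1031, .fwd 14] [4] (.rel 16)]
def ph17_p3_3 : List Aux := [
  .node 23384 6, .derive 23818 [.bwd 0, .bwd 7, .bwd 8, .fwd 6] [5] (.rel 68), .node 23385 5, .derive 23819 [.bwd 0, .bwd 1034, .fwd 1037, .fwd 2, .fwd 1, .bwd 8, .fwd 10] [6] (.rel 40), .node 23386 5, .derive 23820 [.bwd 0, .bwd 1035, .fwd 1034] [0] (.rel 9), .node 23386 6, .node 23387 1,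
  .derive 23822 [.bwd 0, .bwd 1037, .edge 1, .bwd 1192, .fwd 122] [5] (.rel 18), .node 23387 6, .derive 23823 [.bwd 0, .bwd 4, .bwd 5, .fwd 3] [5] (.rel 68), .node 23388 5, .derive 23824 [.bwd 0, .bwd 1040, .fwd 1041, .fwd 2, .fwd 1, .bwd 5, .fwd 7] [6] (.rel 40), .node 23389 3, .derive 23825 [.bwd 0, .bwd 1041, .fwd 1040] [0] (.rel 5), .node 23390 5,
  .derive 23826 [.bwd 0, .fwd 1040, .fwd 20] [4] (.rel 37), .node 23390 6, .node 23391 1, .derive 23828 [.bwd 0, .fwd 1041, .fwd 11] [4] (.rel 16), .node 23392 1, .node 23392 3, .derive 23830 [.bwd 0, .fwd 1042, .fwd 981] [5] (.rel 32), .node 23413 0,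
  .derive 23430 [.bwd 139, .bwd 140, .fwd 1232, .fwd 1234, .bwd 1431, .edge 1, .edge 0, .edge 5, .edge 2, .edge 1, .edge 0, .edge 5, .edge 2, .edge 1, .fwd 1430, .bwd 1221, .bwd 759, .bwd 1002, .fwd 1003, .fwd 0] [5] (.rel 75), .node 23417 0, .derive 23832 [.bwd 0, .fwd 996, .fwd 2] [3] (.rel 4), .derive 23431 [.fwd 738, .fwd 2, .bwd 0] [5] (.rel 32), .node 23417 2, .node 23417 5, .derive 23834 [.bwd 0, .fwd 4, .bwd 2] [0] (.rel 9), .node 23418 0,
  .node 23418 2, .derive 23836 [.bwd 0, .bwd 1002, .edge 2, .fwd 1004, .fwd 4] [1] (.rel 13), .node 23418 5, .node 23418 6, .node 23419 0, .derive 23839 [.bwd 0, .fwd 1004, .fwd 5] [4] (.rel 6), .node 23419 2, .derive 23840 [.bwd 0, .fwd 1006, .fwd 6] [4] (.rel 24),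
  .node 23419 5, .node 23419 6, .node 23420 0, .node 23420 2, .node 23420 6, .node 23421 4, .node 23422 4, .node 23423 0,
  .node 23423 2, .node 23423 3, .node 23424 1, .derive 23851 [.bwd 0, .fwd 1012, .fwd 30] [4] (.rel 16), .node 23426 1, .derive 23852 [.bwd 0, .bwd 1011, .edge 1, .bwd 1013, .fwd 2] [5] (.rel 18), .node 23427 2, .node 23427 5,
  .node 23428 1, .derive 23855 [.bwd 0, .fwd 1009, .edge 1, .bwd 1014, .fwd 4] [2] (.rel 12), .derive 23851 [.bwd 4, .bwd 0, .bwd 1, .fwd 1011, .fwd 1317, .edge 2, .edge 1, .edge 0, .edge 5, .edge 2, .edge 1, .edge 0, .edge 5, .edge 2, .edge 1, .edge 0, .edge 5, .fwd 1520, .fwd 479] [0] (.rel 74), .derive 23588 [.bwd 479, .bwd 0, .fwd 7] [0] (.rel 7), .node 23433 1, .node 23435 0, .node 23435 2, .node 23435 6,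
  .node 23436 0, .node 23436 2, .derive 23861 [.bwd 0, .fwd 769, .fwd 3] [4] (.rel 24), .node 23436 6, .node 23437 0, .node 23437 6, .node 23439 0, .derive 23865 [.bwd 0, .fwd 769, .fwd 28] [5] (.rel 8),
  .node 23439 2, .derive 23866 [.bwd 0, .fwd 771, .fwd 29] [5] (.rel 26), .node 23439 3, .derive 23867 [.bwd 0, .bwd 774, .fwd 772] [1] (.rel 15), .node 23439 6, .node 23440 4, .derive 23869 [.bwd 0, .fwd 774, .fwd 32] [5] (.rel 36), .node 23441 0,
  .derive 23870 [.bwd 0, .fwd 774, .fwd 9] [4] (.rel 6), .derive 23870 [.bwd 1, .fwd 774, .fwd 33] [5] (.rel 8), .node 23441 2, .derive 23871 [.bwd 0, .bwd 778, .edge 2, .fwd 788, .fwd 20] [1] (.rel 13), .derive 23871 [.bwd 1, .fwd 778, .fwd 11] [4] (.rel 24), .derive 23871 [.bwd 2, .fwd 778, .fwd 36] [5] (.rel 26), .node 23441 3, .derive 23872 [.bwd 0, .bwd 782, .fwd 779] [1] (.rel 15),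
  .derive 23872 [.bwd 1, .fwd 781, .fwd 38] [5] (.rel 32), .node 23441 6, .derive 23873 [.bwd 0, .fwd 784, .fwd 13] [4] (.rel 39), .node 23442 4, .derive 23874 [.bwd 0, .fwd 783, .fwd 45] [5] (.rel 36), .node 23443 4, .node 23444 4, .derive 23876 [.bwd 0, .fwd 783, .fwd 1] [5] (.rel 36),
  .node 23444 6, .derive 23877 [.bwd 0, .fwd 785, .bwd 778, .bwd 771, .fwd 770, .bwd 788, .bwd 780] [5] (.rel 41), .node 23445 4, .node 23446 4]
def ph17_p3_4 : List Aux := [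
  .derive 23879 [.bwd 0, .fwd 785, .fwd 1] [5] (.rel 36), .node 23447 4, .derive 23880 [.bwd 0, .fwd 785, .fwd 10] [6] (.rel 38), .node 23448 4, .derive 23881 [.bwd 0, .fwd 785, .fwd 10] [6] (.rel 38), .node 23449 4, .derive 23882 [.bwd 0, .bwd 786, .edge 4, .fwd 788, .fwd 2] [3] (.rel 31), .derive 23882 [.bwd 1, .fwd 786, .fwd 7] [6] (.rel 38),
  .node 23450 4, .derive 23883 [.bwd 0, .fwd 786, .fwd 3] [5] (.rel 36), .derive 23883 [.bwd 1, .fwd 786, .fwd 64] [6] (.rel 38), .node 23451 4, .derive 23884 [.bwd 0, .fwd 786, .fwd 8] [5] (.rel 36), .derive 23884 [.bwd 1, .fwd 786, .fwd 66] [6] (.rel 38), .node 23452 4, .derive 23885 [.bwd 0, .fwd 786, .fwd 37] [6] (.rel 38),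
  .node 23453 1, .node 23453 3, .derive 23887 [.bwd 0, .fwd 787, .fwd 374] [5] (.rel 32), .node 23454 1, .derive 23888 [.bwd 0, .fwd 787, .fwd 3] [4] (.rel 16), .node 23455 0, .node 23455 5, .node 23455 6,
  .node 23456 0, .node 23456 5, .node 23456 6, .derive 23894 [.bwd 0, .fwd 791, .fwd 3] [3] (.rel 35), .node 23457 0, .node 23457 5, .node 23457 6, .derive 23897 [.bwd 0, .fwd 793, .fwd 7] [4] (.rel 39),
  .node 23458 0, .derive 23898 [.bwd 0, .fwd 793, .fwd 378] [4] (.rel 6), .node 23458 2, .derive 23899 [.bwd 0, .bwd 796, .edge 2, .bwd 1456, .bwd 385] [1] (.rel 13), .derive 23899 [.bwd 1, .fwd 796, .bwd 388] [4] (.rel 24), .node 23458 5, .node 23458 6, .node 23459 2,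
  .derive 23902 [.bwd 0, .bwd 799, .fwd 798] [0] (.rel 3), .node 23459 5, .derive 23903 [.bwd 0, .bwd 801, .fwd 798] [0] (.rel 9), .node 23459 6, .node 23460 4, .derive 23905 [.bwd 0, .bwd 803, .fwd 802] [2] (.rel 25), .node 23460 5, .node 23460 6,
  .derive 23907 [.bwd 0, .bwd 806, .fwd 803] [2] (.rel 29), .node 23461 5, .node 23461 6, .derive 23909 [.bwd 0, .bwd 808, .fwd 806] [4] (.rel 39), .node 23462 6, .derive 23910 [.bwd 0, .bwd 10, .bwd 11, .fwd 9] [5] (.rel 68), .node 23463 5, .derive 23911 [.bwd 0, .bwd 810, .fwd 811, .fwd 2, .fwd 1, .bwd 11, .fwd 13] [6] (.rel 40),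
  .node 23464 2, .derive 23912 [.bwd 0, .bwd 811, .fwd 810] [0] (.rel 3), .node 23464 5, .derive 23913 [.bwd 0, .bwd 813, .fwd 809] [0] (.rel 9), .node 23464 6, .node 23465 4, .node 23465 5, .derive 23916 [.bwd 0, .bwd 816, .fwd 813] [2] (.rel 27),
  .node 23465 6, .derive 23917 [.bwd 0, .bwd 818, .fwd 814] [2] (.rel 29), .node 23466 6, .derive 23918 [.bwd 0, .bwd 819, .fwd 816] [4] (.rel 39), .node 23467 6, .derive 23919 [.bwd 0, .bwd 9, .bwd 10, .fwd 8] [5] (.rel 68), .node 23468 5, .derive 23920 [.bwd 0, .bwd 820, .fwd 821, .fwd 2, .fwd 1, .bwd 10, .fwd 12] [6] (.rel 40),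
  .node 23471 4, .derive 23921 [.bwd 0, .fwd 816, .fwd 804] [1] (.rel 17), .node 23471 5, .node 23471 6, .derive 23923 [.bwd 0, .bwd 820, .fwd 814] [3] (.rel 35), .node 23472 5, .derive 23924 [.bwd 0, .bwd 820, .fwd 818] [4] (.rel 37), .node 23472 6,
  .node 23473 1, .derive 23926 [.bwd 0, .bwd 821, .edge 1, .fwd 1434, .fwd 319] [5] (.rel 18), .node 23474 1, .derive 23927 [.bwd 0, .bwd 821, .edge 1, .fwd 1434, .fwd 318] [6] (.rel 20), .node 23475 1, .derive 23928 [.bwd 0, .fwd 820, .fwd 336] [3] (.rel 14), .node 23475 4, .derive 23929 [.bwd 0, .bwd 823, .fwd 818] [0] (.rel 7),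
  .node 23475 5, .derive 23930 [.bwd 0, .bwd 825, .fwd 819] [0] (.rel 9), .node 23475 6, .node 23476 4, .node 23476 5, .derive 23933 [.bwd 0, .fwd 825, .fwd 788] [0] (.rel 9), .node 23476 6, .node 23477 5,
  .derive 23935 [.bwd 0, .bwd 827, .fwd 826] [4] (.rel 37), .node 23477 6, .derive 23936 [.bwd 0, .bwd 829, .fwd 826] [4] (.rel 39), .node 23478 1]
def ph17_p3 : List Aux :=
  ((ph17_p3_0 ++ ph17_p3_1) ++ (ph17_p3_2 ++ (ph17_p3_3 ++ ph17_p3_4)))

theorem ph17_p3_ok : stHas (runList (auxStep' P) ph17_p3 (mkSt 23651 mask23 ph17_eq3)) 23938 mask23 ph17_eq4 = true := by decide +kernel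

end Cfsg.Agent.CosetData.SuzB
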