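import Cfsg.Agent.Lib.Compute.CosetData.SuzBAux

/-! Coset enumeration certificate data (S1681). -/

set_option autoImplicit false
set_option maxRecDepth 100000
set_option Elab.async false

namespace Cfsg.Agent.CosetData.SuzB

open Cfsg.Agent.CosetCert

def ph17_p4_0 : List Aux := [
  .derive 23937 [.bwd 0, .fwd 829, .fwd 338] [3] (.rel 14), .node 23478 6, .derive 23938 [.bwd 0, .bwd 12, .bwd 13, .fwd 11] [5] (.rel 68), .node 23479 5, .derive 23939 [.bwd 0, .bwd 832, .fwd 834, .fwd 2, .fwd 1, .bwd 13, .fwd 15] [6] (.rel 40), .node 23480 2, .derive 23940 [.bwd 0, .bwd 833, .fwd 832] [0] (.rel 3), .node 23480 5,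
  .derive 23941 [.bwd 0, .bwd 835, .fwd 831] [0] (.rel 9), .node 23480 6, .node 23481 4, .node 23481 5, .node 23481 6, .derive 23945 [.bwd 0, .bwd 839, .fwd 835] [2] (.rel 29), .node 23482 3, .derive 23946 [.bwd 0, .bwd 840, .bwd 1362, .bwd 1293, .bwd 796] [4] (.rel 30),
  .node 23482 5, .derive 23947 [.bwd 0, .bwd 842, .fwd 840] [4] (.rel 37), .node 23482 6, .derive 23948 [.bwd 0, .bwd 844, .fwd 841] [4] (.rel 39), .node 23483 1, .derive 23949 [.bwd 0, .bwd 844, .edge 1, .fwd 1371, .fwd 329] [5] (.rel 18), .node 23483 6, .derive 23950 [.bwd 0, .bwd 14, .bwd 15, .fwd 13] [5] (.rel 68),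
  .node 23484 5, .derive 23951 [.bwd 0, .bwd 847, .fwd 848, .fwd 2, .fwd 1, .bwd 15, .fwd 17] [6] (.rel 40), .node 23485 1, .derive 23952 [.bwd 0, .bwd 848, .edge 1, .fwd 1371, .fwd 329] [5] (.rel 18), .node 23485 6, .node 23487 1, .derive 23954 [.bwd 0, .fwd 848, .fwd 3] [4] (.rel 16), .derive 23954 [.bwd 1, .bwd 850, .edge 1, .fwd 1328, .fwd 279] [5] (.rel 18),
  .node 23487 6, .derive 23955 [.bwd 0, .fwd 851, .fwd 4] [4] (.rel 39), .node 23490 2, .derive 23956 [.bwd 0, .bwd 849, .fwd 848] [0] (.rel 3), .node 23490 5, .derive 23957 [.bwd 0, .bwd 851, .fwd 847] [0] (.rel 9), .node 23490 6, .node 23491 4,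
  .derive 23959 [.bwd 0, .bwd 853, .fwd 852] [2] (.rel 25), .node 23491 5, .node 23491 6, .derive 23961 [.bwd 0, .bwd 856, .fwd 852] [2] (.rel 29), .node 23492 5, .node 23492 6, .derive 23963 [.bwd 0, .bwd 858, .fwd 855] [4] (.rel 39), .node 23493 6,
  .derive 23964 [.bwd 0, .bwd 10, .bwd 11, .fwd 9] [5] (.rel 68), .node 23494 5, .derive 23965 [.bwd 0, .bwd 859, .fwd 860, .fwd 2, .fwd 1, .bwd 11, .fwd 13] [6] (.rel 40), .node 23495 5, .derive 23966 [.bwd 0, .bwd 860, .fwd 858] [4] (.rel 37), .node 23496 1, .derive 23967 [.bwd 0, .bwd 860, .edge 1, .fwd 1384, .fwd 345] [5] (.rel 18), .node 23498 5,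
  .node 23498 6, .derive 23969 [.bwd 0, .bwd 861, .fwd 855] [3] (.rel 35), .node 23499 5, .derive 23970 [.bwd 0, .bwd 861, .fwd 859] [4] (.rel 37), .node 23499 6, .node 23500 1, .derive 23972 [.bwd 0, .bwd 862, .edge 1, .fwd 1376, .fwd 330] [5] (.rel 18), .node 23501 1,
  .derive 23973 [.bwd 0, .bwd 862, .edge 1, .fwd 1377, .fwd 329] [6] (.rel 20), .node 23502 5, .node 23502 6, .derive 23975 [.bwd 0, .bwd 863, .fwd 860] [4] (.rel 39), .node 23503 1, .derive 23976 [.bwd 0, .fwd 863, .fwd 337] [3] (.rel 14), .node 23503 6, .derive 23977 [.bwd 0, .bwd 77, .bwd 78, .fwd 76] [5] (.rel 68),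
  .node 23504 1, .derive 23978 [.bwd 0, .fwd 865, .fwd 338] [3] (.rel 14), .node 23504 5, .derive 23979 [.bwd 0, .bwd 868, .fwd 870, .fwd 4, .fwd 3, .bwd 80, .fwd 82] [6] (.rel 40), .node 23505 5, .node 23505 6, .derive 23981 [.bwd 0, .fwd 868, .fwd 337] [3] (.rel 35), .node 23506 5,
  .derive 23982 [.bwd 0, .fwd 868, .fwd 372] [3] (.rel 33), .derive 23982 [.bwd 1, .bwd 870, .fwd 868] [4] (.rel 37), .node 23507 1, .node 23508 5, .derive 23984 [.bwd 0, .bwd 870, .fwd 867] [4] (.rel 37), .node 23510 5, .node 23511 5, .derive 23986 [.bwd 0, .bwd 370, .fwd 371, .fwd 3] [6] (.rel 67),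
  .node 23512 1, .derive 23987 [.bwd 0, .fwd 866, .fwd 322] [3] (.rel 14), .node 23513 5, .node 23517 2, .derive 23989 [.bwd 0, .fwd 852, .fwd 850] [0] (.rel 3), .derive 23989 [.bwd 1, .fwd 852, .fwd 850] [6] (.rel 28), .node 23519 3, .derive 23990 [.bwd 0, .fwd 851, .fwd 850] [1] (.rel 15),
  .node 23522 2, .derive 23991 [.bwd 0, .bwd 789, .bwd 770] [0] (.rel 3), .derive 23991 [.bwd 1, .bwd 731, .fwd 732] [5] (.rel 26), .derive 23991 [.bwd 2, .bwd 789, .bwd 772] [6] (.rel 28)]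
def ph17_p4_1 : List Aux := [
  .node 23523 5, .derive 23992 [.bwd 0, .fwd 850, .fwd 846] [0] (.rel 9), .node 23525 1, .derive 23993 [.bwd 0, .fwd 847, .fwd 2042, .fwd 1753, .fwd 717] [2] (.rel 12), .derive 23533 [.bwd 717, .bwd 0, .bwd 1, .bwd 2, .bwd 3, .bwd 854, .fwd 855, .bwd 796, .fwd 795, .fwd 1792, .bwd 1842, .edge 0, .fwd 1816, .fwd 1815, .fwd 1180, .bwd 2036, .edge 5, .fwd 1975, .fwd 831] [0] (.rel 74), .derive 23536 [.fwd 828, .bwd 0, .bwd 824] [0] (.rel 7), .node 23526 2, .derive 23994 [.bwd 0, .fwd 849, .fwd 10] [4] (.rel 24),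
  .derive 23994 [.bwd 1, .bwd 738, .fwd 739] [5] (.rel 26), .derive 23994 [.bwd 2, .bwd 795, .bwd 774] [6] (.rel 28), .node 23531 0, .node 23532 0, .derive 23996 [.bwd 0, .fwd 842, .fwd 769] [2] (.rel 2), .derive 23996 [.bwd 1, .fwd 842, .fwd 2] [4] (.rel 6), .node 23539 6, .derive 23997 [.bwd 0, .bwd 833, .bwd 1928, .fwd 829] [5] (.rel 68),
  .node 23540 4, .derive 23998 [.bwd 0, .bwd 833, .bwd 1926, .bwd 1764, .fwd 723] [3] (.rel 31), .derive 23998 [.bwd 1, .bwd 833, .fwd 1] [5] (.rel 36), .node 23542 6, .derive 23999 [.bwd 0, .bwd 832, .fwd 830] [0] (.rel 11), .derive 23999 [.bwd 1, .bwd 833, .bwd 1929, .fwd 831] [5] (.rel 68), .node 23544 1, .node 23544 2,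
  .derive 24001 [.bwd 0, .bwd 832, .fwd 831] [0] (.rel 3), .derive 23995 [.bwd 14, .bwd 857, .bwd 1969, .fwd 845, .bwd 19, .bwd 849, .bwd 850, .bwd 831, .bwd 0] [1] (.rel 0), .node 23544 5, .derive 24002 [.bwd 0, .bwd 835, .fwd 832] [0] (.rel 9), .node 23544 6, .node 23546 6, .derive 24004 [.bwd 0, .bwd 2, .bwd 3, .fwd 1] [5] (.rel 68), .derive 23994 [.fwd 21, .bwd 797, .bwd 1863, .edge 6, .fwd 1839, .bwd 842, .fwd 11, .fwd 9, .fwd 840, .bwd 1765, .fwd 1766, .bwd 835, .fwd 1, .fwd 0] [1] (.rel 81),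
  .node 23547 5, .derive 24005 [.bwd 0, .bwd 836, .fwd 838, .fwd 3, .fwd 2, .bwd 4, .fwd 6] [6] (.rel 40), .node 23548 1, .node 23548 2, .derive 24007 [.bwd 0, .fwd 837, .fwd 12] [4] (.rel 24), .derive 23996 [.fwd 23, .fwd 11, .bwd 0] [1] (.rel 17), .node 23548 5, .derive 24008 [.bwd 0, .bwd 841, .fwd 837] [0] (.rel 9),
  .node 23548 6, .derive 24009 [.bwd 0, .bwd 843, .fwd 838] [0] (.rel 11), .derive 24009 [.bwd 1, .fwd 843, .fwd 13] [4] (.rel 39), .derive 23991 [.bwd 35, .fwd 11, .bwd 0] [1] (.rel 17), .node 23549 4, .derive 24010 [.bwd 0, .fwd 844, .fwd 839] [1] (.rel 17), .node 23549 6, .derive 24011 [.bwd 0, .bwd 847, .fwd 844] [3] (.rel 35),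
  .node 23550 6, .derive 24012 [.bwd 0, .bwd 9, .bwd 10, .fwd 8] [5] (.rel 68), .node 23551 5, .derive 24013 [.bwd 0, .fwd 846, .fwd 18] [4] (.rel 37), .derive 24013 [.bwd 1, .bwd 849, .fwd 850, .fwd 3, .fwd 2, .bwd 11, .fwd 13] [6] (.rel 40), .node 23556 3, .derive 24014 [.bwd 0, .bwd 837, .fwd 836] [1] (.rel 15), .node 23558 5,
  .derive 24015 [.bwd 0, .bwd 835, .fwd 834] [4] (.rel 37), .node 23560 1, .node 23560 3, .derive 24017 [.bwd 0, .bwd 836, .fwd 835] [0] (.rel 5), .node 23561 4, .derive 24018 [.bwd 0, .fwd 836, .fwd 833] [1] (.rel 17), .node 23562 1, .derive 24019 [.bwd 0, .bwd 65, .fwd 19, .fwd 21, .bwd 859, .bwd 21, .bwd 19, .fwd 65, .fwd 0] [0] (.rel 1),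
  .derive 24019 [.bwd 1, .fwd 837, .bwd 857, .bwd 1897, .fwd 833] [2] (.rel 12), .derive 24019 [.bwd 2, .bwd 839, .bwd 1903, .fwd 1899, .fwd 834] [5] (.rel 18), .derive 24019 [.bwd 3, .bwd 66, .fwd 22, .bwd 25, .fwd 31] [6] (.rel 20), .derive 23565 [.bwd 1, .bwd 3, .fwd 1] [0] (.rel 9), .derive 23568 [.fwd 831, .fwd 0, .bwd 831] [0] (.rel 7), .derive 23633 [.fwd 703, .fwd 0, .bwd 703] [0] (.rel 5), .node 23563 5, .node 23565 6,
  .derive 24021 [.bwd 0, .bwd 7, .fwd 5] [2] (.rel 29), .derive 24021 [.bwd 1, .bwd 5, .bwd 7, .fwd 6] [5] (.rel 68), .derive 23574 [.bwd 61, .fwd 36, .bwd 38, .fwd 39, .bwd 1] [1] (.rel 13), .derive 23580 [.bwd 820, .fwd 1891, .fwd 844, .fwd 3, .bwd 0] [6] (.rel 20), .derive 23577 [.bwd 828, .fwd 833, .bwd 0, .bwd 761] [] (.rel 11), .derive 23608 [.bwd 0] [] (.free), .derive 23577 [.bwd 0, .fwd 762] [4] (.free), .derive 23572 [.bwd 830, .fwd 0] [] (.free),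
  .derive 23603 [.bwd 0] [] (.free), .derive 23572 [.bwd 0, .bwd 747] [3] (.free), .derive 23638 [.fwd 706, .fwd 0] [] (.free), .derive 23638 [.fwd 0] [] (.free), .derive 23618 [.bwd 0, .fwd 709] [1] (.free), .derive 23166 [.fwd 752, .fwd 0] [] (.free), .derive 23618 [.bwd 2, .bwd 712] [6] (.free), .derive 23203 [.bwd 1] [] (.free),
  .derive 23166 [.bwd 0, .bwd 1747] [6] (.free), .derive 23621 [.bwd 749, .fwd 0] [] (.free), .derive 23621 [.fwd 0] [] (.free), .derive 4444 [.bwd 0, .bwd 746] [5] (.free), .derive 23202 [.bwd 1753, .fwd 0] [] (.free), .derive 23624 [.bwd 0] [] (.free), .derive 23202 [.bwd 0, .bwd 750] [6] (.free), .derive 23663 [.bwd 673, .fwd 0] [] (.free),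
  .derive 23663 [.fwd 0] [] (.free), .derive 23168 [.bwd 0, .fwd 674] [5] (.free), .derive 4234 [.fwd 1817, .fwd 0] [] (.free), .derive 23659 [.bwd 0] [] (.free)]
def ph17_p4_2 : List Aux := [
  .derive 4234 [.bwd 0, .bwd 684] [6] (.free), .derive 23169 [.bwd 1819, .fwd 0] [] (.free), .derive 23200 [.bwd 0] [] (.free), .derive 23169 [.bwd 0, .fwd 689] [5] (.free), .derive 23625 [.bwd 758, .fwd 0] [] (.free), .derive 23658 [.bwd 0] [] (.free), .derive 23625 [.bwd 0, .bwd 680] [6] (.free), .derive 23620 [.bwd 760, .fwd 0] [] (.free),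
  .derive 23664 [.bwd 0] [] (.free), .derive 23620 [.bwd 0, .bwd 472] [2] (.free), .derive 23739 [.fwd 556, .fwd 0] [] (.free), .derive 23620 [.bwd 2, .fwd 686] [3] (.free), .derive 23604 [.bwd 773, .fwd 0] [] (.free), .derive 23647 [.bwd 0] [] (.free), .derive 23604 [.bwd 0, .fwd 719] [6] (.free), .derive 23607 [.fwd 802, .fwd 0] [] (.free),
  .derive 23643 [.bwd 0] [] (.free), .derive 23607 [.bwd 0, .bwd 730] [5] (.free), .derive 23160 [.fwd 806, .fwd 0] [] (.free), .derive 23191 [.bwd 0] [] (.free), .derive 23160 [.bwd 0, .fwd 731] [6] (.free), .derive 4232 [.fwd 1855, .fwd 0] [] (.free), .derive 23644 [.bwd 0] [] (.free), .derive 4232 [.bwd 0, .bwd 730] [5] (.free),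
  .derive 23159 [.bwd 1859, .fwd 0] [] (.free), .derive 23646 [.bwd 0] [] (.free), .derive 23159 [.bwd 0, .bwd 734] [6] (.free), .derive 23606 [.bwd 817, .fwd 0] [] (.free), .derive 23606 [.fwd 0] [] (.free), .derive 23193 [.bwd 0, .fwd 818] [5] (.free), .derive 4442 [.fwd 1805, .fwd 0] [] (.free), .derive 23605 [.bwd 0] [] (.free),
  .derive 4442 [.bwd 0, .bwd 824] [6] (.free), .derive 23194 [.bwd 1807, .fwd 0] [] (.free), .derive 23194 [.fwd 0] [] (.free), .derive 23157 [.bwd 0, .bwd 1800] [4] (.free), .derive 23161 [.fwd 1868, .fwd 0] [] (.free), .derive 23199 [.bwd 0] [] (.free), .derive 23161 [.bwd 0, .bwd 732] [3] (.free), .derive 23609 [.bwd 822, .fwd 0] [] (.free),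
  .derive 23161 [.bwd 2, .bwd 1806] [6] (.free), .derive 23611 [.bwd 819, .fwd 0] [] (.free), .derive 23611 [.fwd 0] [] (.free), .derive 4443 [.bwd 0, .bwd 813] [5] (.free), .derive 23198 [.bwd 1812, .fwd 0] [] (.free), .derive 23616 [.bwd 0] [] (.free), .derive 23198 [.bwd 0, .bwd 817] [6] (.free), .derive 23656 [.bwd 737, .fwd 0] [] (.free),
  .derive 23656 [.fwd 0] [] (.free), .derive 23164 [.bwd 0, .fwd 738] [5] (.free), .derive 4233 [.fwd 1877, .fwd 0] [] (.free), .derive 23650 [.bwd 0] [] (.free), .derive 4233 [.bwd 0, .bwd 752] [6] (.free), .derive 23165 [.bwd 1878, .fwd 0] [] (.free), .derive 23195 [.bwd 0] [] (.free), .derive 23165 [.bwd 0, .fwd 759] [3] (.free),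
  .derive 23615 [.fwd 828, .fwd 0] [] (.free), .derive 23648 [.bwd 0] [] (.free), .derive 23654 [.bwd 18] [] (.free), .derive 23609 [.bwd 0, .bwd 754] [6] (.free), .derive 23785 [.bwd 49] [] (.free), .derive 23739 [.bwd 0, .fwd 523] [6] (.free), .derive 23746 [.fwd 595, .fwd 0] [] (.free), .derive 23778 [.bwd 0] [] (.free),
  .derive 23746 [.bwd 0, .bwd 540] [5] (.free), .derive 23274 [.fwd 599, .fwd 0] [] (.free), .derive 23338 [.bwd 0] [] (.free), .derive 23274 [.bwd 0, .fwd 545] [4] (.free), .derive 23742 [.fwd 607, .fwd 0] [] (.free), .derive 23274 [.bwd 2, .fwd 543] [6] (.free), .derive 8104 [.fwd 1721, .fwd 0] [] (.free), .derive 23779 [.bwd 0] [] (.free),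
  .derive 8104 [.bwd 0, .bwd 538] [5] (.free), .derive 23273 [.bwd 1726, .fwd 0] [] (.free), .derive 23783 [.bwd 0] [] (.free), .derive 23273 [.bwd 0, .bwd 542] [6] (.free), .derive 23744 [.bwd 613, .fwd 0] [] (.free), .derive 23744 [.fwd 0] [] (.free), .derive 23340 [.bwd 0, .fwd 614] [5] (.free), .derive 9312 [.fwd 1593, .fwd 0] [] (.free),
  .derive 23740 [.bwd 0] [] (.free), .derive 9312 [.bwd 0, .bwd 626] [6] (.free), .derive 23341 [.bwd 1595, .fwd 0] [] (.free), .derive 23341 [.fwd 0] [] (.free), .derive 23271 [.bwd 0, .bwd 1076] [3] (.free), .derive 23475 [.fwd 1120, .fwd 0] [] (.free), .derive 23271 [.bwd 2, .bwd 555] [4] (.free), .derive 23738 [.bwd 637, .fwd 0] [] (.free),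
  .derive 23781 [.bwd 0] [] (.free), .derive 23738 [.bwd 0, .fwd 559] [2] (.free), .derive 23619 [.bwd 639, .fwd 0] [] (.free), .derive 23738 [.bwd 2, .bwd 562] [6] (.free), .derive 23661 [.bwd 1] [] (.free), .derive 23504 [.bwd 7] [] (.free), .derive 23475 [.bwd 0, .fwd 221] [1] (.free), .derive 23928 [.bwd 310, .fwd 0] [] (.free),
  .derive 23475 [.bwd 2, .bwd 228] [4] (.free), .derive 23929 [.bwd 310, .fwd 0] [] (.free), .derive 23475 [.bwd 4, .bwd 1091] [6] (.free), .derive 23931 [.bwd 308, .fwd 0] [] (.free)]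
def ph17_p4_3 : List Aux := [
  .derive 23931 [.fwd 0] [] (.free), .derive 21166 [.bwd 0, .bwd 298] [5] (.free), .derive 23503 [.bwd 1097, .fwd 0] [] (.free), .derive 23938 [.bwd 0] [] (.free), .derive 23503 [.bwd 0, .bwd 302] [6] (.free), .derive 23977 [.bwd 234, .fwd 0] [] (.free), .derive 23977 [.fwd 0] [] (.free), .derive 23478 [.bwd 0, .fwd 235] [5] (.free),
  .derive 20954 [.fwd 1138, .fwd 0] [] (.free), .derive 23934 [.bwd 0] [] (.free), .derive 20954 [.bwd 0, .bwd 315] [6] (.free), .derive 23479 [.bwd 1139, .fwd 0] [] (.free), .derive 23479 [.fwd 0] [] (.free), .derive 23476 [.bwd 0, .bwd 314] [4] (.free), .derive 23932 [.bwd 322, .fwd 0] [] (.free), .derive 23476 [.bwd 2, .fwd 311] [5] (.free),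
  .derive 23933 [.bwd 323, .fwd 0] [] (.free), .derive 23939 [.bwd 0] [] (.free), .derive 23933 [.bwd 0, .fwd 313] [6] (.free), .derive 23979 [.fwd 243, .fwd 0] [] (.free), .derive 23979 [.fwd 0] [] (.free), .derive 23936 [.bwd 6] [] (.free), .derive 23932 [.bwd 0, .bwd 324] [6] (.free), .derive 23975 [.bwd 25] [] (.free),
  .derive 23929 [.bwd 0, .bwd 257] [6] (.free), .derive 23978 [.bwd 29] [] (.free), .derive 23928 [.bwd 0, .fwd 252] [3] (.free), .derive 23737 [.bwd 341, .fwd 0] [] (.free), .derive 23784 [.bwd 0] [] (.free), .derive 23737 [.bwd 0, .bwd 264] [6] (.free), .derive 23777 [.bwd 61] [] (.free), .derive 23742 [.bwd 0, .fwd 608] [2] (.free),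
  .derive 23623 [.bwd 672, .fwd 0] [] (.free), .derive 23657 [.bwd 0] [] (.free), .derive 23570 [.bwd 990, .bwd 158, .fwd 978] [6] (.rel 38), .derive 23640 [.fwd 853, .bwd 0, .bwd 865] [6] (.rel 34), .derive 23622 [.bwd 895, .fwd 893, .bwd 2, .fwd 823, .fwd 819] [6] (.rel 67), .derive 23780 [.fwd 609, .bwd 0, .bwd 680] [6] (.rel 28), .derive 23974 [.bwd 272, .bwd 13, .fwd 350, .fwd 342] [6] (.rel 67), .derive 23653 [.bwd 835, .bwd 79, .fwd 921, .fwd 913] [6] (.rel 67),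
  .node 23566 1, .derive 24022 [.bwd 0, .fwd 1008, .fwd 183] [4] (.rel 16), .node 23567 1, .derive 24023 [.bwd 0, .bwd 1009, .bwd 2075, .fwd 2072, .fwd 1007] [5] (.rel 18), .derive 24023 [.bwd 1, .bwd 234, .fwd 212, .bwd 215, .fwd 221] [6] (.rel 20), .node 23568 6, .derive 24024 [.bwd 0, .bwd 1010, .bwd 2069, .fwd 1004, .bwd 11] [1] (.rel 21), .derive 24024 [.bwd 1, .bwd 178, .bwd 3, .fwd 2] [5] (.rel 68),
  .node 23569 0, .node 23569 6, .derive 24026 [.bwd 0, .bwd 1012, .bwd 2055, .bwd 1061, .fwd 230] [1] (.rel 21), .derive 24022 [.bwd 10, .bwd 1019, .bwd 2083, .edge 0, .edge 1, .bwd 119, .fwd 942, .bwd 1060, .bwd 230, .bwd 0] [0] (.rel 1), .derive 24025 [.bwd 3, .fwd 2, .bwd 0] [6] (.rel 10), .node 23570 5, .node 23571 1, .derive 24028 [.bwd 0, .bwd 1015, .bwd 2081, .fwd 2080, .fwd 1013] [5] (.rel 18),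
  .derive 24028 [.fwd 0, .bwd 1014, .fwd 2079, .bwd 2085, .fwd 2088, .fwd 2086, .fwd 1022, .fwd 13, .fwd 11, .bwd 8, .fwd 9, .fwd 21, .bwd 0, .bwd 1] [6] (.rel 82), .node 23572 5, .derive 24029 [.bwd 0, .bwd 1017, .fwd 1018, .bwd 1, .fwd 2, .bwd 23, .fwd 4] [6] (.rel 40), .node 23574 5, .node 23575 2, .node 23575 5, .derive 24032 [.bwd 0, .bwd 1017, .fwd 1015] [3] (.rel 33), .node 23575 6,
  .derive 24033 [.bwd 0, .fwd 1018, .bwd 2077, .bwd 1933, .fwd 859, .fwd 105] [1] (.rel 21), .node 23576 1, .derive 24034 [.bwd 0, .bwd 1019, .bwd 2088, .fwd 2085, .fwd 1011] [5] (.rel 18), .derive 24034 [.fwd 0, .bwd 1012, .fwd 2083, .bwd 2101, .fwd 2105, .fwd 2104, .fwd 1041, .fwd 204, .fwd 200, .bwd 193, .bwd 192, .bwd 191, .bwd 0, .bwd 1] [6] (.rel 82), .node 23577 5, .derive 24035 [.bwd 0, .bwd 1021, .fwd 1022, .bwd 1, .fwd 2, .fwd 193, .fwd 9] [6] (.rel 40), .node 23578 5, .derive 24036 [.bwd 0, .bwd 1012,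 .fwd 1013, .fwd 200] [6] (.rel 67),
  .node 23581 5, .derive 24037 [.bwd 0, .fwd 1014, .fwd 2, .fwd 1, .bwd 202, .fwd 1044, .fwd 217] [6] (.rel 40), .node 23582 1, .derive 24038 [.bwd 0, .fwd 1014, .fwd 1012] [3] (.rel 14), .node 23583 0, .derive 24039 [.bwd 0, .fwd 1013, .fwd 28] [4] (.rel 6), .derive 24016 [.bwd 36, .bwd 25, .bwd 0] [6] (.rel 38), .node 23583 6,
  .derive 24040 [.bwd 0, .bwd 1017, .fwd 2089, .bwd 1097, .fwd 265] [1] (.rel 21), .node 23587 1, .derive 24041 [.bwd 0, .bwd 1008, .fwd 2047, .fwd 1909, .bwd 841] [2] (.rel 12), .node 23588 3, .derive 24042 [.bwd 0, .bwd 1009, .fwd 1008] [1] (.rel 15), .node 23593 1, .derive 24043 [.bwd 0, .fwd 1001, .fwd 4] [3] (.rel 14), .derive 23853 [.bwd 532, .bwd 1543, .edge 2, .edge 3, .fwd 1916, .fwd 847, .bwd 4, .bwd 0] [0] (.rel 51),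
  .node 23595 4, .derive 24044 [.bwd 0, .bwd 1001, .fwd 995] [0] (.rel 7), .derive 24044 [.bwd 1, .bwd 1000, .bwd 922] [1] (.rel 17), .node 23595 6, .derive 24045 [.bwd 0, .bwd 1004, .bwd 2038, .fwd 996] [5] (.rel 68), .node 23596 4, .derive 24046 [.bwd 0, .fwd 1002, .fwd 449] [1] (.rel 17), .derive 24046 [.bwd 1, .bwd 1002, .fwd 1] [5] (.rel 36),
  .node 23596 6, .derive 24047 [.bwd 0, .bwd 1006, .fwd 1001] [2] (.rel 29), .node 23597 6, .derive 24048 [.bwd 0, .bwd 1005, .fwd 1003] [4] (.rel 39)]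
def ph17_p4_4 : List Aux := [
  .node 23599 1, .node 23599 5, .derive 24050 [.bwd 0, .bwd 1004, .fwd 1001] [0] (.rel 9), .node 23599 6, .node 23600 4, .derive 24052 [.bwd 0, .fwd 1005, .fwd 443] [1] (.rel 17), .node 23600 5, .derive 24053 [.bwd 0, .bwd 1008, .fwd 1006] [2] (.rel 27),
  .node 23601 6, .derive 24054 [.bwd 0, .bwd 6, .bwd 7, .fwd 5] [5] (.rel 68), .node 23607 1, .derive 24055 [.bwd 0, .bwd 999, .bwd 1120, .bwd 289, .bwd 60] [5] (.rel 18), .node 23609 2, .derive 24056 [.bwd 0, .fwd 995, .fwd 990] [0] (.rel 3), .derive 24056 [.bwd 1, .fwd 154, .fwd 913] [6] (.rel 28), .node 23609 4,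
  .derive 24057 [.bwd 0, .fwd 998, .fwd 992] [0] (.rel 7), .derive 24057 [.bwd 1, .bwd 1000, .fwd 2049, .bwd 2039, .fwd 982] [3] (.rel 31), .derive 24057 [.bwd 2, .fwd 158, .fwd 916] [6] (.rel 38), .node 23612 3, .node 23612 4, .node 23612 6, .node 23613 5, .derive 24061 [.bwd 0, .bwd 999, .fwd 997] [4] (.rel 37),
  .node 23613 6, .derive 24062 [.bwd 0, .bwd 1001, .fwd 998] [4] (.rel 39), .node 23617 1, .derive 24063 [.bwd 0, .bwd 996, .bwd 1140, .bwd 311, .bwd 46] [5] (.rel 18), .node 23618 4, .derive 24064 [.bwd 0, .bwd 996, .fwd 994] [1] (.rel 17), .derive 24064 [.bwd 1, .fwd 243, .fwd 959] [6] (.rel 38), .node 23618 5,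
  .node 23619 5, .derive 24066 [.bwd 0, .bwd 998, .fwd 996] [4] (.rel 37), .node 23623 5, .derive 24067 [.bwd 0, .bwd 992, .fwd 994, .fwd 98, .bwd 918, .fwd 916, .fwd 142, .fwd 2] [6] (.rel 40), .node 23625 1, .node 23628 1, .derive 24069 [.bwd 0, .fwd 983, .fwd 97] [3] (.rel 14), .node 23628 5,
  .derive 24070 [.bwd 0, .bwd 984, .bwd 986, .fwd 979] [6] (.rel 67), .derive 24070 [.fwd 0, .bwd 980, .bwd 2042, .edge 6, .fwd 2034, .fwd 1051, .fwd 49, .fwd 48, .fwd 1044, .bwd 2059, .fwd 2060, .bwd 1039, .fwd 32, .fwd 31] [1] (.rel 81), .node 23629 4, .derive 24071 [.bwd 0, .fwd 985, .fwd 432] [1] (.rel 17), .node 23630 5, .derive 24072 [.bwd 0, .bwd 986, .fwd 984] [4] (.rel 37), .node 23631 1, .derive 24073 [.bwd 0, .fwd 985, .fwd 104] [3] (.rel 14),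
  .derive 24073 [.bwd 1, .bwd 987, .bwd 2049, .fwd 2045, .fwd 983] [5] (.rel 18), .derive 24073 [.bwd 2, .bwd 8, .fwd 7, .bwd 45, .fwd 48] [6] (.rel 20), .node 23633 2, .node 23633 6, .derive 24075 [.bwd 0, .bwd 987, .bwd 2036, .fwd 972, .fwd 116] [1] (.rel 21), .derive 24075 [.bwd 1, .bwd 283, .bwd 4, .fwd 3] [5] (.rel 68), .node 23635 5, .derive 24076 [.bwd 0, .bwd 2, .fwd 1, .bwd 54, .fwd 53] [1] (.rel 19),
  .derive 24076 [.bwd 1, .bwd 120, .fwd 975, .fwd 24] [6] (.rel 67), .node 23637 1, .derive 24077 [.bwd 0, .bwd 986, .bwd 2049, .fwd 2045, .fwd 978] [5] (.rel 18), .derive 24077 [.fwd 0, .bwd 979, .fwd 2043, .bwd 2056, .fwd 2060, .fwd 2058, .fwd 998, .fwd 12, .fwd 9, .bwd 5, .fwd 6, .bwd 123, .bwd 0, .bwd 1] [6] (.rel 82), .node 23639 1, .derive 24078 [.bwd 0, .fwd 983, .bwd 70, .fwd 71, .fwd 1066, .bwd 2101, .bwd 2081, .bwd 1025, .bwd 31] [0] (.rel 1), .node 23641 1, .node 23642 0,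
  .derive 24080 [.bwd 0, .fwd 978, .fwd 115] [3] (.rel 4), .derive 24069 [.fwd 26, .bwd 112, .bwd 0] [6] (.rel 34), .node 23642 6, .derive 24068 [.bwd 30, .fwd 1020, .bwd 1030, .fwd 1034, .bwd 283, .bwd 993, .fwd 995, .fwd 9, .fwd 7, .bwd 995, .bwd 2058, .edge 6, .fwd 2047, .fwd 982, .fwd 0] [5] (.rel 83), .node 23645 0, .derive 24082 [.bwd 0, .fwd 978, .fwd 120] [5] (.rel 8), .derive 24082 [.bwd 1, .fwd 979, .fwd 120, .bwd 58] [6] (.rel 69), .node 23645 6,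
  .derive 24083 [.bwd 0, .fwd 981, .fwd 122, .bwd 60, .bwd 1, .fwd 2, .fwd 119] [5] (.rel 41), .node 23651 1, .derive 24084 [.bwd 0, .bwd 973, .fwd 2043, .bwd 1155, .bwd 319] [2] (.rel 12), .node 23652 5, .derive 24085 [.bwd 0, .fwd 973, .fwd 959] [3] (.rel 33), .derive 24085 [.bwd 1, .bwd 58, .fwd 60, .fwd 54] [6] (.rel 67), .node 23653 1, .derive 24086 [.bwd 0, .bwd 975, .fwd 2048, .fwd 1119, .fwd 104] [5] (.rel 18),
  .node 23655 0, .derive 24087 [.bwd 0, .fwd 972, .fwd 104] [5] (.rel 8), .derive 24087 [.bwd 1, .fwd 973, .fwd 102, .bwd 54] [6] (.rel 69), .node 23655 6, .derive 24088 [.bwd 0, .fwd 975, .fwd 104, .bwd 56, .bwd 1, .fwd 2, .bwd 105] [5] (.rel 41), .node 23660 1, .derive 24089 [.bwd 0, .fwd 968, .fwd 966] [4] (.rel 16), .derive 24089 [.bwd 1, .bwd 970, .fwd 2049, .fwd 1004, .fwd 24] [5] (.rel 18),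
  .node 23662 0, .derive 24090 [.bwd 0, .fwd 968, .fwd 25] [5] (.rel 8), .derive 24090 [.bwd 1, .fwd 969, .fwd 23, .bwd 22] [6] (.rel 69), .node 23662 6, .derive 24091 [.bwd 0, .fwd 971, .fwd 25, .bwd 24, .bwd 1, .fwd 2, .bwd 26] [5] (.rel 41), .node 23665 0, .node 23665 2, .derive 24093 [.bwd 0, .bwd 968, .fwd 2049, .bwd 1409, .fwd 875] [1] (.rel 13),
  .node 23666 0, .derive 24094 [.bwd 0, .fwd 968, .fwd 635] [5] (.rel 8), .node 23666 2, .node 23666 6]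
def ph17_p4 : List Aux :=
  ((ph17_p4_0 ++ ph17_p4_1) ++ (ph17_p4_2 ++ (ph17_p4_3 ++ ph17_p4_4)))

theorem ph17_p4_ok : stHas (runList (auxStep' P) ph17_p4 (mkSt 23938 mask23 ph17_eq4)) 24097 mask23 ph17_eq5 = true := by decide +kernel

def ph17_p5_0 : List Aux := [
  .node 23667 2, .derive 24097 [.bwd 0, .bwd 969, .bwd 873] [0] (.rel 3), .derive 24097 [.bwd 1, .fwd 971, .fwd 882] [5] (.rel 26), .node 23672 0, .derive 24098 [.bwd 0, .fwd 961, .fwd 10] [5] (.rel 8), .node 23672 2, .derive 24099 [.bwd 0, .fwd 963, .fwd 11] [5] (.rel 26), .node 23673 2,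
  .derive 24100 [.bwd 0, .fwd 963, .fwd 962] [0] (.rel 3), .node 23674 1, .derive 24101 [.bwd 0, .bwd 964, .fwd 2034, .bwd 1132, .bwd 125] [2] (.rel 12), .node 23675 0, .derive 24102 [.bwd 0, .fwd 964, .fwd 957] [2] (.rel 2), .node 23675 5, .node 23677 2, .node 23677 6,
  .derive 24105 [.bwd 0, .fwd 964, .fwd 585] [3] (.rel 35), .node 23678 1, .derive 24106 [.bwd 0, .fwd 964, .bwd 2029, .bwd 2026, .fwd 960] [2] (.rel 12), .node 23679 5, .derive 24107 [.bwd 0, .bwd 965, .fwd 964] [0] (.rel 9), .node 23679 6, .node 23680 6, .derive 24109 [.bwd 0, .bwd 2, .bwd 3, .fwd 1] [5] (.rel 68),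
  .node 23681 5, .derive 24110 [.bwd 0, .bwd 968, .fwd 969, .fwd 2, .fwd 1, .bwd 3, .fwd 5] [6] (.rel 40), .node 23682 0, .node 23683 0, .node 23683 5, .node 23683 6, .node 23684 1, .node 23688 0,
  .derive 24116 [.bwd 0, .fwd 964, .fwd 4] [4] (.rel 6), .node 23688 5, .derive 24117 [.bwd 0, .fwd 966, .fwd 5] [4] (.rel 37), .node 23688 6, .derive 24118 [.bwd 0, .fwd 968, .fwd 6] [4] (.rel 39), .node 23689 5, .derive 24119 [.bwd 0, .bwd 969, .fwd 967] [2] (.rel 27), .node 23690 1,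
  .derive 24120 [.bwd 0, .fwd 968, .fwd 9] [4] (.rel 16), .node 23691 0, .derive 24121 [.bwd 0, .fwd 968, .fwd 14] [3] (.rel 4), .node 23691 4, .derive 24122 [.bwd 0, .bwd 971, .fwd 967] [1] (.rel 17), .node 23692 4, .derive 24123 [.bwd 0, .bwd 971, .fwd 969] [2] (.rel 25), .node 23692 5,
  .derive 24124 [.bwd 0, .fwd 972, .fwd 963] [0] (.rel 9), .node 23693 5, .derive 24125 [.bwd 0, .fwd 972, .fwd 964] [0] (.rel 9), .node 23693 6, .node 23694 1, .derive 24127 [.bwd 0, .fwd 972, .fwd 22] [3] (.rel 14), .node 23696 5, .node 23698 6,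
  .derive 24129 [.bwd 0, .bwd 5, .bwd 6, .fwd 4] [5] (.rel 68), .node 23699 5, .derive 24130 [.bwd 0, .bwd 971, .fwd 972, .fwd 2, .fwd 1, .bwd 6, .fwd 8] [6] (.rel 40), .node 23702 0, .derive 24131 [.bwd 0, .bwd 968, .bwd 2053, .edge 1, .edge 0, .edge 1, .edge 0, .fwd 1425, .fwd 635] [1] (.rel 0), .derive 24131 [.bwd 1, .fwd 968, .fwd 29] [3] (.rel 4), .node 23702 4, .derive 24132 [.bwd 0, .fwd 970, .fwd 995, .bwd 989, .fwd 19] [3] (.rel 31),
  .node 23702 5, .derive 24133 [.bwd 0, .fwd 972, .fwd 31] [3] (.rel 33), .node 23703 5, .derive 24134 [.bwd 0, .fwd 972, .fwd 966] [0] (.rel 9), .derive 24134 [.bwd 1, .fwd 972, .fwd 18] [3] (.rel 33), .node 23703 6, .node 23704 1, .derive 24136 [.bwd 0, .fwd 972, .fwd 31] [3] (.rel 14),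
  .node 23706 6, .derive 24137 [.bwd 0, .bwd 5, .bwd 6, .fwd 3] [5] (.rel 68), .node 23707 5, .derive 24138 [.bwd 0, .bwd 973, .fwd 974, .fwd 2, .fwd 1, .bwd 5, .fwd 8] [6] (.rel 40), .node 23710 5, .derive 24139 [.bwd 0, .bwd 970, .fwd 969] [2] (.rel 27), .node 23718 3, .derive 24140 [.bwd 0, .fwd 958, .fwd 953] [0] (.rel 5),
  .node 23718 4, .derive 24141 [.bwd 0, .bwd 961, .fwd 959] [2] (.rel 25), .node 23718 6, .node 23719 6, .node 23721 4, .node 23721 5, .derive 24145 [.bwd 0, .bwd 960, .fwd 959] [3] (.rel 33), .node 23722 1,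
  .derive 24146 [.bwd 0, .fwd 960, .fwd 2057, .fwd 1497, .fwd 727] [2] (.rel 12), .node 23722 6, .derive 24147 [.bwd 0, .bwd 88, .fwd 87, .fwd 7] [5] (.rel 68), .node 23723 5, .derive 24148 [.bwd 0, .bwd 963, .fwd 965, .fwd 2, .fwd 1, .bwd 9, .bwd 89] [6] (.rel 40), .node 23724 6, .derive 24149 [.bwd 0, .fwd 817, .fwd 818, .fwd 10] [5] (.rel 68), .node 23725 5,
  .derive 24150 [.bwd 0, .bwd 965, .fwd 966, .fwd 2, .fwd 1, .bwd 12, .bwd 820] [6] (.rel 40), .node 23728 1, .derive 24151 [.bwd 0, .bwd 962, .bwd 1518, .bwd 1937, .fwd 896] [2] (.rel 12), .node 23728 4]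
def ph17_p5_1 : List Aux := [
  .derive 24152 [.bwd 0, .bwd 964, .fwd 963] [2] (.rel 25), .node 23728 6, .node 23729 6, .node 23731 6, .derive 24155 [.bwd 0, .bwd 931, .fwd 930, .fwd 2] [5] (.rel 68), .node 23732 5, .derive 24156 [.bwd 0, .bwd 965, .fwd 967, .fwd 2, .fwd 1, .bwd 4, .bwd 932] [6] (.rel 40), .node 23733 6,
  .derive 24157 [.bwd 0, .bwd 932, .fwd 931, .fwd 5] [5] (.rel 68), .node 23734 5, .derive 24158 [.bwd 0, .bwd 966, .fwd 968, .fwd 2, .fwd 1, .bwd 7, .bwd 933] [6] (.rel 40), .node 23737 4, .derive 24159 [.bwd 0, .bwd 963, .fwd 962] [1] (.rel 17), .node 23738 5, .node 23742 1, .derive 24161 [.bwd 0, .fwd 954, .fwd 950] [4] (.rel 16),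
  .node 23742 5, .derive 24162 [.bwd 0, .bwd 958, .fwd 961, .bwd 279, .bwd 890, .fwd 888, .fwd 328, .fwd 3] [6] (.rel 40), .node 23743 2, .derive 24163 [.bwd 0, .bwd 957, .fwd 2071, .bwd 1217, .bwd 211] [1] (.rel 13), .node 23743 6, .node 23745 2, .derive 24165 [.bwd 0, .bwd 957, .fwd 2072, .bwd 1225, .bwd 224] [1] (.rel 13), .node 23749 4,
  .derive 24166 [.bwd 0, .fwd 950, .fwd 24] [5] (.rel 36), .node 23755 0, .node 23756 3, .derive 24168 [.bwd 0, .bwd 940, .fwd 938] [1] (.rel 15), .node 23759 2, .derive 24169 [.bwd 0, .bwd 937, .fwd 1978, .fwd 1164, .fwd 178] [1] (.rel 13), .node 23759 6, .node 23760 1,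
  .derive 24171 [.bwd 0, .bwd 939, .bwd 1980, .fwd 1978, .fwd 936] [5] (.rel 18), .node 23762 6, .derive 24172 [.bwd 0, .fwd 937, .fwd 3] [3] (.rel 35), .node 23763 6, .node 23764 1, .derive 24174 [.bwd 0, .bwd 938, .bwd 1979, .fwd 1977, .fwd 935] [5] (.rel 18), .node 23766 6, .node 23767 1,
  .derive 24176 [.bwd 0, .fwd 936, .fwd 934] [4] (.rel 16), .node 23768 6, .derive 24177 [.bwd 0, .fwd 935, .fwd 3] [3] (.rel 35), .node 23769 1, .node 23770 6, .node 23771 1, .derive 24180 [.bwd 0, .bwd 936, .bwd 1975, .fwd 1973, .fwd 933] [5] (.rel 18), .node 23773 6,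
  .derive 24181 [.bwd 0, .fwd 934, .fwd 3] [3] (.rel 35), .node 23774 5, .derive 24182 [.bwd 0, .bwd 935, .fwd 932] [3] (.rel 33), .derive 24182 [.bwd 1, .fwd 934, .fwd 564, .fwd 563, .bwd 567, .fwd 1435, .fwd 571] [6] (.rel 40), .node 23776 6, .derive 24183 [.bwd 0, .fwd 932, .fwd 17] [3] (.rel 35), .node 23780 1, .node 23782 6,
  .node 23786 1, .derive 24186 [.bwd 0, .fwd 917, .fwd 11] [4] (.rel 16), .derive 24186 [.bwd 1, .bwd 919, .bwd 1965, .fwd 1963, .fwd 916] [5] (.rel 18), .node 23788 6, .node 23790 1, .derive 24188 [.bwd 0, .fwd 915, .fwd 24] [4] (.rel 16), .derive 24188 [.bwd 1, .bwd 917, .bwd 1966, .fwd 1964, .fwd 915] [5] (.rel 18), .node 23791 2,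
  .derive 24189 [.bwd 0, .fwd 916, .bwd 65] [4] (.rel 24), .node 23793 6, .derive 24190 [.bwd 0, .bwd 914, .fwd 1962, .fwd 924, .fwd 6] [1] (.rel 21), .node 23794 0, .derive 24191 [.bwd 0, .fwd 913, .fwd 803] [5] (.rel 8), .node 23794 2, .derive 24192 [.bwd 0, .fwd 916, .fwd 171] [4] (.rel 24), .derive 24192 [.bwd 1, .fwd 916, .fwd 805] [5] (.rel 26),
  .node 23794 6, .node 23795 0, .derive 24194 [.bwd 0, .fwd 916, .fwd 805] [5] (.rel 8), .node 23795 6, .node 23796 0, .node 23797 0, .derive 24197 [.bwd 0, .fwd 917, .fwd 174] [4] (.rel 6), .derive 24197 [.bwd 1, .fwd 917, .fwd 2] [5] (.rel 8),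
  .node 23797 2, .derive 24198 [.bwd 0, .fwd 920, .fwd 175] [4] (.rel 24), .node 23798 1, .derive 24199 [.bwd 0, .fwd 919, .fwd 51] [4] (.rel 16), .derive 24199 [.bwd 1, .bwd 921, .bwd 1963, .fwd 1961, .fwd 917] [5] (.rel 18), .node 23800 6, .node 23804 2, .derive 24201 [.bwd 0, .fwd 912, .fwd 186] [4] (.rel 24),
  .derive 24201 [.bwd 1, .fwd 912, .bwd 106] [5] (.rel 26), .node 23805 0, .derive 24202 [.bwd 0, .fwd 911, .fwd 64] [3] (.rel 4), .node 23809 0, .derive 24203 [.bwd 0, .fwd 906, .fwd 2] [5] (.rel 8), .node 23809 2, .node 23812 5, .derive 24205 [.bwd 0, .fwd 903, .fwd 899] [0] (.rel 9),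
  .node 23812 6, .node 23815 1, .derive 24207 [.bwd 0, .fwd 901, .fwd 899] [3] (.rel 14), .node 23815 6]
def ph17_p5_2 : List Aux := [
  .derive 24208 [.bwd 0, .bwd 4, .bwd 5, .fwd 3] [5] (.rel 68), .node 23816 5, .derive 24209 [.bwd 0, .bwd 904, .fwd 906, .fwd 2, .fwd 1, .bwd 5, .fwd 7] [6] (.rel 40), .node 23817 2, .derive 24210 [.bwd 0, .bwd 905, .fwd 1937, .fwd 944, .fwd 23] [1] (.rel 13), .derive 24210 [.bwd 1, .fwd 905, .fwd 11] [4] (.rel 24), .node 23817 6, .node 23822 0,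
  .derive 24212 [.bwd 0, .fwd 899, .fwd 82] [5] (.rel 8), .node 23822 6, .node 23825 5, .derive 24214 [.bwd 0, .fwd 896, .fwd 895] [0] (.rel 9), .node 23825 6, .node 23826 1, .derive 24216 [.bwd 0, .fwd 897, .fwd 16] [4] (.rel 16), .derive 24216 [.bwd 1, .bwd 899, .fwd 1940, .bwd 1025, .bwd 87] [5] (.rel 18),
  .node 23826 6, .derive 24217 [.bwd 0, .bwd 5, .bwd 6, .fwd 4] [5] (.rel 68), .node 23827 5, .derive 24218 [.bwd 0, .bwd 901, .fwd 903, .fwd 2, .fwd 1, .bwd 6, .fwd 8] [6] (.rel 40), .node 23828 6, .derive 24219 [.bwd 0, .fwd 901, .fwd 11] [4] (.rel 39), .node 23829 3, .derive 24220 [.bwd 0, .bwd 863, .fwd 339] [0] (.rel 5),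
  .derive 24220 [.bwd 1, .bwd 903, .fwd 902] [1] (.rel 15), .node 23835 2, .derive 24221 [.bwd 0, .bwd 894, .fwd 893] [0] (.rel 3), .node 23835 5, .derive 24222 [.bwd 0, .bwd 896, .fwd 893] [0] (.rel 9), .node 23835 6, .node 23836 5, .derive 24224 [.bwd 0, .bwd 898, .fwd 896] [2] (.rel 27),
  .node 23837 6, .derive 24225 [.bwd 0, .bwd 4, .bwd 5, .fwd 3] [5] (.rel 68), .node 23838 5, .derive 24226 [.bwd 0, .bwd 899, .fwd 900, .fwd 2, .fwd 1, .bwd 5, .fwd 7] [6] (.rel 40), .node 23839 2, .derive 24227 [.bwd 0, .fwd 899, .fwd 11] [4] (.rel 24), .node 23839 5, .derive 24228 [.bwd 0, .bwd 902, .fwd 898] [0] (.rel 9),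
  .node 23839 6, .node 23840 5, .derive 24230 [.bwd 0, .fwd 902, .fwd 11] [4] (.rel 37), .node 23841 6, .derive 24231 [.bwd 0, .bwd 4, .bwd 5, .fwd 3] [5] (.rel 68), .node 23842 5, .derive 24232 [.bwd 0, .bwd 904, .fwd 905, .fwd 2, .fwd 1, .bwd 5, .fwd 7] [6] (.rel 40), .node 23843 6,
  .derive 24233 [.bwd 0, .bwd 905, .bwd 1646, .fwd 871] [5] (.rel 68), .node 23844 6, .node 23845 5, .derive 24235 [.bwd 0, .bwd 906, .bwd 1649, .fwd 874, .bwd 2, .bwd 3, .bwd 879] [6] (.rel 40), .node 23848 2, .derive 24236 [.bwd 0, .bwd 905, .fwd 904] [0] (.rel 3), .node 23849 3, .node 23853 5,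
  .derive 24238 [.bwd 0, .bwd 901, .fwd 900] [2] (.rel 27), .node 23854 1, .derive 24239 [.bwd 0, .bwd 902, .fwd 1913, .bwd 935, .bwd 33] [5] (.rel 18), .node 23856 5, .node 23857 6, .derive 24241 [.bwd 0, .bwd 899, .bwd 1232, .fwd 261] [5] (.rel 68), .node 23858 3, .node 23858 6,
  .node 23859 5, .derive 24244 [.bwd 0, .bwd 901, .bwd 1236, .fwd 265, .bwd 3, .bwd 4, .bwd 267] [6] (.rel 40), .node 23860 6, .derive 24245 [.bwd 0, .bwd 902, .bwd 1012, .fwd 94] [5] (.rel 68), .node 23861 6, .derive 24246 [.bwd 0, .fwd 902, .fwd 5] [4] (.rel 39), .node 23862 5, .derive 24247 [.bwd 0, .bwd 903, .bwd 1016, .fwd 98, .bwd 3, .bwd 4, .bwd 102] [6] (.rel 40),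
  .node 23863 6, .derive 24248 [.bwd 0, .bwd 904, .bwd 1015, .fwd 97] [5] (.rel 68), .node 23864 5, .derive 24249 [.bwd 0, .bwd 905, .bwd 1017, .fwd 99, .bwd 1, .bwd 2, .bwd 100] [6] (.rel 40), .node 23865 2, .derive 24250 [.bwd 0, .bwd 906, .fwd 904] [0] (.rel 3), .node 23866 6, .node 23867 4,
  .derive 24252 [.bwd 0, .fwd 904, .fwd 902] [1] (.rel 17), .node 23870 2, .derive 24253 [.bwd 0, .fwd 901, .fwd 5] [4] (.rel 24), .derive 24253 [.bwd 1, .fwd 901, .fwd 30] [5] (.rel 26), .node 23871 3, .derive 24254 [.bwd 0, .fwd 901, .fwd 22] [1] (.rel 15), .derive 24254 [.bwd 1, .fwd 900, .fwd 31] [5] (.rel 32), .node 23871 6,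
  .derive 24255 [.bwd 0, .fwd 903, .fwd 9] [4] (.rel 39), .node 23872 4, .derive 24256 [.bwd 0, .bwd 903, .fwd 1684, .fwd 915, .fwd 10] [3] (.rel 31), .node 23876 6, .derive 24257 [.bwd 0, .fwd 896, .bwd 887, .bwd 879, .fwd 878, .bwd 899, .bwd 889] [5] (.rel 41), .node 23878 6, .derive 24258 [.bwd 0, .bwd 893, .bwd 886, .bwd 884, .fwd 883, .bwd 915, .bwd 878] [5] (.rel 41), .node 23886 2,
  .node 23886 3, .derive 24260 [.bwd 0, .bwd 880, .fwd 879] [1] (.rel 15), .node 23887 2, .derive 24261 [.bwd 0, .fwd 880, .fwd 291] [5] (.rel 26)]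
def ph17_p5_3 : List Aux := [
  .node 23888 2, .derive 24262 [.bwd 0, .fwd 880, .fwd 5] [4] (.rel 24), .node 23889 5, .derive 24263 [.bwd 0, .bwd 881, .fwd 880] [0] (.rel 9), .node 23889 6, .node 23890 6, .derive 24265 [.bwd 0, .bwd 2, .bwd 3, .fwd 1] [5] (.rel 68), .node 23891 5,
  .derive 24266 [.bwd 0, .bwd 884, .fwd 885, .fwd 2, .fwd 1, .bwd 3, .fwd 5] [6] (.rel 40), .node 23892 5, .derive 24267 [.bwd 0, .bwd 885, .fwd 884] [0] (.rel 9), .node 23892 6, .node 23893 6, .derive 24269 [.bwd 0, .bwd 2, .bwd 3, .fwd 1] [5] (.rel 68), .node 23895 5, .derive 24270 [.bwd 0, .bwd 886, .fwd 885] [0] (.rel 9),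
  .node 23895 6, .node 23896 6, .derive 24272 [.bwd 0, .bwd 2, .bwd 3, .fwd 1] [5] (.rel 68), .node 23897 5, .derive 24273 [.bwd 0, .fwd 888, .fwd 12] [4] (.rel 37), .derive 24273 [.bwd 1, .bwd 890, .fwd 891, .fwd 3, .fwd 2, .bwd 4, .fwd 6] [6] (.rel 40), .node 23898 2, .derive 24274 [.bwd 0, .bwd 890, .fwd 888] [0] (.rel 3),
  .derive 24274 [.bwd 1, .fwd 890, .bwd 311] [4] (.rel 24), .node 23898 5, .derive 24275 [.bwd 0, .bwd 893, .fwd 888] [0] (.rel 9), .derive 24275 [.bwd 1, .fwd 893, .fwd 307] [4] (.rel 37), .node 23898 6, .node 23899 5, .derive 24277 [.bwd 0, .bwd 895, .fwd 892] [2] (.rel 27), .derive 24277 [.bwd 1, .fwd 894, .fwd 317] [4] (.rel 37),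
  .node 23900 6, .derive 24278 [.bwd 0, .bwd 6, .bwd 7, .fwd 4] [5] (.rel 68), .node 23901 5, .derive 24279 [.bwd 0, .bwd 896, .fwd 897, .fwd 2, .fwd 1, .bwd 6, .fwd 9] [6] (.rel 40), .node 23902 5, .derive 24280 [.bwd 0, .fwd 896, .fwd 890] [0] (.rel 9), .node 23902 6, .node 23905 5,
  .derive 24282 [.bwd 0, .bwd 445, .bwd 444, .fwd 445, .fwd 0] [1] (.rel 19), .derive 24282 [.bwd 1, .fwd 895, .fwd 891] [2] (.rel 27), .node 23905 6, .derive 24283 [.bwd 0, .bwd 898, .fwd 895] [4] (.rel 39), .node 23906 6, .derive 24284 [.bwd 0, .bwd 7, .bwd 8, .fwd 6] [5] (.rel 68), .node 23907 1, .derive 24285 [.bwd 0, .fwd 898, .bwd 1692, .bwd 1684, .fwd 864] [2] (.rel 12),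
  .derive 24285 [.bwd 1, .bwd 900, .bwd 1456, .fwd 451, .bwd 225] [6] (.rel 20), .node 23907 5, .derive 24286 [.bwd 0, .fwd 901, .fwd 895] [2] (.rel 27), .derive 24286 [.bwd 1, .bwd 903, .fwd 904, .fwd 6, .fwd 5, .bwd 12, .fwd 14] [6] (.rel 40), .node 23912 5, .derive 24287 [.bwd 0, .fwd 895, .fwd 890] [0] (.rel 9), .node 23912 6, .node 23915 6,
  .derive 24289 [.bwd 0, .bwd 894, .fwd 891] [4] (.rel 39), .node 23916 1, .derive 24290 [.bwd 0, .fwd 894, .bwd 1705, .bwd 1697, .fwd 877] [2] (.rel 12), .derive 24290 [.bwd 1, .bwd 896, .bwd 1459, .fwd 452, .bwd 239] [5] (.rel 18), .node 23916 6, .derive 24291 [.bwd 0, .bwd 7, .bwd 8, .fwd 6] [5] (.rel 68), .node 23917 5, .derive 24292 [.bwd 0, .fwd 897, .fwd 892] [2] (.rel 27),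
  .derive 24292 [.bwd 1, .bwd 899, .fwd 901, .fwd 3, .fwd 2, .bwd 9, .fwd 11] [6] (.rel 40), .node 23922 1, .derive 24293 [.bwd 0, .bwd 891, .fwd 1709, .fwd 1696, .fwd 866] [5] (.rel 18), .node 23925 1, .derive 24294 [.bwd 0, .bwd 888, .fwd 1709, .fwd 1209, .fwd 253] [6] (.rel 20), .node 23928 4, .derive 24295 [.bwd 0, .bwd 885, .fwd 883] [1] (.rel 17), .node 23928 6,
  .derive 24296 [.bwd 0, .fwd 886, .fwd 542] [3] (.rel 35), .node 23929 5, .derive 24297 [.bwd 0, .bwd 887, .fwd 885] [4] (.rel 37), .node 23932 5, .derive 24298 [.bwd 0, .fwd 553, .fwd 880, .bwd 537, .bwd 810, .fwd 809, .fwd 552, .fwd 2] [6] (.rel 40), .node 23937 6, .derive 24299 [.bwd 0, .fwd 877, .fwd 257] [3] (.rel 35), .node 23940 5,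
  .derive 24300 [.bwd 0, .fwd 873, .fwd 868] [0] (.rel 9), .node 23940 6, .node 23943 6, .derive 24302 [.bwd 0, .bwd 872, .fwd 870] [4] (.rel 39), .node 23944 6, .derive 24303 [.bwd 0, .bwd 4, .bwd 5, .fwd 3] [5] (.rel 68), .node 23945 5, .derive 24304 [.bwd 0, .fwd 873, .fwd 862] [2] (.rel 27),
  .derive 24304 [.bwd 1, .bwd 875, .fwd 876, .fwd 3, .fwd 2, .bwd 6, .fwd 8] [6] (.rel 40), .node 23949 2, .derive 24305 [.bwd 0, .fwd 868, .fwd 261] [5] (.rel 26), .node 23952 6, .node 23954 6, .derive 24307 [.bwd 0, .fwd 862, .fwd 1] [4] (.rel 39), .node 23956 5, .derive 24308 [.bwd 0, .fwd 859, .fwd 853] [0] (.rel 9),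
  .node 23956 6, .node 23959 5, .derive 24310 [.bwd 0, .fwd 857, .fwd 853] [2] (.rel 27), .node 23959 6]
def ph17_p5_4 : List Aux := [
  .derive 24311 [.bwd 0, .bwd 860, .fwd 857] [4] (.rel 39), .node 23960 6, .derive 24312 [.bwd 0, .bwd 6, .bwd 7, .fwd 5] [5] (.rel 68), .node 23961 5, .derive 24313 [.bwd 0, .fwd 860, .fwd 854] [2] (.rel 27), .derive 24313 [.bwd 1, .bwd 862, .fwd 863, .fwd 3, .fwd 2, .bwd 8, .fwd 10] [6] (.rel 40), .node 23962 1, .derive 24314 [.bwd 0, .bwd 862, .fwd 1718, .fwd 1204, .fwd 267] [5] (.rel 18),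
  .node 23966 1, .derive 24315 [.bwd 0, .fwd 856, .fwd 855] [4] (.rel 16), .derive 24315 [.bwd 1, .bwd 858, .fwd 1717, .fwd 1202, .fwd 266] [5] (.rel 18), .node 23968 1, .derive 24316 [.bwd 0, .bwd 856, .fwd 1715, .fwd 1707, .fwd 843] [5] (.rel 18), .node 23970 1, .derive 24317 [.bwd 0, .fwd 854, .fwd 852] [4] (.rel 16), .derive 24317 [.bwd 1, .bwd 856, .fwd 1716, .fwd 1188, .fwd 260] [5] (.rel 18),
  .node 23971 1, .derive 24318 [.bwd 0, .bwd 856, .fwd 1718, .fwd 1188, .fwd 628, .bwd 304] [6] (.rel 20), .node 23976 6, .derive 24319 [.bwd 0, .fwd 849, .fwd 263] [3] (.rel 35), .node 23980 1, .derive 24320 [.bwd 0, .bwd 844, .bwd 1712, .fwd 1708, .fwd 838] [5] (.rel 18), .node 23982 1, .derive 24321 [.bwd 0, .fwd 842, .fwd 279] [3] (.rel 14),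
  .derive 24321 [.bwd 1, .fwd 842, .fwd 841] [4] (.rel 16), .node 23985 1, .derive 24322 [.bwd 0, .bwd 840, .bwd 1708, .fwd 1704, .fwd 837] [5] (.rel 18), .node 23987 6, .derive 24323 [.bwd 0, .fwd 838, .fwd 242] [3] (.rel 35), .node 23988 1, .derive 24324 [.bwd 0, .bwd 839, .bwd 1682, .bwd 1553, .bwd 545] [5] (.rel 18), .derive 24239 [.fwd 172, .fwd 207, .bwd 0] [0] (.rel 9),
  .derive 24139 [.bwd 355, .bwd 1325, .fwd 2419, .fwd 2585, .bwd 2583, .fwd 1548, .fwd 546, .bwd 544, .fwd 176, .fwd 175, .fwd 174, .fwd 0, .fwd 1, .bwd 421, .bwd 422, .bwd 423, .bwd 132, .bwd 133, .bwd 134] [0] (.rel 74), .derive 24259 [.bwd 137, .fwd 136, .bwd 0, .fwd 355, .fwd 1324, .bwd 2409, .bwd 2401, .bwd 1305, .bwd 346] [] (.rel 57), .derive 24259 [.fwd 0] [] (.free), .derive 24145 [.bwd 0, .bwd 133] [4] (.free), .derive 24262 [.bwd 0, .bwd 350, .fwd 351] [5] (.rel 36), .derive 24144 [.bwd 0, .bwd 136, .bwd 1017, .bwd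 1805, .edge 5, .edge 2, .edge 1, .edge 0, .edge 5, .edge 2, .edge 1, .edge 0, .edge 5, .edge 2, .bwd 2438, .bwd 1367, .fwd 399, .fwd 398, .fwd 397] [0] (.rel 74), .derive 24115 [.bwd 397, .bwd 0, .bwd 353, .bwd 358] [] (.rel 7), .derive 24140 [.bwd 0] [] (.free),
  .derive 24115 [.bwd 0, .bwd 361] [3] (.free), .derive 24127 [.fwd 387, .fwd 0] [] (.free), .derive 24127 [.fwd 0] [] (.free), .derive 23718 [.bwd 0, .bwd 390] [1] (.free), .derive 24093 [.fwd 448, .fwd 0] [] (.free), .derive 24093 [.fwd 0] [] (.free), .derive 23694 [.bwd 0, .bwd 439] [5] (.free), .derive 23241 [.fwd 1368, .fwd 0] [] (.free),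
  .derive 24099 [.bwd 0] [] (.free), .derive 23241 [.bwd 0, .bwd 267] [4] (.free), .derive 23693 [.bwd 1373, .fwd 0] [] (.free), .derive 24198 [.bwd 0] [] (.free), .derive 23693 [.bwd 0, .bwd 247] [1] (.free), .derive 24122 [.fwd 408, .fwd 0] [] (.free), .derive 23693 [.bwd 2, .bwd 273] [2] (.free), .derive 24123 [.fwd 408, .fwd 0] [] (.free),
  .derive 24123 [.fwd 0] [] (.free), .derive 23797 [.bwd 0, .bwd 411] [4] (.free), .derive 23672 [.bwd 1197, .fwd 0] [] (.free), .derive 23692 [.bwd 0] [] (.free), .derive 23672 [.bwd 0, .fwd 412] [5] (.free), .derive 23665 [.bwd 1418, .fwd 0] [] (.free), .derive 24124 [.bwd 0] [] (.free), .derive 23665 [.bwd 0, .fwd 414] [0] (.free),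
  .derive 24092 [.bwd 470, .fwd 0] [] (.free), .derive 24092 [.fwd 0] [] (.free), .derive 23697 [.bwd 0, .bwd 461] [5] (.free), .derive 23242 [.fwd 1382, .fwd 0] [] (.free), .derive 24098 [.bwd 0] [] (.free), .derive 23242 [.bwd 0, .bwd 290] [4] (.free), .derive 23696 [.bwd 1387, .fwd 0] [] (.free), .derive 24197 [.bwd 0] [] (.free),
  .derive 23696 [.bwd 0, .fwd 292] [5] (.free), .derive 24128 [.bwd 418, .fwd 0] [] (.free), .derive 24196 [.bwd 0] [] (.free), .derive 24128 [.bwd 0, .bwd 298] [0] (.free), .derive 24210 [.bwd 22] [] (.free), .derive 24122 [.bwd 0, .fwd 271] [4] (.free), .derive 23691 [.fwd 434, .fwd 0] [] (.free), .derive 24204 [.bwd 0] [] (.free),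
  .derive 24121 [.bwd 438, .bwd 0, .bwd 286, .fwd 288] [2] (.rel 2), .derive 24230 [.bwd 239, .bwd 1142, .bwd 2149, .edge 0, .edge 5, .edge 2, .edge 1, .edge 0, .fwd 2292, .bwd 2266, .fwd 1222, .bwd 5, .bwd 426, .fwd 1397, .fwd 2477, .bwd 2499, .fwd 2498, .bwd 1431, .bwd 1045, .bwd 157] [] (.rel 74), .derive 24274 [.bwd 0] [] (.free), .derive 24230 [.bwd 0, .fwd 158] [4] (.free), .derive 24224 [.bwd 241, .fwd 0] [] (.free), .derive 24224 [.fwd 0] [] (.free), .derive 24102 [.bwd 0, .fwd 254] [2] (.free), .derive 23679 [.bwd 474, .fwd 0] [] (.free),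
  .derive 23837 [.bwd 0] [] (.free), .derive 23679 [.bwd 0, .fwd 256] [6] (.free), .derive 24108 [.bwd 468, .fwd 0] [] (.free), .derive 24225 [.bwd 0] [] (.free), .derive 24108 [.bwd 0, .fwd 258] [5] (.free), .derive 24109 [.fwd 469, .fwd 0] [] (.free), .derive 24223 [.bwd 0] [] (.free), .derive 24109 [.bwd 0, .bwd 265] [6] (.free),
  .derive 23680 [.fwd 473, .fwd 0] [] (.free), .derive 23835 [.bwd 0] [] (.free), .derive 23680 [.bwd 0, .fwd 270] [5] (.free), .derive 23234 [.fwd 1443, .fwd 0] [] (.free)]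
def ph17_p5 : List Aux :=
  ((ph17_p5_0 ++ ph17_p5_1) ++ (ph17_p5_2 ++ (ph17_p5_3 ++ ph17_p5_4)))

theorem ph17_p5_ok : stHas (runList (auxStep' P) ph17_p5 (mkSt 24097 mask23 ph17_eq5)) 24325 mask23 ph17_eq6 = true := by decide +kernel

end Cfsg.Agent.CosetData.SuzB
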