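import Cfsg.Agent.Lib.Compute.CosetData.SuzBAux

/-! Coset enumeration certificate data (S1681). -/

set_option autoImplicit false
set_option maxRecDepth 100000
set_option Elab.async false

namespace Cfsg.Agent.CosetData.SuzB

open Cfsg.Agent.CosetCert

def ph17_p6_0 : List Aux := [
  .derive 24222 [.bwd 0] [] (.free), .derive 23234 [.bwd 0, .bwd 265] [6] (.free), .derive 23681 [.bwd 1445, .fwd 0] [] (.free), .derive 24226 [.bwd 0] [] (.free), .derive 23681 [.bwd 0, .bwd 269] [5] (.free), .derive 24110 [.bwd 480, .fwd 0] [] (.free), .derive 24110 [.fwd 0] [] (.free), .derive 23838 [.bwd 0, .fwd 481] [6] (.free),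
  .derive 23418 [.fwd 1172, .fwd 0] [] (.free), .derive 24107 [.bwd 0] [] (.free), .derive 23418 [.bwd 0, .bwd 182] [4] (.free), .derive 23419 [.fwd 2178, .fwd 0] [] (.free), .derive 24275 [.bwd 0] [] (.free), .derive 23419 [.bwd 0, .bwd 177] [6] (.free), .derive 23842 [.bwd 1172, .fwd 0] [] (.free), .derive 24279 [.bwd 0] [] (.free),
  .derive 23842 [.bwd 0, .bwd 181] [5] (.free), .derive 24232 [.bwd 271, .fwd 0] [] (.free), .derive 24232 [.fwd 0] [] (.free), .derive 23901 [.bwd 0, .fwd 272] [6] (.free), .derive 23458 [.fwd 1081, .fwd 0] [] (.free), .derive 24228 [.bwd 0] [] (.free), .derive 23458 [.bwd 0, .bwd 283] [5] (.free), .derive 23900 [.bwd 1085, .fwd 0] [] (.free),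
  .derive 23900 [.fwd 0] [] (.free), .derive 23839 [.bwd 0, .bwd 194] [2] (.free), .derive 24227 [.bwd 289, .fwd 0] [] (.free), .derive 24277 [.bwd 0] [] (.free), .derive 24227 [.bwd 0, .fwd 196] [4] (.free), .derive 24221 [.bwd 291, .fwd 0] [] (.free), .derive 24221 [.fwd 0] [] (.free), .derive 24103 [.bwd 0, .fwd 304] [0] (.free),
  .derive 24146 [.fwd 443, .bwd 1171, .bwd 1939, .fwd 1938, .bwd 1942, .fwd 1944, .bwd 1201, .bwd 1202, .fwd 1203, .bwd 1198, .bwd 0, .bwd 518, .fwd 1484, .bwd 2542, .edge 0, .fwd 2544, .bwd 2540, .fwd 1474, .fwd 505] [5] (.rel 75), .derive 24111 [.bwd 0, .fwd 444, .fwd 273] [2] (.rel 27), .derive 24240 [.bwd 0, .bwd 507, .bwd 515] [0] (.rel 3), .derive 24104 [.bwd 520, .bwd 1484, .bwd 2551, .fwd 2548, .bwd 1481, .fwd 517, .bwd 0, .bwd 275, .bwd 446, .bwd 447, .bwd 533, .fwd 532, .bwd 1415, .fwd 1949, .bwd 2585, .bwd 2586, .edge 2, .edge 1, .edge 0, .edge 5] [] (.rel 75), .derive 24104 [.fwd 0] [] (.free), .derive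 11885 [.bwd 0, .bwd 522] [2] (.free), .derive 11886 [.edge 2, .fwd 0] [] (.free), .derive 23677 [.bwd 0] [] (.free),
  .derive 11886 [.bwd 0, .fwd 524] [6] (.free), .derive 11919 [.edge 6, .fwd 0] [] (.free), .derive 24105 [.bwd 0] [] (.free), .derive 11919 [.bwd 0, .fwd 526] [3] (.free), .derive 23448 [.bwd 1926, .fwd 0] [] (.free), .derive 23897 [.bwd 0] [] (.free), .derive 23448 [.bwd 0, .bwd 1115] [6] (.free), .derive 23443 [.bwd 1928, .fwd 0] [] (.free),
  .derive 23457 [.bwd 0] [] (.free), .derive 23443 [.bwd 0, .fwd 1119] [5] (.free), .derive 23444 [.fwd 1938, .fwd 0] [] (.free), .derive 23896 [.bwd 0] [] (.free), .derive 23444 [.bwd 0, .fwd 234] [6] (.free), .derive 23877 [.bwd 1156, .fwd 0] [] (.free), .derive 24272 [.bwd 0] [] (.free), .derive 23877 [.bwd 0, .fwd 236] [5] (.free),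
  .derive 23447 [.bwd 1158, .fwd 0] [] (.free), .derive 24271 [.bwd 0] [] (.free), .derive 23447 [.bwd 0, .bwd 241] [6] (.free), .derive 23442 [.bwd 1942, .fwd 0] [] (.free), .derive 23895 [.bwd 0] [] (.free), .derive 23442 [.bwd 0, .fwd 246] [5] (.free), .derive 23422 [.bwd 1953, .fwd 0] [] (.free), .derive 24270 [.bwd 0] [] (.free),
  .derive 23422 [.bwd 0, .bwd 242] [6] (.free), .derive 23451 [.fwd 1938, .fwd 0] [] (.free), .derive 24273 [.bwd 0] [] (.free), .derive 23451 [.bwd 0, .fwd 246] [4] (.free), .derive 23884 [.bwd 1156, .fwd 0] [] (.free), .derive 24266 [.bwd 0] [] (.free), .derive 23884 [.bwd 0, .fwd 261] [6] (.free), .derive 23847 [.bwd 1157, .fwd 0] [] (.free),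
  .derive 24263 [.bwd 0] [] (.free), .derive 23847 [.bwd 0, .bwd 270] [5] (.free), .derive 23874 [.fwd 1181, .fwd 0] [] (.free), .derive 23889 [.bwd 0] [] (.free), .derive 23874 [.bwd 0, .fwd 271] [6] (.free), .derive 23880 [.fwd 1174, .fwd 0] [] (.free), .derive 24264 [.bwd 0] [] (.free), .derive 23880 [.bwd 0, .bwd 272] [5] (.free),
  .derive 24257 [.fwd 287, .fwd 0] [] (.free), .derive 24265 [.bwd 0] [] (.free), .derive 24257 [.bwd 0, .bwd 276] [6] (.free), .derive 23876 [.fwd 291, .fwd 0] [] (.free), .derive 23890 [.bwd 0] [] (.free), .derive 23876 [.bwd 0, .bwd 1162] [5] (.free), .derive 23875 [.bwd 1190, .fwd 0] [] (.free), .derive 23875 [.fwd 0] [] (.free),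
  .derive 23455 [.bwd 0, .bwd 1183] [6] (.free), .derive 23891 [.bwd 1165, .fwd 0] [] (.free), .derive 23891 [.fwd 0] [] (.free), .derive 23881 [.bwd 0, .bwd 1163] [3] (.free), .derive 23882 [.fwd 1185, .fwd 0] [] (.free), .derive 23894 [.bwd 0] [] (.free), .derive 23882 [.bwd 0, .bwd 1167] [6] (.free), .derive 23879 [.bwd 1187, .fwd 0] [] (.free),
  .derive 23879 [.fwd 0] [] (.free), .derive 23456 [.bwd 0, .fwd 1196] [5] (.free), .derive 23893 [.bwd 1172, .fwd 0] [] (.free), .derive 23893 [.fwd 0] [] (.free)]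
def ph17_p6_1 : List Aux := [
  .derive 23878 [.bwd 0, .fwd 287] [6] (.free), .derive 24258 [.bwd 307, .fwd 0] [] (.free), .derive 24269 [.bwd 0] [] (.free), .derive 24258 [.bwd 0, .fwd 289] [5] (.free), .derive 23885 [.bwd 309, .fwd 0] [] (.free), .derive 24268 [.bwd 0] [] (.free), .derive 23885 [.bwd 0, .bwd 294] [6] (.free), .derive 23869 [.bwd 1191, .fwd 0] [] (.free),
  .derive 23892 [.bwd 0] [] (.free), .derive 23869 [.bwd 0, .bwd 548] [1] (.free), .derive 24252 [.fwd 329, .fwd 0] [] (.free), .derive 24252 [.fwd 0] [] (.free), .derive 24131 [.bwd 0, .bwd 321] [3] (.free), .derive 24116 [.bwd 551, .fwd 0] [] (.free), .derive 24256 [.bwd 0] [] (.free), .derive 24116 [.bwd 0, .bwd 325] [4] (.free),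
  .derive 24112 [.bwd 583, .fwd 0] [] (.free), .derive 24112 [.fwd 0] [] (.free), .derive 23872 [.bwd 0, .bwd 575] [3] (.free), .derive 23441 [.fwd 1232, .fwd 0] [] (.free), .derive 24121 [.bwd 0] [] (.free), .derive 23441 [.bwd 0, .fwd 140] [2] (.free), .derive 23871 [.bwd 1239, .fwd 0] [] (.free), .derive 24203 [.bwd 0] [] (.free),
  .derive 23871 [.bwd 0, .fwd 431] [5] (.free), .derive 23849 [.bwd 1239, .fwd 0] [] (.free), .derive 24202 [.bwd 0] [] (.free), .derive 23849 [.bwd 0, .bwd 437] [0] (.free), .derive 24236 [.fwd 374, .fwd 0] [] (.free), .derive 23849 [.bwd 2, .fwd 438] [3] (.free), .derive 24237 [.bwd 375, .fwd 0] [] (.free), .derive 24237 [.fwd 0] [] (.free),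
  .derive 24167 [.bwd 0, .bwd 345] [5] (.free), .derive 24212 [.fwd 424, .fwd 0] [] (.free), .derive 24254 [.bwd 0] [] (.free), .derive 24212 [.bwd 0, .fwd 349] [1] (.free), .derive 24236 [.fwd 7] [] (.free), .derive 23805 [.bwd 0, .bwd 353] [5] (.free), .derive 23809 [.fwd 1352, .fwd 0] [] (.free), .derive 24253 [.bwd 0] [] (.free),
  .derive 23809 [.bwd 0, .fwd 357] [4] (.free), .derive 23817 [.fwd 1341, .fwd 0] [] (.free), .derive 24250 [.bwd 0] [] (.free), .derive 23817 [.bwd 0, .bwd 366] [2] (.free), .derive 24210 [.bwd 440, .fwd 0] [] (.free), .derive 24122 [.bwd 168, .fwd 0] [] (.free), .derive 24211 [.bwd 439, .bwd 3, .fwd 368, .fwd 1272, .fwd 396] [5] (.rel 68), .node 23989 3,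
  .derive 24325 [.bwd 0, .fwd 1054, .fwd 1053] [6] (.rel 34), .derive 24325 [.bwd 1, .fwd 1056, .bwd 1907, .bwd 3121, .edge 2, .fwd 3120, .fwd 1906, .fwd 1054] [2] (.rel 58), .derive 24031 [.bwd 789, .fwd 1804, .bwd 1904, .bwd 1054, .bwd 0] [1] (.rel 13), .derive 24014 [.fwd 996, .fwd 1831, .bwd 1055, .bwd 2, .bwd 0] [6] (.rel 20), .derive 24033 [.bwd 788, .fwd 791, .bwd 0, .bwd 677] [] (.rel 29), .derive 24084 [.bwd 0] [] (.free), .derive 24033 [.bwd 0, .bwd 680] [1] (.free), .derive 23609 [.bwd 790, .fwd 0] [] (.free),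
  .derive 23651 [.bwd 0] [] (.free), .derive 23609 [.bwd 0, .bwd 742] [6] (.free), .derive 23197 [.bwd 898, .fwd 0] [] (.free), .derive 24056 [.bwd 0] [] (.free), .derive 23197 [.bwd 0, .fwd 746] [0] (.free), .derive 23648 [.fwd 1664, .fwd 0] [] (.free), .derive 23615 [.bwd 904, .fwd 0] [] (.free), .derive 23612 [.bwd 0, .fwd 1735] [3] (.free),
  .derive 24058 [.bwd 744, .fwd 0] [] (.free), .derive 23612 [.bwd 2, .bwd 739] [4] (.free), .derive 24059 [.bwd 745, .fwd 0] [] (.free), .derive 23612 [.bwd 4, .bwd 1740] [6] (.free), .derive 24060 [.bwd 746, .fwd 0] [] (.free), .derive 24060 [.fwd 0] [] (.free), .derive 24062 [.bwd 3] [] (.free), .derive 24058 [.fwd 6] [] (.free),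
  .derive 4233 [.fwd 2805, .bwd 934, .fwd 2094, .bwd 0, .bwd 752, .bwd 1749, .bwd 2801, .bwd 2102, .bwd 2744, .fwd 2742, .bwd 12, .bwd 759, .bwd 1755] [] (.rel 59), .derive 23161 [.bwd 0] [] (.free), .derive 4233 [.bwd 0, .fwd 1752, .fwd 931] [6] (.free), .derive 23165 [.bwd 2800, .fwd 0] [] (.free), .derive 23199 [.fwd 938, .fwd 2] [] (.free), .derive 23165 [.fwd 1] [] (.free), .derive 4443 [.bwd 0, .fwd 1747] [5] (.free), .derive 23198 [.bwd 2747, .fwd 0] [] (.free),
  .derive 23617 [.bwd 0] [] (.free), .derive 23198 [.bwd 0, .fwd 1749] [6] (.free), .derive 23656 [.bwd 1672, .fwd 0] [] (.free), .derive 23610 [.bwd 0, .fwd 934] [] (.free), .derive 23164 [.bwd 0, .fwd 1763] [4] (.free), .derive 23159 [.bwd 2811, .fwd 0] [] (.free), .derive 23604 [.bwd 0] [] (.free), .derive 23159 [.bwd 0, .bwd 1774] [6] (.free),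
  .derive 23606 [.bwd 1778, .fwd 0] [] (.free), .derive 23607 [.bwd 0, .fwd 960] [] (.free), .derive 23193 [.bwd 0, .bwd 1778] [5] (.free), .derive 4442 [.fwd 2766, .fwd 0] [] (.free), .derive 23160 [.bwd 0] [] (.free), .derive 4442 [.bwd 0, .bwd 2827] [6] (.free), .derive 23194 [.bwd 2768, .fwd 0] [] (.free), .derive 23157 [.bwd 960, .fwd 0] [] (.free),
  .derive 4232 [.bwd 0, .bwd 2818] [3] (.free), .derive 4234 [.edge 3, .fwd 0] [] (.free), .derive 23194 [.fwd 963, .fwd 2] [] (.free), .derive 23166 [.bwd 1] [] (.free)]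
def ph17_p6_2 : List Aux := [
  .derive 4234 [.bwd 0, .fwd 1760, .fwd 1009] [6] (.free), .derive 23169 [.bwd 2819, .fwd 0] [] (.free), .derive 23203 [.fwd 1014, .fwd 2] [] (.free), .derive 23169 [.fwd 1] [] (.free), .derive 4444 [.bwd 0, .fwd 1758] [5] (.free), .derive 23202 [.bwd 2766, .fwd 0] [] (.free), .derive 23625 [.bwd 0] [] (.free), .derive 23202 [.bwd 0, .fwd 1760] [6] (.free),
  .derive 23663 [.bwd 1686, .fwd 0] [] (.free), .derive 23620 [.bwd 0, .fwd 1012] [] (.free), .derive 23168 [.bwd 0, .bwd 776] [4] (.free), .derive 23622 [.fwd 1769, .fwd 0] [] (.free), .derive 24066 [.bwd 0] [] (.free), .derive 23622 [.bwd 0, .bwd 777] [6] (.free), .derive 23660 [.bwd 877, .fwd 0] [] (.free), .derive 24067 [.bwd 0] [] (.free),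
  .derive 23660 [.bwd 0, .bwd 781] [5] (.free), .derive 23201 [.fwd 1700, .fwd 0] [] (.free), .derive 23623 [.bwd 0] [] (.free), .derive 23201 [.bwd 0, .bwd 1776] [6] (.free), .derive 23661 [.bwd 1701, .fwd 0] [] (.free), .derive 23619 [.bwd 928, .fwd 0] [] (.free), .derive 23167 [.bwd 0, .bwd 804] [3] (.free), .derive 23613 [.fwd 1798, .fwd 0] [] (.free),
  .derive 23661 [.fwd 931, .fwd 2] [] (.free), .derive 24057 [.bwd 1] [] (.free), .derive 23613 [.bwd 0, .fwd 807] [6] (.free), .derive 24062 [.bwd 802, .fwd 0] [] (.free), .derive 24059 [.bwd 57, .fwd 0] [] (.free), .derive 23652 [.bwd 0, .bwd 808] [4] (.free), .derive 23197 [.fwd 1728, .fwd 0] [] (.free), .derive 24062 [.fwd 60, .fwd 2] [] (.free),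
  .derive 23612 [.bwd 1] [] (.free), .derive 23197 [.bwd 0, .fwd 811, .fwd 63] [6] (.free), .derive 23654 [.bwd 1729, .fwd 0] [] (.free), .derive 23609 [.bwd 976, .fwd 0] [] (.free), .derive 23163 [.bwd 0, .bwd 871] [1] (.free), .derive 23078 [.bwd 2865, .fwd 0] [] (.free), .derive 23654 [.fwd 979, .fwd 2] [] (.free), .derive 24033 [.bwd 1] [] (.free),
  .derive 23078 [.bwd 0, .bwd 876] [6] (.free), .derive 23073 [.bwd 3041, .fwd 0] [] (.free), .derive 23575 [.bwd 0] [] (.free), .derive 23073 [.bwd 0, .fwd 881] [5] (.free), .derive 23071 [.bwd 3055, .fwd 0] [] (.free), .derive 24032 [.bwd 0] [] (.free), .derive 23071 [.bwd 0, .fwd 883] [3] (.free), .derive 1206 [.fwd 3062, .fwd 0] [] (.free),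
  .derive 23576 [.bwd 0] [] (.free), .derive 1206 [.bwd 0, .bwd 881] [6] (.free), .derive 1206 [.edge 6, .fwd 0] [] (.free), .derive 24034 [.bwd 0] [] (.free), .derive 1206 [.bwd 0, .fwd 885] [5] (.free), .derive 1207 [.edge 5, .fwd 0] [] (.free), .derive 23580 [.bwd 0] [] (.free), .derive 1207 [.bwd 0, .fwd 1079] [6] (.free),
  .derive 1212 [.edge 6, .fwd 0] [] (.free), .derive 23574 [.bwd 0] [] (.free), .derive 1212 [.bwd 0, .fwd 898] [5] (.free), .derive 1211 [.edge 5, .fwd 0] [] (.free), .derive 24030 [.bwd 0] [] (.free), .derive 1211 [.bwd 0, .bwd 891] [6] (.free), .derive 1211 [.edge 6, .fwd 0] [] (.free), .derive 24035 [.bwd 0] [] (.free),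
  .derive 1211 [.bwd 0, .bwd 895] [5] (.free), .derive 1212 [.edge 5, .fwd 0] [] (.free), .derive 23577 [.bwd 0] [] (.free), .derive 1212 [.bwd 0, .bwd 1919] [6] (.free), .derive 1207 [.edge 6, .fwd 0] [] (.free), .derive 23118 [.bwd 0] [] (.free), .derive 1207 [.bwd 0, .fwd 2991] [4] (.free), .derive 1208 [.edge 4, .fwd 0] [] (.free),
  .derive 23116 [.bwd 0] [] (.free), .derive 1208 [.bwd 0, .fwd 1932] [6] (.free), .derive 1209 [.edge 6, .fwd 0] [] (.free), .derive 23572 [.bwd 0] [] (.free), .derive 1209 [.bwd 0, .fwd 918] [5] (.free), .derive 1210 [.edge 5, .fwd 0] [] (.free), .derive 24029 [.bwd 0] [] (.free), .derive 1210 [.bwd 0, .fwd 920] [6] (.free),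
  .derive 1210 [.edge 6, .fwd 0] [] (.free), .derive 24027 [.bwd 0] [] (.free), .derive 1210 [.bwd 0, .bwd 928] [5] (.free), .derive 1209 [.edge 5, .fwd 0] [] (.free), .derive 23570 [.bwd 0] [] (.free), .derive 1209 [.bwd 0, .fwd 950] [6] (.free), .derive 1208 [.edge 6, .fwd 0] [] (.free), .derive 23573 [.bwd 0] [] (.free),
  .derive 1208 [.bwd 0, .bwd 932] [5] (.free), .derive 1213 [.edge 5, .fwd 0] [] (.free), .derive 24028 [.bwd 0] [] (.free), .derive 1213 [.bwd 0, .fwd 934] [6] (.free), .derive 1213 [.edge 6, .fwd 0] [] (.free), .derive 23571 [.bwd 0] [] (.free), .derive 1213 [.bwd 0, .bwd 1821] [3] (.free), .derive 4229 [.edge 3, .fwd 0] [] (.free),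
  .derive 23637 [.bwd 0] [] (.free), .derive 4229 [.bwd 0, .bwd 837] [6] (.free), .derive 4229 [.edge 6, .fwd 0] [] (.free), .derive 24077 [.bwd 0] [] (.free)]
def ph17_p6_3 : List Aux := [
  .derive 4229 [.bwd 0, .fwd 841] [5] (.free), .derive 4228 [.edge 5, .fwd 0] [] (.free), .derive 23640 [.bwd 0] [] (.free), .derive 4228 [.bwd 0, .fwd 967] [6] (.free), .derive 4231 [.edge 6, .fwd 0] [] (.free), .derive 23635 [.bwd 0] [] (.free), .derive 4231 [.bwd 0, .fwd 851] [5] (.free), .derive 4230 [.edge 5, .fwd 0] [] (.free),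
  .derive 24076 [.bwd 0] [] (.free), .derive 4230 [.bwd 0, .fwd 852] [6] (.free), .derive 4230 [.edge 6, .fwd 0] [] (.free), .derive 24065 [.bwd 0] [] (.free), .derive 4230 [.bwd 0, .bwd 880] [5] (.free), .derive 4231 [.edge 5, .fwd 0] [] (.free), .derive 23618 [.bwd 0] [] (.free), .derive 4231 [.bwd 0, .fwd 1128] [6] (.free),
  .derive 4228 [.edge 6, .fwd 0] [] (.free), .derive 23186 [.bwd 0] [] (.free), .derive 4228 [.bwd 0, .fwd 1847] [4] (.free), .derive 23153 [.bwd 2964, .fwd 0] [] (.free), .derive 23636 [.bwd 0] [] (.free), .derive 23153 [.bwd 0, .bwd 890] [6] (.free), .derive 23156 [.fwd 2960, .fwd 0] [] (.free), .derive 24064 [.bwd 0] [] (.free),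
  .derive 23156 [.bwd 0, .bwd 862] [0] (.free), .derive 23153 [.bwd 2965, .fwd 0] [] (.free), .derive 24078 [.bwd 0] [] (.free), .derive 23153 [.bwd 0, .bwd 866] [1] (.free), .derive 23597 [.fwd 1933, .fwd 0] [] (.free), .derive 23639 [.bwd 0] [] (.free), .derive 23597 [.bwd 0, .fwd 1851] [6] (.free), .derive 24048 [.bwd 932, .fwd 0] [] (.free),
  .derive 24048 [.fwd 0] [] (.free), .derive 23632 [.bwd 0, .fwd 933] [4] (.free), .derive 23183 [.bwd 1870, .fwd 0] [] (.free), .derive 23598 [.bwd 0] [] (.free), .derive 23183 [.bwd 0, .bwd 1940] [6] (.free), .derive 23188 [.fwd 2921, .fwd 0] [] (.free), .derive 23188 [.fwd 0] [] (.free), .derive 23152 [.bwd 0, .bwd 2926] [5] (.free),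
  .derive 23152 [.fwd 2986, .fwd 0] [] (.free), .derive 23152 [.fwd 0] [] (.free), .derive 4440 [.bwd 0, .fwd 1946, .fwd 6] [6] (.free), .derive 4441 [.edge 6, .fwd 0] [] (.free), .derive 23188 [.fwd 5, .fwd 2] [] (.free), .derive 23183 [.bwd 1] [] (.free), .derive 4441 [.bwd 0, .bwd 2943] [5] (.free), .derive 23190 [.bwd 2927, .fwd 0] [] (.free),
  .derive 23190 [.fwd 0] [] (.free), .derive 4438 [.bwd 0, .fwd 2927] [6] (.free), .derive 4439 [.edge 6, .fwd 0] [] (.free), .derive 23185 [.bwd 0] [] (.free), .derive 4439 [.bwd 0, .bwd 1884] [4] (.free), .derive 23184 [.bwd 2948, .fwd 0] [] (.free), .derive 23634 [.bwd 0] [] (.free), .derive 23184 [.bwd 0, .bwd 1871] [6] (.free),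
  .derive 23182 [.bwd 2950, .fwd 0] [] (.free), .derive 23641 [.bwd 0] [] (.free), .derive 23182 [.bwd 0, .bwd 1875] [5] (.free), .derive 23632 [.bwd 1896, .fwd 0] [] (.free), .derive 23632 [.fwd 0] [] (.free), .derive 23189 [.bwd 0, .bwd 1882, .fwd 31] [6] (.free), .derive 23187 [.bwd 2943, .fwd 0] [] (.free), .derive 23597 [.bwd 0] [] (.free),
  .derive 23187 [.bwd 0, .bwd 1246] [3] (.free), .derive 23578 [.fwd 2014, .fwd 0] [] (.free), .derive 23998 [.bwd 0] [] (.free), .derive 23578 [.bwd 0, .bwd 1248, .fwd 0] [5] (.free), .derive 24036 [.bwd 997, .bwd 0] [] (.free), .derive 24036 [.fwd 0] [] (.free), .derive 23578 [.bwd 0, .fwd 998] [6] (.free), .derive 23581 [.fwd 2012, .fwd 0] [] (.free),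
  .derive 24020 [.bwd 0] [] (.free), .derive 23581 [.bwd 0, .bwd 1202] [5] (.free), .derive 24037 [.bwd 1001, .fwd 0] [] (.free), .derive 24037 [.fwd 0] [] (.free), .derive 23563 [.bwd 0, .fwd 1002] [6] (.free), .derive 23558 [.bwd 2048, .fwd 0] [] (.free), .derive 24015 [.bwd 0] [] (.free), .derive 23558 [.bwd 0, .fwd 1222] [4] (.free),
  .derive 23108 [.fwd 2059, .fwd 0] [] (.free), .derive 23559 [.bwd 0] [] (.free), .derive 23108 [.bwd 0, .bwd 2020] [6] (.free), .derive 23111 [.fwd 3118, .fwd 0] [] (.free), .derive 23582 [.bwd 0] [] (.free), .derive 23111 [.bwd 0, .bwd 2025] [5] (.free), .derive 23564 [.bwd 2056, .fwd 0] [] (.free), .derive 23564 [.fwd 0] [] (.free),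
  .derive 23121 [.bwd 0, .bwd 2034] [6] (.free), .derive 23119 [.bwd 3102, .fwd 0] [] (.free), .derive 23579 [.bwd 0] [] (.free), .derive 23119 [.bwd 0, .fwd 2038] [3] (.free), .derive 1335 [.fwd 3112, .fwd 0] [] (.free), .derive 23120 [.bwd 0] [] (.free), .derive 1335 [.bwd 0, .fwd 3110] [6] (.free), .derive 1336 [.edge 6, .fwd 0] [] (.free),
  .derive 23112 [.bwd 0] [] (.free), .derive 1336 [.bwd 0, .bwd 3131] [5] (.free), .derive 23122 [.bwd 3110, .fwd 0] [] (.free), .derive 23122 [.fwd 0] [] (.free)]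
def ph17_p6_4 : List Aux := [
  .derive 1331 [.bwd 0, .fwd 3109] [6] (.free), .derive 1330 [.edge 6, .fwd 0] [] (.free), .derive 23109 [.bwd 0] [] (.free), .derive 1330 [.bwd 0, .bwd 3109] [4] (.free), .derive 1337 [.edge 4, .fwd 0] [] (.free), .derive 23123 [.bwd 0] [] (.free), .derive 1337 [.bwd 0, .fwd 3111] [6] (.free), .derive 1332 [.edge 6, .fwd 0] [] (.free),
  .derive 23115 [.bwd 0] [] (.free), .derive 1332 [.bwd 0, .bwd 3136] [5] (.free), .derive 23114 [.bwd 3139, .fwd 0] [] (.free), .derive 23114 [.fwd 0] [] (.free), .derive 1333 [.bwd 0, .bwd 3135] [6] (.free), .derive 1334 [.edge 6, .fwd 0] [] (.free), .derive 23117 [.bwd 0] [] (.free), .derive 1334 [.bwd 0, .fwd 3139] [2] (.free),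
  .derive 1285 [.edge 2, .fwd 0] [] (.free), .derive 23086 [.bwd 0] [] (.free), .derive 1285 [.bwd 0, .bwd 3189] [6] (.free), .derive 1325 [.edge 6, .fwd 0] [] (.free), .derive 23095 [.bwd 0] [] (.free), .derive 1325 [.bwd 0, .bwd 3193] [5] (.free), .derive 23103 [.bwd 3177, .fwd 0] [] (.free), .derive 23103 [.fwd 0] [] (.free),
  .derive 1295 [.bwd 0, .fwd 3176] [6] (.free), .derive 1102 [.edge 6, .fwd 0] [] (.free), .derive 23024 [.bwd 0] [] (.free), .derive 1102 [.bwd 0, .fwd 3346] [4] (.free), .derive 602 [.edge 4, .fwd 0] [] (.free), .derive 22980 [.bwd 0] [] (.free), .derive 602 [.bwd 0, .bwd 3186] [6] (.free), .derive 1294 [.edge 6, .fwd 0] [] (.free),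
  .derive 23102 [.bwd 0] [] (.free), .derive 1294 [.bwd 0, .bwd 3192] [5] (.free), .derive 23094 [.bwd 3208, .fwd 0] [] (.free), .derive 23094 [.fwd 0] [] (.free), .derive 1324 [.bwd 0, .fwd 3209] [6] (.free), .derive 1284 [.edge 6, .fwd 0] [] (.free), .derive 23084 [.bwd 0] [] (.free), .derive 1284 [.bwd 0, .fwd 3230] [3] (.free),
  .derive 1283 [.edge 3, .fwd 0] [] (.free), .derive 23082 [.bwd 0] [] (.free), .derive 1283 [.bwd 0, .bwd 3217] [6] (.free), .derive 1323 [.edge 6, .fwd 0] [] (.free), .derive 23093 [.bwd 0] [] (.free), .derive 1323 [.bwd 0, .bwd 3221] [5] (.free), .derive 23101 [.bwd 3207, .fwd 0] [] (.free), .derive 23101 [.fwd 0] [] (.free),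
  .derive 1293 [.bwd 0, .fwd 3208] [6] (.free), .derive 601 [.edge 6, .fwd 0] [] (.free), .derive 22979 [.bwd 0] [] (.free), .derive 601 [.bwd 0, .fwd 3443] [4] (.free), .derive 600 [.edge 4, .fwd 0] [] (.free), .derive 22978 [.bwd 0] [] (.free), .derive 600 [.bwd 0, .bwd 3198] [6] (.free), .derive 1292 [.edge 6, .fwd 0] [] (.free),
  .derive 23106 [.bwd 0] [] (.free), .derive 1292 [.bwd 0, .bwd 3204] [5] (.free), .derive 23092 [.bwd 3236, .fwd 0] [] (.free), .derive 23092 [.fwd 0] [] (.free), .derive 1328 [.bwd 0, .fwd 3237] [6] (.free), .derive 1282 [.edge 6, .fwd 0] [] (.free), .derive 23080 [.bwd 0] [] (.free), .derive 1282 [.bwd 0, .bwd 3244] [3] (.free),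
  .derive 1287 [.edge 3, .fwd 0] [] (.free), .derive 23090 [.bwd 0] [] (.free), .derive 1287 [.bwd 0, .bwd 3208] [6] (.free), .derive 1327 [.edge 6, .fwd 0] [] (.free), .derive 23107 [.bwd 0] [] (.free), .derive 1327 [.bwd 0, .bwd 3212] [5] (.free), .derive 23105 [.bwd 3219, .fwd 0] [] (.free), .derive 23105 [.fwd 0] [] (.free),
  .derive 1329 [.bwd 0, .fwd 3220] [6] (.free), .derive 605 [.edge 6, .fwd 0] [] (.free), .derive 22981 [.bwd 0] [] (.free), .derive 605 [.bwd 0, .bwd 3392] [4] (.free), .derive 1103 [.edge 4, .fwd 0] [] (.free), .derive 23025 [.bwd 0] [] (.free), .derive 1103 [.bwd 0, .bwd 3228] [6] (.free), .derive 1296 [.edge 6, .fwd 0] [] (.free),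
  .derive 23104 [.bwd 0] [] (.free), .derive 1296 [.bwd 0, .bwd 3232] [5] (.free), .derive 23096 [.bwd 3252, .fwd 0] [] (.free), .derive 23096 [.fwd 0] [] (.free), .derive 1326 [.bwd 0, .fwd 3253] [6] (.free), .derive 1286 [.edge 6, .fwd 0] [] (.free), .derive 23088 [.bwd 0] [] (.free), .derive 1286 [.bwd 0, .bwd 3186] [2] (.free),
  .derive 1342 [.edge 2, .fwd 0] [] (.free), .derive 23128 [.bwd 0] [] (.free), .derive 1342 [.bwd 0, .fwd 3188] [6] (.free), .derive 1341 [.edge 6, .fwd 0] [] (.free), .derive 23126 [.bwd 0] [] (.free), .derive 1341 [.bwd 0, .bwd 3195] [5] (.free), .derive 23127 [.bwd 3195, .fwd 0] [] (.free), .derive 23127 [.fwd 0] [] (.free),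
  .derive 1340 [.bwd 0, .bwd 3186] [6] (.free), .derive 1345 [.edge 6, .fwd 0] [] (.free), .derive 23131 [.bwd 0] [] (.free), .derive 1345 [.bwd 0, .fwd 3190] [4] (.free)]
def ph17_p6 : List Aux :=
  ((ph17_p6_0 ++ ph17_p6_1) ++ (ph17_p6_2 ++ (ph17_p6_3 ++ ph17_p6_4)))

theorem ph17_p6_ok : stHas (runList (auxStep' P) ph17_p6 (mkSt 24325 mask23 ph17_eq6)) 24326 mask23 ph17_eq7 = true := by decide +kernel

def ph17_p7_0 : List Aux := [
  .derive 1338 [.edge 4, .fwd 0] [] (.free), .derive 23124 [.bwd 0] [] (.free), .derive 1338 [.bwd 0, .bwd 3196] [6] (.free), .derive 1339 [.edge 6, .fwd 0] [] (.free), .derive 23130 [.bwd 0] [] (.free), .derive 1339 [.bwd 0, .bwd 3200] [5] (.free), .derive 23125 [.bwd 3209, .fwd 0] [] (.free), .derive 23125 [.fwd 0] [] (.free),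
  .derive 1344 [.bwd 0, .bwd 3204] [6] (.free), .derive 1343 [.edge 6, .fwd 0] [] (.free), .derive 23129 [.bwd 0] [] (.free), .derive 1343 [.bwd 0, .bwd 3060] [3] (.free), .derive 4450 [.edge 3, .fwd 0] [] (.free), .derive 23207 [.bwd 0] [] (.free), .derive 4450 [.bwd 0, .bwd 3060] [6] (.free), .derive 4449 [.edge 6, .fwd 0] [] (.free),
  .derive 23209 [.bwd 0] [] (.free), .derive 4449 [.bwd 0, .bwd 3064] [5] (.free), .derive 23206 [.bwd 3071, .fwd 0] [] (.free), .derive 23206 [.fwd 0] [] (.free), .derive 4452 [.bwd 0, .fwd 3072] [6] (.free), .derive 4445 [.edge 6, .fwd 0] [] (.free), .derive 23204 [.bwd 0] [] (.free), .derive 4445 [.bwd 0, .bwd 2833] [4] (.free),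
  .derive 9313 [.edge 4, .fwd 0] [] (.free), .derive 23342 [.bwd 0] [] (.free), .derive 9313 [.bwd 0, .bwd 2817] [6] (.free), .derive 9314 [.edge 6, .fwd 0] [] (.free), .derive 23353 [.bwd 0] [] (.free), .derive 9314 [.bwd 0, .bwd 2821] [5] (.free), .derive 23343 [.bwd 2839, .fwd 0] [] (.free), .derive 23343 [.fwd 0] [] (.free),
  .derive 9321 [.bwd 0, .bwd 2812] [6] (.free), .derive 9338 [.edge 6, .fwd 0] [] (.free), .derive 23358 [.bwd 0] [] (.free), .derive 9338 [.bwd 0, .fwd 2816] [3] (.free), .derive 9319 [.edge 3, .fwd 0] [] (.free), .derive 23351 [.bwd 0] [] (.free), .derive 9319 [.bwd 0, .fwd 2832] [6] (.free), .derive 9320 [.edge 6, .fwd 0] [] (.free),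
  .derive 23344 [.bwd 0] [] (.free), .derive 9320 [.bwd 0, .bwd 2849] [5] (.free), .derive 23352 [.bwd 2835, .fwd 0] [] (.free), .derive 23352 [.fwd 0] [] (.free), .derive 9315 [.bwd 0, .bwd 2817] [6] (.free), .derive 9344 [.edge 6, .fwd 0] [] (.free), .derive 23361 [.bwd 0] [] (.free), .derive 9344 [.bwd 0, .fwd 2821] [4] (.free),
  .derive 4460 [.edge 4, .fwd 0] [] (.free), .derive 23213 [.bwd 0] [] (.free), .derive 4460 [.bwd 0, .bwd 3083] [6] (.free), .derive 4459 [.edge 6, .fwd 0] [] (.free), .derive 23217 [.bwd 0] [] (.free), .derive 4459 [.bwd 0, .bwd 3087] [5] (.free), .derive 23212 [.bwd 3096, .fwd 0] [] (.free), .derive 23212 [.fwd 0] [] (.free),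
  .derive 4463 [.bwd 0, .bwd 3091] [6] (.free), .derive 4462 [.edge 6, .fwd 0] [] (.free), .derive 23216 [.bwd 0] [] (.free), .derive 4462 [.bwd 0, .bwd 2902] [2] (.free), .derive 9306 [.edge 2, .fwd 0] [] (.free), .derive 23327 [.bwd 0] [] (.free), .derive 9306 [.bwd 0, .bwd 2887] [6] (.free), .derive 9305 [.edge 6, .fwd 0] [] (.free),
  .derive 23335 [.bwd 0] [] (.free), .derive 9305 [.bwd 0, .bwd 2892] [5] (.free), .derive 23326 [.bwd 2912, .fwd 0] [] (.free), .derive 23326 [.fwd 0] [] (.free), .derive 9310 [.bwd 0, .bwd 2906] [6] (.free), .derive 9307 [.edge 6, .fwd 0] [] (.free), .derive 23329 [.bwd 0] [] (.free), .derive 9307 [.bwd 0, .bwd 2872] [4] (.free),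
  .derive 9317 [.edge 4, .fwd 0] [] (.free), .derive 23348 [.bwd 0] [] (.free), .derive 9317 [.bwd 0, .bwd 2850] [6] (.free), .derive 9316 [.edge 6, .fwd 0] [] (.free), .derive 23360 [.bwd 0] [] (.free), .derive 9316 [.bwd 0, .bwd 2854] [5] (.free), .derive 23346 [.bwd 2883, .fwd 0] [] (.free), .derive 23346 [.fwd 0] [] (.free),
  .derive 9343 [.bwd 0, .bwd 2876] [6] (.free), .derive 9318 [.edge 6, .fwd 0] [] (.free), .derive 23350 [.bwd 0] [] (.free), .derive 9318 [.bwd 0, .bwd 1833] [3] (.free), .derive 23349 [.bwd 2884, .fwd 0] [] (.free), .derive 23792 [.bwd 0] [] (.free), .derive 23349 [.bwd 0, .fwd 1835] [6] (.free), .derive 21169 [.bwd 2885, .fwd 0] [] (.free),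
  .derive 23507 [.bwd 0] [] (.free), .derive 21169 [.bwd 0, .bwd 2376] [5] (.free), .derive 23512 [.bwd 2368, .fwd 0] [] (.free), .derive 23512 [.fwd 0] [] (.free), .derive 21167 [.bwd 0, .fwd 2368] [6] (.free), .derive 21168 [.edge 6, .fwd 0] [] (.free), .derive 23509 [.bwd 0] [] (.free), .derive 21168 [.bwd 0, .bwd 1510] [4] (.free),
  .derive 23508 [.bwd 2382, .fwd 0] [] (.free), .derive 23984 [.bwd 0] [] (.free), .derive 23508 [.bwd 0, .bwd 1510] [6] (.free), .derive 23506 [.bwd 2383, .fwd 0] [] (.free)]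
def ph17_p7_1 : List Aux := [
  .derive 23986 [.bwd 0] [] (.free), .derive 23506 [.bwd 0, .bwd 1514] [5] (.free), .derive 23982 [.bwd 1522, .fwd 0] [] (.free), .derive 23982 [.fwd 0] [] (.free), .derive 23511 [.bwd 0, .bwd 952] [6] (.free), .derive 23774 [.fwd 1888, .fwd 0] [] (.free), .derive 24182 [.bwd 0] [] (.free), .derive 23774 [.bwd 0, .fwd 956] [3] (.free),
  .derive 23336 [.fwd 1893, .fwd 0] [] (.free), .derive 23775 [.bwd 0] [] (.free), .derive 23336 [.bwd 0, .fwd 1891] [6] (.free), .derive 23323 [.bwd 2933, .fwd 0] [] (.free), .derive 23769 [.bwd 0] [] (.free), .derive 23323 [.bwd 0, .bwd 1905] [5] (.free), .derive 23758 [.bwd 1923, .fwd 0] [] (.free), .derive 23758 [.fwd 0] [] (.free),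
  .derive 23332 [.bwd 0, .bwd 1911] [6] (.free), .derive 23330 [.bwd 2948, .fwd 0] [] (.free), .derive 23767 [.bwd 0] [] (.free), .derive 23330 [.bwd 0, .fwd 1915] [4] (.free), .derive 9308 [.fwd 2957, .fwd 0] [] (.free), .derive 23331 [.bwd 0] [] (.free), .derive 9308 [.bwd 0, .fwd 2956] [6] (.free), .derive 9309 [.edge 6, .fwd 0] [] (.free),
  .derive 23324 [.bwd 0] [] (.free), .derive 9309 [.bwd 0, .bwd 2975] [5] (.free), .derive 23333 [.bwd 2956, .fwd 0] [] (.free), .derive 23333 [.fwd 0] [] (.free), .derive 9304 [.bwd 0, .bwd 2947] [6] (.free), .derive 9311 [.edge 6, .fwd 0] [] (.free), .derive 23337 [.bwd 0] [] (.free), .derive 9311 [.bwd 0, .fwd 1911] [1] (.free),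
  .derive 21162 [.edge 1, .fwd 0] [] (.free), .derive 23776 [.bwd 0] [] (.free), .derive 21162 [.bwd 0, .fwd 981] [6] (.free), .derive 23489 [.bwd 2451, .fwd 0] [] (.free), .derive 24183 [.bwd 0] [] (.free), .derive 23489 [.bwd 0, .fwd 983] [3] (.free), .derive 23486 [.bwd 2453, .fwd 0] [] (.free), .derive 24173 [.bwd 0] [] (.free),
  .derive 23486 [.bwd 0, .bwd 1004] [6] (.free), .derive 21158 [.fwd 2461, .fwd 0] [] (.free), .derive 23763 [.bwd 0] [] (.free), .derive 21158 [.bwd 0, .bwd 1615] [5] (.free), .derive 23485 [.bwd 2465, .fwd 0] [] (.free), .derive 23952 [.bwd 0] [] (.free), .derive 23485 [.bwd 0, .fwd 754] [6] (.free), .derive 23953 [.bwd 1618, .fwd 0] [] (.free),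
  .derive 24306 [.bwd 0] [] (.free), .derive 23953 [.bwd 0, .bwd 755] [4] (.free), .derive 23955 [.fwd 1616, .fwd 0] [] (.free), .derive 24307 [.bwd 0] [] (.free), .derive 23955 [.bwd 0, .bwd 759] [6] (.free), .derive 23487 [.fwd 1620, .fwd 0] [] (.free), .derive 23954 [.bwd 0] [] (.free), .derive 23487 [.bwd 0, .fwd 1623] [5] (.free),
  .derive 21159 [.fwd 2475, .fwd 0] [] (.free), .derive 23793 [.bwd 0] [] (.free), .derive 21159 [.bwd 0, .fwd 992] [6] (.free), .derive 23488 [.bwd 2476, .fwd 0] [] (.free), .derive 24190 [.bwd 0] [] (.free), .derive 23488 [.bwd 0, .fwd 994] [1] (.free), .derive 23799 [.fwd 1896, .fwd 0] [] (.free), .derive 24187 [.bwd 0] [] (.free),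
  .derive 23799 [.bwd 0, .bwd 1004] [6] (.free), .derive 23359 [.fwd 1900, .fwd 0] [] (.free), .derive 23788 [.bwd 0] [] (.free), .derive 23359 [.bwd 0, .bwd 1008] [5] (.free), .derive 23798 [.bwd 1905, .fwd 0] [] (.free), .derive 24186 [.bwd 0] [] (.free), .derive 23798 [.bwd 0, .fwd 1012] [4] (.free), .derive 23760 [.bwd 1907, .fwd 0] [] (.free),
  .derive 24180 [.bwd 0] [] (.free), .derive 23760 [.bwd 0, .fwd 1026] [5] (.free), .derive 23325 [.fwd 1981, .fwd 0] [] (.free), .derive 23773 [.bwd 0] [] (.free), .derive 23325 [.bwd 0, .fwd 1028] [6] (.free), .derive 23761 [.bwd 1983, .fwd 0] [] (.free), .derive 24181 [.bwd 0] [] (.free), .derive 23761 [.bwd 0, .fwd 1030] [3] (.free),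
  .derive 23484 [.bwd 1985, .fwd 0] [] (.free), .derive 24179 [.bwd 0] [] (.free), .derive 23484 [.bwd 0, .bwd 1037] [6] (.free), .derive 21157 [.fwd 2505, .fwd 0] [] (.free), .derive 23770 [.bwd 0] [] (.free), .derive 21157 [.bwd 0, .bwd 1630] [5] (.free), .derive 23483 [.bwd 2509, .fwd 0] [] (.free), .derive 23967 [.bwd 0] [] (.free),
  .derive 23483 [.bwd 0, .bwd 778] [4] (.free), .derive 23947 [.fwd 1671, .fwd 0] [] (.free), .derive 24315 [.bwd 0] [] (.free), .derive 23947 [.bwd 0, .fwd 780] [5] (.free), .derive 23482 [.fwd 1675, .fwd 0] [] (.free), .derive 24178 [.bwd 0] [] (.free), .derive 23482 [.bwd 0, .bwd 770] [3] (.free), .derive 23946 [.bwd 1680, .fwd 0] [] (.free),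
  .derive 24321 [.bwd 0] [] (.free), .derive 23946 [.bwd 0, .fwd 772] [4] (.free), .derive 23510 [.bwd 1682, .fwd 0] [] (.free), .derive 23983 [.bwd 0] [] (.free)]
def ph17_p7_2 : List Aux := [
  .derive 23510 [.bwd 0, .bwd 778] [5] (.free), .derive 23985 [.bwd 1615, .fwd 0] [] (.free), .derive 24320 [.bwd 0] [] (.free), .derive 23985 [.bwd 0, .bwd 782] [1] (.free), .derive 24322 [.bwd 778, .fwd 0] [] (.free), .derive 24322 [.fwd 0] [] (.free), .derive 23980 [.bwd 0, .fwd 779] [5] (.free), .derive 23505 [.fwd 1630, .fwd 0] [] (.free),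
  .derive 23987 [.bwd 0] [] (.free), .derive 23505 [.bwd 0, .fwd 781] [6] (.free), .derive 23981 [.bwd 1632, .fwd 0] [] (.free), .derive 24323 [.bwd 0] [] (.free), .derive 23981 [.bwd 0, .fwd 783] [3] (.free), .derive 23787 [.bwd 1634, .fwd 0] [] (.free), .derive 24200 [.bwd 0] [] (.free), .derive 23787 [.bwd 0, .bwd 1029] [6] (.free),
  .derive 23345 [.fwd 1975, .fwd 0] [] (.free), .derive 23800 [.bwd 0] [] (.free), .derive 23345 [.bwd 0, .bwd 1033] [5] (.free), .derive 23786 [.bwd 1980, .fwd 0] [] (.free), .derive 24199 [.bwd 0] [] (.free), .derive 23786 [.bwd 0, .fwd 1037] [4] (.free), .derive 23771 [.bwd 1982, .fwd 0] [] (.free), .derive 24171 [.bwd 0] [] (.free),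
  .derive 23771 [.bwd 0, .fwd 1091] [5] (.free), .derive 23334 [.fwd 2015, .fwd 0] [] (.free), .derive 23762 [.bwd 0] [] (.free), .derive 23334 [.bwd 0, .fwd 1093] [6] (.free), .derive 23772 [.bwd 2017, .fwd 0] [] (.free), .derive 24172 [.bwd 0] [] (.free), .derive 23772 [.bwd 0, .fwd 1095] [3] (.free), .derive 23497 [.bwd 2019, .fwd 0] [] (.free),
  .derive 24170 [.bwd 0] [] (.free), .derive 23497 [.bwd 0, .bwd 1102] [6] (.free), .derive 21164 [.fwd 2539, .fwd 0] [] (.free), .derive 23759 [.bwd 0] [] (.free), .derive 21164 [.bwd 0, .bwd 1714] [5] (.free), .derive 23496 [.bwd 2543, .fwd 0] [] (.free), .derive 23949 [.bwd 0] [] (.free), .derive 23496 [.bwd 0, .fwd 849] [2] (.free),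
  .derive 23500 [.fwd 2539, .fwd 0] [] (.free), .derive 24305 [.bwd 0] [] (.free), .derive 23500 [.bwd 0, .fwd 851] [5] (.free), .derive 21165 [.fwd 2543, .fwd 0] [] (.free), .derive 24169 [.bwd 0] [] (.free), .derive 21165 [.bwd 0, .fwd 1115] [1] (.free), .derive 9312 [.edge 1, .fwd 0] [] (.free), .derive 24074 [.bwd 0] [] (.free),
  .derive 9312 [.bwd 0, .bwd 1297] [2] (.free), .derive 4444 [.edge 2, .fwd 0] [] (.free), .derive 23633 [.bwd 0] [] (.free), .derive 4444 [.bwd 0, .fwd 1299] [6] (.free), .derive 23203 [.bwd 3311, .fwd 0] [] (.free), .derive 24075 [.bwd 0, .fwd 550] [] (.free), .derive 4234 [.bwd 0, .fwd 1300] [5] (.free), .derive 23168 [.bwd 3374, .fwd 0] [] (.free),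
  .derive 24049 [.bwd 0] [] (.free), .derive 23168 [.bwd 0, .bwd 1307] [6] (.free), .derive 23624 [.bwd 2314, .fwd 0] [] (.free), .derive 24073 [.bwd 0, .fwd 1565] [] (.free), .derive 23202 [.bwd 0, .fwd 1312] [3] (.free), .derive 23193 [.bwd 3321, .fwd 0] [] (.free), .derive 24023 [.bwd 0] [] (.free), .derive 23193 [.bwd 0, .fwd 1418] [6] (.free),
  .derive 23646 [.bwd 2272, .fwd 0] [] (.free), .derive 24000 [.bwd 0, .fwd 1539] [] (.free), .derive 23159 [.bwd 0, .bwd 1418] [5] (.free), .derive 4232 [.fwd 3402, .fwd 0] [] (.free), .derive 24024 [.bwd 0] [] (.free), .derive 4232 [.bwd 0, .bwd 1423] [6] (.free), .derive 23160 [.bwd 3404, .fwd 0] [] (.free), .derive 23568 [.bwd 0, .fwd 578] [] (.free),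
  .derive 4442 [.bwd 0, .fwd 2435] [4] (.free), .derive 4443 [.edge 4, .fwd 0] [] (.free), .derive 23565 [.bwd 0] [] (.free), .derive 4443 [.bwd 0, .fwd 1603] [6] (.free), .derive 23199 [.bwd 3342, .fwd 0] [] (.free), .derive 24021 [.bwd 0, .fwd 600] [] (.free), .derive 4233 [.bwd 0, .fwd 1604] [5] (.free), .derive 23164 [.bwd 3406, .fwd 0] [] (.free),
  .derive 24006 [.bwd 0] [] (.free), .derive 23164 [.bwd 0, .bwd 1614] [6] (.free), .derive 23616 [.bwd 2353, .fwd 0] [] (.free), .derive 24019 [.bwd 0, .fwd 1537] [] (.free), .derive 23198 [.bwd 0, .fwd 1619, .fwd 9] [2] (.free), .derive 23196 [.bwd 3357, .bwd 0] [] (.free), .derive 23198 [.bwd 0, .fwd 2716] [] (.free), .derive 4233 [.bwd 0, .fwd 2277, .fwd 1538] [6] (.free),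
  .derive 23165 [.bwd 3413, .fwd 0] [] (.free), .derive 23164 [.bwd 0, .fwd 611] [] (.free), .derive 4443 [.bwd 0, .fwd 3416] [4] (.free), .derive 4442 [.edge 4, .fwd 0] [] (.free), .derive 23159 [.bwd 0] [] (.free), .derive 4442 [.bwd 0, .fwd 2383, .fwd 1564] [6] (.free), .derive 23194 [.bwd 3368, .fwd 0] [] (.free), .derive 23193 [.bwd 0, .fwd 596] [] (.free),
  .derive 4232 [.bwd 0, .bwd 3356] [3] (.free), .derive 4234 [.edge 3, .fwd 0] [] (.free), .derive 23202 [.bwd 0] [] (.free), .derive 4234 [.bwd 0, .fwd 2277, .fwd 1602] [6] (.free)]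
def ph17_p7_3 : List Aux := [
  .derive 23169 [.bwd 3418, .fwd 0] [] (.free), .derive 23168 [.bwd 0, .fwd 597] [] (.free), .derive 4444 [.bwd 0, .bwd 2360] [4] (.free), .derive 23201 [.bwd 3366, .fwd 0] [] (.free), .derive 23622 [.bwd 0] [] (.free), .derive 23201 [.bwd 0, .fwd 1468] [6] (.free), .derive 23661 [.bwd 2287, .fwd 0] [] (.free), .derive 23660 [.bwd 0, .fwd 582] [] (.free),
  .derive 23167 [.bwd 0, .bwd 1331] [3] (.free), .derive 23613 [.fwd 2384, .fwd 0] [] (.free), .derive 24085 [.bwd 0] [] (.free), .derive 23613 [.bwd 0, .fwd 1333] [6] (.free), .derive 24062 [.bwd 1387, .fwd 0] [] (.free), .derive 24061 [.bwd 0, .fwd 581] [] (.free), .derive 23652 [.bwd 0, .fwd 1390] [4] (.free), .derive 23197 [.fwd 2313, .fwd 0] [] (.free),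
  .derive 23614 [.bwd 0] [] (.free), .derive 23197 [.bwd 0, .bwd 1477] [6] (.free), .derive 23654 [.bwd 2313, .fwd 0] [] (.free), .derive 23653 [.bwd 0, .fwd 580] [] (.free), .derive 23163 [.bwd 0, .fwd 1341] [1] (.free), .derive 23078 [.bwd 3449, .fwd 0] [] (.free), .derive 24086 [.bwd 0] [] (.free), .derive 23078 [.bwd 0, .fwd 1343] [5] (.free),
  .derive 23077 [.bwd 3625, .fwd 0] [] (.free), .derive 24038 [.bwd 0] [] (.free), .derive 23077 [.bwd 0, .fwd 1450] [3] (.free), .derive 1211 [.fwd 3631, .fwd 0] [] (.free), .derive 23583 [.bwd 0] [] (.free), .derive 1211 [.bwd 0, .fwd 1449] [6] (.free), .derive 1211 [.edge 6, .fwd 0] [] (.free), .derive 24040 [.bwd 0] [] (.free),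
  .derive 1211 [.bwd 0, .bwd 1404] [5] (.free), .derive 1212 [.edge 5, .fwd 0] [] (.free), .derive 24063 [.bwd 0] [] (.free), .derive 1212 [.bwd 0, .bwd 1352] [6] (.free), .derive 1207 [.edge 6, .fwd 0] [] (.free), .derive 24087 [.bwd 0] [] (.free), .derive 1207 [.bwd 0, .fwd 1356] [5] (.free), .derive 1206 [.edge 5, .fwd 0] [] (.free),
  .derive 24039 [.bwd 0] [] (.free), .derive 1206 [.bwd 0, .bwd 1462] [6] (.free), .derive 1206 [.edge 6, .fwd 0] [] (.free), .derive 24016 [.bwd 0] [] (.free), .derive 1206 [.bwd 0, .bwd 1359] [5] (.free), .derive 1207 [.edge 5, .fwd 0] [] (.free), .derive 24088 [.bwd 0] [] (.free), .derive 1207 [.bwd 0, .bwd 1363] [6] (.free),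
  .derive 1212 [.edge 6, .fwd 0] [] (.free), .derive 23655 [.bwd 0] [] (.free), .derive 1212 [.bwd 0, .fwd 2342] [4] (.free), .derive 1209 [.edge 4, .fwd 0] [] (.free), .derive 23645 [.bwd 0] [] (.free), .derive 1209 [.bwd 0, .fwd 1381] [6] (.free), .derive 1208 [.edge 6, .fwd 0] [] (.free), .derive 24083 [.bwd 0] [] (.free),
  .derive 1208 [.bwd 0, .fwd 1383] [5] (.free), .derive 1213 [.edge 5, .fwd 0] [] (.free), .derive 24022 [.bwd 0] [] (.free), .derive 1213 [.bwd 0, .bwd 1506] [6] (.free), .derive 1213 [.edge 6, .fwd 0] [] (.free), .derive 24025 [.bwd 0] [] (.free), .derive 1213 [.bwd 0, .bwd 1392] [5] (.free), .derive 1208 [.edge 5, .fwd 0] [] (.free),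
  .derive 24082 [.bwd 0] [] (.free), .derive 1208 [.bwd 0, .fwd 1394] [6] (.free), .derive 1209 [.edge 6, .fwd 0] [] (.free), .derive 24055 [.bwd 0] [] (.free), .derive 1209 [.bwd 0, .fwd 1456] [5] (.free), .derive 1210 [.edge 5, .fwd 0] [] (.free), .derive 24026 [.bwd 0] [] (.free), .derive 1210 [.bwd 0, .bwd 1521] [6] (.free),
  .derive 1210 [.edge 6, .fwd 0] [] (.free), .derive 23569 [.bwd 0] [] (.free), .derive 1210 [.bwd 0, .bwd 2388] [3] (.free), .derive 4230 [.edge 3, .fwd 0] [] (.free), .derive 23642 [.bwd 0] [] (.free), .derive 4230 [.bwd 0, .fwd 1410] [6] (.free), .derive 4230 [.edge 6, .fwd 0] [] (.free), .derive 24081 [.bwd 0] [] (.free),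
  .derive 4230 [.bwd 0, .bwd 1412] [5] (.free), .derive 4231 [.edge 5, .fwd 0] [] (.free), .derive 24068 [.bwd 0] [] (.free), .derive 4231 [.bwd 0, .bwd 1392] [6] (.free), .derive 4228 [.edge 6, .fwd 0] [] (.free), .derive 24090 [.bwd 0] [] (.free), .derive 4228 [.bwd 0, .fwd 1396] [5] (.free), .derive 4229 [.edge 5, .fwd 0] [] (.free),
  .derive 24080 [.bwd 0] [] (.free), .derive 4229 [.bwd 0, .bwd 1423] [6] (.free), .derive 4229 [.edge 6, .fwd 0] [] (.free), .derive 24069 [.bwd 0] [] (.free), .derive 4229 [.bwd 0, .bwd 1399] [5] (.free), .derive 4228 [.edge 5, .fwd 0] [] (.free), .derive 24091 [.bwd 0] [] (.free), .derive 4228 [.bwd 0, .bwd 1403] [6] (.free),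
  .derive 4231 [.edge 6, .fwd 0] [] (.free), .derive 23662 [.bwd 0] [] (.free), .derive 4231 [.bwd 0, .bwd 1411] [4] (.free), .derive 23156 [.bwd 3540, .fwd 0] [] (.free)]
def ph17_p7_4 : List Aux := [
  .derive 24089 [.bwd 0] [] (.free), .derive 23156 [.bwd 0, .fwd 1413] [5] (.free), .derive 23155 [.bwd 3541, .fwd 0] [] (.free), .derive 24079 [.bwd 0] [] (.free), .derive 23155 [.bwd 0, .bwd 1441, .fwd 546] [1] (.free), .derive 23630 [.fwd 2445, .bwd 0] [] (.free), .derive 23630 [.fwd 0] [] (.free), .derive 23155 [.bwd 0, .fwd 1462] [5] (.free),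
  .derive 23156 [.fwd 3547, .fwd 0] [] (.free), .derive 24072 [.bwd 0] [] (.free), .derive 23156 [.bwd 0, .fwd 1464] [4] (.free), .derive 4231 [.fwd 3552, .fwd 0] [] (.free), .derive 23631 [.bwd 0] [] (.free), .derive 4231 [.bwd 0, .bwd 1472] [6] (.free), .derive 4228 [.edge 6, .fwd 0] [] (.free), .derive 24070 [.bwd 0] [] (.free),
  .derive 4228 [.bwd 0, .bwd 1476] [5] (.free), .derive 4229 [.edge 5, .fwd 0] [] (.free), .derive 23628 [.bwd 0] [] (.free), .derive 4229 [.bwd 0, .fwd 2464] [3] (.free), .derive 1213 [.edge 3, .fwd 0] [] (.free), .derive 23566 [.bwd 0] [] (.free), .derive 1213 [.bwd 0, .bwd 1813] [5] (.free), .derive 1208 [.edge 5, .fwd 0] [] (.free),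
  .derive 23994 [.bwd 0] [] (.free), .derive 1208 [.bwd 0, .fwd 1815] [6] (.free), .derive 1209 [.edge 6, .fwd 0] [] (.free), .derive 23567 [.bwd 0] [] (.free), .derive 1209 [.bwd 0, .bwd 2594] [5] (.free), .derive 1210 [.edge 5, .fwd 0] [] (.free), .derive 23113 [.bwd 0] [] (.free), .derive 1210 [.bwd 0, .fwd 3662] [4] (.free),
  .derive 1211 [.edge 4, .fwd 0] [] (.free), .derive 23110 [.bwd 0] [] (.free), .derive 1211 [.bwd 0, .fwd 2608] [5] (.free), .derive 1212 [.edge 5, .fwd 0] [] (.free), .derive 23562 [.bwd 0] [] (.free), .derive 1212 [.bwd 0, .bwd 1837] [6] (.free), .derive 1207 [.edge 6, .fwd 0] [] (.free), .derive 23991 [.bwd 0] [] (.free),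
  .derive 1207 [.bwd 0, .fwd 1841] [5] (.free), .derive 1206 [.edge 5, .fwd 0] [] (.free), .derive 23560 [.bwd 0] [] (.free), .derive 1206 [.bwd 0, .fwd 1784] [3] (.free), .derive 23071 [.bwd 3759, .fwd 0] [] (.free), .derive 24017 [.bwd 0] [] (.free), .derive 23071 [.bwd 0, .fwd 1786] [0] (.free), .derive 23077 [.fwd 3750, .fwd 0] [] (.free),
  .derive 23561 [.bwd 0] [] (.free), .derive 23077 [.bwd 0, .fwd 1788] [4] (.free), .derive 23552 [.bwd 2644, .fwd 0] [] (.free), .derive 24018 [.bwd 0] [] (.free), .derive 23552 [.bwd 0, .fwd 1790] [1] (.free), .derive 24010 [.fwd 1807, .fwd 0] [] (.free), .derive 24010 [.fwd 0] [] (.free), .derive 23563 [.bwd 0, .bwd 1810] [4] (.free),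
  .derive 23111 [.fwd 2628, .fwd 0] [] (.free), .derive 23549 [.bwd 0] [] (.free), .derive 23111 [.bwd 0, .fwd 1811] [6] (.free), .derive 23108 [.bwd 3694, .fwd 0] [] (.free), .derive 24011 [.bwd 0] [] (.free), .derive 23108 [.bwd 0, .fwd 1813] [3] (.free), .derive 1330 [.fwd 3703, .fwd 0] [] (.free), .derive 23551 [.bwd 0] [] (.free),
  .derive 1330 [.bwd 0, .bwd 2661] [6] (.free), .derive 1331 [.edge 6, .fwd 0] [] (.free), .derive 23076 [.bwd 0] [] (.free), .derive 1331 [.bwd 0, .fwd 2665] [5] (.free), .derive 23112 [.bwd 3702, .fwd 0] [] (.free), .derive 23550 [.bwd 0, .fwd 572] [] (.free), .derive 1336 [.bwd 0, .fwd 1821] [6] (.free), .derive 1335 [.edge 6, .fwd 0] [] (.free),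
  .derive 24012 [.bwd 0] [] (.free), .derive 1335 [.bwd 0, .fwd 1823] [5] (.free), .derive 23120 [.bwd 3693, .fwd 0] [] (.free), .derive 24009 [.bwd 0, .fwd 581] [] (.free), .derive 1335 [.bwd 0, .bwd 1835] [6] (.free), .derive 1336 [.edge 6, .fwd 0] [] (.free), .derive 23548 [.bwd 0] [] (.free), .derive 1336 [.bwd 0, .fwd 1840] [5] (.free),
  .derive 23122 [.bwd 3692, .fwd 0] [] (.free), .derive 24008 [.bwd 0, .fwd 581] [] (.free), .derive 1331 [.bwd 0, .bwd 1829] [6] (.free), .derive 1330 [.edge 6, .fwd 0] [] (.free), .derive 24013 [.bwd 0] [] (.free), .derive 1330 [.bwd 0, .fwd 1833] [4] (.free), .derive 1337 [.edge 4, .fwd 0] [] (.free), .derive 24005 [.bwd 0] [] (.free),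
  .derive 1337 [.bwd 0, .fwd 1854] [6] (.free), .derive 1332 [.edge 6, .fwd 0] [] (.free), .derive 24002 [.bwd 0] [] (.free), .derive 1332 [.bwd 0, .bwd 1864] [5] (.free), .derive 23114 [.bwd 3721, .fwd 0] [] (.free), .derive 23544 [.bwd 0, .fwd 581] [] (.free), .derive 1333 [.bwd 0, .fwd 1865] [6] (.free), .derive 1334 [.edge 6, .fwd 0] [] (.free),
  .derive 24003 [.bwd 0] [] (.free), .derive 1334 [.bwd 0, .bwd 1866] [5] (.free), .derive 23117 [.bwd 3723, .fwd 0] [] (.free), .derive 24004 [.bwd 0, .fwd 584] [] (.free)]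
def ph17_p7 : List Aux :=
  ((ph17_p7_0 ++ ph17_p7_1) ++ (ph17_p7_2 ++ (ph17_p7_3 ++ ph17_p7_4)))

theorem ph17_p7_ok : stHas (runList (auxStep' P) ph17_p7 (mkSt 24326 mask23 ph17_eq7)) 24326 mask23 ph17_eq8 = true := by decide +kernel

end Cfsg.Agent.CosetData.SuzB
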