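import Cfsg.Agent.Lib.Compute.CosetData.SuzBAux

/-! Coset enumeration certificate data (S1681). -/

set_option autoImplicit false
set_option maxRecDepth 100000
set_option Elab.async false

namespace Cfsg.Agent.CosetData.SuzB

open Cfsg.Agent.CosetCert

def ph17_p8_0 : List Aux := [
  .derive 1334 [.bwd 0, .bwd 1870] [6] (.free), .derive 1333 [.edge 6, .fwd 0] [] (.free), .derive 23546 [.bwd 0] [] (.free), .derive 1333 [.bwd 0, .bwd 2708] [5] (.free), .derive 23115 [.bwd 3731, .fwd 0] [] (.free), .derive 23075 [.bwd 0, .fwd 596] [] (.free), .derive 1332 [.bwd 0, .fwd 2709] [6] (.free), .derive 1337 [.edge 6, .fwd 0] [] (.free),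
  .derive 23547 [.bwd 0] [] (.free), .derive 1337 [.bwd 0, .bwd 2605] [3] (.free), .derive 4439 [.edge 3, .fwd 0] [] (.free), .derive 23602 [.bwd 0] [] (.free), .derive 4439 [.bwd 0, .bwd 2609] [6] (.free), .derive 4438 [.edge 6, .fwd 0] [] (.free), .derive 23154 [.bwd 0] [] (.free), .derive 4438 [.bwd 0, .fwd 2614] [5] (.free),
  .derive 23183 [.bwd 3613, .fwd 0] [] (.free), .derive 23601 [.bwd 0, .fwd 671] [] (.free), .derive 4441 [.bwd 0, .fwd 1609] [6] (.free), .derive 4440 [.edge 6, .fwd 0] [] (.free), .derive 24054 [.bwd 0] [] (.free), .derive 4440 [.bwd 0, .fwd 1611] [5] (.free), .derive 23188 [.bwd 3609, .fwd 0] [] (.free), .derive 24051 [.bwd 0, .fwd 678] [] (.free),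
  .derive 4440 [.bwd 0, .bwd 1620] [6] (.free), .derive 4441 [.edge 6, .fwd 0] [] (.free), .derive 23599 [.bwd 0] [] (.free), .derive 4441 [.bwd 0, .fwd 1625] [5] (.free), .derive 23190 [.bwd 3608, .fwd 0] [] (.free), .derive 24050 [.bwd 0, .fwd 680] [] (.free), .derive 4438 [.bwd 0, .bwd 1574, .fwd 721] [1] (.free), .derive 23181 [.bwd 3632, .fwd 0] [] (.free),
  .derive 23181 [.fwd 0] [] (.free), .derive 4230 [.bwd 0, .fwd 2576] [2] (.free), .derive 8100 [.edge 2, .fwd 0] [] (.free), .derive 23629 [.bwd 0] [] (.free), .derive 8100 [.bwd 0, .fwd 1593] [4] (.free), .derive 23270 [.bwd 3495, .fwd 0] [] (.free), .derive 24071 [.bwd 0] [] (.free), .derive 23270 [.bwd 0, .fwd 1595] [1] (.free),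
  .derive 23466 [.fwd 2891, .fwd 0] [] (.free), .derive 23943 [.bwd 0] [] (.free), .derive 23466 [.bwd 0, .fwd 1159] [6] (.free), .derive 23918 [.bwd 2076, .fwd 0] [] (.free), .derive 24302 [.bwd 0] [] (.free), .derive 23918 [.bwd 0, .fwd 1161] [4] (.free), .derive 23468 [.bwd 2078, .fwd 0] [] (.free), .derive 23945 [.bwd 0] [] (.free),
  .derive 23468 [.bwd 0, .bwd 2035] [6] (.free), .derive 20951 [.fwd 2898, .fwd 0] [] (.free), .derive 23481 [.bwd 0] [] (.free), .derive 20951 [.bwd 0, .fwd 2039] [5] (.free), .derive 23467 [.bwd 2902, .fwd 0] [] (.free), .derive 23944 [.bwd 0] [] (.free), .derive 23467 [.bwd 0, .fwd 1169] [6] (.free), .derive 23919 [.bwd 2086, .fwd 0] [] (.free),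
  .derive 24303 [.bwd 0] [] (.free), .derive 23919 [.bwd 0, .fwd 1171] [5] (.free), .derive 23914 [.bwd 2088, .fwd 0] [] (.free), .derive 24301 [.bwd 0] [] (.free), .derive 23914 [.bwd 0, .bwd 1178] [6] (.free), .derive 23464 [.fwd 2100, .fwd 0] [] (.free), .derive 23940 [.bwd 0] [] (.free), .derive 23464 [.bwd 0, .fwd 1183] [5] (.free),
  .derive 23913 [.bwd 2105, .fwd 0] [] (.free), .derive 24300 [.bwd 0] [] (.free), .derive 23913 [.bwd 0, .bwd 1177] [6] (.free), .derive 23920 [.fwd 2095, .fwd 0] [] (.free), .derive 24304 [.bwd 0] [] (.free), .derive 23920 [.bwd 0, .fwd 1181] [2] (.free), .derive 24292 [.fwd 1206, .fwd 0] [] (.free), .derive 24292 [.fwd 0] [] (.free),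
  .derive 23951 [.bwd 0, .fwd 1207] [6] (.free), .derive 23941 [.bwd 2047, .fwd 0] [] (.free), .derive 24287 [.bwd 0] [] (.free), .derive 23941 [.bwd 0, .bwd 1222] [5] (.free), .derive 23480 [.fwd 2068, .fwd 0] [] (.free), .derive 23912 [.bwd 0] [] (.free), .derive 23480 [.bwd 0, .fwd 1223] [6] (.free), .derive 23942 [.bwd 2069, .fwd 0] [] (.free),
  .derive 24288 [.bwd 0] [] (.free), .derive 23942 [.bwd 0, .bwd 1219] [5] (.free), .derive 23950 [.fwd 2058, .fwd 0] [] (.free), .derive 24291 [.bwd 0] [] (.free), .derive 23950 [.bwd 0, .bwd 1223] [6] (.free), .derive 23483 [.fwd 2062, .fwd 0] [] (.free), .derive 23916 [.bwd 0] [] (.free), .derive 23483 [.bwd 0, .bwd 2124] [5] (.free),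
  .derive 21157 [.fwd 2911, .fwd 0] [] (.free), .derive 23465 [.bwd 0] [] (.free), .derive 21157 [.bwd 0, .fwd 2125] [6] (.free), .derive 23484 [.bwd 2913, .fwd 0] [] (.free), .derive 23917 [.bwd 0] [] (.free), .derive 23484 [.bwd 0, .bwd 1236] [4] (.free), .derive 23948 [.fwd 2074, .fwd 0] [] (.free), .derive 24289 [.bwd 0] [] (.free),
  .derive 23948 [.bwd 0, .bwd 1240] [6] (.free), .derive 23482 [.fwd 2078, .fwd 0] [] (.free), .derive 23915 [.bwd 0] [] (.free), .derive 23482 [.bwd 0, .bwd 1693] [1] (.free)]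
def ph17_p8_1 : List Aux := [
  .derive 23323 [.bwd 2924, .fwd 0] [] (.free), .derive 24052 [.bwd 0] [] (.free), .derive 23323 [.bwd 0, .bwd 1697] [4] (.free), .derive 9304 [.fwd 3454, .fwd 0] [] (.free), .derive 23600 [.bwd 0] [] (.free), .derive 9304 [.bwd 0, .fwd 1698] [5] (.free), .derive 23324 [.bwd 3456, .fwd 0] [] (.free), .derive 24053 [.bwd 0, .fwd 482] [] (.free),
  .derive 9309 [.bwd 0, .bwd 1488] [1] (.free), .derive 21164 [.edge 1, .fwd 0] [] (.free), .derive 24163 [.bwd 0] [] (.free), .derive 21164 [.bwd 0, .bwd 1251] [5] (.free), .derive 23496 [.bwd 2918, .fwd 0] [] (.free), .derive 24290 [.bwd 0] [] (.free), .derive 23496 [.bwd 0, .fwd 1255] [2] (.free), .derive 23500 [.fwd 2914, .fwd 0] [] (.free),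
  .derive 23926 [.bwd 0] [] (.free), .derive 23500 [.bwd 0, .fwd 2135] [5] (.free), .derive 21165 [.fwd 2918, .fwd 0] [] (.free), .derive 23743 [.bwd 0] [] (.free), .derive 21165 [.bwd 0, .fwd 1499] [6] (.free), .derive 23501 [.bwd 2919, .fwd 0] [] (.free), .derive 24164 [.bwd 0] [] (.free), .derive 23501 [.bwd 0, .bwd 1244] [3] (.free),
  .derive 23969 [.fwd 2066, .fwd 0] [] (.free), .derive 24299 [.bwd 0] [] (.free), .derive 23969 [.bwd 0, .bwd 1248] [6] (.free), .derive 23498 [.fwd 2070, .fwd 0] [] (.free), .derive 23937 [.bwd 0] [] (.free), .derive 23498 [.bwd 0, .bwd 1262] [5] (.free), .derive 23968 [.bwd 2074, .fwd 0] [] (.free), .derive 24293 [.bwd 0] [] (.free),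
  .derive 23968 [.bwd 0, .bwd 1266] [1] (.free), .derive 24316 [.bwd 1221, .fwd 0] [] (.free), .derive 24316 [.fwd 0] [] (.free), .derive 23922 [.bwd 0, .fwd 1222] [5] (.free), .derive 23471 [.fwd 2161, .fwd 0] [] (.free), .derive 23976 [.bwd 0] [] (.free), .derive 23471 [.bwd 0, .fwd 1219] [6] (.free), .derive 23923 [.bwd 2163, .fwd 0] [] (.free),
  .derive 24319 [.bwd 0] [] (.free), .derive 23923 [.bwd 0, .fwd 1221] [3] (.free), .derive 23474 [.bwd 2165, .fwd 0] [] (.free), .derive 24185 [.bwd 0] [] (.free), .derive 23474 [.bwd 0, .bwd 1488] [6] (.free), .derive 20953 [.fwd 2983, .fwd 0] [] (.free), .derive 23782 [.bwd 0] [] (.free), .derive 20953 [.bwd 0, .bwd 2084] [5] (.free),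
  .derive 23473 [.bwd 2988, .fwd 0] [] (.free), .derive 23972 [.bwd 0] [] (.free), .derive 23473 [.bwd 0, .bwd 1235] [4] (.free), .derive 23924 [.fwd 2172, .fwd 0] [] (.free), .derive 24317 [.bwd 0] [] (.free), .derive 23924 [.bwd 0, .fwd 1237] [5] (.free), .derive 23472 [.fwd 2176, .fwd 0] [] (.free), .derive 24184 [.bwd 0] [] (.free),
  .derive 23472 [.bwd 0, .bwd 1501] [1] (.free), .derive 23272 [.bwd 2998, .fwd 0] [] (.free), .derive 23780 [.bwd 0] [] (.free), .derive 23272 [.bwd 0, .fwd 1821] [6] (.free), .derive 23742 [.bwd 2501, .fwd 0] [] (.free), .derive 23742 [.fwd 0] [] (.free), .derive 23741 [.bwd 0, .fwd 1545] [5] (.free), .derive 23272 [.fwd 2507, .fwd 0] [] (.free),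
  .derive 24162 [.bwd 0] [] (.free), .derive 23272 [.bwd 0, .fwd 1547] [6] (.free), .derive 23742 [.bwd 2507, .fwd 0] [] (.free), .derive 24160 [.bwd 0, .fwd 5] [] (.free), .derive 23741 [.bwd 0, .bwd 1554] [5] (.free), .derive 23272 [.fwd 2513, .fwd 0] [] (.free), .derive 23738 [.bwd 0] [] (.free), .derive 23272 [.bwd 0, .fwd 1879] [6] (.free),
  .derive 23742 [.bwd 2513, .fwd 0] [] (.free), .derive 23741 [.bwd 11, .fwd 0] [] (.free), .derive 23339 [.bwd 0, .fwd 2516] [4] (.free), .derive 9312 [.fwd 3491, .fwd 0] [] (.free), .derive 23273 [.bwd 0] [] (.free), .derive 9312 [.bwd 0, .fwd 2514, .fwd 1899] [6] (.free), .derive 23341 [.bwd 3491, .fwd 0] [] (.free), .derive 23340 [.bwd 0, .fwd 1895] [] (.free),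
  .derive 23271 [.bwd 0, .bwd 3494] [5] (.free), .derive 23739 [.bwd 2529, .fwd 0] [] (.free), .derive 23739 [.fwd 0] [] (.free), .derive 9312 [.bwd 0, .bwd 2516] [6] (.free), .derive 23341 [.bwd 3497, .fwd 0] [] (.free), .derive 23746 [.bwd 0, .fwd 1901] [] (.free), .derive 23271 [.bwd 0, .bwd 2520] [5] (.free), .derive 23739 [.bwd 2535, .fwd 0] [] (.free),
  .derive 23274 [.bwd 0, .fwd 5] [] (.free), .derive 9312 [.bwd 0, .bwd 3640] [6] (.free), .derive 23341 [.bwd 3503, .fwd 0] [] (.free), .derive 23271 [.bwd 1907, .fwd 0] [] (.free), .derive 8104 [.bwd 0, .bwd 3027] [3] (.free), .derive 20954 [.edge 3, .fwd 0] [] (.free), .derive 23475 [.bwd 0] [] (.free), .derive 20954 [.bwd 0, .fwd 2204, .fwd 1894] [6] (.free),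
  .derive 23479 [.bwd 3024, .fwd 0] [] (.free), .derive 23476 [.bwd 1884, .fwd 0] [] (.free), .derive 21166 [.bwd 0, .fwd 2205] [5] (.free), .derive 23503 [.bwd 2994, .fwd 0] [] (.free)]
def ph17_p8_2 : List Aux := [
  .derive 23933 [.bwd 0] [] (.free), .derive 23503 [.bwd 0, .bwd 2125, .fwd 1880] [6] (.free), .derive 23977 [.bwd 2131, .fwd 0] [] (.free), .derive 23930 [.bwd 0, .fwd 1896] [] (.free), .derive 23478 [.bwd 0, .bwd 1329] [4] (.free), .derive 23935 [.fwd 2208, .fwd 0] [] (.free), .derive 24297 [.bwd 0] [] (.free), .derive 23935 [.bwd 0, .bwd 1330] [6] (.free),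
  .derive 23974 [.fwd 1869, .fwd 0] [] (.free), .derive 24298 [.bwd 0] [] (.free), .derive 23974 [.bwd 0, .bwd 1334] [5] (.free), .derive 23502 [.fwd 2145, .fwd 0] [] (.free), .derive 23932 [.bwd 0] [] (.free), .derive 23502 [.bwd 0, .fwd 1890] [6] (.free), .derive 23975 [.bwd 2147, .fwd 0] [] (.free), .derive 23929 [.bwd 1891, .fwd 0] [] (.free),
  .derive 23477 [.bwd 0, .bwd 1345] [1] (.free), .derive 23921 [.fwd 2243, .fwd 0] [] (.free), .derive 24295 [.bwd 0] [] (.free), .derive 23921 [.bwd 0, .bwd 1349] [4] (.free), .derive 23471 [.fwd 2247, .fwd 0] [] (.free), .derive 23928 [.bwd 0] [] (.free), .derive 23471 [.bwd 0, .fwd 1350] [6] (.free), .derive 23923 [.bwd 2247, .fwd 0] [] (.free),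
  .derive 24296 [.bwd 0] [] (.free), .derive 23923 [.bwd 0, .fwd 1352] [3] (.free), .derive 23474 [.bwd 2249, .fwd 0] [] (.free), .derive 23973 [.bwd 0] [] (.free), .derive 23474 [.bwd 0, .fwd 2163, .fwd 1899] [6] (.free), .derive 20953 [.fwd 3067, .fwd 0] [] (.free), .derive 23737 [.bwd 0] [] (.free), .derive 20953 [.bwd 0, .fwd 1619] [4] (.free),
  .derive 23472 [.bwd 3074, .fwd 0] [] (.free), .derive 24159 [.bwd 0] [] (.free), .derive 23472 [.bwd 0, .bwd 1316] [6] (.free), .derive 23925 [.bwd 2255, .fwd 0] [] (.free), .derive 24318 [.bwd 0] [] (.free), .derive 23925 [.bwd 0, .bwd 1320] [1] (.free), .derive 24294 [.bwd 1370, .fwd 0] [] (.free), .derive 24294 [.fwd 0] [] (.free),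
  .derive 23971 [.bwd 0, .fwd 1371] [6] (.free), .derive 23499 [.fwd 2180, .fwd 0] [] (.free), .derive 24161 [.bwd 0] [] (.free), .derive 23499 [.bwd 0, .fwd 1627] [4] (.free), .derive 21165 [.fwd 3046, .fwd 0] [] (.free), .derive 23745 [.bwd 0] [] (.free), .derive 21165 [.bwd 0, .bwd 2262] [6] (.free), .derive 23501 [.bwd 3045, .fwd 0] [] (.free),
  .derive 23927 [.bwd 0] [] (.free), .derive 23501 [.bwd 0, .bwd 1401] [2] (.free), .derive 23497 [.bwd 3047, .fwd 0] [] (.free), .derive 24285 [.bwd 0] [] (.free), .derive 23497 [.bwd 0, .fwd 1403] [6] (.free), .derive 21164 [.fwd 3058, .fwd 0] [] (.free), .derive 24165 [.bwd 0] [] (.free), .derive 21164 [.bwd 0, .fwd 1632] [1] (.free),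
  .derive 9309 [.edge 1, .fwd 0] [] (.free), .derive 24047 [.bwd 0] [] (.free), .derive 9309 [.bwd 0, .bwd 1861] [6] (.free), .derive 9308 [.edge 6, .fwd 0] [] (.free), .derive 23596 [.bwd 0] [] (.free), .derive 9308 [.bwd 0, .fwd 1867] [4] (.free), .derive 23330 [.bwd 3599, .fwd 0] [] (.free), .derive 24046 [.bwd 0] [] (.free),
  .derive 23330 [.bwd 0, .fwd 1869] [1] (.free), .derive 23492 [.fwd 3076, .fwd 0] [] (.free), .derive 23905 [.bwd 0] [] (.free), .derive 23492 [.bwd 0, .fwd 1424] [6] (.free), .derive 23963 [.bwd 2222, .fwd 0] [] (.free), .derive 24283 [.bwd 0] [] (.free), .derive 23963 [.bwd 0, .fwd 1426] [4] (.free), .derive 23494 [.bwd 2224, .fwd 0] [] (.free),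
  .derive 23907 [.bwd 0] [] (.free), .derive 23494 [.bwd 0, .bwd 2325] [6] (.free), .derive 21163 [.fwd 3083, .fwd 0] [] (.free), .derive 23460 [.bwd 0] [] (.free), .derive 21163 [.bwd 0, .fwd 2329] [5] (.free), .derive 23493 [.bwd 3087, .fwd 0] [] (.free), .derive 23906 [.bwd 0] [] (.free), .derive 23493 [.bwd 0, .fwd 1434] [6] (.free),
  .derive 23964 [.bwd 2232, .fwd 0] [] (.free), .derive 24284 [.bwd 0] [] (.free), .derive 23964 [.bwd 0, .fwd 1436] [5] (.free), .derive 23958 [.bwd 2234, .fwd 0] [] (.free), .derive 24281 [.bwd 0] [] (.free), .derive 23958 [.bwd 0, .bwd 1446] [6] (.free), .derive 23490 [.fwd 2247, .fwd 0] [] (.free), .derive 23902 [.bwd 0] [] (.free),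
  .derive 23490 [.bwd 0, .fwd 1451] [5] (.free), .derive 23957 [.bwd 2252, .fwd 0] [] (.free), .derive 24280 [.bwd 0] [] (.free), .derive 23957 [.bwd 0, .bwd 1439] [6] (.free), .derive 23965 [.fwd 2241, .fwd 0] [] (.free), .derive 24286 [.bwd 0] [] (.free), .derive 23965 [.bwd 0, .fwd 1443] [2] (.free), .derive 24313 [.fwd 1390, .fwd 0] [] (.free),
  .derive 24313 [.fwd 0] [] (.free), .derive 23911 [.bwd 0, .fwd 1391] [6] (.free), .derive 23903 [.bwd 2342, .fwd 0] [] (.free), .derive 24308 [.bwd 0] [] (.free)]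
def ph17_p8_3 : List Aux := [
  .derive 23903 [.bwd 0, .bwd 1405] [5] (.free), .derive 23459 [.fwd 2359, .fwd 0] [] (.free), .derive 23956 [.bwd 0] [] (.free), .derive 23459 [.bwd 0, .fwd 1406] [6] (.free), .derive 23904 [.bwd 2360, .fwd 0] [] (.free), .derive 24309 [.bwd 0] [] (.free), .derive 23904 [.bwd 0, .bwd 1403] [5] (.free), .derive 23910 [.fwd 2353, .fwd 0] [] (.free),
  .derive 24312 [.bwd 0] [] (.free), .derive 23910 [.bwd 0, .bwd 1407] [6] (.free), .derive 23462 [.fwd 2357, .fwd 0] [] (.free), .derive 23960 [.bwd 0] [] (.free), .derive 23462 [.bwd 0, .bwd 2270] [5] (.free), .derive 20945 [.fwd 3169, .fwd 0] [] (.free), .derive 23491 [.bwd 0] [] (.free), .derive 20945 [.bwd 0, .fwd 2272] [6] (.free),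
  .derive 23463 [.bwd 3171, .fwd 0] [] (.free), .derive 23961 [.bwd 0] [] (.free), .derive 23463 [.bwd 0, .bwd 1417] [4] (.free), .derive 23909 [.fwd 2367, .fwd 0] [] (.free), .derive 24311 [.bwd 0] [] (.free), .derive 23909 [.bwd 0, .bwd 1421] [6] (.free), .derive 23461 [.fwd 2371, .fwd 0] [] (.free), .derive 23959 [.bwd 0] [] (.free),
  .derive 23461 [.bwd 0, .fwd 1426] [5] (.free), .derive 23908 [.bwd 2375, .fwd 0] [] (.free), .derive 24310 [.bwd 0] [] (.free), .derive 23908 [.bwd 0, .fwd 1428] [2] (.free), .derive 24282 [.fwd 1486, .fwd 0] [] (.free), .derive 24282 [.fwd 0] [] (.free), .derive 23962 [.bwd 0, .bwd 1489, .fwd 0] [1] (.free), .derive 24314 [.bwd 1424, .bwd 0] [] (.free),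
  .derive 24314 [.fwd 0] [] (.free), .derive 23962 [.bwd 0, .fwd 1425] [5] (.free), .derive 23492 [.fwd 2289, .fwd 0] [] (.free), .derive 24176 [.bwd 0] [] (.free), .derive 23492 [.bwd 0, .fwd 1695] [4] (.free), .derive 21163 [.fwd 3149, .fwd 0] [] (.free), .derive 23768 [.bwd 0] [] (.free), .derive 21163 [.bwd 0, .fwd 1697] [6] (.free),
  .derive 23494 [.bwd 3149, .fwd 0] [] (.free), .derive 24177 [.bwd 0] [] (.free), .derive 23494 [.bwd 0, .fwd 1699] [3] (.free), .derive 23765 [.fwd 2642, .fwd 0] [] (.free), .derive 24175 [.bwd 0] [] (.free), .derive 23765 [.bwd 0, .bwd 1706] [6] (.free), .derive 23328 [.fwd 2646, .fwd 0] [] (.free), .derive 23766 [.bwd 0] [] (.free),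
  .derive 23328 [.bwd 0, .bwd 1710] [5] (.free), .derive 23764 [.bwd 2650, .fwd 0] [] (.free), .derive 24174 [.bwd 0] [] (.free), .derive 23764 [.bwd 0, .bwd 1689] [4] (.free), .derive 23790 [.fwd 2606, .fwd 0] [] (.free), .derive 24188 [.bwd 0] [] (.free), .derive 23790 [.bwd 0, .fwd 1691] [5] (.free), .derive 23347 [.fwd 2610, .fwd 0] [] (.free),
  .derive 23791 [.bwd 0] [] (.free), .derive 23347 [.bwd 0, .fwd 1693] [2] (.free), .derive 23789 [.bwd 2615, .fwd 0] [] (.free), .derive 24189 [.bwd 0] [] (.free), .derive 23789 [.bwd 0, .fwd 1695] [4] (.free), .derive 23670 [.bwd 2617, .fwd 0] [] (.free), .derive 24151 [.bwd 0] [] (.free), .derive 23670 [.bwd 0, .bwd 1765] [1] (.free),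
  .derive 23215 [.fwd 2826, .fwd 0] [] (.free), .derive 23728 [.bwd 0] [] (.free), .derive 23215 [.bwd 0, .fwd 1764] [6] (.free), .derive 23276 [.fwd 3813, .fwd 0] [] (.free), .derive 24153 [.bwd 0] [] (.free), .derive 23276 [.bwd 0, .bwd 1764] [5] (.free), .derive 23748 [.bwd 2700, .fwd 0] [] (.free), .derive 24155 [.bwd 0] [] (.free),
  .derive 23748 [.bwd 0, .bwd 1768] [6] (.free), .derive 23377 [.bwd 2702, .fwd 0] [] (.free), .derive 23731 [.bwd 0] [] (.free), .derive 23377 [.bwd 0, .bwd 2736] [5] (.free), .derive 23669 [.fwd 2839, .fwd 0] [] (.free), .derive 23669 [.fwd 0] [] (.free), .derive 23265 [.bwd 0, .bwd 2709] [6] (.free), .derive 23732 [.bwd 2738, .fwd 0] [] (.free),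
  .derive 23747 [.bwd 0] [] (.free), .derive 23732 [.bwd 0, .bwd 2700] [5] (.free), .derive 24156 [.bwd 1776, .fwd 0] [] (.free), .derive 24156 [.fwd 0] [] (.free), .derive 23752 [.bwd 0, .fwd 1777] [6] (.free), .derive 23290 [.fwd 2705, .fwd 0] [] (.free), .derive 23749 [.bwd 0] [] (.free), .derive 23290 [.bwd 0, .fwd 1763] [4] (.free),
  .derive 23751 [.bwd 2710, .fwd 0] [] (.free), .derive 24166 [.bwd 0] [] (.free), .derive 23751 [.bwd 0, .fwd 1765] [5] (.free), .derive 23363 [.bwd 2712, .fwd 0] [] (.free), .derive 24152 [.bwd 0] [] (.free), .derive 23363 [.bwd 0, .fwd 1792] [2] (.free), .derive 9345 [.fwd 3664, .fwd 0] [] (.free), .derive 23729 [.bwd 0] [] (.free),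
  .derive 9345 [.bwd 0, .fwd 1793] [6] (.free), .derive 9346 [.edge 6, .fwd 0] [] (.free), .derive 24154 [.bwd 0] [] (.free), .derive 9346 [.bwd 0, .bwd 1790] [5] (.free)]
def ph17_p8_4 : List Aux := [
  .derive 23365 [.bwd 3666, .fwd 0] [] (.free), .derive 24157 [.bwd 0] [] (.free), .derive 23365 [.bwd 0, .bwd 1794] [6] (.free), .derive 23378 [.fwd 3643, .fwd 0] [] (.free), .derive 23733 [.bwd 0] [] (.free), .derive 23378 [.bwd 0, .bwd 2763] [5] (.free), .derive 23362 [.bwd 3647, .fwd 0] [] (.free), .derive 23362 [.fwd 0] [] (.free),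
  .derive 23266 [.bwd 0, .bwd 3675] [6] (.free), .derive 23734 [.bwd 2765, .fwd 0] [] (.free), .derive 23734 [.fwd 0] [] (.free), .derive 23364 [.bwd 0, .fwd 1801] [5] (.free), .derive 23753 [.fwd 2729, .fwd 0] [] (.free), .derive 24158 [.bwd 0] [] (.free), .derive 23753 [.bwd 0, .fwd 1803] [6] (.free), .derive 23291 [.fwd 2733, .fwd 0] [] (.free),
  .derive 23750 [.bwd 0] [] (.free), .derive 23291 [.bwd 0, .bwd 2742] [4] (.free), .derive 8251 [.fwd 3837, .fwd 0] [] (.free), .derive 23289 [.bwd 0] [] (.free), .derive 8251 [.bwd 0, .bwd 2772] [6] (.free), .derive 23292 [.bwd 3838, .fwd 0] [] (.free), .derive 23736 [.bwd 0] [] (.free), .derive 23292 [.bwd 0, .bwd 2776] [5] (.free),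
  .derive 23275 [.bwd 3840, .fwd 0] [] (.free), .derive 23275 [.fwd 0] [] (.free), .derive 23268 [.bwd 0, .fwd 3874] [6] (.free), .derive 7192 [.fwd 3888, .fwd 0] [] (.free), .derive 23214 [.bwd 0] [] (.free), .derive 7192 [.bwd 0, .fwd 3967] [5] (.free), .derive 23267 [.bwd 3892, .fwd 0] [] (.free), .derive 23267 [.fwd 0] [] (.free),
  .derive 9385 [.bwd 0, .fwd 2787] [6] (.free), .derive 23277 [.fwd 3877, .fwd 0] [] (.free), .derive 23735 [.bwd 0] [] (.free), .derive 23277 [.bwd 0, .fwd 2789] [5] (.free), .derive 8167 [.fwd 3881, .fwd 0] [] (.free), .derive 23730 [.bwd 0] [] (.free), .derive 8167 [.bwd 0, .bwd 2800] [6] (.free), .derive 4461 [.edge 6, .fwd 0] [] (.free),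
  .derive 23264 [.bwd 0] [] (.free), .derive 4461 [.bwd 0, .fwd 3906] [3] (.free), .derive 4243 [.edge 3, .fwd 0] [] (.free), .derive 23253 [.bwd 0] [] (.free), .derive 4243 [.bwd 0, .fwd 2834] [6] (.free), .derive 8168 [.edge 6, .fwd 0] [] (.free), .derive 23712 [.bwd 0] [] (.free), .derive 8168 [.bwd 0, .bwd 2835] [5] (.free),
  .derive 23279 [.bwd 3889, .fwd 0] [] (.free), .derive 23713 [.bwd 0] [] (.free), .derive 23279 [.bwd 0, .bwd 2839] [6] (.free), .derive 9384 [.bwd 3891, .fwd 0] [] (.free), .derive 23254 [.bwd 0] [] (.free), .derive 9384 [.bwd 0, .bwd 3935] [5] (.free), .derive 23171 [.fwd 4068, .fwd 0] [] (.free), .derive 23171 [.fwd 0] [] (.free),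
  .derive 6677 [.bwd 0, .bwd 3898] [6] (.free), .derive 23255 [.bwd 3937, .fwd 0] [] (.free), .derive 23278 [.bwd 0] [] (.free), .derive 23255 [.bwd 0, .bwd 3883] [5] (.free), .derive 23714 [.bwd 2847, .fwd 0] [] (.free), .derive 23714 [.fwd 0] [] (.free), .derive 23288 [.bwd 0, .fwd 2848] [6] (.free), .derive 8250 [.fwd 3888, .fwd 0] [] (.free),
  .derive 23287 [.bwd 0] [] (.free), .derive 8250 [.bwd 0, .bwd 3016] [4] (.free), .derive 23173 [.fwd 4076, .fwd 0] [] (.free), .derive 23626 [.bwd 0] [] (.free), .derive 23173 [.bwd 0, .bwd 2849] [6] (.free), .derive 23627 [.bwd 3017, .fwd 0] [] (.free), .derive 23717 [.bwd 0] [] (.free), .derive 23627 [.bwd 0, .bwd 2853] [5] (.free),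
  .derive 23280 [.bwd 3019, .fwd 0] [] (.free), .derive 23280 [.fwd 0] [] (.free), .derive 23258 [.bwd 0, .fwd 3912] [6] (.free), .derive 6678 [.fwd 3950, .fwd 0] [] (.free), .derive 23172 [.bwd 0] [] (.free), .derive 6678 [.bwd 0, .bwd 3722] [5] (.free), .derive 23257 [.bwd 3955, .fwd 0] [] (.free), .derive 23376 [.bwd 0] [] (.free),
  .derive 23257 [.bwd 0, .fwd 3724] [6] (.free), .derive 23716 [.bwd 2865, .fwd 0] [] (.free), .derive 23716 [.fwd 0] [] (.free), .derive 23281 [.bwd 0, .fwd 2866] [5] (.free), .derive 8169 [.fwd 3921, .fwd 0] [] (.free), .derive 23715 [.bwd 0] [] (.free), .derive 8169 [.bwd 0, .bwd 2871] [6] (.free), .derive 4244 [.edge 6, .fwd 0] [] (.free),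
  .derive 23256 [.bwd 0] [] (.free), .derive 4244 [.bwd 0, .bwd 3962] [3] (.free), .derive 4453 [.edge 3, .fwd 0] [] (.free), .derive 23259 [.bwd 0] [] (.free), .derive 4453 [.bwd 0, .fwd 2867] [6] (.free), .derive 8170 [.edge 6, .fwd 0] [] (.free), .derive 23720 [.bwd 0] [] (.free), .derive 8170 [.bwd 0, .bwd 2862] [5] (.free),
  .derive 23284 [.bwd 3928, .fwd 0] [] (.free), .derive 23726 [.bwd 0] [] (.free), .derive 23284 [.bwd 0, .bwd 2866] [6] (.free), .derive 23373 [.bwd 3749, .fwd 0] [] (.free)]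
def ph17_p8 : List Aux :=
  ((ph17_p8_0 ++ ph17_p8_1) ++ (ph17_p8_2 ++ (ph17_p8_3 ++ ph17_p8_4)))

theorem ph17_p8_ok : stHas (runList (auxStep' P) ph17_p8 (mkSt 24326 mask23 ph17_eq8)) 24326 mask23 ph17_eq9 = true := by decide +kernel

def ph17_p9_0 : List Aux := [
  .derive 23373 [.fwd 0] [] (.free), .derive 23262 [.bwd 0, .fwd 3752] [5] (.free), .derive 7177 [.fwd 3972, .fwd 0] [] (.free), .derive 23210 [.bwd 0] [] (.free), .derive 7177 [.bwd 0, .bwd 3939] [6] (.free), .derive 23263 [.bwd 3972, .fwd 0] [] (.free), .derive 23282 [.bwd 0] [] (.free), .derive 23263 [.bwd 0, .bwd 2973] [5] (.free),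
  .derive 23727 [.bwd 2874, .fwd 0] [] (.free), .derive 23727 [.fwd 0] [] (.free), .derive 23668 [.bwd 0, .fwd 2875] [6] (.free), .derive 23211 [.fwd 2978, .fwd 0] [] (.free), .derive 23667 [.bwd 0] [] (.free), .derive 23211 [.bwd 0, .bwd 2738] [4] (.free), .derive 23370 [.fwd 3771, .fwd 0] [] (.free), .derive 23804 [.bwd 0] [] (.free),
  .derive 23370 [.bwd 0, .bwd 1919] [6] (.free), .derive 23801 [.fwd 2748, .fwd 0] [] (.free), .derive 24150 [.bwd 0] [] (.free), .derive 23801 [.bwd 0, .bwd 1923] [5] (.free), .derive 23366 [.fwd 2752, .fwd 0] [] (.free), .derive 23725 [.bwd 0] [] (.free), .derive 23366 [.bwd 0, .bwd 2891] [6] (.free), .derive 23368 [.fwd 3784, .fwd 0] [] (.free),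
  .derive 23368 [.fwd 0] [] (.free), .derive 23261 [.bwd 0, .bwd 2754] [5] (.free), .derive 23724 [.bwd 2896, .fwd 0] [] (.free), .derive 23802 [.bwd 0] [] (.free), .derive 23724 [.bwd 0, .bwd 2758] [6] (.free), .derive 24149 [.bwd 1935, .fwd 0] [] (.free), .derive 24149 [.fwd 0] [] (.free), .derive 23367 [.bwd 0, .fwd 1936] [5] (.free),
  .derive 9347 [.fwd 3795, .fwd 0] [] (.free), .derive 24143 [.bwd 0] [] (.free), .derive 9347 [.bwd 0, .bwd 1950] [6] (.free), .derive 9352 [.edge 6, .fwd 0] [] (.free), .derive 23719 [.bwd 0] [] (.free), .derive 9352 [.bwd 0, .bwd 1955] [2] (.free), .derive 23369 [.bwd 3798, .fwd 0] [] (.free), .derive 24141 [.bwd 0] [] (.free),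
  .derive 23369 [.bwd 0, .bwd 1851] [5] (.free), .derive 23803 [.bwd 2769, .fwd 0] [] (.free), .derive 24201 [.bwd 0] [] (.free), .derive 23803 [.bwd 0, .fwd 1855] [4] (.free), .derive 23371 [.bwd 2771, .fwd 0] [] (.free), .derive 24097 [.bwd 0] [] (.free), .derive 23371 [.bwd 0, .bwd 1953] [6] (.free), .derive 23806 [.bwd 2767, .fwd 0] [] (.free),
  .derive 24148 [.bwd 0] [] (.free), .derive 23806 [.bwd 0, .bwd 1957] [5] (.free), .derive 23372 [.bwd 2769, .fwd 0] [] (.free), .derive 23723 [.bwd 0] [] (.free), .derive 23372 [.bwd 0, .bwd 2923] [6] (.free), .derive 9354 [.fwd 3806, .fwd 0] [] (.free), .derive 23260 [.bwd 0] [] (.free), .derive 9354 [.bwd 0, .fwd 2928] [5] (.free),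
  .derive 9355 [.edge 5, .fwd 0] [] (.free), .derive 23722 [.bwd 0] [] (.free), .derive 9355 [.bwd 0, .fwd 1968] [6] (.free), .derive 23374 [.bwd 3808, .fwd 0] [] (.free), .derive 24147 [.bwd 0] [] (.free), .derive 23374 [.bwd 0, .fwd 1970] [5] (.free), .derive 23283 [.bwd 3810, .fwd 0] [] (.free), .derive 24142 [.bwd 0] [] (.free),
  .derive 23283 [.bwd 0, .bwd 1981] [6] (.free), .derive 9353 [.bwd 3998, .fwd 0] [] (.free), .derive 23718 [.bwd 0] [] (.free), .derive 9353 [.bwd 0, .fwd 1988, .fwd 1627] [3] (.free), .derive 9357 [.edge 3, .fwd 0] [] (.free), .derive 24115 [.bwd 0] [] (.free), .derive 9357 [.bwd 0, .bwd 2029] [4] (.free), .derive 9358 [.edge 4, .fwd 0] [] (.free),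
  .derive 24120 [.bwd 0] [] (.free), .derive 9358 [.bwd 0, .bwd 2001] [3] (.free), .derive 23375 [.bwd 3821, .fwd 0] [] (.free), .derive 24136 [.bwd 0] [] (.free), .derive 23375 [.bwd 0, .bwd 2005] [1] (.free), .derive 23390 [.fwd 3802, .fwd 0] [] (.free), .derive 23704 [.bwd 0] [] (.free), .derive 23390 [.bwd 0, .bwd 2973] [6] (.free),
  .derive 23827 [.bwd 2762, .fwd 0] [] (.free), .derive 23827 [.fwd 0] [] (.free), .derive 23709 [.bwd 0, .fwd 1863] [5] (.free), .derive 23249 [.fwd 2978, .fwd 0] [] (.free), .derive 24218 [.bwd 0] [] (.free), .derive 23249 [.bwd 0, .fwd 1865] [6] (.free), .derive 6285 [.fwd 4075, .fwd 0] [] (.free), .derive 24214 [.bwd 0] [] (.free),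
  .derive 6285 [.bwd 0, .bwd 1877] [5] (.free), .derive 23248 [.bwd 4079, .fwd 0] [] (.free), .derive 23825 [.bwd 0] [] (.free), .derive 23248 [.bwd 0, .fwd 1878] [6] (.free), .derive 23708 [.bwd 2989, .fwd 0] [] (.free), .derive 24215 [.bwd 0] [] (.free), .derive 23708 [.bwd 0, .bwd 1876] [5] (.free), .derive 23705 [.bwd 2991, .fwd 0] [] (.free),
  .derive 24217 [.bwd 0] [] (.free), .derive 23705 [.bwd 0, .bwd 1880] [6] (.free), .derive 23246 [.fwd 2998, .fwd 0] [] (.free), .derive 23826 [.bwd 0] [] (.free)]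
def ph17_p9_1 : List Aux := [
  .derive 23246 [.bwd 0, .fwd 2783] [4] (.free), .derive 23703 [.bwd 3007, .fwd 0] [] (.free), .derive 23815 [.bwd 0] [] (.free), .derive 23703 [.bwd 0, .fwd 1903] [6] (.free), .derive 24135 [.bwd 2034, .fwd 0] [] (.free), .derive 24208 [.bwd 0] [] (.free), .derive 24135 [.bwd 0, .fwd 1905] [5] (.free), .derive 24137 [.fwd 2033, .fwd 0] [] (.free),
  .derive 24206 [.bwd 0] [] (.free), .derive 24137 [.bwd 0, .bwd 1912] [6] (.free), .derive 23706 [.fwd 2037, .fwd 0] [] (.free), .derive 23812 [.bwd 0] [] (.free), .derive 23706 [.bwd 0, .fwd 1917] [5] (.free), .derive 23247 [.fwd 3012, .fwd 0] [] (.free), .derive 24205 [.bwd 0] [] (.free), .derive 23247 [.bwd 0, .bwd 1912] [6] (.free),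
  .derive 23707 [.bwd 3014, .fwd 0] [] (.free), .derive 24209 [.bwd 0] [] (.free), .derive 23707 [.bwd 0, .bwd 1916] [5] (.free), .derive 24138 [.bwd 2044, .fwd 0] [] (.free), .derive 24138 [.fwd 0] [] (.free), .derive 23816 [.bwd 0, .fwd 2045] [6] (.free), .derive 23383 [.fwd 2824, .fwd 0] [] (.free), .derive 24134 [.bwd 0] [] (.free),
  .derive 23383 [.bwd 0, .fwd 2055] [3] (.free), .derive 9395 [.fwd 3860, .fwd 0] [] (.free), .derive 24125 [.bwd 0] [] (.free), .derive 9395 [.bwd 0, .bwd 2068] [6] (.free), .derive 23385 [.bwd 3859, .fwd 0] [] (.free), .derive 24130 [.bwd 0] [] (.free), .derive 23385 [.bwd 0, .bwd 2072] [5] (.free), .derive 23819 [.bwd 2828, .fwd 0] [] (.free),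
  .derive 23819 [.fwd 0] [] (.free), .derive 23699 [.bwd 0, .fwd 2829] [6] (.free), .derive 23243 [.fwd 3047, .fwd 0] [] (.free), .derive 23813 [.bwd 0] [] (.free), .derive 23243 [.bwd 0, .bwd 2843] [5] (.free), .derive 23698 [.bwd 3051, .fwd 0] [] (.free), .derive 23698 [.fwd 0] [] (.free), .derive 23382 [.bwd 0, .fwd 2083] [6] (.free),
  .derive 23814 [.bwd 2845, .fwd 0] [] (.free), .derive 24129 [.bwd 0] [] (.free), .derive 23814 [.bwd 0, .fwd 2085] [5] (.free), .derive 23818 [.fwd 2841, .fwd 0] [] (.free), .derive 24126 [.bwd 0] [] (.free), .derive 23818 [.bwd 0, .bwd 2093] [6] (.free), .derive 23384 [.fwd 2845, .fwd 0] [] (.free), .derive 23693 [.bwd 0] [] (.free),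
  .derive 23384 [.bwd 0, .bwd 3071] [4] (.free), .derive 23380 [.bwd 3881, .fwd 0] [] (.free), .derive 23380 [.fwd 0] [] (.free), .derive 23241 [.bwd 0, .fwd 2864] [6] (.free), .derive 23695 [.bwd 3070, .fwd 0] [] (.free), .derive 23810 [.bwd 0] [] (.free), .derive 23695 [.bwd 0, .fwd 2866] [5] (.free), .derive 23700 [.fwd 3066, .fwd 0] [] (.free),
  .derive 23808 [.bwd 0] [] (.free), .derive 23700 [.bwd 0, .bwd 2873] [6] (.free), .derive 23244 [.fwd 3070, .fwd 0] [] (.free), .derive 23379 [.bwd 0] [] (.free), .derive 23244 [.bwd 0, .fwd 2878] [5] (.free), .derive 6271 [.fwd 4156, .fwd 0] [] (.free), .derive 23807 [.bwd 0] [] (.free), .derive 6271 [.bwd 0, .bwd 2873] [6] (.free),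
  .derive 23245 [.bwd 4158, .fwd 0] [] (.free), .derive 23811 [.bwd 0] [] (.free), .derive 23245 [.bwd 0, .bwd 2877] [5] (.free), .derive 23701 [.bwd 3077, .fwd 0] [] (.free), .derive 23701 [.fwd 0] [] (.free), .derive 23381 [.bwd 0, .fwd 3078] [6] (.free), .derive 9394 [.fwd 3907, .fwd 0] [] (.free), .derive 23694 [.bwd 0] [] (.free),
  .derive 9394 [.bwd 0, .fwd 3091] [3] (.free), .derive 9396 [.edge 3, .fwd 0] [] (.free), .derive 23684 [.bwd 0] [] (.free), .derive 9396 [.bwd 0, .bwd 3109] [6] (.free), .derive 23388 [.bwd 3904, .fwd 0] [] (.free), .derive 23687 [.bwd 0] [] (.free), .derive 23388 [.bwd 0, .bwd 3113] [5] (.free), .derive 23824 [.bwd 2867, .fwd 0] [] (.free),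
  .derive 23824 [.fwd 0] [] (.free), .derive 23238 [.bwd 0, .fwd 2868] [6] (.free), .derive 6269 [.fwd 4187, .fwd 0] [] (.free), .derive 23820 [.bwd 0] [] (.free), .derive 6269 [.bwd 0, .bwd 2879] [5] (.free), .derive 23237 [.bwd 4191, .fwd 0] [] (.free), .derive 23386 [.bwd 0] [] (.free), .derive 23237 [.bwd 0, .fwd 2880] [6] (.free),
  .derive 23686 [.bwd 3125, .fwd 0] [] (.free), .derive 23821 [.bwd 0] [] (.free), .derive 23686 [.bwd 0, .bwd 2879] [5] (.free), .derive 23685 [.bwd 3127, .fwd 0] [] (.free), .derive 23823 [.bwd 0] [] (.free), .derive 23685 [.bwd 0, .bwd 2883] [6] (.free), .derive 23236 [.fwd 3132, .fwd 0] [] (.free), .derive 23387 [.bwd 0] [] (.free),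
  .derive 23236 [.bwd 0, .bwd 3918] [4] (.free), .derive 23239 [.fwd 4200, .fwd 0] [] (.free), .derive 23391 [.bwd 0] [] (.free), .derive 23239 [.bwd 0, .fwd 2880] [1] (.free)]
def ph17_p9_2 : List Aux := [
  .derive 23688 [.bwd 3133, .fwd 0] [] (.free), .derive 23828 [.bwd 0] [] (.free), .derive 23688 [.bwd 0, .fwd 1981] [6] (.free), .derive 24118 [.bwd 2167, .fwd 0] [] (.free), .derive 24219 [.bwd 0] [] (.free), .derive 24118 [.bwd 0, .fwd 1983] [4] (.free), .derive 24114 [.bwd 2169, .fwd 0] [] (.free), .derive 24213 [.bwd 0] [] (.free),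
  .derive 24114 [.bwd 0, .bwd 1998] [6] (.free), .derive 23683 [.fwd 2179, .fwd 0] [] (.free), .derive 23822 [.bwd 0] [] (.free), .derive 23683 [.bwd 0, .fwd 2902] [5] (.free), .derive 24113 [.bwd 2183, .fwd 0] [] (.free), .derive 24113 [.fwd 0] [] (.free), .derive 23755 [.bwd 0, .bwd 2179] [4] (.free), .derive 23756 [.fwd 3027, .fwd 0] [] (.free),
  .derive 24117 [.bwd 0] [] (.free), .derive 23756 [.bwd 0, .bwd 2151] [3] (.free), .derive 24168 [.bwd 2091, .fwd 0] [] (.free), .derive 24168 [.fwd 0] [] (.free), .derive 24133 [.bwd 0, .bwd 2004] [5] (.free), .derive 23702 [.fwd 2156, .fwd 0] [] (.free), .derive 24216 [.bwd 0] [] (.free), .derive 23702 [.bwd 0, .fwd 2008] [4] (.free),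
  .derive 24132 [.bwd 2161, .fwd 0] [] (.free), .derive 24207 [.bwd 0] [] (.free), .derive 24132 [.bwd 0, .fwd 2027] [3] (.free), .derive 24122 [.bwd 2163, .fwd 0] [] (.free), .derive 23865 [.bwd 1582, .fwd 0] [] (.free), .derive 23817 [.bwd 0, .bwd 1977] [6] (.free), .derive 24211 [.bwd 2023, .fwd 0] [] (.free), .derive 24235 [.bwd 0] [] (.free),
  .derive 24211 [.bwd 0, .bwd 1981] [5] (.free), .derive 24234 [.bwd 1586, .fwd 0] [] (.free), .derive 24234 [.fwd 0] [] (.free), .derive 23845 [.bwd 0, .bwd 1985] [6] (.free), .derive 23420 [.fwd 2891, .fwd 0] [] (.free), .derive 23844 [.bwd 0] [] (.free), .derive 23420 [.bwd 0, .bwd 2864] [5] (.free), .derive 23439 [.fwd 3637, .fwd 0] [] (.free),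
  .derive 23866 [.bwd 0] [] (.free), .derive 23439 [.bwd 0, .fwd 1962] [6] (.free), .derive 23868 [.bwd 2865, .fwd 0] [] (.free), .derive 24251 [.bwd 0] [] (.free), .derive 23868 [.bwd 0, .bwd 1955] [4] (.free), .derive 23873 [.fwd 2854, .fwd 0] [] (.free), .derive 24255 [.bwd 0] [] (.free), .derive 23873 [.bwd 0, .bwd 1959] [6] (.free),
  .derive 23441 [.fwd 2858, .fwd 0] [] (.free), .derive 23871 [.bwd 0] [] (.free), .derive 23441 [.bwd 0, .fwd 2864] [5] (.free), .derive 23423 [.bwd 3644, .fwd 0] [] (.free), .derive 23849 [.bwd 0] [] (.free), .derive 23423 [.bwd 0, .fwd 1998, .fwd 1621] [3] (.free), .derive 23850 [.bwd 2904, .fwd 0] [] (.free), .derive 24167 [.bwd 0] [] (.free),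
  .derive 23850 [.bwd 0, .bwd 2047] [5] (.free), .derive 23872 [.fwd 2868, .fwd 0] [] (.free), .derive 24212 [.bwd 0] [] (.free), .derive 23872 [.bwd 0, .fwd 1623] [1] (.free), .derive 23442 [.bwd 2872, .fwd 0] [] (.free), .derive 24242 [.bwd 0] [] (.free), .derive 23442 [.bwd 0, .bwd 1999] [3] (.free), .derive 11844 [.fwd 3655, .fwd 0] [] (.free),
  .derive 23858 [.bwd 0] [] (.free), .derive 11844 [.bwd 0, .fwd 2001] [6] (.free), .derive 11918 [.edge 6, .fwd 0] [] (.free), .derive 24243 [.bwd 0] [] (.free), .derive 11918 [.bwd 0, .bwd 1998] [4] (.free), .derive 11951 [.edge 4, .fwd 0] [] (.free), .derive 24246 [.bwd 0] [] (.free), .derive 11951 [.bwd 0, .bwd 2002] [6] (.free),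
  .derive 11843 [.edge 6, .fwd 0] [] (.free), .derive 23861 [.bwd 0] [] (.free), .derive 11843 [.bwd 0, .bwd 2102] [5] (.free), .derive 9542 [.edge 5, .fwd 0] [] (.free), .derive 24192 [.bwd 0] [] (.free), .derive 9542 [.bwd 0, .fwd 2106] [4] (.free), .derive 9543 [.edge 4, .fwd 0] [] (.free), .derive 24095 [.bwd 0] [] (.free),
  .derive 9543 [.bwd 0, .bwd 2281] [2] (.free), .derive 4924 [.edge 2, .fwd 0] [] (.free), .derive 23666 [.bwd 0] [] (.free), .derive 4924 [.bwd 0, .fwd 2283] [6] (.free), .derive 11923 [.edge 6, .fwd 0] [] (.free), .derive 24096 [.bwd 0] [] (.free), .derive 11923 [.bwd 0, .bwd 2024] [5] (.free), .derive 11924 [.edge 5, .fwd 0] [] (.free),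
  .derive 24241 [.bwd 0] [] (.free), .derive 11924 [.bwd 0, .bwd 2028] [6] (.free), .derive 11885 [.edge 6, .fwd 0] [] (.free), .derive 23857 [.bwd 0] [] (.free), .derive 11885 [.bwd 0, .bwd 2294] [5] (.free), .derive 11881 [.edge 5, .fwd 0] [] (.free), .derive 24094 [.bwd 0] [] (.free), .derive 11881 [.bwd 0, .bwd 2029] [6] (.free),
  .derive 11950 [.edge 6, .fwd 0] [] (.free), .derive 24244 [.bwd 0] [] (.free), .derive 11950 [.bwd 0, .bwd 2033] [5] (.free), .derive 11917 [.edge 5, .fwd 0] [] (.free)]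
def ph17_p9_3 : List Aux := [
  .derive 23859 [.bwd 0] [] (.free), .derive 11917 [.bwd 0, .bwd 2937] [6] (.free), .derive 11838 [.edge 6, .fwd 0] [] (.free), .derive 23435 [.bwd 0] [] (.free), .derive 11838 [.bwd 0, .bwd 3707] [4] (.free), .derive 11839 [.edge 4, .fwd 0] [] (.free), .derive 23436 [.bwd 0] [] (.free), .derive 11839 [.bwd 0, .fwd 2939] [6] (.free),
  .derive 11916 [.edge 6, .fwd 0] [] (.free), .derive 23862 [.bwd 0] [] (.free), .derive 11916 [.bwd 0, .fwd 2039] [5] (.free), .derive 11915 [.edge 5, .fwd 0] [] (.free), .derive 24247 [.bwd 0] [] (.free), .derive 11915 [.bwd 0, .fwd 2041] [6] (.free), .derive 11880 [.edge 6, .fwd 0] [] (.free), .derive 24191 [.bwd 0] [] (.free),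
  .derive 11880 [.bwd 0, .fwd 2147] [5] (.free), .derive 11879 [.edge 5, .fwd 0] [] (.free), .derive 23860 [.bwd 0] [] (.free), .derive 11879 [.bwd 0, .fwd 2052] [6] (.free), .derive 11932 [.edge 6, .fwd 0] [] (.free), .derive 24245 [.bwd 0] [] (.free), .derive 11932 [.bwd 0, .fwd 2054] [5] (.free), .derive 11922 [.edge 5, .fwd 0] [] (.free),
  .derive 24193 [.bwd 0] [] (.free), .derive 11922 [.bwd 0, .bwd 2152] [6] (.free), .derive 9326 [.edge 6, .fwd 0] [] (.free), .derive 23794 [.bwd 0] [] (.free), .derive 9326 [.bwd 0, .bwd 3071] [3] (.free), .derive 9325 [.edge 3, .fwd 0] [] (.free), .derive 23795 [.bwd 0] [] (.free), .derive 9325 [.bwd 0, .fwd 2155] [6] (.free),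
  .derive 11929 [.edge 6, .fwd 0] [] (.free), .derive 24195 [.bwd 0] [] (.free), .derive 11929 [.bwd 0, .bwd 2060] [5] (.free), .derive 11930 [.edge 5, .fwd 0] [] (.free), .derive 24248 [.bwd 0] [] (.free), .derive 11930 [.bwd 0, .bwd 2064] [6] (.free), .derive 11878 [.edge 6, .fwd 0] [] (.free), .derive 23863 [.bwd 0] [] (.free),
  .derive 11878 [.bwd 0, .bwd 2165] [5] (.free), .derive 11890 [.edge 5, .fwd 0] [] (.free), .derive 24194 [.bwd 0] [] (.free), .derive 11890 [.bwd 0, .bwd 2067] [6] (.free), .derive 11914 [.edge 6, .fwd 0] [] (.free), .derive 24249 [.bwd 0] [] (.free), .derive 11914 [.bwd 0, .bwd 2071] [5] (.free), .derive 11933 [.edge 5, .fwd 0] [] (.free),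
  .derive 23864 [.bwd 0] [] (.free), .derive 11933 [.bwd 0, .bwd 2979] [6] (.free), .derive 11840 [.edge 6, .fwd 0] [] (.free), .derive 23437 [.bwd 0] [] (.free), .derive 11840 [.bwd 0, .bwd 3752] [4] (.free), .derive 11841 [.edge 4, .fwd 0] [] (.free), .derive 23438 [.bwd 0] [] (.free), .derive 11841 [.fwd 3756, .fwd 0] [1] (.free),
  .commit 0]
def ph17_p9 : List Aux :=
  ((ph17_p9_0 ++ ph17_p9_1) ++ (ph17_p9_2 ++ ph17_p9_3))

theorem ph17_p9_ok : stIs ((runList (auxStep' P) ph17_p9 (mkSt 24326 mask23 ph17_eq9)).map fun st => { st with eqs := [] }) 24326 mask24 = true := by decide +kernel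

end Cfsg.Agent.CosetData.SuzB
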