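import Cfsg.Agent.Lib.Compute.CosetData.SuzBAux0
import Cfsg.Agent.Lib.Compute.CosetData.SuzBAux1
import Cfsg.Agent.Lib.Compute.CosetData.SuzBAux2
import Cfsg.Agent.Lib.Compute.CosetData.SuzBAux3
import Cfsg.Agent.Lib.Compute.CosetData.SuzBAux4

/-! Coset enumeration certificate data (S1681). -/

set_option autoImplicit false
set_option maxRecDepth 100000
set_option Elab.async false

namespace Cfsg.Agent.CosetData.SuzB

open Cfsg.Agent.CosetCert

/-- the long derivation -/
def ph17 : List Aux :=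
  ph17_p0 ++ (ph17_p1 ++ (ph17_p2 ++ (ph17_p3 ++ (ph17_p4 ++ (ph17_p5 ++ (ph17_p6 ++ (ph17_p7 ++ (ph17_p8 ++ (ph17_p9)))))))))

def seg23 : List Phase := [.aux ph17]

theorem seg23_ok : stIs (runList (phaseStep P) seg23 ⟨22974, mask23, []⟩) 24326 mask24 = true :=
  stIs_aux P (auxRun_append P ph17_p0_ok (auxRun_append P ph17_p1_ok (auxRun_append P ph17_p2_ok (auxRun_append P ph17_p3_ok (auxRun_append P ph17_p4_ok (auxRun_append P ph17_p5_ok (auxRun_append P ph17_p6_ok (auxRun_append P ph17_p7_ok (auxRun_append P ph17_p8_ok (auxRun_last P ph17_p9_ok))))))))))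

end Cfsg.Agent.CosetData.SuzB
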