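import Cfsg.Prelude.Def_Spor_Suz
import Cfsg.Agent.Lib.Compute.CosetPres
import Cfsg.Agent.Lib.Compute.CosetData.SuzB

/-!
The presented Suzuki group read through the certified table on 22880 points.
-/

set_option autoImplicit false

namespace Cfsg.Agent.CosetData.SuzB

open Cfsg.Agent.CosetCert
open Cfsg.Spor.Suz (Gen)

/-- generator by number -/
def gi : ℕ → Gen
  | 0 => .a | 1 => .b | 2 => .c | 3 => .d | 4 => .e | 5 => .f | _ => .g

/-- number of a generator -/
def ix : Gen → ℕ
  | .a => 0 | .b => 1 | .c => 2 | .d => 3 | .e => 4 | .f => 5 | .g => 6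

/-- the extra relators as words -/
def extraW : List (List ℕ) :=
  [0 :: rep 4 [3, 2], 0 :: rep 2 [6, 5], rep 5 [0, 1, 2, 5], rep 5 [1, 5, 6],
    rep 3 (rep 5 [1, 2, 3, 2, 3] ++ [4])]

/-- the set-up -/
noncomputable def setup : Setup Gen where
  edges := Cfsg.Spor.Suz.edges
  extra := Cfsg.Spor.Suz.extra
  gi := gi
  ix := ix
  P := P
  n := 22880
  base := base
  extraW := extraW
  gi_ix := fun a => by cases a <;> rfl
  ix_lt := fun a => by cases a <;> decide +kernel
  ix_gi := fun i (hi : i < 7) => by interval_cases i <;> rfl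
  pairs := by decide +kernel
  bases := by decide +kernel
  extras := by decide +kernel
  tab := tab_ok
  fix_base := base_ok
  spec := fun f hf => by
    have hi : ∀ a, (f a)⁻¹ = f a := fun a => inv_eq_of_mul_eq_one_right (hf a)
    simp only [Cfsg.Spor.Suz.extra, extraW]
    repeat' constructor
    all_goals
      simp [wprod_cons, wprod_append, wprod_rep, wprod_nil, gi, hi, map_mul, map_pow, map_inv, mul_inv_rev, ← inv_pow,
        mul_assoc]

end Cfsg.Agent.CosetData.SuzB
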