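import Cfsg.Agent.Lib.Compute.CosetOrbit

/-! Coset enumeration certificate data (U4(3).2 six transpositions, Six126). -/

set_option autoImplicit false
set_option maxRecDepth 100000
set_option Elab.async false

namespace Cfsg.Agent.CosetData.U43Six126

open Cfsg.Agent.CosetCert

/-- the coset table -/
def tab : Tab :=
  .leaf 0x7d007b007d007d007d007d007b007c0076007c007c007c007c007d0075007b007b007b007a007a007a007a0070007a0079007900780079007200790078007300790077006600780077007600770078006d007700750077007c0073006c007600760075007b0074006b00750073007400740075006000740074007800730076005f007300720072006500710079006f00710071006d00720071007000700070006e006f007a0071006f006f00560070006f0072006e006900700058006e006d006d006c007100640077006e006b006d006c006300760069006c006b006b00620075006a0069006a006a0050006a006b006a006e0069004f0069006c005e005a006000680068004e006100650067005f006300540066005f0064006500780057006500670072006600640056006400630066006d0065005800620064005d006c0067004f00630062005c006b00610050006700610061006000620051005f0060006800610074005200600066005e006700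7300530068005d005f005e005e004d005c005e0063005d005d004c005d005b0062005c005c004b005a005c005b005b005b004a005b0068005a005a005a00490059004700590059005800550058004f0057006e0059006400570053005800560057006600560054006f00570055006500550046005500550056005900510056005400530046006700520057004d00540053005f00530052004e005100520060005400510051005200450061004f0050004b006a0048006200500058004c006900470063004d00490052004e00370068004e004c0053004d0040005e004b004d004f004c003f005d004c004a0050004b0039005c0049004b004a004a0038005b004a004e004900490036005a00470048002a00480050004500480059003d0047004f004600450055003c004600540047004600450029004500510048002b00440044003d0044003b003a00410043003f00430043002c004200410042003b0042002d004300420040004100410037003f00400041004d004000390040003e0043004c003f0033003e003f003e003d003e002a003d00470044003e003c0029003c0046003b003c003d0028003b003b003c0042004400430025003a0039003a003a003f00380033003a004b00390036003900340025004a0038004000360037002d004e0037003800370035002400490036003400350036003000350035003500310038001d00340034003e003200390033002a003300320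0330031003200270032003100340032001c00310031001d003000220035002f0030001b002f002f002f0030002e001a002e002e002e002e002f00410024002c0037002d002d00420018002d002c0028002c00440019002b002a002b0028003d00270048002b00330029003c0026004500280029002a003b001700280029002c002b0027002a00270019003200260026002900260017002600270024003a00200038002500250025002d001600360024002400220023001d0020002300230023002100300016002200220021002200210015002100210016002000250023001f00200014001f001f001f0020001e0013001e001e001e001e001f0030001c00230034001b001d001c001d001c00310012001c002f0012001b001b001d001a002e0011001a001a001a001b0019002b00100027001900170018002c001500180017001800170028000d0026001800190020001500240022001400160015001600180021000c0015001f000c0014001400160013001e000b00130013001300140012001b000e0012001c00110011001a00090011001100120010001000190010000f000d000f000f000f000e0010000a000e000e0012000f000e0009000d000d0017000d00080010000c00140008000c0015000b000b00130007000b000b000c000a000a000a00090007000f000900090011000a0005000e00080008000c0006000d000700070007000b0004000a0008000600060006000800060004000500050005000300090005000400040004000700030006000300030002000500040003000200010003000200020002000000020001000100010001000100000000000000000000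

/-- base relators -/
def base : List (List ℕ) := [
  [0, 0],
  [1, 1],
  [2, 2],
  [3, 3],
  [4, 4],
  [5, 5],
  [0, 1, 0, 1, 0, 1],
  [0, 2, 0, 2],
  [0, 3, 0, 3],
  [0, 4, 0, 4],
  [0, 5, 0, 5],
  [1, 2, 1, 2, 1, 2],
  [1, 3, 1, 3, 1, 3],
  [1, 4, 1, 4],
  [1, 5, 1, 5],
  [2, 3, 2, 3, 2, 3],
  [2, 4, 2, 4],
  [2, 5, 2, 5],
  [3, 4, 3, 4, 3, 4],
  [3, 5, 3, 5],
  [4, 5, 4, 5, 4, 5],
  [1, 2, 3, 2, 1, 2, 3, 2, 1, 2, 3, 2],
  [2, 3, 1, 3, 2, 3, 1, 3, 2, 3, 1, 3]]

/-- rotations of the relators -/
def rots : WTab :=
  (.node (.node (.node (.node (.node (.node (.leaf [0, 0]) (.leaf [3, 5, 3, 5])) (.node (.leaf [1, 2, 1, 2, 1, 2]) (.leaf [0, 0]))) (.node (.node (.leaf [0, 2, 0, 2]) (.leaf [2, 3, 1, 3, 2, 3, 1, 3, 2, 3, 1, 3])) (.node (.leaf [2, 3, 2, 3, 2, 3]) (.leaf [0, 0])))) (.node (.node (.node (.leaf [4, 4]) (.leaf [1, 2, 3, 2, 1, 2, 3, 2, 1, 2, 3, 2])) (.node (.leaf [1, 4, 1, 4]) (.leaf [0, 0]))) (.node (.node (.leaf [0, 4, 0, 4]) (.leaf [0, 0])) (.node (.leaf [2, 5, 2, 5]) (.leaf [0, 0]))))) (.node (.node (.node (.node (.leaf [2, 2]) (.leaf [4, 5,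 4, 5, 4, 5])) (.node (.leaf [1, 3, 1, 3, 1, 3]) (.leaf [0, 0]))) (.node (.node (.leaf [0, 3, 0, 3]) (.leaf [1, 3, 2, 3, 1, 3, 2, 3, 1, 3, 2, 3])) (.node (.leaf [2, 4, 2, 4]) (.leaf [0, 0])))) (.node (.node (.node (.leaf [0, 1, 0, 1, 0, 1]) (.leaf [3, 2, 1, 2, 3, 2, 1, 2, 3, 2, 1, 2])) (.node (.leaf [1, 5, 1, 5]) (.leaf [0, 0]))) (.node (.node (.leaf [0, 5, 0, 5]) (.leaf [0, 0])) (.node (.leaf [3, 4, 3, 4, 3, 4]) (.leaf [0, 0])))))) (.node (.node (.node (.node (.node (.leaf [1, 1]) (.leaf [5, 3, 5, 3])) (.node (.leaf [2, 1, 2, 1, 2, 1]) (.leaf [0, 0]))) (.node (.node (.leaf [2, 0, 2, 0]) (.leaf [3, 1, 3, 2, 3, 1, 3, 2, 3, 1, 3, 2])) (.node (.leaf [3, 2, 3, 2, 3, 2]) (.leaf [0, 0])))) (.node (.node (.node (.leaf [5, 5]) (.leaf [2, 3, 2, 1, 2, 3, 2, 1, 2, 3, 2, 1])) (.node (.leaf [4, 1, 4, 1]) (.leaf [0, 0]))) (.node (.node (.leaf [4, 0, 4, 0]) (.leaf [0, 0])) (.node (.leaf [5, 2, 5, 2]) (.leaf [0, 0]))))) (.node (.node (.node (.node (.leaf [3, 3]) (.leaf [5, 4, 5, 4, 5, 4])) (.node (.leaf [3, 1, 3, 1, 3, 1]) (.leaf [0, 0]))) (.node (.node (.leaf [3, 0,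 3, 0]) (.leaf [3, 2, 3, 1, 3, 2, 3, 1, 3, 2, 3, 1])) (.node (.leaf [4, 2, 4, 2]) (.leaf [0, 0])))) (.node (.node (.node (.leaf [1, 0, 1, 0, 1, 0]) (.leaf [2, 1, 2, 3, 2, 1, 2, 3, 2, 1, 2, 3])) (.node (.leaf [5, 1, 5, 1]) (.leaf [0, 0]))) (.node (.node (.leaf [5, 0, 5, 0]) (.leaf [0, 0])) (.node (.leaf [4, 3, 4, 3, 4, 3]) (.leaf [0, 0])))))))

def hints_0 : List (ℕ × ℕ × Bool) := [
  (0, 0, false), (19, 0, false), (11, 0, false), (0, 0, false), (7, 0, false), (22, 0, false), (15, 0, false), (0, 0, false),
  (4, 0, false), (21, 0, false), (13, 0, false), (0, 0, false), (9, 0, false), (0, 0, false), (17, 0, false), (0, 0, false),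
  (2, 0, false), (20, 0, false), (12, 0, false), (0, 0, false), (8, 0, false), (22, 2, false), (16, 0, false), (0, 0, false),
  (6, 0, false), (21, 2, false), (14, 0, false), (0, 0, false), (10, 0, false), (0, 0, false), (18, 0, false), (0, 0, false),
  (1, 0, false), (19, 1, false), (11, 1, false), (0, 0, false), (7, 1, false), (22, 1, false), (15, 1, false), (0, 0, false),
  (5, 0, false), (21, 1, false), (13, 1, false), (0, 0, false), (9, 1, false), (0, 0, false), (17, 1, false), (0, 0, false),
  (3, 0, false), (20, 1, false), (12, 1, false), (0, 0, false), (8, 1, false), (22, 3, false), (16, 1, false), (0, 0, false),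
  (6, 1, false), (21, 3, false), (14, 1, false), (0, 0, false), (10, 1, false), (0, 0, false), (18, 1, false), (0, 0, false)]
def hints : List (ℕ × ℕ × Bool) :=
  hints_0

/-- subgroup words -/
def sw : List (List ℕ) := [[0], [1], [2], [3], [4], [5, 4, 3, 1, 0, 2, 3, 1, 2, 4, 3, 1, 0, 5, 4, 3, 1, 2, 3, 4, 5]]

def subs : List (List ℕ) := [[0], [1], [2], [3], [4], [5, 4, 3, 1, 0, 2, 3, 1, 2, 4, 3, 1, 0, 5, 4, 3, 1, 2, 3, 4, 5], [5, 4, 3, 2, 1, 3, 4, 5, 0, 1, 3, 4, 2, 1, 3, 2, 0, 1, 3, 4, 5]]

/-- parameters -/
def P : Params := ⟨tab, 6, rots, subs⟩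

def tree_0 : List ℕ := [
  5, 10, 15, 19, 20, 24, 26, 42,
  31, 56, 45, 66, 49, 54, 86, 91,
  57, 102, 70, 114, 73, 130, 81, 139,
  138, 106, 156, 109, 172, 119, 180, 187,
  128, 202, 209, 135, 221, 140, 228, 142,
  242, 246, 254, 241, 267, 161, 276, 179,
  170, 297, 304, 298, 317, 321, 328, 329,
  340, 344, 245, 356, 360, 367, 375, 382,
  386, 393, 394, 368, 249, 419, 420, 431,
  325, 443, 448, 455, 460, 467, 459, 479,
  415, 488, 497, 500, 424, 511, 518, 525,
  529, 438, 545, 550, 557, 562, 567, 575,
  578, 583, 593, 598, 601, 608, 610, 579,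
  476, 635, 636, 647, 652, 654, 519, 668,
  672, 680, 571, 695, 698, 707, 712, 716,
  723, 673, 705, 743, 742]
def tree : List ℕ :=
  tree_0

def ph0_0 : List ℕ := [
  2048, 2049, 2050, 2051, 2052, 8226, 12320, 16406,
  20508, 36886, 57358, 40988, 69664, 73742, 188451, 192524,
  114710, 200732, 196643, 204832, 217123, 225311, 61468, 65558,
  24590, 28700, 32782, 45088, 49166, 122915, 126988, 131092,
  86038, 135196, 143395, 53270, 94240, 102414, 98326, 155676,
  241699, 245786, 249868, 253972, 278554, 262175, 270361, 159758,
  4129, 12318, 16404, 20506, 36884, 57356, 40986, 106527,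
  110602, 188449, 192522, 61466, 65556, 24588, 28698, 32780,
  77855, 81930, 122913, 126986, 53268, 163871, 184339, 282649,
  241697, 335889, 286749, 290824, 348187, 356369, 364562, 294941,
  339991, 4125, 8219, 20504, 69651, 114695, 106517, 188439,
  200713, 118797, 196623, 204811, 213005, 217103, 221195, 368646,
  225293, 229391, 233485, 237577, 372759, 376853, 380951, 385045,
  471058, 475169, 503833, 512027, 507933, 208909, 4119, 8213,
  16402, 40999, 69673, 73736, 106523, 110600, 188445, 192520,
  200721, 213013, 217111, 299026, 368650, 303137, 372769, 24586,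
  45081, 45099, 86023, 77845, 122903, 131079, 135177, 90125,
  147467, 151567, 139277, 143375, 49160, 77851, 81928, 122909,
  126984, 135185, 139285, 143383, 4111, 8205, 12299, 24582,
  20489, 57350, 65552, 483361, 471069, 471066, 495646, 393239,
  426003, 454665, 430095, 430092, 327709, 385056, 368675, 393246,
  475156, 397338, 401428, 409634, 413718, 417820, 479258, 491554,
  487452, 495648, 512031, 405525, 397334, 389149, 389146, 491541,
  303119, 307213, 311311, 315405, 319503, 319500, 319509, 331804,
  286743, 352276, 356378, 307233, 327710, 434202, 438284, 450594,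
  446478, 229399, 233493, 282639, 172042, 176152, 241673, 278538,
  258075, 167964, 172046, 286753, 290826, 348191, 454675, 499728,
  364585, 499751, 176156, 176143, 176140, 213025, 208927, 118811,
  196637, 110606, 98324, 155674, 159756, 159771, 90139, 81934,
  73740, 118805, 196631, 49164, 90133, 147475, 90134, 143389,
  151585, 151571, 57354, 114706, 61464, 204825, 208923, 237592,
  40969, 32778, 98322, 98315, 184350, 184333, 180235, 176134,
  102421, 278551, 253968, 274456, 274469, 266261, 270366, 28689,
  53255, 53256, 102410, 159768, 159781, 155654, 172053, 167942,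
  294931, 253974, 237605, 307216, 376840, 434200, 303131, 311325,
  434213, 430103, 450581, 380936, 430104, 315419, 385032, 319517,
  425992, 299035, 368648, 372765, 397336, 503851, 512021, 507927,
  421927, 442378, 438305, 253967, 258080, 258063, 258071, 274460,
  262178, 262159, 262167, 266249, 270347, 274445, 290835, 245766,
  344082, 454686, 331809, 466956, 458778, 462860, 499732, 294932,
  282636, 331796, 155679, 348194, 352278, 356380, 454688, 466958,
  458780, 462862, 499734, 360480, 335907, 364566, 180240, 98331,
  135192, 24584, 43013, 147481, 143393, 151577, 151578, 184354,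
  184349, 180256, 241687, 340007, 339979, 360478, 335905, 335883,
  475143, 331785, 327687, 344079, 323591, 352269, 356361, 466954,
  491527, 487433, 495627, 471053, 483337, 507915, 479247, 503819,
  512013, 442376, 380938, 360461, 364551, 417802, 495635, 364556,
  376865, 442385, 446491, 438301, 438289, 450568, 446481, 446488,
  495652, 462891, 499719, 487442, 507934, 512034, 450570]

/-- known edges at a check point -/
def mask0 : ℕ := 0x420e0220c530b24884147301470861908404592c221aca98c30c2108a30e4849241a0b20c38c308e0871a8440871460a1c590453043aa3041872006120a1053760458288305020e1c160710427d8581c436421852836443c3341187398c20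

theorem treeRun_ok : stIs (runList (treeStep P) tree ⟨1, 0, []⟩) 126 mask0 = true := by decide +kernel

def seg0 : List Phase := [.scans ph0_0]

theorem seg0_ok : stIs (runList (phaseStep P) seg0 ⟨126, mask0, []⟩) 126 (2 ^ (126 * P.k) - 1) = true := by decide +kernel

/-- the certificate -/
def phases : List Phase :=
  seg0

theorem cert_ok : checkCert P 126 tree phases = true :=
  checkCert_of_run P treeRun_ok (run_last P seg0_ok)

theorem gen0_ok : genOK P 126 0 = true := by decide +kernel

theorem gen1_ok : genOK P 126 1 = true := by decide +kernel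

theorem gen2_ok : genOK P 126 2 = true := by decide +kernel

theorem gen3_ok : genOK P 126 3 = true := by decide +kernel

theorem gen4_ok : genOK P 126 4 = true := by decide +kernel

theorem gen5_ok : genOK P 126 5 = true := by decide +kernel

theorem tab_ok : tableOK P 126 = true := tableOK_of_gens P (by decide +kernel) (by decide +kernel) fun x hx =>
  match x, hx with
  | 0, _ => gen0_ok
  | 1, _ => gen1_ok
  | 2, _ => gen2_ok
  | 3, _ => gen3_ok
  | 4, _ => gen4_ok
  | 5, _ => gen5_ok
  | _ + 6, hx => absurd (show _ + 6 < 6 from hx) (by omega)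

theorem base0_ok : Fixes P 126 [0, 0] :=
  fixes_of_powFix P (u := [0]) (e := 2) (by decide +kernel) (by decide +kernel)

theorem base1_ok : Fixes P 126 [1, 1] :=
  fixes_of_powFix P (u := [1]) (e := 2) (by decide +kernel) (by decide +kernel)

theorem base2_ok : Fixes P 126 [2, 2] :=
  fixes_of_powFix P (u := [2]) (e := 2) (by decide +kernel) (by decide +kernel)

theorem base3_ok : Fixes P 126 [3, 3] :=
  fixes_of_powFix P (u := [3]) (e := 2) (by decide +kernel) (by decide +kernel)

theorem base4_ok : Fixes P 126 [4, 4] :=
  fixes_of_powFix P (u := [4]) (e := 2) (by decide +kernel) (by decide +kernel)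

theorem base5_ok : Fixes P 126 [5, 5] :=
  fixes_of_powFix P (u := [5]) (e := 2) (by decide +kernel) (by decide +kernel)

theorem base6_ok : Fixes P 126 [0, 1, 0, 1, 0, 1] :=
  fixes_of_powFix P (u := [0, 1]) (e := 3) (by decide +kernel) (by decide +kernel)

theorem base7_ok : Fixes P 126 [0, 2, 0, 2] :=
  fixes_of_powFix P (u := [0, 2]) (e := 2) (by decide +kernel) (by decide +kernel)

theorem base8_ok : Fixes P 126 [0, 3, 0, 3] :=
  fixes_of_powFix P (u := [0, 3]) (e := 2) (by decide +kernel) (by decide +kernel)

theorem base9_ok : Fixes P 126 [0, 4, 0, 4] :=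
  fixes_of_powFix P (u := [0, 4]) (e := 2) (by decide +kernel) (by decide +kernel)

theorem base10_ok : Fixes P 126 [0, 5, 0, 5] :=
  fixes_of_powFix P (u := [0, 5]) (e := 2) (by decide +kernel) (by decide +kernel)

theorem base11_ok : Fixes P 126 [1, 2, 1, 2, 1, 2] :=
  fixes_of_powFix P (u := [1, 2]) (e := 3) (by decide +kernel) (by decide +kernel)

theorem base12_ok : Fixes P 126 [1, 3, 1, 3, 1, 3] :=
  fixes_of_powFix P (u := [1, 3]) (e := 3) (by decide +kernel) (by decide +kernel)

theorem base13_ok : Fixes P 126 [1, 4, 1, 4] :=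
  fixes_of_powFix P (u := [1, 4]) (e := 2) (by decide +kernel) (by decide +kernel)

theorem base14_ok : Fixes P 126 [1, 5, 1, 5] :=
  fixes_of_powFix P (u := [1, 5]) (e := 2) (by decide +kernel) (by decide +kernel)

theorem base15_ok : Fixes P 126 [2, 3, 2, 3, 2, 3] :=
  fixes_of_powFix P (u := [2, 3]) (e := 3) (by decide +kernel) (by decide +kernel)

theorem base16_ok : Fixes P 126 [2, 4, 2, 4] :=
  fixes_of_powFix P (u := [2, 4]) (e := 2) (by decide +kernel) (by decide +kernel)

theorem base17_ok : Fixes P 126 [2, 5, 2, 5] :=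
  fixes_of_powFix P (u := [2, 5]) (e := 2) (by decide +kernel) (by decide +kernel)

theorem base18_ok : Fixes P 126 [3, 4, 3, 4, 3, 4] :=
  fixes_of_powFix P (u := [3, 4]) (e := 3) (by decide +kernel) (by decide +kernel)

theorem base19_ok : Fixes P 126 [3, 5, 3, 5] :=
  fixes_of_powFix P (u := [3, 5]) (e := 2) (by decide +kernel) (by decide +kernel)

theorem base20_ok : Fixes P 126 [4, 5, 4, 5, 4, 5] :=
  fixes_of_powFix P (u := [4, 5]) (e := 3) (by decide +kernel) (by decide +kernel)

theorem base21_ok : Fixes P 126 [1, 2, 3, 2, 1, 2, 3, 2, 1, 2, 3, 2] :=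
  fixes_of_powFix P (u := [1, 2, 3, 2]) (e := 3) (by decide +kernel) (by decide +kernel)

theorem base22_ok : Fixes P 126 [2, 3, 1, 3, 2, 3, 1, 3, 2, 3, 1, 3] :=
  fixes_of_powFix P (u := [2, 3, 1, 3]) (e := 3) (by decide +kernel) (by decide +kernel)

theorem base_ok : ∀ w ∈ base, Fixes P 126 w := by
  intro w hw
  rw [base] at hw
  rcases List.mem_cons.1 hw with rfl | hw
  · exact base0_ok
  rcases List.mem_cons.1 hw with rfl | hw
  · exact base1_ok
  rcases List.mem_cons.1 hw with rfl | hw
  · exact base2_ok
  rcases List.mem_cons.1 hw with rfl | hw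
  · exact base3_ok
  rcases List.mem_cons.1 hw with rfl | hw
  · exact base4_ok
  rcases List.mem_cons.1 hw with rfl | hw
  · exact base5_ok
  rcases List.mem_cons.1 hw with rfl | hw
  · exact base6_ok
  rcases List.mem_cons.1 hw with rfl | hw
  · exact base7_ok
  rcases List.mem_cons.1 hw with rfl | hw
  · exact base8_ok
  rcases List.mem_cons.1 hw with rfl | hw
  · exact base9_ok
  rcases List.mem_cons.1 hw with rfl | hw
  · exact base10_ok
  rcases List.mem_cons.1 hw with rfl | hw
  · exact base11_ok
  rcases List.mem_cons.1 hw with rfl | hw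
  · exact base12_ok
  rcases List.mem_cons.1 hw with rfl | hw
  · exact base13_ok
  rcases List.mem_cons.1 hw with rfl | hw
  · exact base14_ok
  rcases List.mem_cons.1 hw with rfl | hw
  · exact base15_ok
  rcases List.mem_cons.1 hw with rfl | hw
  · exact base16_ok
  rcases List.mem_cons.1 hw with rfl | hw
  · exact base17_ok
  rcases List.mem_cons.1 hw with rfl | hw
  · exact base18_ok
  rcases List.mem_cons.1 hw with rfl | hw
  · exact base19_ok
  rcases List.mem_cons.1 hw with rfl | hw
  · exact base20_ok
  rcases List.mem_cons.1 hw with rfl | hw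
  · exact base21_ok
  rcases List.mem_cons.1 hw with rfl | hw
  · exact base22_ok
  exact absurd hw List.not_mem_nil

theorem rots_ok : rotsOK base rots.entries hints = true := by decide +kernel

theorem fix_ok : wordsFixBase P sw = true := by decide +kernel

theorem tree_ok : treeOK P tree 0 = true := by decide +kernel

theorem tree_len : tree.length + 1 = 126 := by decide +kernel

end Cfsg.Agent.CosetData.U43Six126
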